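import Mathlib

/-!
Alternating bilinear forms on a vector space: transvections, Witt's lemma, generation of the isometry group by
transvections, symplectic bases, primitivity on points, perfectness, simplicity modulo the centre, the order
over a finite field.

A subspace W is handled through `NDon B W` (the form restricted to W is non-degenerate); `TG B W` is the group
generated by the transvections along vectors of W.
-/

set_option autoImplicit false

namespace Cfsg.Agent.Classical.Alt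

open scoped commutatorElement
open Module

variable {F V : Type*} [Field F] [AddCommGroup V] [Module F V] {B : LinearMap.BilinForm F V}

/-- The restriction of the form to W is non-degenerate. -/
def NDon (B : LinearMap.BilinForm F V) (W : Submodule F V) : Prop :=
  ∀ w ∈ W, w ≠ 0 → ∃ z ∈ W, B w z ≠ 0

/-- The isometry group of a bilinear form. -/
def isoGroup (B : LinearMap.BilinForm F V) : Subgroup (V ≃ₗ[F] V) where
  carrier := {g | ∀ x y, B (g x) (g y) = B x y}
  mul_mem' {a b} ha hb := fun x y => by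
    rw [LinearEquiv.mul_apply, LinearEquiv.mul_apply, ha, hb]
  one_mem' := fun x y => rfl
  inv_mem' {a} ha := fun x y => by
    have := ha (a⁻¹ x) (a⁻¹ y)
    rw [← LinearEquiv.mul_apply, ← LinearEquiv.mul_apply, mul_inv_cancel] at this
    exact this.symm

theorem mem_isoGroup {g : V ≃ₗ[F] V} : g ∈ isoGroup B ↔ ∀ x y, B (g x) (g y) = B x y := Iff.rfl

theorem neg' (hA : B.IsAlt) (x y : V) : B y x = -B x y := (LinearMap.IsAlt.neg hA x y).symm

theorem inv_apply_self (g : V ≃ₗ[F] V) (x : V) : g⁻¹ (g x) = x := by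
  rw [← LinearEquiv.mul_apply, inv_mul_cancel]; rfl

theorem apply_inv_self (g : V ≃ₗ[F] V) (x : V) : g (g⁻¹ x) = x := by
  rw [← LinearEquiv.mul_apply, mul_inv_cancel]; rfl

/-- The transvection `x ↦ x + c B(x,v) v`. -/
def tv (hA : B.IsAlt) (v : V) (c : F) : V ≃ₗ[F] V where
  toFun x := x + (c * B x v) • v
  map_add' x y := by simp [mul_add, add_smul]; abel
  map_smul' a x := by simp [smul_smul, mul_left_comm]
  invFun x := x + (-c * B x v) • v
  left_inv x := by simp [hA v]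
  right_inv x := by simp [hA v]

theorem tv_apply (hA : B.IsAlt) (v : V) (c : F) (x : V) : tv hA v c x = x + (c * B x v) • v := rfl

theorem tv_add (hA : B.IsAlt) (v : V) (c d : F) : tv hA v c * tv hA v d = tv hA v (c + d) := by
  ext x
  simp [tv_apply, hA v, add_mul, add_smul]
  abel

theorem tv_zero (hA : B.IsAlt) (v : V) : tv hA v 0 = 1 := by ext x; simp [tv_apply]

theorem tv_inv (hA : B.IsAlt) (v : V) (c : F) : (tv hA v c)⁻¹ = tv hA v (-c) :=
  inv_eq_of_mul_eq_one_right (by rw [tv_add, add_neg_cancel, tv_zero])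

theorem tv_smul (hA : B.IsAlt) (v : V) (a c : F) : tv hA (a • v) c = tv hA v (a ^ 2 * c) := by
  ext x
  simp [tv_apply, smul_smul]
  ring_nf

theorem conj_tv (hA : B.IsAlt) {g : V ≃ₗ[F] V} (hg : g ∈ isoGroup B) (v : V) (c : F) :
    g * tv hA v c * g⁻¹ = tv hA (g v) c := by
  ext x
  have h : B (g⁻¹ x) v = B x (g v) := by
    rw [← hg (g⁻¹ x) v, apply_inv_self]
  rw [LinearEquiv.mul_apply, LinearEquiv.mul_apply, tv_apply, tv_apply, h, map_add, map_smul, apply_inv_self]

theorem tv_mem_isoGroup (hA : B.IsAlt) (v : V) (c : F) : tv hA v c ∈ isoGroup B := fun x y => by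
  simp [tv_apply, hA v, neg' hA y v]
  ring

/-- The group generated by the transvections along vectors of W. -/
def TG (B : LinearMap.BilinForm F V) (W : Submodule F V) : Subgroup (V ≃ₗ[F] V) :=
  Subgroup.closure {t | ∃ v ∈ W, ∃ c : F, ∀ x, t x = x + (c * B x v) • v}

theorem tv_mem_TG (hA : B.IsAlt) {W : Submodule F V} {v : V} (hv : v ∈ W) (c : F) :
    tv hA v c ∈ TG B W :=
  Subgroup.subset_closure ⟨v, hv, c, fun _ => rfl⟩

theorem TG_mono {W W' : Submodule F V} (h : W ≤ W') : TG B W ≤ TG B W' :=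
  Subgroup.closure_mono fun _ ⟨v, hv, r⟩ => ⟨v, h hv, r⟩

theorem TG_le_isoGroup (hA : B.IsAlt) (W : Submodule F V) : TG B W ≤ isoGroup B := by
  refine (Subgroup.closure_le _).2 ?_
  rintro t ⟨v, -, c, ht⟩
  have : t = tv hA v c := LinearEquiv.ext fun x => ht x
  exact this ▸ tv_mem_isoGroup hA v c

theorem TG_fix {W : Submodule F V} {t : V ≃ₗ[F] V} (ht : t ∈ TG B W) {x : V}
    (hx : ∀ w ∈ W, B x w = 0) : t x = x := by
  induction ht using Subgroup.closure_induction with
  | mem t h => obtain ⟨v, hv, c, h⟩ := h; simp [h, hx v hv]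
  | one => rfl
  | mul a b _ _ ha hb => rw [LinearEquiv.mul_apply, hb, ha]
  | inv a _ ha =>
    conv_lhs => rw [← ha]
    exact inv_apply_self a x

theorem TG_maps {W : Submodule F V} [FiniteDimensional F V] {t : V ≃ₗ[F] V} (ht : t ∈ TG B W) {x : V}
    (hx : x ∈ W) : t x ∈ W := by
  suffices W.map (t : V →ₗ[F] V) ≤ W from this ⟨x, hx, rfl⟩
  induction ht using Subgroup.closure_induction with
  | mem t h =>
    obtain ⟨v, hv, c, h⟩ := h
    rintro _ ⟨y, hy, rfl⟩
    rw [LinearEquiv.coe_coe, h]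
    exact W.add_mem hy (W.smul_mem _ hv)
  | one => rintro _ ⟨y, hy, rfl⟩; simpa using hy
  | mul a b _ _ ha hb =>
    rintro _ ⟨y, hy, rfl⟩
    rw [LinearEquiv.coe_coe, LinearEquiv.mul_apply]
    exact ha ⟨_, hb ⟨y, hy, rfl⟩, rfl⟩
  | inv a _ ha =>
    have e : W.map (a : V →ₗ[F] V) = W :=
      Submodule.eq_of_le_of_finrank_le ha (le_of_eq (LinearEquiv.finrank_map_eq a W).symm)
    rintro _ ⟨y, hy, rfl⟩
    rw [SetLike.mem_coe, ← e] at hy
    obtain ⟨z, hz, rfl⟩ := hy
    rw [LinearEquiv.coe_coe, LinearEquiv.coe_coe, inv_apply_self]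
    exact hz

theorem ndon_top (hB : B.Nondegenerate) : NDon B ⊤ := fun w _ hw => by
  by_contra h
  push Not at h
  exact hw (hB.1 w fun z => h z trivial)

/-- A vector off the kernel of two functionals. -/
theorem exists_both {W : Submodule F V} (hW : NDon B W) {u w : V} (hu : u ∈ W) (hw : w ∈ W) (hu0 : u ≠ 0)
    (hw0 : w ≠ 0) : ∃ z ∈ W, B u z ≠ 0 ∧ B w z ≠ 0 := by
  obtain ⟨a, ha, ha'⟩ := hW u hu hu0
  obtain ⟨b, hb, hb'⟩ := hW w hw hw0
  by_cases h1 : B w a = 0
  · by_cases h2 : B u b = 0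
    · exact ⟨a + b, W.add_mem ha hb, by simpa [h2] using ha', by simpa [h1] using hb'⟩
    · exact ⟨b, hb, h2, hb'⟩
  · exact ⟨a, ha, ha', h1⟩

theorem exists_move (hA : B.IsAlt) {W : Submodule F V} {u w : V} (hu : u ∈ W) (hw : w ∈ W)
    (h : B u w ≠ 0) : ∃ t ∈ TG B W, t u = w ∧ ∀ y, B y u = B y w → t y = y := by
  refine ⟨tv hA (w - u) (B u w)⁻¹, tv_mem_TG hA (W.sub_mem hw hu) _, ?_, fun y hy => ?_⟩
  · simp [tv_apply, hA u, inv_mul_cancel₀ h]
  · simp [tv_apply, hy]

theorem exists_map_vector (hA : B.IsAlt) {W : Submodule F V} (hW : NDon B W) {u w : V} (hu : u ∈ W)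
    (hw : w ∈ W) (hu0 : u ≠ 0) (hw0 : w ≠ 0) : ∃ t ∈ TG B W, t u = w := by
  obtain ⟨z, hz, h1, h2⟩ := exists_both hW hu hw hu0 hw0
  obtain ⟨s, hs, hs', -⟩ := exists_move hA hu hz h1
  obtain ⟨r, hr, hr', -⟩ := exists_move hA (u := z) hz hw (by rw [neg' hA w z]; simpa using h2)
  exact ⟨r * s, mul_mem hr hs, by rw [LinearEquiv.mul_apply, hs', hr']⟩

/-- The transvections along W are transitive on hyperbolic pairs of W. -/
theorem exists_map_pair (hA : B.IsAlt) [FiniteDimensional F V] {W : Submodule F V} (hW : NDon B W)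
    {u v u' v' : V} (hu : u ∈ W) (hv : v ∈ W) (hu' : u' ∈ W) (hv' : v' ∈ W) (h : B u v = 1) (h' : B u' v' = 1) :
    ∃ t ∈ TG B W, t u = u' ∧ t v = v' := by
  have hu0 : u ≠ 0 := by rintro rfl; simp at h
  have hu0' : u' ≠ 0 := by rintro rfl; simp at h'
  obtain ⟨t, ht, htu⟩ := exists_map_vector hA hW hu hu' hu0 hu0'
  have hwW := TG_maps ht hv
  have hw : B u' (t v) = 1 := by rw [← htu, TG_le_isoGroup hA W ht u v, h]
  suffices ∃ s ∈ TG B W, s u' = u' ∧ s (t v) = v' by
    obtain ⟨s, hs, h1, h2⟩ := this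
    exact ⟨s * t, mul_mem hs ht, by rw [LinearEquiv.mul_apply, htu, h1], by rw [LinearEquiv.mul_apply, h2]⟩
  by_cases h0 : B (t v) v' ≠ 0
  · obtain ⟨s, hs, h1, h2⟩ := exists_move hA hwW hv' h0
    exact ⟨s, hs, h2 u' (by rw [hw, h']), h1⟩
  · push Not at h0
    obtain ⟨r, hr, h1, h2⟩ := exists_move hA hwW (W.add_mem hu' hwW)
      (by simp [hA (t v), neg' hA u' (t v), hw])
    obtain ⟨s, hs, h3, h4⟩ := exists_move hA (u := u' + t v) (W.add_mem hu' hwW) hv' (by simp [h', h0])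
    refine ⟨s * r, mul_mem hs hr, ?_, by rw [LinearEquiv.mul_apply, h1, h3]⟩
    rw [LinearEquiv.mul_apply, h2 u' (by simp [hA u', hw]), h4 u' (by simp [hA u', hw, h'])]

/-- The vectors of W orthogonal to u and v. -/
def redW (B : LinearMap.BilinForm F V) (W : Submodule F V) (u v : V) : Submodule F V :=
  W ⊓ LinearMap.ker (B u) ⊓ LinearMap.ker (B v)

theorem mem_redW {W : Submodule F V} {u v z : V} :
    z ∈ redW B W u v ↔ z ∈ W ∧ B u z = 0 ∧ B v z = 0 := by
  simp [redW, and_assoc]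

/-- The component of x orthogonal to the hyperbolic pair u, v. -/
def rmap (B : LinearMap.BilinForm F V) (u v : V) : V →ₗ[F] V :=
  LinearMap.id - (B.flip v).smulRight u + (B.flip u).smulRight v

theorem rmap_apply (u v x : V) : rmap B u v x = x - B x v • u + B x u • v := rfl

theorem rmap_mem (hA : B.IsAlt) {W : Submodule F V} {u v x : V} (hu : u ∈ W) (hv : v ∈ W) (hx : x ∈ W)
    (h : B u v = 1) : rmap B u v x ∈ redW B W u v := by
  rw [mem_redW, rmap_apply]
  refine ⟨W.add_mem (W.sub_mem hx (W.smul_mem _ hu)) (W.smul_mem _ hv), ?_, ?_⟩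
  · simp [hA u, h, neg' hA u x]
  · simp [hA v, neg' hA u v, h, neg' hA v x]

theorem ndon_redW (hA : B.IsAlt) {W : Submodule F V} (hW : NDon B W) {u v : V} (hu : u ∈ W) (hv : v ∈ W)
    (h : B u v = 1) : NDon B (redW B W u v) := fun w hw hw0 => by
  obtain ⟨hwW, h1, h2⟩ := mem_redW.1 hw
  obtain ⟨z, hz, hz'⟩ := hW w hwW hw0
  refine ⟨rmap B u v z, rmap_mem hA hu hv hz h, ?_⟩
  simpa [rmap_apply, neg' hA u w, neg' hA v w, h1, h2] using hz'

theorem finrank_redW_lt [FiniteDimensional F V] {W : Submodule F V} {u v : V} (hu : u ∈ W)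
    (h : B u v = 1) (hA : B.IsAlt) :
    finrank F (redW B W u v) < finrank F W := by
  refine Submodule.finrank_lt_finrank_of_lt (lt_of_le_of_ne (fun z hz => (mem_redW.1 hz).1) fun e => ?_)
  have := (mem_redW.1 (e.symm ▸ hu : u ∈ redW B W u v)).2.2
  rw [neg' hA u v, h] at this
  simp at this

/-- Every linear functional is represented inside a non-degenerate subspace. -/
theorem exists_repr [FiniteDimensional F V] {W : Submodule F V} (hA : B.IsAlt) (hW : NDon B W)
    (f : V →ₗ[F] F) : ∃ v ∈ W, ∀ w ∈ W, B w v = f w := by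
  let Φ : W →ₗ[F] Module.Dual F W := ((B.flip.domRestrict W).compl₂ W.subtype)
  have hinj : Function.Injective Φ := by
    rw [← LinearMap.ker_eq_bot, Submodule.eq_bot_iff]
    intro z hz
    by_contra h0
    obtain ⟨y, hy, hy'⟩ := hW z z.2 (by simpa using h0)
    have : B y z = 0 := LinearMap.congr_fun (LinearMap.mem_ker.1 hz) ⟨y, hy⟩
    exact hy' (by rw [neg' hA y z, this, neg_zero])
  obtain ⟨v, hv⟩ := ((LinearMap.injective_iff_surjective_of_finrank_eq_finrank
    Subspace.dual_finrank_eq.symm).1 hinj) (f.comp W.subtype)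
  exact ⟨v, v.2, fun w hw => LinearMap.congr_fun hv ⟨w, hw⟩⟩

/-- Witt's lemma, in the strong form: the extension is a product of transvections along W. -/
theorem witt (hA : B.IsAlt) [FiniteDimensional F V] (n : ℕ) :
    ∀ (W : Submodule F V), finrank F W = n → NDon B W → ∀ (X : Submodule F V), X ≤ W →
      ∀ (φ : X →ₗ[F] V), Function.Injective φ → (∀ x : X, φ x ∈ W) →
        (∀ x x' : X, B (φ x) (φ x') = B (x : V) (x' : V)) → ∃ t ∈ TG B W, ∀ x : X, t (x : V) = φ x := by
  induction n using Nat.strong_induction_on with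
  | _ n ih => ?_
  intro W hn hW X hX φ hinj hmem hiso
  by_cases hX0 : X = ⊥
  · subst hX0
    refine ⟨1, one_mem _, fun x => ?_⟩
    rw [Subsingleton.elim x 0]
    simp
  obtain ⟨u, hu, hu0⟩ := X.exists_mem_ne_zero_of_ne_bot hX0
  have hu'0 : φ ⟨u, hu⟩ ≠ 0 := fun h => hu0 (congrArg Subtype.val (hinj (h.trans φ.map_zero.symm)))
  -- a partner v of u and a partner v' of φ u
  obtain ⟨v, v', hvW, hv'W, huv, hu'v', hpair, hval, hvX⟩ : ∃ v v' : V, v ∈ W ∧ v' ∈ W ∧ B u v = 1 ∧
      B (φ ⟨u, hu⟩) v' = 1 ∧ (∀ x : X, B (φ x) v' = B (x : V) v) ∧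
      (∀ hv : v ∈ X, φ ⟨v, hv⟩ = v') ∧ (v ∈ X ∨ ∀ x ∈ X, B x u = 0) := by
    by_cases hrad : ∀ x ∈ X, B x u = 0
    · obtain ⟨z, hz, hz'⟩ := hW u (hX hu) hu0
      obtain ⟨v, hv, hvf⟩ := exists_repr hA hW ((B u z)⁻¹ • B.flip z)
      have huv : B u v = 1 := by
        rw [hvf u (hX hu)]; simp [inv_mul_cancel₀ hz']
      obtain ⟨g, hg⟩ := LinearMap.exists_extend
        ((B.flip v).comp (X.subtype.comp (LinearEquiv.ofInjective φ hinj).symm.toLinearMap))
      obtain ⟨v', hv', hvg⟩ := exists_repr hA hW g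
      have key : ∀ x : X, B (φ x) v' = B (x : V) v := fun x => by
        rw [hvg _ (hmem x)]
        have := LinearMap.congr_fun hg ⟨φ x, x, rfl⟩
        simp only [LinearMap.comp_apply, Submodule.coe_subtype] at this
        rw [this]
        change B ((LinearEquiv.ofInjective φ hinj).symm (LinearEquiv.ofInjective φ hinj x) : X) v = _
        rw [LinearEquiv.symm_apply_apply]
      refine ⟨v, v', hv, hv', huv, (key ⟨u, hu⟩).trans huv, key, fun hvX => ?_, Or.inr hrad⟩
      have := hrad v hvX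
      rw [neg' hA u v, huv] at this
      simp at this
    · push Not at hrad
      obtain ⟨x, hx, hxu⟩ := hrad
      have hux : B u x ≠ 0 := by rw [neg' hA x u]; simpa using hxu
      have hv : (B u x)⁻¹ • x ∈ X := X.smul_mem _ hx
      have huv : B u ((B u x)⁻¹ • x) = 1 := by simp [inv_mul_cancel₀ hux]
      exact ⟨_, φ ⟨_, hv⟩, hX hv, hmem _, huv, (hiso ⟨u, hu⟩ ⟨_, hv⟩).trans huv,
        fun y => hiso y ⟨_, hv⟩, fun _ => rfl, Or.inl hv⟩
  obtain ⟨t, ht, htu, htv⟩ := exists_map_pair hA hW (hX hu) hvW (hmem ⟨u, hu⟩) hv'W huv hu'v'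
  -- after moving back, φ fixes the pair
  let ψ : X →ₗ[F] V := (t⁻¹ : V ≃ₗ[F] V).toLinearMap.comp φ
  have hψ : ∀ x : X, ψ x = t⁻¹ (φ x) := fun _ => rfl
  have ht' : t⁻¹ ∈ isoGroup B := inv_mem (TG_le_isoGroup hA W ht)
  have htu' : t⁻¹ (φ ⟨u, hu⟩) = u := by rw [← htu, inv_apply_self]
  have htv' : t⁻¹ v' = v := by rw [← htv, inv_apply_self]
  have hψu : ∀ x : X, B (ψ x) u = B (x : V) u := fun x => by
    rw [hψ]
    conv_lhs => rw [← htu']
    rw [ht', hiso]
  have hψv : ∀ x : X, B (ψ x) v = B (x : V) v := fun x => by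
    rw [hψ]
    conv_lhs => rw [← htv']
    rw [ht', hpair]
  have hW' := ndon_redW hA hW (hX hu) hvW huv
  have hX'mem : ∀ x ∈ X, rmap B u v x ∈ X := fun x hx => by
    rw [rmap_apply]
    refine X.add_mem (X.sub_mem hx (X.smul_mem _ hu)) ?_
    rcases hvX with hv | hr
    · exact X.smul_mem _ hv
    · simp [hr x hx]
  let ι : ↥(X ⊓ redW B W u v) →ₗ[F] X := Submodule.inclusion inf_le_left
  obtain ⟨s, hs, hs'⟩ := ih _ (hn ▸ finrank_redW_lt (hX hu) huv hA) _ rfl hW' (X ⊓ redW B W u v)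
    inf_le_right (ψ.comp ι)
    ((t⁻¹ : V ≃ₗ[F] V).injective.comp (hinj.comp (Submodule.inclusion_injective _)))
    (fun x => by
      obtain ⟨hxW, h1, h2⟩ := mem_redW.1 x.2.2
      rw [LinearMap.comp_apply, mem_redW]
      refine ⟨TG_maps (inv_mem ht) (hmem (ι x)), ?_, ?_⟩
      · rw [neg' hA (ψ (ι x)) u, hψu, ← neg' hA]
        exact h1
      · rw [neg' hA (ψ (ι x)) v, hψv, ← neg' hA]
        exact h2)
    (fun x x' => by
      simp only [LinearMap.comp_apply, hψ]
      rw [ht', hiso]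
      rfl)
  refine ⟨t * s, mul_mem ht (TG_mono (fun z hz => (mem_redW.1 hz).1) hs), fun x => ?_⟩
  have hsu : s u = u := TG_fix hs fun w hw => (mem_redW.1 hw).2.1
  have hsv : s v = v := TG_fix hs fun w hw => (mem_redW.1 hw).2.2
  let r : X := ⟨rmap B u v x, hX'mem x x.2⟩
  have hr : s (r : V) = ψ r :=
    hs' ⟨r, r.2, rmap_mem hA (hX hu) hvW (hX x.2) huv⟩
  suffices s (x : V) = ψ x by rw [LinearEquiv.mul_apply, this, hψ, apply_inv_self]
  have ex : (x : V) = rmap B u v x + B (x : V) v • u - B (x : V) u • v := by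
    rw [rmap_apply]; abel
  rcases hvX with hv | hrad
  · have ex' : x = r + B (x : V) v • (⟨u, hu⟩ : X) - B (x : V) u • (⟨v, hv⟩ : X) := Subtype.ext (by simpa using ex)
    conv_rhs => rw [ex', map_sub, map_add, map_smul, map_smul, ← hr, hψ ⟨u, hu⟩, htu', hψ ⟨v, hv⟩,
      hval hv, htv']
    conv_lhs => rw [ex, map_sub, map_add, map_smul, map_smul, hsu, hsv]
  · rw [hrad x x.2, zero_smul, sub_zero] at ex
    have ex' : x = r + B (x : V) v • (⟨u, hu⟩ : X) := Subtype.ext (by simpa using ex)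
    conv_rhs => rw [ex', map_add, map_smul, ← hr, hψ ⟨u, hu⟩, htu']
    conv_lhs => rw [ex, map_add, map_smul, hsu]

theorem decomp [FiniteDimensional F V] {W : Submodule F V} (hA : B.IsAlt) (hW : NDon B W) (x : V) :
    ∃ w ∈ W, ∀ z ∈ W, B (x - w) z = 0 := by
  obtain ⟨w, hw, hw'⟩ := exists_repr hA hW (B x)
  refine ⟨-w, W.neg_mem hw, fun z hz => ?_⟩
  simp [neg' hA z w, hw' z hz]

/-- An isometry fixing the orthogonal of W is a product of transvections along W. -/
theorem mem_TG_of_fix (hA : B.IsAlt) [FiniteDimensional F V] (hB : B.Nondegenerate) {W : Submodule F V}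
    (hW : NDon B W) {g : V ≃ₗ[F] V} (hg : g ∈ isoGroup B)
    (hfix : ∀ x, (∀ w ∈ W, B x w = 0) → g x = x) : g ∈ TG B W := by
  have hmaps : ∀ w ∈ W, g w ∈ W := fun w hw => by
    obtain ⟨a, ha, h⟩ := decomp hA hW (g w)
    suffices g w - a = 0 by rw [sub_eq_zero.1 this]; exact ha
    refine hB.1 _ fun x => ?_
    obtain ⟨b, hb, hb'⟩ := decomp hA hW x
    have h1 : B (g w) (x - b) = 0 := by
      rw [← hfix _ hb', hg, neg' hA (x - b) w, hb' w hw, neg_zero]
    have h2 : B a (x - b) = 0 := by rw [neg' hA (x - b) a, hb' a ha, neg_zero]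
    calc B (g w - a) x = B (g w - a) (x - b) + B (g w - a) b := by rw [← map_add, sub_add_cancel]
      _ = 0 := by rw [h b hb, add_zero, map_sub B (g w) a, LinearMap.sub_apply, h1, h2, sub_zero]
  obtain ⟨t, ht, ht'⟩ := witt hA _ W rfl hW W le_rfl ((g : V →ₗ[F] V).comp W.subtype)
    (g.injective.comp Subtype.val_injective) (fun x => hmaps x x.2) (fun x x' => hg x x')
  have : g = t := LinearEquiv.ext fun x => by
    obtain ⟨w, hw, h⟩ := decomp hA hW x
    have h1 := hfix _ h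
    have h2 := TG_fix ht h
    have h3 : t w = g w := ht' ⟨w, hw⟩
    rw [show x = (x - w) + w by abel, map_add, map_add, h1, h2, h3]
  exact this ▸ ht

theorem TG_top (hA : B.IsAlt) [FiniteDimensional F V] (hB : B.Nondegenerate) : TG B ⊤ = isoGroup B := by
  refine le_antisymm (TG_le_isoGroup hA _) fun g hg => mem_TG_of_fix hA hB (ndon_top hB) hg fun x hx => ?_
  have : x = 0 := hB.1 x fun z => hx z trivial
  subst this
  exact map_zero g

end Cfsg.Agent.Classical.Alt
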