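import Mathlib
import Cfsg.Agent.Classical.AltForm

/-!
Symplectic bases, dimensions of the reduced subspaces and the order of the isometry group of a non-degenerate
alternating form over a finite field.
-/

set_option autoImplicit false

namespace Cfsg.Agent.Classical.Alt

open Module

variable {F V : Type*} [Field F] [AddCommGroup V] [Module F V] {B : LinearMap.BilinForm F V}

theorem finrank_redW_add_two [FiniteDimensional F V] (hA : B.IsAlt) {W : Submodule F V} {u v : V}
    (hu : u ∈ W) (hv : v ∈ W) (h : B u v = 1) : finrank F (redW B W u v) + 2 = finrank F W := by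
  let L : W →ₗ[F] F × F := ((B u).domRestrict W).prod ((B v).domRestrict W)
  have hL : ∀ w : W, L w = (B u w, B v w) := fun _ => rfl
  have hsurj : LinearMap.range L = ⊤ := by
    rw [eq_top_iff]
    rintro ⟨a, b⟩ -
    refine ⟨a • ⟨v, hv⟩ + (-b) • ⟨u, hu⟩, ?_⟩
    rw [hL]
    simp [h, hA u, hA v, neg' hA u v]
  have hker : LinearMap.ker L = (redW B W u v).comap W.subtype := by
    ext w
    simp [hL, mem_redW]
  have := L.finrank_range_add_finrank_ker
  rw [hsurj, hker, finrank_top, Module.finrank_prod, Module.finrank_self] at this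
  rw [← (Submodule.comapSubtypeEquivOfLe (show redW B W u v ≤ W from fun z hz => (mem_redW.1 hz).1)).finrank_eq]
  omega

theorem exists_partner (hA : B.IsAlt) {W : Submodule F V} (hW : NDon B W) {u : V} (hu : u ∈ W)
    (hu0 : u ≠ 0) : ∃ v ∈ W, B u v = 1 := by
  obtain ⟨z, hz, hz'⟩ := hW u hu hu0
  exact ⟨(B u z)⁻¹ • z, W.smul_mem _ hz, by simp [inv_mul_cancel₀ hz']⟩

/-- e, f form a symplectic basis of W. -/
structure IsSympBasis (B : LinearMap.BilinForm F V) (W : Submodule F V) {m : ℕ} (e f : Fin m → V) : Prop where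
  mem_e : ∀ i, e i ∈ W
  mem_f : ∀ i, f i ∈ W
  ef : ∀ i j, B (e i) (f j) = if i = j then 1 else 0
  ee : ∀ i j, B (e i) (e j) = 0
  ff : ∀ i j, B (f i) (f j) = 0
  span : W ≤ Submodule.span F (Set.range (Sum.elim e f))

theorem exists_sympBasis (hA : B.IsAlt) [FiniteDimensional F V] (W : Submodule F V) (hW : NDon B W) :
    ∃ (m : ℕ) (e f : Fin m → V), IsSympBasis B W e f ∧ finrank F W = 2 * m := by
  suffices ∀ n (W : Submodule F V), finrank F W = n → NDon B W →
      ∃ (m : ℕ) (e f : Fin m → V), IsSympBasis B W e f ∧ finrank F W = 2 * m from this _ W rfl hW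
  intro n
  induction n using Nat.strong_induction_on with
  | _ n ih => ?_
  intro W hn hW
  by_cases h0 : W = ⊥
  · subst h0
    exact ⟨0, Fin.elim0, Fin.elim0, ⟨fun i => i.elim0, fun i => i.elim0, fun i => i.elim0,
      fun i => i.elim0, fun i => i.elim0, bot_le⟩, by simp⟩
  obtain ⟨u, hu, hu0⟩ := W.exists_mem_ne_zero_of_ne_bot h0
  obtain ⟨v, hv, huv⟩ := exists_partner hA hW hu hu0
  obtain ⟨m, e, f, hb, hm⟩ :=
    ih _ (hn ▸ finrank_redW_lt hu huv hA) _ rfl (ndon_redW hA hW hu hv huv)
  have hd := finrank_redW_add_two hA hu hv huv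
  have hue : ∀ i, B u (e i) = 0 := fun i => (mem_redW.1 (hb.mem_e i)).2.1
  have huf : ∀ i, B u (f i) = 0 := fun i => (mem_redW.1 (hb.mem_f i)).2.1
  have hve : ∀ i, B v (e i) = 0 := fun i => (mem_redW.1 (hb.mem_e i)).2.2
  have hvf : ∀ i, B v (f i) = 0 := fun i => (mem_redW.1 (hb.mem_f i)).2.2
  refine ⟨m + 1, Fin.cons u e, Fin.cons v f, ⟨?_, ?_, ?_, ?_, ?_, ?_⟩, by omega⟩
  · exact Fin.cases hu fun i => (mem_redW.1 (hb.mem_e i)).1
  · exact Fin.cases hv fun i => (mem_redW.1 (hb.mem_f i)).1
  · intro i j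
    refine Fin.cases ?_ (fun i => ?_) i <;> refine Fin.cases ?_ (fun j => ?_) j
    · simpa using huv
    · simpa [(Fin.succ_ne_zero j).symm] using huf j
    · simp [neg' hA v (e i), hve i, Fin.succ_ne_zero]
    · simpa using hb.ef i j
  · intro i j
    refine Fin.cases ?_ (fun i => ?_) i <;> refine Fin.cases ?_ (fun j => ?_) j
    · simpa using hA u
    · simpa using hue j
    · simp [neg' hA u (e i), hue i]
    · simpa using hb.ee i j
  · intro i j
    refine Fin.cases ?_ (fun i => ?_) i <;> refine Fin.cases ?_ (fun j => ?_) j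
    · simpa using hA v
    · simpa using hvf j
    · simp [neg' hA v (f i), hvf i]
    · simpa using hb.ff i j
  · intro x hx
    have h1 := hb.span (rmap_mem hA hu hv hx huv)
    have h2 : Submodule.span F (Set.range (Sum.elim e f)) ≤
        Submodule.span F (Set.range (Sum.elim (Fin.cons u e : Fin (m + 1) → V) (Fin.cons v f))) := by
      refine Submodule.span_mono ?_
      rintro _ ⟨i | i, rfl⟩
      · exact ⟨Sum.inl i.succ, by simp⟩
      · exact ⟨Sum.inr i.succ, by simp⟩
    rw [show x = rmap B u v x + B x v • u - B x u • v by rw [rmap_apply]; abel]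
    refine Submodule.sub_mem _ (Submodule.add_mem _ (h2 h1) (Submodule.smul_mem _ _ ?_))
      (Submodule.smul_mem _ _ ?_)
    · exact Submodule.subset_span ⟨Sum.inl 0, by simp⟩
    · exact Submodule.subset_span ⟨Sum.inr 0, by simp⟩

theorem IsSympBasis.linearIndependent {W : Submodule F V} {m : ℕ} {e f : Fin m → V} (hA : B.IsAlt)
    (hb : IsSympBasis B W e f) : LinearIndependent F (Sum.elim e f) := by
  rw [Fintype.linearIndependent_iff]
  intro g hg i
  have key : ∀ y : V, ∑ i, g i * B (Sum.elim e f i) y = 0 := fun y => by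
    have := congrArg (fun x => B x y) hg
    simpa [LinearMap.sum_apply, map_sum] using this
  rcases i with i | i
  · simpa [Fintype.sum_sum_type, hb.ef, hb.ff] using key (f i)
  · simpa [Fintype.sum_sum_type, hb.ee, neg' hA (e i) (f _), hb.ef] using key (e i)

/-- A symplectic basis of a complement of the radical, with a basis of the radical. -/
theorem exists_basis_symp (hA : B.IsAlt) [FiniteDimensional F V] :
    ∃ (m k : ℕ) (b : Basis ((Fin m ⊕ Fin m) ⊕ Fin k) F V),
      (∀ i j : Fin m, B (b (Sum.inl (Sum.inl i))) (b (Sum.inl (Sum.inr j))) = if i = j then 1 else 0) ∧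
      (∀ i j : Fin m, B (b (Sum.inl (Sum.inl i))) (b (Sum.inl (Sum.inl j))) = 0) ∧
      (∀ i j : Fin m, B (b (Sum.inl (Sum.inr i))) (b (Sum.inl (Sum.inr j))) = 0) ∧
      (∀ (j : Fin k) (v : V), B (b (Sum.inr j)) v = 0) := by
  obtain ⟨W, hW⟩ := Submodule.exists_isCompl (LinearMap.ker B)
  have hnd : NDon B W := fun w hw hw0 => by
    by_contra hc
    push Not at hc
    refine hw0 (Submodule.disjoint_def.1 hW.disjoint w ?_ hw)
    refine LinearMap.mem_ker.2 (LinearMap.ext fun x => ?_)
    obtain ⟨a, ha, b, hb, rfl⟩ := Submodule.mem_sup.1 (hW.sup_eq_top.symm ▸ Submodule.mem_top (x := x))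
    rw [map_add, hc b hb, neg' hA a w, LinearMap.mem_ker.1 ha]
    simp
  obtain ⟨m, e, f, hb, -⟩ := exists_sympBasis hA W hnd
  have hspan : Submodule.span F (Set.range (Sum.elim e f)) = W := by
    refine le_antisymm (Submodule.span_le.2 ?_) hb.span
    rintro _ ⟨i | i, rfl⟩
    · exact hb.mem_e i
    · exact hb.mem_f i
  let bW : Basis (Fin m ⊕ Fin m) F W := (Basis.span (hb.linearIndependent hA)).map (LinearEquiv.ofEq _ _ hspan)
  let bR := Module.finBasis F (LinearMap.ker B)
  let bb := (bW.prod bR).map (Submodule.prodEquivOfIsCompl W (LinearMap.ker B) hW.symm)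
  have h1 : ∀ i, bb (Sum.inl i) = Sum.elim e f i := fun i => by
    simp [bb, bW, Basis.prod_apply, Basis.span_apply]
  refine ⟨m, _, bb, fun i j => ?_, fun i j => ?_, fun i j => ?_, fun j v => ?_⟩
  · rw [h1, h1]; exact hb.ef i j
  · rw [h1, h1]; exact hb.ee i j
  · rw [h1, h1]; exact hb.ff i j
  · have : bb (Sum.inr j) = (bR j : V) := by simp [bb, Basis.prod_apply]
    rw [this, LinearMap.mem_ker.1 (bR j).2]
    simp

section Count

variable [Fintype F]

theorem card_partners [FiniteDimensional F V] {W : Submodule F V} (hA : B.IsAlt) (hW : NDon B W) {u : V}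
    (hu : u ∈ W) (hu0 : u ≠ 0) :
    Nat.card {v : W // B u v = 1} = Fintype.card F ^ (finrank F W - 1) := by
  obtain ⟨v₀, hv₀, huv₀⟩ := exists_partner hA hW hu hu0
  have hL : (B u).domRestrict W ≠ 0 := fun h => by
    have := LinearMap.congr_fun h ⟨v₀, hv₀⟩
    simp [huv₀] at this
  have hk := Module.Dual.finrank_ker_add_one_of_ne_zero hL
  let e : {v : W // B u v = 1} ≃ LinearMap.ker ((B u).domRestrict W) :=
    { toFun := fun v => ⟨v.1 - ⟨v₀, hv₀⟩, by simp [v.2, huv₀]⟩
      invFun := fun k => ⟨k.1 + ⟨v₀, hv₀⟩, by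
        have : B u (k.1 : V) = 0 := k.2
        simp [this, huv₀]⟩
      left_inv := fun v => by simp
      right_inv := fun k => by simp }
  rw [Nat.card_congr e, Module.natCard_eq_pow_finrank (K := F), Nat.card_eq_fintype_card]
  congr 1
  omega

theorem card_pairs [FiniteDimensional F V] {W : Submodule F V} (hA : B.IsAlt) (hW : NDon B W) :
    Nat.card {p : W × W // B p.1 p.2 = 1}
      = (Fintype.card F ^ finrank F W - 1) * Fintype.card F ^ (finrank F W - 1) := by
  classical
  have : Finite V := Module.finite_of_finite F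
  let e : {p : W × W // B p.1 p.2 = 1} ≃ Σ u : {u : W // u ≠ 0}, {v : W // B (u.1 : V) v = 1} :=
    { toFun := fun p => ⟨⟨p.1.1, fun h => by simpa [h] using p.2⟩, p.1.2, p.2⟩
      invFun := fun x => ⟨(x.1.1, x.2.1), x.2.2⟩
      left_inv := fun p => rfl
      right_inv := fun x => rfl }
  have : Fintype W := Fintype.ofFinite _
  rw [Nat.card_congr e, Nat.card_sigma]
  simp only [fun u : {u : W // u ≠ 0} => card_partners hA hW u.1.2 (by simpa using u.2)]
  rw [Finset.sum_const, smul_eq_mul, Finset.card_univ, Fintype.card_subtype_compl,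
    Fintype.card_subtype_eq, Module.card_eq_pow_finrank (K := F)]

theorem card_TG [FiniteDimensional F V] (hA : B.IsAlt) (hB : B.Nondegenerate) (m : ℕ) :
    ∀ W : Submodule F V, NDon B W → finrank F W = 2 * m →
      Nat.card (TG B W) = Fintype.card F ^ (m ^ 2) *
        ∏ i ∈ Finset.range m, (Fintype.card F ^ (2 * (i + 1)) - 1) := by
  classical
  have : Finite V := Module.finite_of_finite F
  induction m with
  | zero =>
    intro W _ hd
    have h0 : W = ⊥ := Submodule.finrank_eq_zero.1 (by simpa using hd)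
    have : TG B W = ⊥ := by
      rw [Subgroup.eq_bot_iff_forall]
      intro t ht
      exact LinearEquiv.ext fun x => TG_fix ht fun w hw => by
        rw [h0, Submodule.mem_bot] at hw
        simp [hw]
    simp [this]
  | succ m ih =>
    intro W hW hd
    have hW0 : W ≠ ⊥ := fun h => by subst h; simp at hd
    obtain ⟨u, hu, hu0⟩ := W.exists_mem_ne_zero_of_ne_bot hW0
    obtain ⟨v, hv, huv⟩ := exists_partner hA hW hu hu0
    have hd' : finrank F (redW B W u v) = 2 * m := by
      have := finrank_redW_add_two hA hu hv huv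
      omega
    have hmap : ∀ t : TG B W, B ((⟨t.1 u, TG_maps t.2 hu⟩ : W) : V) (⟨t.1 v, TG_maps t.2 hv⟩ : W) = 1 :=
      fun t => (TG_le_isoGroup hA W t.2 u v).trans huv
    let ev : TG B W → {p : W × W // B p.1 p.2 = 1} := fun t => ⟨(_, _), hmap t⟩
    let e : TG B W ≃ {p : W × W // B p.1 p.2 = 1} × TG B (redW B W u v) := by
      have hex : ∀ p : {p : W × W // B p.1 p.2 = 1}, ∃ t : TG B W, t.1 u = p.1.1 ∧ t.1 v = p.1.2 := fun p => by
        obtain ⟨t, ht, h1, h2⟩ := exists_map_pair hA hW hu hv p.1.1.2 p.1.2.2 huv p.2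
        exact ⟨⟨t, ht⟩, h1, h2⟩
      choose sec hs1 hs2 using hex
      have hfixpair : ∀ t : TG B (redW B W u v), t.1 u = u ∧ t.1 v = v := fun t =>
        ⟨TG_fix t.2 fun w hw => (mem_redW.1 hw).2.1, TG_fix t.2 fun w hw => (mem_redW.1 hw).2.2⟩
      refine Equiv.symm (Equiv.ofBijective
        (fun x => (⟨(sec x.1).1 * x.2.1,
          mul_mem (sec x.1).2 (TG_mono (fun z hz => (mem_redW.1 hz).1) x.2.2)⟩ : TG B W)) ⟨?_, ?_⟩)
      · rintro ⟨p, s⟩ ⟨p', s'⟩ h
        have h' := congrArg Subtype.val h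
        simp only at h'
        have e1 := congrArg (fun g : V ≃ₗ[F] V => g u) h'
        have e2 := congrArg (fun g : V ≃ₗ[F] V => g v) h'
        simp only [LinearEquiv.mul_apply, (hfixpair s).1, (hfixpair s').1, (hfixpair s).2, (hfixpair s').2,
          hs1, hs2] at e1 e2
        have hp : p = p' := Subtype.ext (Prod.ext (Subtype.ext e1) (Subtype.ext e2))
        subst hp
        exact Prod.ext rfl (Subtype.ext (mul_left_cancel h'))
      · intro t
        refine ⟨(ev t, ⟨(sec (ev t)).1⁻¹ * t.1, ?_⟩), Subtype.ext (mul_inv_cancel_left _ _)⟩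
        refine mem_TG_of_fix hA hB (ndon_redW hA hW hu hv huv)
          (TG_le_isoGroup hA W (mul_mem (inv_mem (sec _).2) t.2)) fun x hx => ?_
        obtain ⟨w, hw, hperp⟩ := decomp hA hW x
        have hgu : ((sec (ev t)).1⁻¹ * t.1) u = u := by
          rw [LinearEquiv.mul_apply, show t.1 u = (sec (ev t)).1 u from (hs1 (ev t)).symm, inv_apply_self]
        have hgv : ((sec (ev t)).1⁻¹ * t.1) v = v := by
          rw [LinearEquiv.mul_apply, show t.1 v = (sec (ev t)).1 v from (hs2 (ev t)).symm, inv_apply_self]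
        have hfix := TG_fix (mul_mem (inv_mem (sec (ev t)).2) t.2) hperp
        have hw0 : rmap B u v w = 0 := by
          by_contra hne
          obtain ⟨z, hz, hz'⟩ := ndon_redW hA hW hu hv huv _ (rmap_mem hA hu hv hw huv) hne
          apply hz'
          have h1 := hx z hz
          have h2 := hperp z (mem_redW.1 hz).1
          rw [map_sub, LinearMap.sub_apply, h1, zero_sub, neg_eq_zero] at h2
          simp [rmap_apply, h2, (mem_redW.1 hz).2.1, (mem_redW.1 hz).2.2]
        have hwe : w = B w v • u - B w u • v := by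
          rw [rmap_apply] at hw0
          rw [← sub_eq_zero, ← hw0]; abel
        rw [show x = (x - w) + w by abel, map_add, hfix]
        conv_lhs => rw [hwe]
        rw [map_sub, map_smul, map_smul, hgu, hgv, ← hwe]
    rw [Nat.card_congr e, Nat.card_prod, card_pairs hA hW, hd, ih _ (ndon_redW hA hW hu hv huv) hd',
      Finset.prod_range_succ, show (m + 1) ^ 2 = m ^ 2 + (2 * (m + 1) - 1) by
        rw [show 2 * (m + 1) - 1 = 2 * m + 1 by omega]; ring, pow_add]
    ring

theorem card_isoGroup [FiniteDimensional F V] (hA : B.IsAlt) (hB : B.Nondegenerate) (m : ℕ)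
    (hd : finrank F V = 2 * m) :
    Nat.card (isoGroup B) = Fintype.card F ^ (m ^ 2) *
        ∏ i ∈ Finset.range m, (Fintype.card F ^ (2 * (i + 1)) - 1) := by
  rw [← TG_top hA hB]
  exact card_TG hA hB m ⊤ (ndon_top hB) (by rw [finrank_top, hd])

end Count

end Cfsg.Agent.Classical.Alt
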