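import Mathlib
import Cfsg.Agent.Classical.AltBasis

/-!
The isometry group of a non-degenerate alternating form: centre, perfectness, primitivity on points, simplicity
modulo the centre (Iwasawa).
-/

set_option autoImplicit false

namespace Cfsg.Agent.Classical.Alt

open Module
open scoped commutatorElement LinearAlgebra.Projectivization Pointwise

variable {F V : Type*} [Field F] [AddCommGroup V] [Module F V] {B : LinearMap.BilinForm F V}

theorem exists_iso_map (hA : B.IsAlt) (hB : B.Nondegenerate) {u w : V} (hu : u ≠ 0) (hw : w ≠ 0) :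
    ∃ g : isoGroup B, g.1 u = w := by
  obtain ⟨t, ht, h⟩ := exists_map_vector hA (ndon_top hB) (u := u) (w := w) trivial trivial hu hw
  exact ⟨⟨t, TG_le_isoGroup hA _ ht⟩, h⟩

theorem exists_iso_pair [FiniteDimensional F V] (hA : B.IsAlt) (hB : B.Nondegenerate) {u v u' v' : V}
    (h : B u v = 1) (h' : B u' v' = 1) : ∃ g : isoGroup B, g.1 u = u' ∧ g.1 v = v' := by
  obtain ⟨t, ht, h1, h2⟩ := exists_map_pair hA (ndon_top hB) (u := u) (v := v) (u' := u') (v' := v')
    trivial trivial trivial trivial h h'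
  exact ⟨⟨t, TG_le_isoGroup hA _ ht⟩, h1, h2⟩

/-- A transvection as an element of the isometry group. -/
def tvE (hA : B.IsAlt) (v : V) (c : F) : isoGroup B := ⟨tv hA v c, tv_mem_isoGroup hA v c⟩

theorem tvE_coe (hA : B.IsAlt) (v : V) (c : F) : (tvE hA v c).1 = tv hA v c := rfl

theorem tvE_add (hA : B.IsAlt) (v : V) (c d : F) : tvE hA v c * tvE hA v d = tvE hA v (c + d) :=
  Subtype.ext (tv_add hA v c d)

theorem tvE_smul (hA : B.IsAlt) (v : V) (a c : F) : tvE hA (a • v) c = tvE hA v (a ^ 2 * c) :=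
  Subtype.ext (tv_smul hA v a c)

theorem conj_tvE (hA : B.IsAlt) (g : isoGroup B) (v : V) (c : F) :
    g * tvE hA v c * g⁻¹ = tvE hA (g.1 v) c :=
  Subtype.ext (conj_tv hA g.2 v c)

/-- The one-parameter group of transvections along v. -/
def tvHom (hA : B.IsAlt) (v : V) : Multiplicative F →* isoGroup B :=
  MonoidHom.mk' (fun c => tvE hA v c.toAdd) fun c d => by rw [toAdd_mul, tvE_add]

theorem tvE_mem_range (hA : B.IsAlt) (v : V) (c : F) : tvE hA v c ∈ (tvHom hA v).range :=
  ⟨Multiplicative.ofAdd c, rfl⟩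

/-- A subgroup containing all transvections is the whole isometry group. -/
theorem eq_top_of_tvE [FiniteDimensional F V] (hA : B.IsAlt) (hB : B.Nondegenerate)
    (H : Subgroup (isoGroup B)) (h : ∀ (v : V) (c : F), tvE hA v c ∈ H) : H = ⊤ := by
  rw [eq_top_iff]
  rintro ⟨g, hg⟩ -
  suffices TG B ⊤ ≤ H.map (isoGroup B).subtype by
    rw [← TG_top hA hB] at hg
    obtain ⟨x, hx, hxg⟩ := this hg
    exact (Subtype.ext hxg : x = ⟨g, _⟩) ▸ hx
  refine (Subgroup.closure_le _).2 ?_
  rintro t ⟨v, -, c, ht⟩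
  exact ⟨tvE hA v c, h v c, LinearEquiv.ext fun x => (ht x).symm⟩

theorem scalar_of_center [FiniteDimensional F V] (hA : B.IsAlt) (hB : B.Nondegenerate) {g : isoGroup B}
    (hg : g ∈ Subgroup.center (isoGroup B)) : ∃ a : F, ∀ x, g.1 x = a • x := by
  have key : ∀ u : V, u ≠ 0 → ∃ a : F, g.1 u = a • u := fun u hu => by
    have h1 : tvE hA (g.1 u) 1 = tvE hA u 1 := by
      rw [← conj_tvE, ← Subgroup.mem_center_iff.1 hg, mul_inv_cancel_right]
    obtain ⟨z, -, hz⟩ := ndon_top hB u trivial hu
    have hx : B z u ≠ 0 := by rw [neg' hA u z]; simpa using hz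
    have h2 := congrArg (fun t : isoGroup B => t.1 z) h1
    simp only [tvE_coe, tv_apply, one_mul, add_right_inj] at h2
    have h3 : B z (g.1 u) ≠ 0 := fun h0 => by
      rw [h0, zero_smul] at h2
      exact smul_ne_zero hx hu h2.symm
    exact ⟨(B z (g.1 u))⁻¹ * B z u, by rw [mul_smul, ← h2, inv_smul_smul₀ h3]⟩
  obtain ⟨a, ha⟩ := (g.1 : V →ₗ[F] V).exists_eq_smul_id_of_forall_notLinearIndependent fun v => by
    by_cases hv : v = 0
    · simp [hv, linearIndependent_fin2]
    · obtain ⟨a, ha⟩ := key v hv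
      rw [LinearIndependent.pair_iff' hv]
      push Not
      exact ⟨a, ha.symm⟩
  exact ⟨a, fun x => LinearMap.congr_fun ha x⟩

theorem center_sq [FiniteDimensional F V] [Nontrivial V] (hA : B.IsAlt) (hB : B.Nondegenerate)
    {g : isoGroup B} {a : F} (ha : ∀ x, g.1 x = a • x) : a ^ 2 = 1 := by
  obtain ⟨u, hu⟩ := exists_ne (0 : V)
  obtain ⟨z, -, hz⟩ := ndon_top hB u trivial hu
  have := g.2 u z
  rw [ha, ha] at this
  simp only [map_smul, LinearMap.smul_apply, smul_eq_mul] at this
  exact mul_right_cancel₀ hz (by linear_combination this)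

/-- The scalar isometry attached to a square root of one. -/
def scalarE (B : LinearMap.BilinForm F V) : rootsOfUnity 2 F →* Subgroup.center (isoGroup B) where
  toFun a := ⟨⟨DistribMulAction.toLinearEquiv F V (a : Fˣ), fun x y => by
      have h : ((a : Fˣ) : F) * (a : Fˣ) = 1 := by
        have := congrArg Units.val ((mem_rootsOfUnity _ _).1 a.2)
        simpa [pow_two] using this
      simp [Units.smul_def, ← mul_assoc, h]⟩,
    Subgroup.mem_center_iff.2 fun g => Subtype.ext (LinearEquiv.ext fun x => by simp [Units.smul_def])⟩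
  map_one' := by ext; simp
  map_mul' a b := by ext x; simp [mul_smul]

theorem scalarE_bijective [FiniteDimensional F V] [Nontrivial V] (hA : B.IsAlt) (hB : B.Nondegenerate) :
    Function.Bijective (scalarE B) := by
  refine ⟨fun a b h => ?_, fun g => ?_⟩
  · obtain ⟨u, hu⟩ := exists_ne (0 : V)
    have h2 := congrArg (fun t : Subgroup.center (isoGroup B) => t.1.1 u) h
    simp only [scalarE, MonoidHom.coe_mk, OneHom.coe_mk] at h2
    exact Subtype.ext (Units.ext (smul_left_injective F hu h2))
  · obtain ⟨a, ha⟩ := scalar_of_center hA hB g.2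
    have h2 := center_sq hA hB ha
    have ha0 : a ≠ 0 := by rintro rfl; simp at h2
    refine ⟨⟨Units.mk0 a ha0, (mem_rootsOfUnity _ _).2 (Units.ext (by simpa using h2))⟩, ?_⟩
    ext x
    simp [scalarE, ha, Units.smul_def]

/-! ### Perfectness -/

theorem commutator_eq_top_of_sq [FiniteDimensional F V] (hA : B.IsAlt) (hB : B.Nondegenerate) {a : F}
    (ha : a ≠ 0) (ha2 : a ^ 2 ≠ 1) : commutator (isoGroup B) = ⊤ := by
  refine eq_top_of_tvE hA hB _ fun v c => ?_
  by_cases hv : v = 0
  · have : tvE hA v c = 1 := Subtype.ext (LinearEquiv.ext fun x => by simp [tvE_coe, tv_apply, hv])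
    exact this ▸ one_mem _
  obtain ⟨w, -, hw⟩ := exists_partner hA (ndon_top hB) (u := v) trivial hv
  obtain ⟨h, h1, -⟩ := exists_iso_pair hA hB (v' := a⁻¹ • w) (u' := a • v) hw (by simp [hw, ha])
  have e : ⁅h, tvE hA v (c / (a ^ 2 - 1))⁆ = tvE hA v c := by
    have hinv : (tvE hA v (c / (a ^ 2 - 1)))⁻¹ = tvE hA v (-(c / (a ^ 2 - 1))) :=
      Subtype.ext (tv_inv hA v _)
    rw [commutatorElement_def, conj_tvE, h1, tvE_smul, hinv, tvE_add]
    congr 1
    field_simp [sub_ne_zero_of_ne ha2]
    ring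
  rw [← e]
  exact Subgroup.commutator_mem_commutator (Subgroup.mem_top _) (Subgroup.mem_top _)

theorem commutator_eq_top_of_abel [FiniteDimensional F V] (hA : B.IsAlt) (hB : B.Nondegenerate) {u : V}
    (hu : u ≠ 0) (h : ∀ c : F, Abelianization.of (tvE hA u c) = 1) : commutator (isoGroup B) = ⊤ := by
  refine eq_top_of_tvE hA hB _ fun v c => ?_
  by_cases hv : v = 0
  · have : tvE hA v c = 1 := Subtype.ext (LinearEquiv.ext fun x => by simp [tvE_coe, tv_apply, hv])
    exact this ▸ one_mem _
  obtain ⟨g, hg⟩ := exists_iso_map hA hB hu hv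
  rw [← Abelianization.ker_of, MonoidHom.mem_ker, ← hg, ← conj_tvE, map_mul, map_mul, h c, mul_one,
    map_inv, mul_inv_cancel]

theorem abel_tvE_indep (hA : B.IsAlt) (hB : B.Nondegenerate) {u v : V} (hu : u ≠ 0) (hv : v ≠ 0) (c : F) :
    Abelianization.of (tvE hA v c) = Abelianization.of (tvE hA u c) := by
  obtain ⟨g, hg⟩ := exists_iso_map hA hB hu hv
  rw [← hg, ← conj_tvE, map_mul, map_mul, map_inv, mul_inv_cancel_comm]

theorem commutator_eq_top_of_char_ne_two [FiniteDimensional F V] (hA : B.IsAlt) (hB : B.Nondegenerate)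
    (h2 : (2 : F) ≠ 0) {a b : V} (hab : B a b = 0) (hli : LinearIndependent F ![a, b]) :
    commutator (isoGroup B) = ⊤ := by
  rw [LinearIndependent.pair_iff] at hli
  have ha : a ≠ 0 := fun h => one_ne_zero (hli 1 0 (by simp [h])).1
  have hb : b ≠ 0 := fun h => one_ne_zero (hli 0 1 (by simp [h])).2
  have hp : a + b ≠ 0 := fun h => one_ne_zero (hli 1 1 (by simpa using h)).1
  have hm : a - b ≠ 0 := fun h => one_ne_zero (hli 1 (-1) (by simpa [sub_eq_add_neg] using h)).1
  have hba : B b a = 0 := by rw [neg' hA a b, hab, neg_zero]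
  refine commutator_eq_top_of_abel hA hB ha fun c => ?_
  have e : ∀ c : F, tvE hA (a + b) c * tvE hA (a - b) c = tvE hA a (2 * c) * tvE hA b (2 * c) := fun c => by
    refine Subtype.ext (LinearEquiv.ext fun x => ?_)
    simp only [Subgroup.coe_mul, LinearEquiv.mul_apply, tvE_coe, tv_apply, map_add, map_smul,
      LinearMap.add_apply, LinearMap.smul_apply, map_sub, LinearMap.sub_apply, hA a, hA b, hab, hba]
    match_scalars <;> simp <;> ring
  have h := congrArg Abelianization.of (e (c / 2))
  rw [map_mul, map_mul, abel_tvE_indep hA hB ha hp, abel_tvE_indep hA hB ha hm, abel_tvE_indep hA hB ha hb,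
    ← map_mul, ← map_mul, tvE_add, tvE_add] at h
  rw [show 2 * (c / 2) + 2 * (c / 2) = c + c by field_simp, show c / 2 + c / 2 = c by field_simp; ring,
    ← tvE_add, map_mul] at h
  exact mul_eq_left.1 h.symm

theorem commutator_eq_top_of_char_two [FiniteDimensional F V] (hA : B.IsAlt) (hB : B.Nondegenerate)
    (h2 : (2 : F) = 0) {a b d : V} (hab : B a b = 0) (had : B a d = 0) (hbd : B b d = 0)
    (hli : LinearIndependent F ![a, b, d]) :
    commutator (isoGroup B) = ⊤ := by
  rw [Fintype.linearIndependent_iff] at hli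
  have key : ∀ r s t : F, r • a + s • b + t • d = 0 → r = 0 ∧ s = 0 ∧ t = 0 := fun r s t h =>
    have := hli ![r, s, t] (by simpa [Fin.sum_univ_three] using h)
    ⟨this 0, this 1, this 2⟩
  have ha : a ≠ 0 := fun h => one_ne_zero (key 1 0 0 (by simp [h])).1
  have hb : b ≠ 0 := fun h => one_ne_zero (key 0 1 0 (by simp [h])).2.1
  have hd : d ≠ 0 := fun h => one_ne_zero (key 0 0 1 (by simp [h])).2.2
  have h1 : a + b ≠ 0 := fun h => one_ne_zero (key 1 1 0 (by simpa using h)).1
  have h3 : a + d ≠ 0 := fun h => one_ne_zero (key 1 0 1 (by simpa using h)).1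
  have h4 : b + d ≠ 0 := fun h => one_ne_zero (key 0 1 1 (by simpa using h)).2.1
  have h5 : a + b + d ≠ 0 := fun h => one_ne_zero (key 1 1 1 (by simpa using h)).1
  have hba : B b a = 0 := by rw [neg' hA a b, hab, neg_zero]
  have hda : B d a = 0 := by rw [neg' hA a d, had, neg_zero]
  have hdb : B d b = 0 := by rw [neg' hA b d, hbd, neg_zero]
  refine commutator_eq_top_of_abel hA hB ha fun c => ?_
  have e : tvE hA (a + b + d) c * tvE hA (a + b) c * tvE hA (a + d) c * tvE hA (b + d) c *
      tvE hA a c * tvE hA b c * tvE hA d c = 1 := by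
    refine Subtype.ext (LinearEquiv.ext fun x => ?_)
    simp only [Subgroup.coe_mul, LinearEquiv.mul_apply, tvE_coe, tv_apply, map_add, map_smul,
      LinearMap.add_apply, LinearMap.smul_apply, hA a, hA b, hA d, hab, hba, had, hda, hbd, hdb,
      smul_zero, add_zero, Subgroup.coe_one]
    rw [show ((1 : V ≃ₗ[F] V) x) = x from rfl]
    have h4 : (4 : F) = 0 := by linear_combination 2 * h2
    match_scalars <;> ring_nf <;> simp [h2, h4]
  have h := congrArg Abelianization.of e
  simp only [map_mul, map_one, abel_tvE_indep hA hB ha hb, abel_tvE_indep hA hB ha hd,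
    abel_tvE_indep hA hB ha h1, abel_tvE_indep hA hB ha h3, abel_tvE_indep hA hB ha h4,
    abel_tvE_indep hA hB ha h5] at h
  have h0 : Abelianization.of (tvE hA a c) * Abelianization.of (tvE hA a c) = 1 := by
    rw [← map_mul, tvE_add, ← two_mul, h2, zero_mul]
    exact (congrArg Abelianization.of (Subtype.ext (tv_zero hA a))).trans (map_one _)
  simpa [h0] using h

theorem commutator_isoGroup [FiniteDimensional F V] (hA : B.IsAlt) (hB : B.Nondegenerate)
    (h : (∃ a : F, a ≠ 0 ∧ a ^ 2 ≠ 1) ∨ ((2 : F) ≠ 0 ∧ 4 ≤ finrank F V) ∨ 6 ≤ finrank F V) :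
    commutator (isoGroup B) = ⊤ := by
  rcases h with ⟨a, ha, ha2⟩ | h
  · exact commutator_eq_top_of_sq hA hB ha ha2
  obtain ⟨m, e, f, hb, hm⟩ := exists_sympBasis hA (⊤ : Submodule F V) (ndon_top hB)
  rw [finrank_top] at hm
  have hli := (hb.linearIndependent hA).comp Sum.inl Sum.inl_injective
  simp only [Sum.elim_comp_inl] at hli
  by_cases h2 : (2 : F) = 0
  · have h6 : 3 ≤ m := by rcases h with h | h <;> [exact absurd h2 h.1; omega]
    refine commutator_eq_top_of_char_two hA hB h2 (a := e ⟨0, by omega⟩) (b := e ⟨1, by omega⟩)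
      (d := e ⟨2, by omega⟩) (hb.ee _ _) (hb.ee _ _) (hb.ee _ _) ?_
    have := hli.comp (![(⟨0, by omega⟩ : Fin m), ⟨1, by omega⟩, ⟨2, by omega⟩]) (by
      intro i j; fin_cases i <;> fin_cases j <;> simp)
    convert this using 1
    ext i; fin_cases i <;> rfl
  · have h4 : 2 ≤ m := by rcases h with h | h <;> omega
    refine commutator_eq_top_of_char_ne_two hA hB h2 (a := e ⟨0, by omega⟩) (b := e ⟨1, by omega⟩)
      (hb.ee _ _) ?_
    have := hli.comp (![(⟨0, by omega⟩ : Fin m), ⟨1, by omega⟩]) (by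
      intro i j; fin_cases i <;> fin_cases j <;> simp)
    convert this using 1
    ext i; fin_cases i <;> rfl

/-! ### Primitivity and simplicity -/

open Projectivization

theorem smul_mk_iso (g : isoGroup B) {u : V} (hu : u ≠ 0) :
    g • mk F u hu = mk F (g.1 u) (by simpa using hu) := rfl

theorem isPretransitive_iso (hA : B.IsAlt) (hB : B.Nondegenerate) :
    MulAction.IsPretransitive (isoGroup B) (ℙ F V) where
  exists_smul_eq p q := by
    induction p using Projectivization.ind with | _ u hu => ?_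
    induction q using Projectivization.ind with | _ w hw => ?_
    obtain ⟨g, hg⟩ := exists_iso_map hA hB hu hw
    exact ⟨g, by simp_rw [smul_mk_iso, hg]⟩

theorem isPreprimitive_iso [FiniteDimensional F V] (hA : B.IsAlt) (hB : B.Nondegenerate) :
    MulAction.IsPreprimitive (isoGroup B) (ℙ F V) := by
  have := isPretransitive_iso hA hB
  refine { isTrivialBlock_of_isBlock := fun {S} hS => ?_ }
  by_cases hsub : S.Subsingleton
  · exact Or.inl hsub
  right
  obtain ⟨p, hp, q, hq, hpq⟩ := Set.not_subsingleton_iff.1 hsub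
  have hstab : ∀ (g : isoGroup B) (a : ℙ F V), a ∈ S → g • a = a → ∀ b ∈ S, g • b ∈ S := fun g a ha hga b hb => by
    have h : g • S = S := MulAction.isBlock_iff_smul_eq_of_nonempty.1 hS
      ⟨a, ⟨a, ha, hga⟩, ha⟩
    rw [← h]
    exact Set.smul_mem_smul_set hb
  -- a non-orthogonal pair gives everything non-orthogonal to one of its members
  have step : ∀ (u w r : V) (hu : u ≠ 0) (hw : w ≠ 0) (hr : r ≠ 0), mk F u hu ∈ S → mk F w hw ∈ S →
      B u w ≠ 0 → B u r ≠ 0 → mk F r hr ∈ S := fun u w r hu hw hr hu' hw' h1 h2 => by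
    obtain ⟨g, hg1, hg2⟩ := exists_iso_pair hA hB (u := u) (v := (B u w)⁻¹ • w) (u' := u)
      (v' := (B u r)⁻¹ • r) (by simp [inv_mul_cancel₀ h1]) (by simp [inv_mul_cancel₀ h2])
    have := hstab g _ hu' (by simp_rw [smul_mk_iso, hg1]) _ hw'
    convert this using 1
    rw [smul_mk_iso, mk_eq_mk_iff']
    refine ⟨(B u r) * (B u w)⁻¹, ?_⟩
    rw [mul_smul, ← map_smul, hg2, smul_inv_smul₀ h2]
  have all_of_pair : ∀ (u w : V) (hu : u ≠ 0) (hw : w ≠ 0), mk F u hu ∈ S → mk F w hw ∈ S → B u w ≠ 0 →
      S = Set.univ := fun u w hu hw hu' hw' h1 => by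
    refine Set.eq_univ_of_forall fun x => ?_
    induction x using Projectivization.ind with | _ r hr => ?_
    obtain ⟨z, -, hz1, hz2⟩ := exists_both (ndon_top hB) (u := u) (w := r) trivial trivial hu hr
    have hz0 : z ≠ 0 := fun h => by simp [h] at hz1
    have hzu : B z u ≠ 0 := by rw [neg' hA u z]; simpa using hz1
    have hzr : B z r ≠ 0 := by rw [neg' hA r z]; simpa using hz2
    exact step z u r hz0 hu hr (step u w z hu hw hz0 hu' hw' h1 hz1) hu' hzu hzr
  induction p using Projectivization.ind with | _ u hu => ?_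
  induction q using Projectivization.ind with | _ w hw => ?_
  by_cases h1 : B u w = 0
  swap
  · exact all_of_pair u w hu hw hp hq h1
  obtain ⟨v, -, huv⟩ := exists_partner hA (ndon_top hB) (u := u) trivial hu
  have hv0 : v ≠ 0 := fun h => by simp [h] at huv
  -- a point orthogonal to both u and v
  have hmemW := rmap_mem hA (W := ⊤) (u := u) (v := v) (x := w) trivial trivial trivial huv
  obtain ⟨-, hw'u, hw'v⟩ := mem_redW.1 hmemW
  have hBwu : B w u = 0 := by rw [neg' hA u w, h1, neg_zero]
  have hw'0 : rmap B u v w ≠ 0 := fun h => hpq (by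
    rw [mk_eq_mk_iff']
    rw [rmap_apply, hBwu, zero_smul, add_zero, sub_eq_zero] at h
    have hwv : B w v ≠ 0 := fun h0 => hw (by rw [h, h0, zero_smul])
    exact ⟨(B w v)⁻¹, (congrArg ((B w v)⁻¹ • ·) h).trans (inv_smul_smul₀ hwv _)⟩)
  set w' := rmap B u v w
  -- the stabiliser of u is transitive on the other points orthogonal to u
  have perp : ∀ (a b r : V) (ha : a ≠ 0) (hb : b ≠ 0) (hr : r ≠ 0), mk F a ha ∈ S → mk F b hb ∈ S →
      mk F a ha ≠ mk F b hb → mk F a ha ≠ mk F r hr → B a b = 0 → B a r = 0 → mk F r hr ∈ S :=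
      fun a b r ha hb hr haS hbS hab har hb' hr' => by
    have partner : ∀ (z : V) (hz : z ≠ 0), mk F a ha ≠ mk F z hz → ∃ y, B a y = 1 ∧ B z y = 0 := fun z hz hne => by
      have hmem : a ∉ Submodule.span F {z} := fun h => by
        obtain ⟨c, hc⟩ := Submodule.mem_span_singleton.1 h
        exact hne (mk_eq_mk_iff' F a z ha hz |>.2 ⟨c, hc⟩)
      obtain ⟨φ, hφ1, hφ2⟩ := Submodule.exists_dual_map_eq_bot_of_notMem hmem inferInstance
      obtain ⟨y, -, hy⟩ := exists_repr hA (ndon_top hB) ((φ a)⁻¹ • φ)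
      refine ⟨y, by simp [hy a trivial, inv_mul_cancel₀ hφ1], ?_⟩
      rw [hy z trivial, LinearMap.smul_apply]
      have : φ z = 0 := by
        have h : φ z ∈ Submodule.map φ (Submodule.span F {z}) :=
          ⟨z, Submodule.mem_span_singleton_self z, rfl⟩
        rw [hφ2] at h
        simpa using h
      rw [this, smul_zero]
    obtain ⟨y, hy1, hy2⟩ := partner b hb hab
    obtain ⟨y', hy1', hy2'⟩ := partner r hr har
    obtain ⟨g, hg1, hg2⟩ := exists_iso_pair hA hB hy1 hy1'
    have hbW : g.1 b ∈ redW B ⊤ a y' := mem_redW.2 ⟨trivial, by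
      conv_lhs => rw [← hg1]
      rw [g.2, hb'], by rw [← hg2, g.2, neg' hA b y, hy2, neg_zero]⟩
    have hrW : r ∈ redW B ⊤ a y' := mem_redW.2 ⟨trivial, hr', by rw [neg' hA r y', hy2', neg_zero]⟩
    obtain ⟨s, hs, hs'⟩ := exists_map_vector hA (ndon_redW hA (ndon_top hB) trivial trivial hy1')
      hbW hrW (by simpa using hb) hr
    have hsa : s a = a := TG_fix hs fun z hz => (mem_redW.1 hz).2.1
    let k : isoGroup B := ⟨s, TG_le_isoGroup hA _ hs⟩ * g
    have hk1 : k.1 a = a := by simp [k, hg1, hsa]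
    have hk2 : k.1 b = r := by simp [k, hs']
    have := hstab k _ haS (by simp_rw [smul_mk_iso, hk1]) _ hbS
    simpa [smul_mk_iso, hk2] using this
  have huw' : mk F u hu ≠ mk F w' hw'0 := fun h => by
    obtain ⟨c, hc⟩ := (mk_eq_mk_iff' F _ _ hu hw'0).1 h
    rw [← hc] at huv
    simp [neg' hA v w', hw'v] at huv
  have hw'S := perp u w w' hu hw hw'0 hp hq hpq huw' h1 hw'u
  have hw'u' : B w' u = 0 := by rw [neg' hA u w', hw'u, neg_zero]
  have hw'v' : B w' v = 0 := by rw [neg' hA v w', hw'v, neg_zero]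
  have hvS := perp w' u v hw'0 hu hv0 hw'S hp huw'.symm (fun h => by
    obtain ⟨c, hc⟩ := (mk_eq_mk_iff' F _ _ hw'0 hv0).1 h
    rw [← hc] at hw'u
    simp [huv] at hw'u
    exact hw'0 (by rw [← hc, hw'u, zero_smul])) hw'u' hw'v'
  exact all_of_pair u v hu hv0 hp hvS (by simp [huv])

theorem isSimpleGroup_quot_center [FiniteDimensional F V] [Nontrivial V] (hA : B.IsAlt)
    (hB : B.Nondegenerate) (hperf : commutator (isoGroup B) = ⊤) :
    IsSimpleGroup (isoGroup B ⧸ Subgroup.center (isoGroup B)) := by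
  let Q := isoGroup B ⧸ Subgroup.center (isoGroup B)
  have hker : Subgroup.center (isoGroup B) ≤ (MulAction.toPermHom (isoGroup B) (ℙ F V)).ker := fun g hg => by
    rw [MonoidHom.mem_ker]
    ext p
    induction p using Projectivization.ind with | _ u hu => ?_
    obtain ⟨a, ha⟩ := scalar_of_center hA hB hg
    simp only [MulAction.toPermHom_apply, MulAction.toPerm_apply, Equiv.Perm.one_apply]
    rw [smul_mk_iso, mk_eq_mk_iff']
    exact ⟨a, (ha u).symm⟩
  let : MulAction Q (ℙ F V) := MulAction.compHom _ (QuotientGroup.lift _ _ hker)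
  have hsm : ∀ (g : isoGroup B) (p : ℙ F V), (g : Q) • p = g • p := fun _ _ => rfl
  have hfaith : FaithfulSMul Q (ℙ F V) := by
    refine faithfulSMul_iff.2 fun x hx => ?_
    obtain ⟨g, rfl⟩ := QuotientGroup.mk_surjective x
    rw [QuotientGroup.eq_one_iff, Subgroup.mem_center_iff]
    obtain ⟨a, ha⟩ := (g.1 : V →ₗ[F] V).exists_eq_smul_id_of_forall_notLinearIndependent fun v => by
      by_cases hv : v = 0
      · simp [hv, linearIndependent_fin2]
      · have := hx (mk F v hv)
        rw [hsm, smul_mk_iso, mk_eq_mk_iff'] at this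
        obtain ⟨c, hc⟩ := this
        rw [LinearIndependent.pair_iff' hv]
        push Not
        exact ⟨c, hc⟩
    have ha' : ∀ x, g.1 x = a • x := fun x => LinearMap.congr_fun ha x
    exact fun h => Subtype.ext (LinearEquiv.ext fun y => by simp [ha'])
  have := isPreprimitive_iso hA hB
  have : MulAction.IsPreprimitive Q (ℙ F V) :=
    MulAction.IsPreprimitive.of_surjective (φ := fun g : isoGroup B => (g : Q))
      (f := { toFun := id, map_smul' := fun _ _ => rfl }) Function.surjective_id
  have : Nontrivial Q := by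
    obtain ⟨u, hu⟩ := exists_ne (0 : V)
    obtain ⟨v, -, huv⟩ := exists_partner hA (ndon_top hB) (u := u) trivial hu
    refine ⟨⟨(tvE hA u 1 : isoGroup B), 1, fun h => ?_⟩⟩
    obtain ⟨a, ha⟩ := scalar_of_center hA hB ((QuotientGroup.eq_one_iff _).1 h)
    have h1 := ha v
    rw [tvE_coe, tv_apply, neg' hA u v, huv] at h1
    have h2 := congrArg (fun x => B x v) h1
    simp [hA v, huv] at h2
  let S : MulAction.IwasawaStructure Q (ℙ F V) :=
    { T := fun p => (tvHom hA p.rep).range.map (QuotientGroup.mk' _)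
      is_comm := fun p => by
        rw [MonoidHom.map_range]
        exact ⟨⟨fun ⟨_, a, ha⟩ ⟨_, b, hb⟩ => Subtype.ext (by
          subst ha hb
          simp only [Subgroup.coe_mul]
          rw [← map_mul, ← map_mul, mul_comm])⟩⟩
      is_conj := fun x p => by
        obtain ⟨g, rfl⟩ := QuotientGroup.mk_surjective x
        obtain ⟨u, hu, rfl⟩ : ∃ (u : V) (hu : u ≠ 0), mk F u hu = p := ⟨p.rep, p.rep_nonzero, mk_rep p⟩
        have key : ∀ (a : V) (ha : a ≠ 0), (tvHom hA (mk F a ha).rep).range = (tvHom hA a).range := by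
          intro a ha
          obtain ⟨c, hc⟩ := exists_smul_eq_mk_rep F a ha
          rw [← hc]
          ext y
          refine ⟨?_, ?_⟩
          · rintro ⟨d, rfl⟩
            exact ⟨Multiplicative.ofAdd ((c : F) ^ 2 * d.toAdd), (tvE_smul hA a (c : F) _).symm⟩
          · rintro ⟨d, rfl⟩
            refine ⟨Multiplicative.ofAdd (((c : F) ^ 2)⁻¹ * d.toAdd), ?_⟩
            refine (tvE_smul hA a (c : F) _).trans ?_
            change tvE hA a _ = tvE hA a _
            congr 1
            have : ((c : F) ^ 2) ≠ 0 := pow_ne_zero _ (Units.ne_zero c)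
            simp [← mul_assoc, mul_inv_cancel₀ this]
        rw [hsm, smul_mk_iso, key, key]
        ext y
        rw [Subgroup.mem_pointwise_smul_iff_inv_smul_mem]
        simp only [Subgroup.mem_map, MulAut.smul_def, MulAut.inv_apply, MulAut.conj_symm_apply]
        refine ⟨?_, ?_⟩
        · rintro ⟨_, ⟨d, rfl⟩, rfl⟩
          refine ⟨tvE hA u d.toAdd, tvE_mem_range hA _ _, ?_⟩
          rw [show tvHom hA (g.1 u) d = g * tvE hA u d.toAdd * g⁻¹ from (conj_tvE hA g u _).symm,
            map_mul, map_mul, map_inv]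
          rw [show QuotientGroup.mk' (Subgroup.center (isoGroup B)) g = (g : Q) from rfl]
          group
        · rintro ⟨_, ⟨d, rfl⟩, hy⟩
          refine ⟨tvE hA (g.1 u) d.toAdd, tvE_mem_range hA _ _, ?_⟩
          rw [← conj_tvE, map_mul, map_mul, map_inv, show tvE hA u d.toAdd = tvHom hA u d from rfl, hy]
          rw [show QuotientGroup.mk' (Subgroup.center (isoGroup B)) g = (g : Q) from rfl]
          group
      is_generator := by
        rw [← Subgroup.map_iSup]
        suffices h : (⨆ p : ℙ F V, (tvHom hA p.rep).range) = ⊤ by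
          rw [h]; exact Subgroup.map_top_of_surjective _ (QuotientGroup.mk'_surjective _)
        refine eq_top_of_tvE hA hB _ fun v c => ?_
        by_cases hv : v = 0
        · have : tvE hA v c = 1 := Subtype.ext (LinearEquiv.ext fun x => by simp [tvE_coe, tv_apply, hv])
          exact this ▸ one_mem _
        refine Subgroup.mem_iSup_of_mem (mk F v hv) ?_
        obtain ⟨a, ha⟩ := exists_smul_eq_mk_rep F v hv
        refine ⟨Multiplicative.ofAdd (((a : F) ^ 2)⁻¹ * c), ?_⟩
        rw [← ha]
        refine (tvE_smul hA v (a : F) _).trans ?_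
        congr 1
        have : ((a : F) ^ 2) ≠ 0 := pow_ne_zero _ (Units.ne_zero a)
        simp [← mul_assoc, mul_inv_cancel₀ this] }
  refine MulAction.IwasawaStructure.isSimpleGroup ?_ S hfaith
  rw [eq_top_iff, ← Subgroup.map_top_of_surjective (QuotientGroup.mk' (Subgroup.center (isoGroup B)))
    (QuotientGroup.mk'_surjective _), ← hperf, commutator_def, Subgroup.map_commutator]
  exact Subgroup.commutator_mono le_top le_top

end Cfsg.Agent.Classical.Alt
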