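import Mathlib

/-!
Linear groups over fields and finite fields: orders of SL, PSL, PGL and of centres, generation of SL_n by
transvections, perfectness for n ≥ 3, simplicity of PSL_n, the commutator subgroup of GL_n.
-/

set_option autoImplicit false

namespace Cfsg.Agent.Classical

open Matrix Matrix.SpecialLinearGroup
open scoped commutatorElement

section Transvections

variable {ι F : Type*} [Fintype ι] [DecidableEq ι] [Field F]

theorem tv_mulVec (i j : ι) (c : F) (v : ι → F) :
    (1 + Matrix.single i j c : Matrix ι ι F) *ᵥ v = v + Pi.single i (c * v j) := by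
  ext k
  rw [Matrix.add_mulVec, Matrix.one_mulVec, Pi.add_apply, Pi.add_apply]
  congr 1
  rw [Matrix.single_mulVec]
  by_cases h : k = i
  · subst h; simp
  · simp [h]

theorem sl_ext_mulVec {A B : SpecialLinearGroup ι F} (h : ∀ v : ι → F, (A : Matrix ι ι F) *ᵥ v = (B : Matrix ι ι F) *ᵥ v) :
    A = B := by
  refine Subtype.ext (Matrix.ext_of_mulVec_single fun i => ?_)
  exact h _

/-- The transvection commutator relation. -/
theorem comm_tv {i j k : ι} (hij : i ≠ j) (hik : i ≠ k) (hkj : k ≠ j) (a b : F) :
    ⁅(Matrix.SpecialLinearGroup.transvection hik a : SpecialLinearGroup ι F),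
      Matrix.SpecialLinearGroup.transvection hkj b⁆ = Matrix.SpecialLinearGroup.transvection hij (a * b) := by
  rw [commutatorElement_def, Matrix.SpecialLinearGroup.transvection_inv, Matrix.SpecialLinearGroup.transvection_inv]
  refine sl_ext_mulVec fun v => ?_
  simp only [Matrix.SpecialLinearGroup.coe_mul, Matrix.SpecialLinearGroup.transvection_coe, ← Matrix.mulVec_mulVec,
    tv_mulVec]
  ext l
  simp only [Pi.add_apply, Pi.single_apply]
  by_cases h1 : l = i
  · subst h1; simp [hij.symm, hik, hik.symm, hkj.symm]; ring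
  · by_cases h2 : l = k
    · subst h2; simp [hij.symm, hik, hik.symm, hkj.symm]
    · simp [h1, h2]

theorem diag2n_mulVec {i j : ι} (hij : i ≠ j) (a : F) (ha : a ≠ 0) (v : ι → F) :
    ((diag2n hij a ha : SpecialLinearGroup ι F) : Matrix ι ι F) *ᵥ v =
      fun k => (if k = i then a else if k = j then a⁻¹ else 1) * v k := by
  ext k
  rw [diag2n_coe, Matrix.mulVec_diagonal]

theorem diag2n_decompose {i j : ι} (hij : i ≠ j) (a : F) (ha : a ≠ 0) :
    (diag2n hij a ha : SpecialLinearGroup ι F) = Matrix.SpecialLinearGroup.transvection hij a *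
      Matrix.SpecialLinearGroup.transvection hij.symm (- a⁻¹) *
      Matrix.SpecialLinearGroup.transvection hij a *
      Matrix.SpecialLinearGroup.transvection hij (-1) *
      Matrix.SpecialLinearGroup.transvection hij.symm 1 *
      Matrix.SpecialLinearGroup.transvection hij (-1) := by
  refine sl_ext_mulVec fun v => ?_
  simp only [Matrix.SpecialLinearGroup.coe_mul, Matrix.SpecialLinearGroup.transvection_coe, ← Matrix.mulVec_mulVec,
    tv_mulVec, diag2n_mulVec]
  ext l
  simp only [Pi.add_apply, Pi.single_apply]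
  by_cases h1 : l = i
  · subst h1; simp [hij, hij.symm]; field_simp; ring
  · by_cases h2 : l = j
    · subst h2; simp [hij, hij.symm]; field_simp; ring
    · simp [h1, h2]

/-- A subgroup of SL containing all transvections is everything. -/
theorem sl_eq_top_of_transvection (H : Subgroup (SpecialLinearGroup ι F))
    (h : ∀ (i j : ι) (hij : i ≠ j) (c : F), Matrix.SpecialLinearGroup.transvection hij c ∈ H) : H = ⊤ := by
  rw [eq_top_iff]
  intro M _
  rcases subsingleton_or_nontrivial ι with hs | hn
  · rw [Subsingleton.elim M 1]; exact H.one_mem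
  refine Matrix.SpecialLinearGroup.diagonal_transvection_induction' (fun A => A ∈ H) M ?_ h
    (fun _ _ => H.mul_mem)
  intro i j hij c hc
  rw [diag2n_decompose hij c hc]
  exact H.mul_mem (H.mul_mem (H.mul_mem (H.mul_mem (H.mul_mem (h _ _ _ _) (h _ _ _ _)) (h _ _ _ _))
    (h _ _ _ _)) (h _ _ _ _)) (h _ _ _ _)

/-- The commutator of a diagonal matrix and a transvection. -/
theorem comm_diag2n_tv {i j : ι} (hij : i ≠ j) (a : F) (ha : a ≠ 0) (b : F) :
    ⁅(diag2n hij a ha : SpecialLinearGroup ι F), Matrix.SpecialLinearGroup.transvection hij b⁆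
      = Matrix.SpecialLinearGroup.transvection hij ((a ^ 2 - 1) * b) := by
  have h : diag2n hij a ha * Matrix.SpecialLinearGroup.transvection hij b
      = Matrix.SpecialLinearGroup.transvection hij (a ^ 2 * b) * diag2n hij a ha := by
    refine sl_ext_mulVec fun v => ?_
    simp only [Matrix.SpecialLinearGroup.coe_mul, Matrix.SpecialLinearGroup.transvection_coe, ← Matrix.mulVec_mulVec,
      tv_mulVec, diag2n_mulVec]
    ext l
    simp only [Pi.add_apply, Pi.single_apply]
    by_cases h1 : l = i
    · subst h1; simp [hij.symm]; field_simp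
    · simp [h1]
  rw [commutatorElement_def, h, mul_inv_cancel_right, Matrix.SpecialLinearGroup.transvection_inv,
    ← Matrix.SpecialLinearGroup.transvection_add]
  congr 1
  ring

theorem transvection_mem_commutatorSet (h : 3 ≤ Fintype.card ι ∨ ∃ x : F, x ≠ 0 ∧ x ^ 2 ≠ 1)
    {i j : ι} (hij : i ≠ j) (c : F) :
    (Matrix.SpecialLinearGroup.transvection hij c : SpecialLinearGroup ι F)
      ∈ commutatorSet (SpecialLinearGroup ι F) := by
  rcases h with h | ⟨x, hx, hx2⟩
  · obtain ⟨k, hk⟩ : ∃ k : ι, k ∉ ({i, j} : Finset ι) := by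
      by_contra hc
      push Not at hc
      have h1 : Finset.univ ⊆ ({i, j} : Finset ι) := fun k _ => hc k
      have h2 := (Finset.card_le_card h1).trans Finset.card_le_two
      rw [Finset.card_univ] at h2
      omega
    simp only [Finset.mem_insert, Finset.mem_singleton, not_or] at hk
    exact ⟨_, _, by simpa using comm_tv hij (Ne.symm hk.1) hk.2 c 1⟩
  · refine ⟨_, _, (comm_diag2n_tv hij x hx (c / (x ^ 2 - 1))).trans ?_⟩
    congr 1
    field_simp [sub_ne_zero_of_ne hx2]

theorem commutator_sl_eq_top (h : 3 ≤ Fintype.card ι ∨ ∃ x : F, x ≠ 0 ∧ x ^ 2 ≠ 1) :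
    commutator (SpecialLinearGroup ι F) = ⊤ := by
  refine sl_eq_top_of_transvection _ fun i j hij c => ?_
  rw [commutator_eq_closure]
  exact Subgroup.subset_closure (transvection_mem_commutatorSet h hij c)

/-- A diagonal matrix as an element of GL. -/
def diagGL : (ι → Fˣ) →* GL ι F :=
  (Units.map (Matrix.diagonalRingHom ι F).toMonoidHom).comp
    (MulEquiv.piUnits (M := fun _ : ι => F)).symm.toMonoidHom

theorem diagGL_coe (d : ι → Fˣ) : (diagGL d).1 = diagonal (fun i => (d i : F)) := rfl

theorem gl_ext_mulVec {A B : GL ι F} (h : ∀ v : ι → F, A.1 *ᵥ v = B.1 *ᵥ v) : A = B :=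
  Units.ext (Matrix.ext_of_mulVec_single fun _ => h _)

theorem diagGL_mul_tv {i j : ι} (hij : i ≠ j) (d : ι → Fˣ) (b : F) :
    diagGL d * Matrix.SpecialLinearGroup.toGL (Matrix.SpecialLinearGroup.transvection hij b) =
      Matrix.SpecialLinearGroup.toGL (Matrix.SpecialLinearGroup.transvection hij ((d i : F) * b * ((d j)⁻¹ : Fˣ)))
        * diagGL d := by
  refine gl_ext_mulVec fun v => ?_
  simp only [Units.val_mul, diagGL_coe, Matrix.SpecialLinearGroup.coe_GL_coe_matrix,
    Matrix.SpecialLinearGroup.transvection_coe, ← Matrix.mulVec_mulVec, tv_mulVec]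
  ext l
  simp only [Matrix.mulVec_diagonal, Pi.add_apply, Pi.single_apply]
  by_cases h1 : l = i
  · subst h1; simp; field_simp
  · simp [h1]

theorem range_toGL_eq_ker_det :
    (Matrix.SpecialLinearGroup.toGL (n := ι) (R := F)).range
      = (GeneralLinearGroup.det : GL ι F →* Fˣ).ker := by
  ext g
  refine ⟨?_, fun h => ⟨⟨g.1, ?_⟩, Units.ext rfl⟩⟩
  · rintro ⟨a, rfl⟩
    exact Units.ext (by simpa using a.2)
  · simpa using congrArg Units.val (MonoidHom.mem_ker.1 h)

theorem commutator_gl (h : Fintype.card ι = 2 → ∃ a : F, a ≠ 0 ∧ a ≠ 1) :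
    commutator (GL ι F) = (GeneralLinearGroup.det : GL ι F →* Fˣ).ker := by
  refine le_antisymm (Abelianization.commutator_subset_ker _) ?_
  rw [← range_toGL_eq_ker_det]
  rintro _ ⟨g, rfl⟩
  suffices (commutator (GL ι F)).comap (Matrix.SpecialLinearGroup.toGL (n := ι) (R := F)) = ⊤ by
    exact Subgroup.eq_top_iff' _ |>.1 this g
  refine sl_eq_top_of_transvection _ fun i j hij c => ?_
  rw [Subgroup.mem_comap]
  by_cases h3 : 3 ≤ Fintype.card ι
  · obtain ⟨a, b, hab⟩ := transvection_mem_commutatorSet (F := F) (Or.inl h3) hij c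
    rw [← hab, map_commutatorElement]
    exact Subgroup.commutator_mem_commutator (Subgroup.mem_top _) (Subgroup.mem_top _)
  · have h2 : Fintype.card ι = 2 := by
      have := Fintype.one_lt_card_iff.2 ⟨i, j, hij⟩
      omega
    obtain ⟨a, ha, ha1⟩ := h h2
    have key := diagGL_mul_tv hij (Function.update 1 i (Units.mk0 a ha)) (c / (a - 1))
    simp [hij.symm] at key
    have e : ⁅diagGL (Function.update (1 : ι → Fˣ) i (Units.mk0 a ha)),
        Matrix.SpecialLinearGroup.toGL (Matrix.SpecialLinearGroup.transvection hij (c / (a - 1)))⁆ =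
        Matrix.SpecialLinearGroup.toGL (Matrix.SpecialLinearGroup.transvection hij c) := by
      rw [commutatorElement_def, key, mul_inv_cancel_right, ← map_inv, ← map_mul,
        Matrix.SpecialLinearGroup.transvection_inv, ← Matrix.SpecialLinearGroup.transvection_add]
      congr 2
      field_simp [sub_ne_zero_of_ne ha1]
      ring
    rw [← e]
    exact Subgroup.commutator_mem_commutator (Subgroup.mem_top _) (Subgroup.mem_top _)

open scoped Pointwise LinearAlgebra.Projectivization

/-- The Iwasawa structure of PSL on projective space. -/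
noncomputable def pslIwasawa :
    MulAction.IwasawaStructure (Matrix.ProjectiveSpecialLinearGroup ι F) (ℙ F (ι → F)) where
  T := PSL.iwasawaT
  is_comm p := by
    have hSL : IsMulCommutative (Matrix.SpecialLinearGroup.lineStab (F := F) (ι := ι) p.submodule) := by
      rw [← Projectivization.mk_rep p, Projectivization.submodule_mk]
      exact Matrix.SpecialLinearGroup.lineStab_isMulCommutative_of_span p.rep p.rep_nonzero
    exact Subgroup.map_isMulCommutative _ _
  is_conj g p := by
    obtain ⟨g', rfl⟩ := QuotientGroup.mk_surjective g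
    rw [Matrix.ProjectiveSpecialLinearGroup.smul_proj_mk]
    change Subgroup.map _ _ = _
    rw [PSL.smul_submodule, Matrix.SpecialLinearGroup.lineStab_smul, PSL.iwasawaT_map_conj]
  is_generator := by
    change (⨆ p : ℙ F (ι → F), Subgroup.map _ _) = _
    rw [← Subgroup.map_iSup]
    suffices h : (⨆ p : ℙ F (ι → F), Matrix.SpecialLinearGroup.lineStab p.submodule) = ⊤ by
      rw [h]
      exact Subgroup.map_top_of_surjective _ (QuotientGroup.mk'_surjective _)
    refine sl_eq_top_of_transvection _ fun i j hij c => ?_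
    refine Subgroup.mem_iSup_of_mem
      (Projectivization.mk F (Pi.single i 1) (Pi.single_ne_zero_iff.2 one_ne_zero)) ?_
    rw [Projectivization.submodule_mk]
    exact SL2Gen.transvection_mem_lineStab hij c

theorem isSimpleGroup_psl (h : 3 ≤ Fintype.card ι ∨ (2 ≤ Fintype.card ι ∧ ∃ x : F, x ≠ 0 ∧ x ^ 2 ≠ 1)) :
    IsSimpleGroup (Matrix.ProjectiveSpecialLinearGroup ι F) := by
  have hc : 2 ≤ Fintype.card ι := by rcases h with h | h <;> [omega; exact h.1]
  have : Nontrivial ι := Fintype.one_lt_card_iff_nontrivial.1 hc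
  have : Nontrivial (Matrix.ProjectiveSpecialLinearGroup ι F) := SL2Simple.PSL_nontrivial
  refine MulAction.IwasawaStructure.isSimpleGroup ?_ pslIwasawa inferInstance
  rw [eq_top_iff, ← Subgroup.map_top_of_surjective
    (QuotientGroup.mk' (Subgroup.center (SpecialLinearGroup ι F))) (QuotientGroup.mk'_surjective _),
    ← commutator_sl_eq_top (h.imp id And.right), commutator_def, Subgroup.map_commutator]
  exact Subgroup.commutator_mono le_top le_top

end Transvections

section Finite

variable {ι F : Type*} [Fintype ι] [DecidableEq ι] [Field F] [Fintype F]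

theorem card_units_field : Nat.card Fˣ = Fintype.card F - 1 := by
  rw [Nat.card_units, Nat.card_eq_fintype_card]

theorem card_gl_eq_mul_card_sl [Nonempty ι] :
    Nat.card (GL ι F) = (Fintype.card F - 1) * Nat.card (SpecialLinearGroup ι F) := by
  rw [(GeneralLinearGroup.det : GL ι F →* Fˣ).ker.card_eq_card_quotient_mul_card_subgroup]
  congr 1
  · rw [← card_units_field]
    exact Nat.card_congr (QuotientGroup.quotientKerEquivOfSurjective _
      GeneralLinearGroup.det_surjective).toEquiv
  · rw [← range_toGL_eq_ker_det]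
    exact (Nat.card_congr (MonoidHom.ofInjective Matrix.SpecialLinearGroup.toGL_injective).toEquiv).symm

theorem card_sl_mul {q : ℕ} (hF : Fintype.card F = q) (n : ℕ) (hn : 1 ≤ n) :
    (q - 1) * Nat.card (SpecialLinearGroup (Fin n) F) = ∏ i : Fin n, (q ^ n - q ^ (i : ℕ)) := by
  have : Nonempty (Fin n) := ⟨⟨0, hn⟩⟩
  subst hF
  rw [← card_gl_eq_mul_card_sl, Matrix.card_GL_field]

theorem card_rootsOfUnity_field (n : ℕ) :
    Nat.card (rootsOfUnity n F) = Nat.gcd n (Fintype.card F - 1) := by
  have : rootsOfUnity n F = (powMonoidHom n : Fˣ →* Fˣ).ker := by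
    ext x; simp [mem_rootsOfUnity]
  rw [this, IsCyclic.card_powMonoidHom_ker, card_units_field, Nat.gcd_comm]

theorem card_center_sl [Nonempty ι] :
    Nat.card (Subgroup.center (SpecialLinearGroup ι F))
      = Nat.gcd (Fintype.card ι) (Fintype.card F - 1) := by
  rw [Nat.card_congr (Matrix.SpecialLinearGroup.center_equiv_rootsOfUnity'
    (Classical.arbitrary ι)).toEquiv, card_rootsOfUnity_field]

theorem card_psl_mul [Nonempty ι] :
    Nat.gcd (Fintype.card ι) (Fintype.card F - 1) * Nat.card (Matrix.ProjectiveSpecialLinearGroup ι F)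
      = Nat.card (SpecialLinearGroup ι F) := by
  rw [(Subgroup.center (SpecialLinearGroup ι F)).card_eq_card_quotient_mul_card_subgroup,
    card_center_sl, mul_comm]

theorem card_center_gl [Nonempty ι] :
    Nat.card (Subgroup.center (GL ι F)) = Fintype.card F - 1 := by
  rw [GeneralLinearGroup.center_eq_range_scalar, ← card_units_field]
  refine (Nat.card_congr (MonoidHom.ofInjective ?_).toEquiv).symm
  intro a b hab
  have := congrArg (fun g : GL ι F => (g : Matrix ι ι F) (Classical.arbitrary ι) (Classical.arbitrary ι)) hab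
  exact Units.ext (by simpa using this)

theorem card_pgl : Nat.card (Matrix.ProjGenLinGroup ι F) = Nat.card (SpecialLinearGroup ι F) := by
  rcases isEmpty_or_nonempty ι with h | h
  · have : Subsingleton (GL ι F) := ⟨fun a b => Units.ext (Subsingleton.elim _ _)⟩
    have : Subsingleton (Matrix.ProjGenLinGroup ι F) := ProjGenLinGroup.mk_surjective.subsingleton
    rw [Nat.card_unique, Nat.card_unique]
  · have h1 := (Subgroup.center (GL ι F)).card_eq_card_quotient_mul_card_subgroup
    rw [card_center_gl, card_gl_eq_mul_card_sl, mul_comm (Nat.card _)] at h1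
    exact (Nat.eq_of_mul_eq_mul_left (by have := Fintype.one_lt_card (α := F); omega) h1).symm

end Finite

end Cfsg.Agent.Classical
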