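import Mathlib
import Cfsg.Prelude.Def_ClassicalGeometry
import Cfsg.Agent.Classical.AltSimple
import Cfsg.Agent.Classical.LinearBasic

/-!
Mathlib's symplectic group as the isometry group of `Cfsg.sympForm`: order, centre, generation by symplectic
transvections, perfectness, simplicity of PSp, primitivity on points.
-/

set_option autoImplicit false

namespace Cfsg.Agent.Classical

open Matrix

variable {F : Type*} [Field F] {m : ℕ}

/-- `Cfsg.sympForm` as a bilinear form. -/
noncomputable def sympB (m : ℕ) (F : Type*) [Field F] : LinearMap.BilinForm F (Fin m ⊕ Fin m → F) :=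
  Matrix.toBilin' (Matrix.J (Fin m) F)

theorem sympB_apply (u v : Fin m ⊕ Fin m → F) : sympB m F u v = Cfsg.sympForm m F u v := by
  rw [sympB, Matrix.toBilin'_apply']
  rfl

theorem sympB_eq_sum (u v : Fin m ⊕ Fin m → F) :
    sympB m F u v = ∑ i, (u (Sum.inr i) * v (Sum.inl i) - u (Sum.inl i) * v (Sum.inr i)) := by
  rw [sympB_apply, Cfsg.sympForm, Matrix.J]
  simp [Matrix.fromBlocks_mulVec, dotProduct, Fintype.sum_sum_type, Matrix.neg_mulVec, Finset.sum_sub_distrib]
  ring

theorem sympB_isAlt : (sympB m F).IsAlt := fun u => by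
  rw [sympB_eq_sum]
  exact Finset.sum_eq_zero fun i _ => by ring

theorem sympB_nondeg : (sympB m F).Nondegenerate :=
  LinearMap.BilinForm.nondegenerate_toBilin'_of_det_ne_zero' _ (Matrix.isUnit_det_J (Fin m) F).ne_zero

theorem mem_symplectic_iff (A : Matrix (Fin m ⊕ Fin m) (Fin m ⊕ Fin m) F) :
    A ∈ Matrix.symplecticGroup (Fin m) F ↔ ∀ u v, sympB m F (A *ᵥ u) (A *ᵥ v) = sympB m F u v := by
  have h : Matrix.toBilin' (Aᵀ * Matrix.J (Fin m) F * A) =
      (sympB m F).comp (Matrix.toLin' A) (Matrix.toLin' A) := by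
    rw [sympB, Matrix.toBilin'_comp]
  rw [SymplecticGroup.mem_iff', ← (Matrix.toBilin' : _ ≃ₗ[F] LinearMap.BilinForm F (Fin m ⊕ Fin m → F)).injective.eq_iff, h]
  constructor
  · intro e u v
    simpa [sympB] using congrArg (fun B : LinearMap.BilinForm F (Fin m ⊕ Fin m → F) => B u v) e
  · intro e
    exact LinearMap.ext₂ fun u v => by simpa using! e u v

/-- The linear equivalence given by a symplectic matrix. -/
noncomputable def spLin (A : Matrix.symplecticGroup (Fin m) F) :
    (Fin m ⊕ Fin m → F) ≃ₗ[F] (Fin m ⊕ Fin m → F) :=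
  LinearEquiv.ofLinear (Matrix.toLin' A.1) (Matrix.toLin' (A⁻¹).1)
    (by rw [← Matrix.toLin'_mul, ← Submonoid.coe_mul, mul_inv_cancel]; exact Matrix.toLin'_one)
    (by rw [← Matrix.toLin'_mul, ← Submonoid.coe_mul, inv_mul_cancel]; exact Matrix.toLin'_one)

theorem spLin_apply (A : Matrix.symplecticGroup (Fin m) F) (v : Fin m ⊕ Fin m → F) :
    spLin A v = A.1 *ᵥ v := rfl

/-- The symplectic group as the isometry group of its form. -/
noncomputable def spEquiv (m : ℕ) (F : Type*) [Field F] :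
    Matrix.symplecticGroup (Fin m) F ≃* Alt.isoGroup (sympB m F) :=
  MulEquiv.ofBijective
    (MonoidHom.mk' (fun A => (⟨spLin A, fun u v => (mem_symplectic_iff A.1).1 A.2 u v⟩ :
      Alt.isoGroup (sympB m F)))
      fun A B => Subtype.ext (LinearEquiv.ext fun v => by
        simp [LinearEquiv.mul_apply, spLin_apply, Matrix.mulVec_mulVec]))
    ⟨fun A B h => by
      refine Subtype.ext (Matrix.ext_of_mulVec_single fun i => ?_)
      exact congrArg (fun g : Alt.isoGroup (sympB m F) => g.1 (Pi.single i 1)) h,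
    fun g => by
      refine ⟨⟨LinearMap.toMatrix' g.1.toLinearMap, (mem_symplectic_iff _).2 fun u v => ?_⟩, ?_⟩
      · rw [LinearMap.toMatrix'_mulVec, LinearMap.toMatrix'_mulVec]
        exact g.2 u v
      · exact Subtype.ext (LinearEquiv.ext fun v => LinearMap.toMatrix'_mulVec g.1.toLinearMap v)⟩

theorem spEquiv_apply (A : Matrix.symplecticGroup (Fin m) F) (v : Fin m ⊕ Fin m → F) :
    (spEquiv m F A).1 v = A.1 *ᵥ v := rfl

theorem spEquiv_symm_mulVec (g : Alt.isoGroup (sympB m F)) (v : Fin m ⊕ Fin m → F) :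
    ((spEquiv m F).symm g).1 *ᵥ v = g.1 v := by
  rw [← spEquiv_apply, MulEquiv.apply_symm_apply]

theorem finrank_symp : Module.finrank F (Fin m ⊕ Fin m → F) = 2 * m := by
  simp [two_mul]

theorem card_symplecticGroup [Fintype F] {q : ℕ} (hF : Fintype.card F = q) (m : ℕ) :
    Nat.card (Matrix.symplecticGroup (Fin m) F) =
      q ^ (m ^ 2) * ∏ i ∈ Finset.range m, (q ^ (2 * (i + 1)) - 1) := by
  subst hF
  rw [Nat.card_congr (spEquiv m F).toEquiv, Alt.card_isoGroup sympB_isAlt sympB_nondeg m finrank_symp]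

theorem nontrivial_symp (hm : 1 ≤ m) : Nontrivial (Fin m ⊕ Fin m → F) := by
  have : Nonempty (Fin m ⊕ Fin m) := ⟨Sum.inl ⟨0, hm⟩⟩
  infer_instance

theorem card_center_symplectic [Fintype F] (hm : 1 ≤ m) :
    Nat.card (Subgroup.center (Matrix.symplecticGroup (Fin m) F)) = Nat.gcd 2 (Fintype.card F - 1) := by
  have := nontrivial_symp (F := F) hm
  rw [Nat.card_congr (Subgroup.centerCongr (spEquiv m F)).toEquiv,
    ← Nat.card_congr (Equiv.ofBijective _ (Alt.scalarE_bijective (B := sympB m F) sympB_isAlt sympB_nondeg)),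
    card_rootsOfUnity_field]

theorem sympTransvection_mulVec (v x : Fin m ⊕ Fin m → F) (c : F) :
    Cfsg.sympTransvection m v c *ᵥ x = x + (c * sympB m F x v) • v := by
  rw [sympB_apply, Cfsg.sympForm, Cfsg.sympTransvection, Matrix.add_mulVec, Matrix.one_mulVec,
    Matrix.smul_mulVec, Matrix.vecMulVec_mulVec, op_smul_eq_smul, smul_smul, dotProduct_comm x]

theorem sympTransvection_mem (v : Fin m ⊕ Fin m → F) (c : F) :
    Cfsg.sympTransvection m v c ∈ Matrix.symplecticGroup (Fin m) F := by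
  rw [mem_symplectic_iff]
  intro u w
  rw [sympTransvection_mulVec, sympTransvection_mulVec]
  exact Alt.tv_mem_isoGroup sympB_isAlt v c u w

theorem spEquiv_transvection (v : Fin m ⊕ Fin m → F) (c : F) :
    spEquiv m F ⟨_, sympTransvection_mem v c⟩ = Alt.tvE sympB_isAlt v c :=
  Subtype.ext (LinearEquiv.ext fun x => sympTransvection_mulVec v x c)

theorem closure_sympTransvection :
    Subgroup.closure {A : Matrix.symplecticGroup (Fin m) F | ∃ (w : Fin m ⊕ Fin m → F) (c : F),
      (A : Matrix (Fin m ⊕ Fin m) (Fin m ⊕ Fin m) F) = Cfsg.sympTransvection m w c} = ⊤ := by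
  set H := Subgroup.closure {A : Matrix.symplecticGroup (Fin m) F | ∃ (w : Fin m ⊕ Fin m → F) (c : F),
      (A : Matrix (Fin m ⊕ Fin m) (Fin m ⊕ Fin m) F) = Cfsg.sympTransvection m w c}
  have h : H.map (spEquiv m F).toMonoidHom = ⊤ :=
    Alt.eq_top_of_tvE sympB_isAlt sympB_nondeg _ fun v c =>
      ⟨⟨_, sympTransvection_mem v c⟩, Subgroup.subset_closure ⟨v, c, rfl⟩, spEquiv_transvection v c⟩
  rw [eq_top_iff]
  intro A _
  obtain ⟨B, hB, hAB⟩ := (h ▸ Subgroup.mem_top (spEquiv m F A) :
    spEquiv m F A ∈ H.map (spEquiv m F).toMonoidHom)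
  exact (spEquiv m F).injective hAB ▸ hB

theorem perfect_cases [Fintype F] (h : 3 ≤ m ∨ (m = 2 ∧ 3 ≤ Fintype.card F) ∨ 4 ≤ Fintype.card F) :
    (∃ a : F, a ≠ 0 ∧ a ^ 2 ≠ 1) ∨ ((2 : F) ≠ 0 ∧ 4 ≤ Module.finrank F (Fin m ⊕ Fin m → F)) ∨
      6 ≤ Module.finrank F (Fin m ⊕ Fin m → F) := by
  classical
  rw [finrank_symp]
  by_cases hsq : ∃ a : F, a ≠ 0 ∧ a ^ 2 ≠ 1
  · exact Or.inl hsq
  push Not at hsq
  have hle : Fintype.card F ≤ 3 := by
    have : (Finset.univ : Finset F) ⊆ {0, 1, -1} := fun a _ => by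
      by_cases ha : a = 0
      · simp [ha]
      · have := sq_eq_one_iff.1 (hsq a ha)
        simp [this]
    exact (Finset.card_univ (α := F) ▸ Finset.card_le_card this).trans Finset.card_le_three
  rcases h with h | ⟨h, hc⟩ | h
  · exact Or.inr (Or.inr (by omega))
  · refine Or.inr (Or.inl ⟨fun h2 => ?_, by omega⟩)
    have : (Finset.univ : Finset F) ⊆ {0, 1} := fun a _ => by
      by_cases ha : a = 0
      · simp [ha]
      · have := sq_eq_one_iff.1 (hsq a ha)
        have e : (-1 : F) = 1 := by linear_combination -h2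
        rw [e, or_self] at this
        simp [this]
    have := (Finset.card_le_card this).trans Finset.card_le_two
    rw [Finset.card_univ] at this
    omega
  · omega

theorem commutator_symplectic [Fintype F]
    (h : 3 ≤ m ∨ (m = 2 ∧ 3 ≤ Fintype.card F) ∨ 4 ≤ Fintype.card F) :
    commutator (Matrix.symplecticGroup (Fin m) F) = ⊤ := by
  have hp := Alt.commutator_isoGroup sympB_isAlt sympB_nondeg (perfect_cases h)
  rw [← Subgroup.map_top_of_surjective ((spEquiv m F).symm.toMonoidHom) (spEquiv m F).symm.surjective,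
    ← hp, commutator_def, commutator_def, Subgroup.map_commutator,
    Subgroup.map_top_of_surjective _ (spEquiv m F).symm.surjective]

theorem isSimpleGroup_psp [Fintype F] (hm : 2 ≤ m) (h : m = 2 → 3 ≤ Fintype.card F) :
    IsSimpleGroup (Cfsg.PSp m F) := by
  have := nontrivial_symp (F := F) (show 1 ≤ m by omega)
  have hp := Alt.commutator_isoGroup sympB_isAlt sympB_nondeg (perfect_cases (F := F) (m := m) (by omega))
  have := Alt.isSimpleGroup_quot_center sympB_isAlt sympB_nondeg hp
  have hmap : (Subgroup.center (Matrix.symplecticGroup (Fin m) F)).map (spEquiv m F).toMonoidHom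
      = Subgroup.center (Alt.isoGroup (sympB m F)) := by
    ext x
    simp only [Subgroup.mem_map, Subgroup.mem_center_iff]
    constructor
    · rintro ⟨y, hy, rfl⟩ g
      obtain ⟨g', rfl⟩ := (spEquiv m F).surjective g
      simp only [MulEquiv.coe_toMonoidHom, ← map_mul, hy g']
    · intro hx
      refine ⟨(spEquiv m F).symm x, fun g => (spEquiv m F).injective ?_, by simp⟩
      simp [hx]
  exact (QuotientGroup.congr _ _ (spEquiv m F) hmap).isSimpleGroup

theorem isPreprimitive_spGL [Finite F] :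
    MulAction.IsPreprimitive ↥(Cfsg.spGL m F) (Projectivization F (Fin m ⊕ Fin m → F)) := by
  let φ : ↥(Cfsg.spGL m F) → Alt.isoGroup (sympB m F) := fun g =>
    spEquiv m F ⟨g.1.1, (mem_symplectic_iff _).2 fun u v => by
      rw [sympB_apply, sympB_apply]; exact g.2 u v⟩
  have hφ : Function.Surjective φ := fun x => by
    obtain ⟨A, rfl⟩ := (spEquiv m F).surjective x
    refine ⟨⟨Matrix.GeneralLinearGroup.mk'' A.1 (SymplecticGroup.symplectic_det A.2), fun u v => ?_⟩, rfl⟩
    rw [← sympB_apply, ← sympB_apply]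
    exact (mem_symplectic_iff A.1).1 A.2 u v
  refine (MulAction.isPreprimitive_congr (φ := φ)
    (f := { toFun := id, map_smul' := fun g p => ?_ }) hφ Function.bijective_id).2
    (Alt.isPreprimitive_iso sympB_isAlt sympB_nondeg)
  induction p using Projectivization.ind with | _ u hu => rfl

end Cfsg.Agent.Classical
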