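import Mathlib
import Cfsg.Agent.Classical.LinearBasic

/-!
GL_2 and SL_2 over a finite field: the root subgroup, Sylow p-subgroups, the Borel subgroup; the Sylow order in
GL_n; the triangular matrices; PGL/PSL as a cyclic extension.
-/

set_option autoImplicit false

namespace Cfsg.Agent.Classical

open Matrix
open scoped MatrixGroups

theorem card_sylow_eq_of_card_eq {G : Type*} [Group G] [Finite G] {p : ℕ} [Fact p.Prime] (P : Sylow p G) {a r : ℕ}
    (h : Nat.card G = p ^ a * r) (hr : ¬ p ∣ r) : Nat.card P = p ^ a := by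
  rw [P.card_eq_multiplicity, h]
  congr 1
  rw [Nat.factorization_mul (pow_ne_zero _ (Fact.out : p.Prime).ne_zero)
    (fun h0 => hr (by rw [h0]; exact dvd_zero p)), Finsupp.add_apply, Nat.factorization_pow, Finsupp.smul_apply,
    (Fact.out : p.Prime).factorization_self, Nat.factorization_eq_zero_of_not_dvd hr]
  simp

variable {F : Type*} [Field F]

theorem card_field_eq_pow [Fintype F] (p : ℕ) [Fact p.Prime] [CharP F p] :
    ∃ f : ℕ, 1 ≤ f ∧ Fintype.card F = p ^ f := by
  obtain ⟨f, -, h⟩ := FiniteField.card F p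
  exact ⟨f, f.pos, h⟩

theorem not_dvd_pow_sub_one {p f k : ℕ} (hp : p.Prime) (hf : 1 ≤ f) (hk : 1 ≤ k) :
    ¬ p ∣ (p ^ f) ^ k - 1 := by
  intro h
  have h1 : p ∣ (p ^ f) ^ k := dvd_pow (dvd_pow_self p (by omega)) (by omega)
  have h3 : 1 ≤ (p ^ f) ^ k := Nat.one_le_iff_ne_zero.2 (pow_ne_zero _ (pow_ne_zero _ hp.ne_zero))
  have h2 := Nat.dvd_sub h1 h
  rw [show (p ^ f) ^ k - ((p ^ f) ^ k - 1) = 1 by omega] at h2
  exact hp.one_lt.ne' (Nat.dvd_one.1 h2)

theorem gl_mk''_coe {n : Type*} [Fintype n] [DecidableEq n] (A : Matrix n n F) (h : IsUnit A.det) :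
    ((Matrix.GeneralLinearGroup.mk'' A h : GL n F) : Matrix n n F) = A := rfl

theorem prod_gl_eq (q n : ℕ) :
    ∏ i : Fin n, (q ^ n - q ^ (i : ℕ)) = q ^ (n * (n - 1) / 2) * ∏ i ∈ Finset.range n, (q ^ (i + 1) - 1) := by
  rw [Fin.prod_univ_eq_prod_range (fun i => q ^ n - q ^ i), ← Finset.prod_range_reflect (fun i => q ^ (i + 1) - 1),
    ← Finset.sum_range_id, ← Finset.prod_pow_eq_pow_sum, ← Finset.prod_mul_distrib]
  refine Finset.prod_congr rfl fun i hi => ?_
  rw [Finset.mem_range] at hi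
  rw [show n - 1 - i + 1 = n - i by omega, Nat.mul_sub, mul_one, ← pow_add, show i + (n - i) = n by omega]

theorem card_sylow_gl [Fintype F] {q : ℕ} (hF : Fintype.card F = q) (p : ℕ) [Fact p.Prime] [CharP F p] (n : ℕ)
    (P : Sylow p (GL (Fin n) F)) : Nat.card P = q ^ (n * (n - 1) / 2) := by
  obtain ⟨f, hf, hq⟩ := card_field_eq_pow (F := F) p
  subst hF
  rw [hq, ← pow_mul]
  refine card_sylow_eq_of_card_eq P (r := ∏ i ∈ Finset.range n, ((p ^ f) ^ (i + 1) - 1)) ?_ ?_
  · rw [Matrix.card_GL_field, prod_gl_eq, hq, ← pow_mul p]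
  · exact (Nat.Prime.prime Fact.out).not_dvd_finsetProd fun i _ => not_dvd_pow_sub_one Fact.out hf (by omega)

/-- Invertible lower triangular matrices: diagonal units and free entries below. -/
theorem card_lowerTriangular [Fintype F] {q : ℕ} (hF : Fintype.card F = q) (n : ℕ) :
    Nat.card {g : GL (Fin n) F // ∀ i j : Fin n, i < j → (g : Matrix (Fin n) (Fin n) F) i j = 0}
      = q ^ (n * (n - 1) / 2) * (q - 1) ^ n := by
  classical
  subst hF
  let mat : (Fin n → Fˣ) × ((Σ i : Fin n, Fin (i : ℕ)) → F) → Matrix (Fin n) (Fin n) F :=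
    fun x => Matrix.of fun i j =>
      if h : (j : ℕ) < (i : ℕ) then x.2 ⟨i, ⟨j, h⟩⟩ else if i = j then (x.1 i : F) else 0
  have hmat : ∀ x, (mat x).BlockTriangular OrderDual.toDual := fun x i j hij => by
    have : i < j := hij
    simp [mat, not_lt.2 (le_of_lt this), this.ne]
  have hdet : ∀ x, IsUnit (mat x).det := fun x => by
    rw [Matrix.det_of_isLowerTriangular (mat x) (hmat x)]
    exact IsUnit.prod_univ_iff.2 fun i => by simp [mat]
  let e : (Fin n → Fˣ) × ((Σ i : Fin n, Fin (i : ℕ)) → F) ≃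
      {g : GL (Fin n) F // ∀ i j : Fin n, i < j → (g : Matrix (Fin n) (Fin n) F) i j = 0} :=
    Equiv.ofBijective (fun x => ⟨Matrix.GeneralLinearGroup.mk'' _ (hdet x), fun i j hij => hmat x hij⟩) ⟨by
      intro x y h
      have h' : mat x = mat y := congrArg (fun g => (g.1 : Matrix (Fin n) (Fin n) F)) h
      refine Prod.ext (funext fun i => Units.ext ?_) (funext fun s => ?_)
      · simpa [mat] using congrFun (congrFun h' i) i
      · have := congrFun (congrFun h' s.1) ⟨s.2, lt_trans s.2.2 s.1.2⟩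
        have hlt : (⟨s.2, lt_trans s.2.2 s.1.2⟩ : Fin n) < s.1 := s.2.2
        simpa [mat, hlt] using this, by
      rintro ⟨g, hg⟩
      have hd : IsUnit (∏ i, (g : Matrix (Fin n) (Fin n) F) i i) := by
        rw [← Matrix.det_of_isLowerTriangular (g : Matrix (Fin n) (Fin n) F) (fun i j h => hg i j h)]
        exact (Matrix.isUnit_iff_isUnit_det _).1 g.isUnit
      refine ⟨(fun i => (IsUnit.prod_univ_iff.1 hd i).unit,
        fun s => (g : Matrix (Fin n) (Fin n) F) s.1 ⟨s.2, lt_trans s.2.2 s.1.2⟩), Subtype.ext (Units.ext ?_)⟩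
      ext i j
      change mat _ i j = _
      simp only [mat, Matrix.of_apply]
      split_ifs with h1 h2
      · rfl
      · subst h2; rfl
      · refine (hg i j ?_).symm
        rcases lt_trichotomy i j with h | h | h
        · exact h
        · exact absurd h h2
        · exact absurd h h1⟩
  rw [← Nat.card_congr e, Nat.card_prod, Nat.card_fun, Nat.card_fun, Nat.card_sigma, Nat.card_units]
  simp only [Nat.card_eq_fintype_card, Fintype.card_fin]
  rw [Fin.sum_univ_eq_sum_range (fun i => i), Finset.sum_range_id, mul_comm]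

/-! ### Two by two -/

/-- The upper root subgroup of GL_2 as a homomorphism. -/
def rootHom2 : Multiplicative F →* GL (Fin 2) F :=
  Matrix.SpecialLinearGroup.toGL.comp
    (MonoidHom.mk' (fun c => (Matrix.SpecialLinearGroup.transvection (i := (0 : Fin 2)) (j := 1)
      (by decide) c.toAdd : SL(2, F))) fun c d => by rw [toAdd_mul, Matrix.SpecialLinearGroup.transvection_add])

theorem rootHom2_coe (c : Multiplicative F) :
    ((rootHom2 c : GL (Fin 2) F) : Matrix (Fin 2) (Fin 2) F) = !![1, c.toAdd; 0, 1] := by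
  ext i j
  fin_cases i <;> fin_cases j <;> simp [rootHom2, Matrix.SpecialLinearGroup.transvection_coe]

theorem rootHom2_injective : Function.Injective (rootHom2 (F := F)) := fun c d h => by
  have := congrArg (fun g : GL (Fin 2) F => (g : Matrix (Fin 2) (Fin 2) F) 0 1) h
  simpa [rootHom2_coe] using this

theorem mem_rootHom2_range {g : GL (Fin 2) F} :
    g ∈ (rootHom2 (F := F)).range ↔ (g : Matrix (Fin 2) (Fin 2) F) 0 0 = 1 ∧
      (g : Matrix (Fin 2) (Fin 2) F) 1 1 = 1 ∧ (g : Matrix (Fin 2) (Fin 2) F) 1 0 = 0 := by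
  constructor
  · rintro ⟨c, rfl⟩
    simp [rootHom2_coe]
  · intro ⟨h1, h2, h3⟩
    refine ⟨Multiplicative.ofAdd ((g : Matrix (Fin 2) (Fin 2) F) 0 1), Units.ext ?_⟩
    ext i j
    fin_cases i <;> fin_cases j <;> simp [rootHom2_coe, h1, h2, h3]

/-- If conjugation by g sends a non-trivial root element into the root subgroup, g is upper triangular. -/
theorem upper_of_conj {g : GL (Fin 2) F} {b : Multiplicative F} (hb : b ≠ 1)
    (h : g * rootHom2 b * g⁻¹ ∈ (rootHom2 (F := F)).range) :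
    (g : Matrix (Fin 2) (Fin 2) F) 1 0 = 0 := by
  obtain ⟨x, hx⟩ := h
  have h2 : rootHom2 x * g = g * rootHom2 b := by rw [hx, inv_mul_cancel_right]
  have h3 := congrArg (fun m : GL (Fin 2) F => (m : Matrix (Fin 2) (Fin 2) F) 1 1) h2
  simp [rootHom2_coe, Matrix.mul_apply, Fin.sum_univ_two] at h3
  rcases h3 with h3 | h3
  · exact h3
  · exact absurd h3 hb

theorem mem_normalizer_root {g : GL (Fin 2) F} :
    g ∈ Subgroup.normalizer ((rootHom2 (F := F)).range : Set (GL (Fin 2) F)) ↔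
      (g : Matrix (Fin 2) (Fin 2) F) 1 0 = 0 := by
  constructor
  · intro h
    refine upper_of_conj (b := Multiplicative.ofAdd 1) (by simp) ?_
    exact (Subgroup.mem_normalizer_iff.1 h _).1 ⟨_, rfl⟩
  · intro h10
    have key : ∀ g : GL (Fin 2) F, (g : Matrix (Fin 2) (Fin 2) F) 1 0 = 0 →
        ∀ x ∈ (rootHom2 (F := F)).range, g * x * g⁻¹ ∈ (rootHom2 (F := F)).range := by
      rintro g h10 _ ⟨c, rfl⟩
      have hd : (g : Matrix (Fin 2) (Fin 2) F) 1 1 ≠ 0 := fun h0 => by
        have := (Matrix.isUnit_iff_isUnit_det _).1 g.isUnit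
        rw [Matrix.det_fin_two] at this
        simp [h10, h0] at this
      refine ⟨Multiplicative.ofAdd ((g : Matrix (Fin 2) (Fin 2) F) 0 0 * c.toAdd /
        (g : Matrix (Fin 2) (Fin 2) F) 1 1), ?_⟩
      rw [eq_mul_inv_iff_mul_eq]
      refine Units.ext ?_
      ext i j
      fin_cases i <;> fin_cases j <;> simp [rootHom2_coe, Matrix.mul_apply, Fin.sum_univ_two, h10]
      field_simp
      ring
    refine Subgroup.mem_normalizer_iff.2 fun x => ⟨key g h10 x, fun hx => ?_⟩
    have h10' : ((g⁻¹ : GL (Fin 2) F) : Matrix (Fin 2) (Fin 2) F) 1 0 = 0 := by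
      rw [Matrix.coe_units_inv, Matrix.inv_def, Matrix.adjugate_fin_two]
      simp [h10]
    simpa [mul_assoc] using key g⁻¹ h10' _ hx

variable [Fintype F]

theorem card_gl2 : Nat.card (GL (Fin 2) F) =
    Fintype.card F * ((Fintype.card F - 1) * (Fintype.card F ^ 2 - 1)) := by
  rw [Matrix.card_GL_field, prod_gl_eq]
  simp [Finset.prod_range_succ]

theorem card_sl2 : Nat.card SL(2, F) = Fintype.card F * (Fintype.card F ^ 2 - 1) := by
  have h := card_gl_eq_mul_card_sl (ι := Fin 2) (F := F)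
  rw [card_gl2] at h
  have hq := Fintype.one_lt_card (α := F)
  exact Nat.eq_of_mul_eq_mul_left (show 0 < Fintype.card F - 1 by omega) (by rw [← h]; ring)

variable (p : ℕ) [Fact p.Prime] [CharP F p]

theorem exists_sylow_root : ∃ P : Sylow p (GL (Fin 2) F), (P : Subgroup (GL (Fin 2) F)) = (rootHom2 (F := F)).range := by
  obtain ⟨f, hf, hq⟩ := card_field_eq_pow (F := F) p
  have hc : Nat.card (rootHom2 (F := F)).range = p ^ f := by
    rw [← Nat.card_congr (MonoidHom.ofInjective rootHom2_injective).toEquiv, ← hq,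
      Nat.card_congr Multiplicative.toAdd, Nat.card_eq_fintype_card]
  have hP : Nat.card (rootHom2 (F := F)).range = p ^ (Nat.card (GL (Fin 2) F)).factorization p := by
    let P : Sylow p (GL (Fin 2) F) := default
    rw [← P.card_eq_multiplicity, card_sylow_gl (F := F) rfl p 2 P, hc, hq]
    norm_num
  exact ⟨Sylow.ofCard _ hP, rfl⟩

theorem sylow_gl2_conj (P : Sylow p (GL (Fin 2) F)) : ∃ g : GL (Fin 2) F,
    (P : Subgroup (GL (Fin 2) F)) = (rootHom2 (F := F)).range.map (MulAut.conj g).toMonoidHom := by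
  obtain ⟨P₀, hP₀⟩ := exists_sylow_root (F := F) p
  obtain ⟨g, hg⟩ := MulAction.exists_smul_eq (GL (Fin 2) F) P₀ P
  refine ⟨g, ?_⟩
  rw [← hg, ← hP₀]
  rfl

theorem card_normalizer_root :
    Nat.card (Subgroup.normalizer ((rootHom2 (F := F)).range : Set (GL (Fin 2) F))) =
      Fintype.card F * (Fintype.card F - 1) ^ 2 := by
  classical
  let e : Fˣ × Fˣ × F ≃ (Subgroup.normalizer ((rootHom2 (F := F)).range : Set (GL (Fin 2) F))) :=
    { toFun := fun x => ⟨Matrix.GeneralLinearGroup.mk'' !![(x.1 : F), x.2.2; 0, (x.2.1 : F)]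
          (by simp [Matrix.det_fin_two]), mem_normalizer_root.2 rfl⟩
      invFun := fun g =>
        have h := (Matrix.isUnit_iff_isUnit_det _).1 g.1.isUnit
        have h10 := mem_normalizer_root.1 g.2
        (Units.mk0 ((g.1 : Matrix (Fin 2) (Fin 2) F) 0 0) (fun h0 => by
            simp [Matrix.det_fin_two, h10, h0] at h),
          Units.mk0 ((g.1 : Matrix (Fin 2) (Fin 2) F) 1 1) (fun h0 => by
            simp [Matrix.det_fin_two, h10, h0] at h),
          (g.1 : Matrix (Fin 2) (Fin 2) F) 0 1)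
      left_inv := fun x => by simp [gl_mk''_coe]
      right_inv := fun g => by
        refine Subtype.ext (Units.ext ?_)
        ext i j
        fin_cases i <;> fin_cases j <;> simp [gl_mk''_coe, mem_normalizer_root.1 g.2] }
  rw [← Nat.card_congr e, Nat.card_prod, Nat.card_prod, Nat.card_units, Nat.card_eq_fintype_card]
  ring

theorem card_normalizer_sylow_gl2 (P : Sylow p (GL (Fin 2) F)) :
    Nat.card (Subgroup.normalizer ((P : Subgroup (GL (Fin 2) F)) : Set (GL (Fin 2) F))) =
      Fintype.card F * (Fintype.card F - 1) ^ 2 := by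
  obtain ⟨P₀, hP₀⟩ := exists_sylow_root (F := F) p
  rw [← card_normalizer_root, ← hP₀]
  have h1 := Subgroup.index_mul_card (Subgroup.normalizer ((P : Subgroup (GL (Fin 2) F)) : Set (GL (Fin 2) F)))
  have h2 := Subgroup.index_mul_card (Subgroup.normalizer ((P₀ : Subgroup (GL (Fin 2) F)) : Set (GL (Fin 2) F)))
  rw [show (Subgroup.normalizer ((P : Subgroup (GL (Fin 2) F)) : Set (GL (Fin 2) F))).index =
      Nat.card (Sylow p (GL (Fin 2) F)) from P.card_eq_index_normalizer.symm] at h1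
  rw [show (Subgroup.normalizer ((P₀ : Subgroup (GL (Fin 2) F)) : Set (GL (Fin 2) F))).index =
      Nat.card (Sylow p (GL (Fin 2) F)) from P₀.card_eq_index_normalizer.symm, ← h1] at h2
  exact Nat.eq_of_mul_eq_mul_left Nat.card_pos h2.symm

theorem card_sylow_set_gl2 : Nat.card (Sylow p (GL (Fin 2) F)) = Fintype.card F + 1 := by
  obtain ⟨P₀, hP₀⟩ := exists_sylow_root (F := F) p
  have h2 := Subgroup.index_mul_card (Subgroup.normalizer ((P₀ : Subgroup (GL (Fin 2) F)) : Set (GL (Fin 2) F)))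
  rw [show (Subgroup.normalizer ((P₀ : Subgroup (GL (Fin 2) F)) : Set (GL (Fin 2) F))).index =
      Nat.card (Sylow p (GL (Fin 2) F)) from P₀.card_eq_index_normalizer.symm, card_normalizer_sylow_gl2, card_gl2] at h2
  have hq := Fintype.one_lt_card (α := F)
  refine Nat.eq_of_mul_eq_mul_right (show 0 < Fintype.card F * (Fintype.card F - 1) ^ 2 from
    Nat.mul_pos (by omega) (pow_pos (by omega) 2)) (h2.trans ?_)
  obtain ⟨k, hk⟩ : ∃ k, Fintype.card F = k + 1 := ⟨Fintype.card F - 1, by omega⟩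
  simp only [hk, Nat.add_sub_cancel]
  rw [show (k + 1) ^ 2 - 1 = k * (k + 2) from Nat.sub_eq_of_eq_add (by ring)]
  ring

theorem sylow_gl2_inf (P Q : Sylow p (GL (Fin 2) F)) (h : P ≠ Q) :
    (P : Subgroup (GL (Fin 2) F)) ⊓ (Q : Subgroup (GL (Fin 2) F)) = ⊥ := by
  obtain ⟨g, hg⟩ := sylow_gl2_conj (F := F) p P
  obtain ⟨k, hk⟩ := sylow_gl2_conj (F := F) p Q
  rw [Subgroup.eq_bot_iff_forall]
  intro a ha
  obtain ⟨haP, haQ⟩ := Subgroup.mem_inf.1 ha
  rw [hg] at haP
  rw [hk] at haQ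
  obtain ⟨_, ⟨b, rfl⟩, hab⟩ := haP
  obtain ⟨y, hy, hay⟩ := haQ
  simp only [MulEquiv.coe_toMonoidHom, MulAut.conj_apply] at hab hay
  by_contra ha1
  have hb : b ≠ 1 := fun hb => ha1 (by rw [← hab, hb, map_one]; group)
  have hy' : y = (k⁻¹ * g) * rootHom2 b * (k⁻¹ * g)⁻¹ := by
    have h1 : y = k⁻¹ * a * k := by rw [← hay]; group
    rw [h1, ← hab]; group
  have hn := mem_normalizer_root.2 (upper_of_conj hb (hy' ▸ hy))
  refine h (Sylow.ext ?_)
  rw [hg, hk]
  ext x
  simp only [Subgroup.mem_map, MulEquiv.coe_toMonoidHom, MulAut.conj_apply]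
  constructor
  · rintro ⟨u, hu, rfl⟩
    exact ⟨_, (Subgroup.mem_normalizer_iff.1 hn u).1 hu, by group⟩
  · rintro ⟨u, hu, rfl⟩
    refine ⟨(k⁻¹ * g)⁻¹ * u * (k⁻¹ * g), ?_, by group⟩
    refine (Subgroup.mem_normalizer_iff.1 hn _).2 ?_
    group
    exact hu

theorem card_centralizer_pElem (P : Sylow p (GL (Fin 2) F)) (a : GL (Fin 2) F) (ha : a ∈ P) (ha1 : a ≠ 1) :
    Nat.card (Subgroup.centralizer ({a} : Set (GL (Fin 2) F))) = Fintype.card F * (Fintype.card F - 1) := by
  classical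
  obtain ⟨g, hg⟩ := sylow_gl2_conj (F := F) p P
  rw [← SetLike.mem_coe] at ha
  have ha' : a ∈ (P : Subgroup (GL (Fin 2) F)) := ha
  rw [hg] at ha'
  obtain ⟨_, ⟨b, rfl⟩, hab⟩ := ha'
  simp only [MulEquiv.coe_toMonoidHom, MulAut.conj_apply] at hab
  have hb : b.toAdd ≠ 0 := fun hb => ha1 (by
    rw [← hab, show b = 1 from toAdd_eq_zero.1 hb, map_one]; group)
  have hmem : ∀ x : GL (Fin 2) F, x ∈ Subgroup.centralizer ({rootHom2 b} : Set (GL (Fin 2) F)) ↔
      (x : Matrix (Fin 2) (Fin 2) F) 1 0 = 0 ∧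
        (x : Matrix (Fin 2) (Fin 2) F) 0 0 = (x : Matrix (Fin 2) (Fin 2) F) 1 1 := fun x => by
    rw [Subgroup.mem_centralizer_singleton_iff]
    constructor
    · intro h
      have h1 := congrArg (fun m : GL (Fin 2) F => (m : Matrix (Fin 2) (Fin 2) F) 1 1) h
      have h2 := congrArg (fun m : GL (Fin 2) F => (m : Matrix (Fin 2) (Fin 2) F) 0 1) h
      simp [rootHom2_coe, Matrix.mul_apply, Fin.sum_univ_two] at h1 h2
      have h10 : (x : Matrix (Fin 2) (Fin 2) F) 1 0 = 0 := by rcases h1 with h | h <;> simp_all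
      refine ⟨h10, mul_right_cancel₀ hb ?_⟩
      linear_combination h2
    · rintro ⟨h1, h2⟩
      refine Units.ext ?_
      ext i j
      fin_cases i <;> fin_cases j <;> simp [rootHom2_coe, Matrix.mul_apply, Fin.sum_univ_two, h1, h2]
      ring
  let e : Fˣ × F ≃ Subgroup.centralizer ({rootHom2 b} : Set (GL (Fin 2) F)) :=
    { toFun := fun x => ⟨Matrix.GeneralLinearGroup.mk'' !![(x.1 : F), x.2; 0, (x.1 : F)]
          (by simp [Matrix.det_fin_two]), (hmem _).2 ⟨rfl, rfl⟩⟩
      invFun := fun x =>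
        have h := (Matrix.isUnit_iff_isUnit_det _).1 x.1.isUnit
        (Units.mk0 ((x.1 : Matrix (Fin 2) (Fin 2) F) 0 0) (fun h0 => by
            simp [Matrix.det_fin_two, ((hmem _).1 x.2).1, h0] at h),
          (x.1 : Matrix (Fin 2) (Fin 2) F) 0 1)
      left_inv := fun x => by simp [gl_mk''_coe]
      right_inv := fun x => by
        refine Subtype.ext (Units.ext ?_)
        ext i j
        fin_cases i <;> fin_cases j <;>
          simp [gl_mk''_coe, ((hmem _).1 x.2).1, ((hmem _).1 x.2).2] }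
  have hcard : Nat.card (Subgroup.centralizer ({a} : Set (GL (Fin 2) F))) =
      Nat.card (Subgroup.centralizer ({rootHom2 b} : Set (GL (Fin 2) F))) := by
    refine (Nat.card_congr (((MulAut.conj g).toEquiv).subtypeEquiv fun x => ?_)).symm
    rw [Subgroup.mem_centralizer_singleton_iff, Subgroup.mem_centralizer_singleton_iff, ← hab]
    change _ ↔ g * x * g⁻¹ * (g * rootHom2 b * g⁻¹) = g * rootHom2 b * g⁻¹ * (g * x * g⁻¹)
    constructor
    · intro h
      calc g * x * g⁻¹ * (g * rootHom2 b * g⁻¹) = g * (x * rootHom2 b) * g⁻¹ := by group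
        _ = g * (rootHom2 b * x) * g⁻¹ := by rw [h]
        _ = _ := by group
    · intro h
      calc x * rootHom2 b = g⁻¹ * ((g * x * g⁻¹) * (g * rootHom2 b * g⁻¹)) * g := by group
        _ = g⁻¹ * ((g * rootHom2 b * g⁻¹) * (g * x * g⁻¹)) * g := by rw [h]
        _ = _ := by group
  rw [hcard, ← Nat.card_congr e, Nat.card_prod, Nat.card_units, Nat.card_eq_fintype_card, mul_comm]

end Cfsg.Agent.Classical
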