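import Mathlib
import Cfsg.Agent.Classical.LinearBasic

/-!
Three points of the projective line.
-/

set_option autoImplicit false

namespace Cfsg.Agent.Classical

open Matrix Projectivization
open scoped LinearAlgebra.Projectivization

variable {F : Type*} [Field F]

/-- The standard triple. -/
def stdVec (F : Type*) [Field F] (i : Fin 3) : Fin 2 → F := ![![1, 0], ![0, 1], ![1, 1]] i

theorem stdVec_ne_zero (i : Fin 3) : stdVec F i ≠ 0 := fun h => by
  fin_cases i <;> simpa [stdVec] using And.intro (congrFun h 0) (congrFun h 1)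

/-- The standard points. -/
def stdPt (F : Type*) [Field F] : Fin 3 ↪ ℙ F (Fin 2 → F) :=
  ⟨fun i => Projectivization.mk F (stdVec F i) (stdVec_ne_zero i), fun i j h => by
    obtain ⟨c, hc⟩ := (mk_eq_mk_iff' F _ _ (stdVec_ne_zero i) (stdVec_ne_zero j)).1 h
    have h0 := congrFun hc 0
    have h1 := congrFun hc 1
    fin_cases i <;> fin_cases j <;> first | rfl | (simp [stdVec] at h0 h1; done) | (simp [stdVec] at h0 h1; rw [h0] at h1; simp at h1)⟩

theorem exists_to_std (x : Fin 3 ↪ ℙ F (Fin 2 → F)) :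
    ∃ g : GL (Fin 2) F, ∀ i, g • stdPt F i = x i := by
  set u := (x 0).rep
  set v := (x 1).rep
  set w := (x 2).rep
  have hind : ∀ i j, i ≠ j → (x i).rep 0 * (x j).rep 1 - (x i).rep 1 * (x j).rep 0 ≠ 0 := fun i j hij h0 => by
    apply hij
    apply x.injective
    rw [← mk_rep (x i), ← mk_rep (x j), mk_eq_mk_iff']
    by_cases hj : (x j).rep 0 = 0
    · have hj1 : (x j).rep 1 ≠ 0 := fun h1 => (x j).rep_nonzero (by ext k; fin_cases k <;> assumption)
      refine ⟨(x i).rep 1 / (x j).rep 1, ?_⟩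
      ext k
      fin_cases k <;> simp
      · rw [hj] at h0 ⊢
        have : (x i).rep 0 = 0 := (mul_eq_zero.1 (by linear_combination h0 : (x i).rep 0 * (x j).rep 1 = 0)).resolve_right hj1
        simp [this]
      · field_simp
    · refine ⟨(x i).rep 0 / (x j).rep 0, ?_⟩
      ext k
      fin_cases k <;> simp
      · field_simp
      · field_simp
        linear_combination h0
  have hd := hind 0 1 (by decide)
  have ha := hind 2 1 (by decide)
  have hb := hind 0 2 (by decide)
  set D := u 0 * v 1 - u 1 * v 0 with hDdef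
  set α := (w 0 * v 1 - w 1 * v 0) / D with hα
  set β := (u 0 * w 1 - u 1 * w 0) / D with hβ
  have hα0 : α ≠ 0 := div_ne_zero ha hd
  have hβ0 : β ≠ 0 := div_ne_zero hb hd
  let M : Matrix (Fin 2) (Fin 2) F := !![α * u 0, β * v 0; α * u 1, β * v 1]
  have hM : IsUnit M.det := by
    rw [isUnit_iff_ne_zero, Matrix.det_fin_two]
    simp only [M, Matrix.of_apply, Matrix.cons_val', Matrix.cons_val_zero, Matrix.cons_val_one, Matrix.empty_val',
      Matrix.cons_val_fin_one]
    rw [show α * u 0 * (β * v 1) - β * v 0 * (α * u 1) = α * β * D by rw [hDdef]; ring]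
    exact mul_ne_zero (mul_ne_zero hα0 hβ0) hd
  refine ⟨Matrix.GeneralLinearGroup.mk'' M hM, fun i => ?_⟩
  conv_rhs => rw [← mk_rep (x i)]
  refine (mk_eq_mk_iff' F _ _ _ _).2 ?_
  show ∃ a : F, a • (x i).rep = M *ᵥ stdVec F i
  have hw : ∀ k, w k = α * u k + β * v k := fun k => by
    rw [hα, hβ, div_mul_eq_mul_div, div_mul_eq_mul_div, ← add_div, eq_div_iff hd, hDdef]
    fin_cases k <;> simp <;> ring
  fin_cases i
  · exact ⟨α, by ext k; fin_cases k <;> simp [M, stdVec, Matrix.mulVec, dotProduct, u]⟩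
  · exact ⟨β, by ext k; fin_cases k <;> simp [M, stdVec, Matrix.mulVec, dotProduct, v]⟩
  · refine ⟨1, ?_⟩
    ext k
    have := hw k
    fin_cases k <;> simp [M, stdVec, Matrix.mulVec, dotProduct] at this ⊢ <;> exact this

theorem fix_std {g : GL (Fin 2) F} (h : ∀ i, g • stdPt F i = stdPt F i) :
    g ∈ Subgroup.center (GL (Fin 2) F) := by
  have key : ∀ i, ∃ c : F, c • stdVec F i = g.1 *ᵥ stdVec F i := fun i =>
    (mk_eq_mk_iff' F _ _ _ (stdVec_ne_zero i)).1 (h i)
  obtain ⟨a, ha⟩ := key 0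
  obtain ⟨b, hb⟩ := key 1
  obtain ⟨c, hc⟩ := key 2
  have a0 := congrFun ha 0
  have a1 := congrFun ha 1
  have b0 := congrFun hb 0
  have b1 := congrFun hb 1
  have c0 := congrFun hc 0
  have c1 := congrFun hc 1
  simp [stdVec, Matrix.mulVec, dotProduct, Fin.sum_univ_two] at a0 a1 b0 b1 c0 c1
  have hg : g.1 = Matrix.scalar (Fin 2) a := by
    have hac : a = c := by linear_combination a0 - c0 + b0
    have hbc : b = c := by linear_combination b1 - c1 + a1
    ext i j
    fin_cases i <;> fin_cases j <;> simp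
    · linear_combination -a0
    · linear_combination -b0
    · linear_combination -a1
    · linear_combination -b1 + hbc - hac
  rw [Subgroup.mem_center_iff]
  intro y
  refine Units.ext ?_
  rw [Units.val_mul, Units.val_mul, hg]
  exact ((Matrix.scalar_commute a (fun _ => Commute.all _ _) _).symm).eq

theorem pgl_sharply_three :
    MulAction.IsMultiplyPretransitive (Matrix.ProjGenLinGroup (Fin 2) F) (ℙ F (Fin 2 → F)) 3 ∧
      ∀ (g : Matrix.ProjGenLinGroup (Fin 2) F) (a b c : ℙ F (Fin 2 → F)), a ≠ b → a ≠ c → b ≠ c →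
        g • a = a → g • b = b → g • c = c → g = 1 := by
  constructor
  · refine MulAction.isMultiplyPretransitive_iff.2 fun {x} {y} => ?_
    obtain ⟨g, hg⟩ := exists_to_std x
    obtain ⟨g', hg'⟩ := exists_to_std y
    refine ⟨Matrix.ProjGenLinGroup.mk (g' * g⁻¹), ?_⟩
    ext i
    show (Matrix.ProjGenLinGroup.mk (g' * g⁻¹)) • x i = y i
    rw [← hg i, ← hg' i]
    show (g' * g⁻¹) • g • stdPt F i = _
    rw [mul_smul, inv_smul_smul]
  · intro g a b c hab hac hbc ha hb hc
    induction g using Matrix.ProjGenLinGroup.induction_on with | mk g => ?_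
    let x : Fin 3 ↪ ℙ F (Fin 2 → F) := ⟨![a, b, c], fun i j h => by
      fin_cases i <;> fin_cases j <;> simp at h ⊢ <;>
        first | exact hab h | exact hab h.symm | exact hac h | exact hac h.symm | exact hbc h | exact hbc h.symm⟩
    obtain ⟨k, hk⟩ := exists_to_std x
    have hx : ∀ i, g • x i = x i := fun i => by fin_cases i <;> assumption
    have hc' : k⁻¹ * g * k ∈ Subgroup.center (GL (Fin 2) F) := fix_std fun i => by
      rw [mul_smul, mul_smul, hk i, hx i, ← hk i, inv_smul_smul]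
    rw [Matrix.ProjGenLinGroup.mk_eq_one]
    have := (Subgroup.center (GL (Fin 2) F)).mul_mem hc' (one_mem _)
    rw [show g = k * (k⁻¹ * g * k) * k⁻¹ by group, Subgroup.mem_center_iff.1 hc' k]
    simpa using hc'

theorem sl_three_iff [Fintype F] :
    MulAction.IsMultiplyPretransitive (SpecialLinearGroup (Fin 2) F) (ℙ F (Fin 2 → F)) 3 ↔ ringChar F = 2 := by
  classical
  constructor
  · intro h
    by_contra hodd
    obtain ⟨δ, hδ⟩ := FiniteField.exists_nonsquare hodd
    have hδ0 : δ ≠ 0 := fun h0 => hδ (h0 ▸ IsSquare.zero)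
    let y : Fin 3 ↪ ℙ F (Fin 2 → F) := ⟨fun i => Projectivization.mk F (![![1, 0], ![0, 1], ![1, δ]] i) (fun h0 => by
      have h00 := congrFun h0 0
      have h01 := congrFun h0 1
      fin_cases i <;> simp at h00 h01), fun i j hij => by
      obtain ⟨c, hc⟩ := (mk_eq_mk_iff' F _ _ _ _).1 hij
      have h0 := congrFun hc 0
      have h1 := congrFun hc 1
      fin_cases i <;> fin_cases j <;>
        first | rfl | (simp [hδ0] at h0 h1; done) | (simp [hδ0] at h0 h1; exact absurd (h0.symm.trans h1) (by simp [eq_comm])) | (exfalso; simp_all)⟩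
    obtain ⟨g, hg⟩ := (MulAction.isMultiplyPretransitive_iff.1 h) (x := stdPt F) (y := y)
    have key : ∀ i, ∃ c : F, c • (![![1, 0], ![0, 1], ![1, δ]] i : Fin 2 → F) = g.1 *ᵥ stdVec F i := fun i =>
      (mk_eq_mk_iff' F _ _ _ _).1 (congrArg (fun z : Fin 3 ↪ ℙ F (Fin 2 → F) => z i) hg)
    obtain ⟨a, ha⟩ := key 0
    obtain ⟨b, hb⟩ := key 1
    obtain ⟨c, hc⟩ := key 2
    have a0 := congrFun ha 0
    have a1 := congrFun ha 1
    have b0 := congrFun hb 0
    have b1 := congrFun hb 1
    have c0 := congrFun hc 0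
    have c1 := congrFun hc 1
    simp [stdVec, Matrix.mulVec, dotProduct, Fin.sum_univ_two] at a0 a1 b0 b1 c0 c1
    have hd := g.2
    rw [Matrix.det_fin_two, ← a0, ← a1, ← b0, ← b1, mul_zero, sub_zero] at hd
    have hac : a = c := by linear_combination a0 - c0 + b0
    have hbd : b = δ * c := by linear_combination b1 - c1 + a1
    have hc0 : c ≠ 0 := fun h0 => by simp [hbd, h0] at hd
    refine hδ ⟨c⁻¹, ?_⟩
    field_simp
    rw [hac, hbd] at hd
    linear_combination hd
  · intro h2
    refine MulAction.isMultiplyPretransitive_iff.2 fun {x} {y} => ?_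
    obtain ⟨g, hg⟩ := exists_to_std x
    obtain ⟨g', hg'⟩ := exists_to_std y
    obtain ⟨s, hs⟩ := FiniteField.isSquare_of_char_two h2 ((g' * g⁻¹).1.det)⁻¹
    have hdne : (g' * g⁻¹).1.det ≠ 0 := (Matrix.isUnits_det_units (g' * g⁻¹)).ne_zero
    have hdet : (s • (g' * g⁻¹).1).det = 1 := by
      rw [Matrix.det_smul, Fintype.card_fin, pow_two, ← hs, inv_mul_cancel₀ hdne]
    let S : SpecialLinearGroup (Fin 2) F := ⟨_, hdet⟩
    refine ⟨S, ?_⟩
    ext i
    have e : (g' * g⁻¹) • x i = y i := by rw [← hg i, ← hg' i, mul_smul, inv_smul_smul]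
    show S • x i = y i
    rw [← e, ← mk_rep (x i)]
    refine (mk_eq_mk_iff' F _ _ _ _).2 ⟨s, ?_⟩
    show s • ((g' * g⁻¹).1 *ᵥ (x i).rep) = (s • (g' * g⁻¹).1) *ᵥ (x i).rep
    rw [Matrix.smul_mulVec]

end Cfsg.Agent.Classical
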