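import Mathlib
import Cfsg.Agent.Classical.ProjLine
import Cfsg.Agent.Classical.Linear2

/-!
Simple groups of order 60 and 168, and the small exceptional isomorphisms that follow from them.
-/

set_option autoImplicit false

namespace Cfsg.Agent.Classical.Small

open Matrix Equiv
open scoped LinearAlgebra.Projectivization

section general

variable {G : Type*} [Group G] [IsSimpleGroup G]

theorem injective_of_ne (hab : ∃ a b : G, a * b ≠ b * a) {H : Type*} [CommGroup H] (f : G →* H) : f = 1 := by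
  rcases IsSimpleGroup.eq_bot_or_eq_top_of_normal f.ker inferInstance with h | h
  · obtain ⟨a, b, hab⟩ := hab
    exact absurd ((f.ker_eq_bot_iff.1 h) (by rw [map_mul, map_mul, mul_comm])) hab
  · exact f.ker_eq_top_iff.1 h

/-- A non-trivial permutation representation of a non-abelian simple group is faithful and even. -/
theorem perm_rep (hab : ∃ a b : G, a * b ≠ b * a) {α : Type*} [Fintype α] [DecidableEq α] (f : G →* Perm α)
    (hne : f ≠ 1) : Function.Injective f ∧ f.range ≤ alternatingGroup α := by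
  refine ⟨?_, ?_⟩
  · rcases IsSimpleGroup.eq_bot_or_eq_top_of_normal f.ker inferInstance with h | h
    · exact f.ker_eq_bot_iff.1 h
    · exact absurd (f.ker_eq_top_iff.1 h) hne
  · rintro _ ⟨g, rfl⟩
    exact Perm.mem_alternatingGroup.2 (DFunLike.congr_fun (injective_of_ne hab (Perm.sign.comp f)) g)

theorem sylow_not_normal [Finite G] {p : ℕ} [Fact p.Prime] (P : Sylow p G) (h1 : p ∣ Nat.card G)
    (h2 : Nat.card (P : Subgroup G) ≠ Nat.card G) : ¬ (P : Subgroup G).Normal := fun hn => by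
  rcases IsSimpleGroup.eq_bot_or_eq_top_of_normal _ hn with h | h
  · exact P.ne_bot_of_dvd_card h1 h
  · exact h2 (by rw [h, Subgroup.card_top])

theorem sylow_card_ne_one [Finite G] {p : ℕ} [Fact p.Prime] (P : Sylow p G) (h1 : p ∣ Nat.card G)
    (h2 : Nat.card (P : Subgroup G) ≠ Nat.card G) : Nat.card (Sylow p G) ≠ 1 := fun hc => by
  have : Subsingleton (Sylow p G) := (Nat.card_eq_one_iff_unique.1 hc).1
  exact sylow_not_normal P h1 h2 (Sylow.normal_of_subsingleton P)

theorem exists_noncomm [Finite G] {p : ℕ} [Fact p.Prime] (P : Sylow p G) (h1 : p ∣ Nat.card G)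
    (h2 : Nat.card (P : Subgroup G) ≠ Nat.card G) : ∃ a b : G, a * b ≠ b * a := by
  by_contra hc
  push Not at hc
  exact sylow_not_normal P h1 h2 ⟨fun x hx g => by rw [hc g x, mul_inv_cancel_right]; exact hx⟩

omit [IsSimpleGroup G] in
theorem sylow_card_eq [Finite G] {p : ℕ} [hp : Fact p.Prime] (P : Sylow p G) {m : ℕ}
    (h : Nat.card G = p * m) (hm : ¬ p ∣ m) : Nat.card (P : Subgroup G) = p ∧ (P : Subgroup G).index = m := by
  obtain ⟨k, hk⟩ := IsPGroup.iff_card.1 P.2
  have h1 := (P : Subgroup G).card_mul_index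
  rw [hk, h] at h1
  have hk1 : k = 1 := by
    rcases k with _ | _ | k
    · exact absurd ⟨m, by simpa using h1⟩ P.not_dvd_index
    · rfl
    · exact absurd ⟨p ^ k * (P : Subgroup G).index, mul_left_cancel₀ hp.out.ne_zero (by rw [← h1]; ring)⟩ hm
  subst hk1
  rw [pow_one] at hk h1
  exact ⟨hk, mul_left_cancel₀ hp.out.ne_zero h1⟩

end general

section alternating

theorem alt_noncomm {m : ℕ} (hm : 5 ≤ m) : ∃ a b : alternatingGroup (Fin m), a * b ≠ b * a := by
  by_contra hc
  push Not at hc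
  have h : Subgroup.center (alternatingGroup (Fin m)) = ⊤ :=
    eq_top_iff.2 fun a _ => Subgroup.mem_center_iff.2 fun b => hc b a
  rw [alternatingGroup.center_eq_bot (by simp; omega)] at h
  have := congrArg (fun H : Subgroup (alternatingGroup (Fin m)) => Nat.card H) h
  simp only [Subgroup.card_bot, Subgroup.card_top] at this
  have : Nontrivial (Fin m) := Fin.nontrivial_iff_two_le.2 (by omega)
  have h2 := two_mul_nat_card_alternatingGroup (α := Fin m)
  rw [Nat.card_perm, Nat.card_fin] at h2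
  have := Nat.factorial_le (show 5 ≤ m from hm)
  simp [Nat.factorial] at this
  omega

/-- A subgroup of index n + 1 of the alternating group of degree n + 1 is alternating of degree n. -/
theorem alt_point_stab {n : ℕ} (hn : 4 ≤ n) (H : Subgroup (alternatingGroup (Fin (n + 1))))
    (hH : H.index = n + 1) : Nonempty (H ≃* alternatingGroup (Fin n)) := by
  classical
  have : IsSimpleGroup (alternatingGroup (Fin (n + 1))) := alternatingGroup.isSimpleGroup (by simp; omega)
  let A := alternatingGroup (Fin (n + 1))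
  let c₁ : A ⧸ H := ((1 : A) : A ⧸ H)
  obtain ⟨e, he⟩ : ∃ e : (A ⧸ H) ≃ Fin (n + 1), e c₁ = Fin.last n := by
    have e : (A ⧸ H) ≃ Fin (n + 1) := (Finite.equivFinOfCardEq hH)
    exact ⟨e.trans (Equiv.swap (e c₁) (Fin.last n)), by simp⟩
  let ψ : A →* Perm (Fin (n + 1)) := e.permCongrHom.toMonoidHom.comp (MulAction.toPermHom A (A ⧸ H))
  have hfix : ∀ g, ψ g (Fin.last n) = Fin.last n ↔ g ∈ H := fun g => by
    show e (g • e.symm (Fin.last n)) = Fin.last n ↔ g ∈ H
    rw [← he, e.symm_apply_apply, e.apply_eq_iff_eq]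
    show ((g * 1 : A) : A ⧸ H) = ((1 : A) : A ⧸ H) ↔ _
    rw [mul_one, QuotientGroup.eq, mul_one, inv_mem_iff]
  have hne : ψ ≠ 1 := fun h => by
    have : H = ⊤ := eq_top_iff.2 fun g _ => (hfix g).1 (by rw [h]; rfl)
    rw [this, Subgroup.index_top] at hH
    omega
  obtain ⟨hinj, hrange⟩ := perm_rep (alt_noncomm (by omega)) ψ hne
  have hsurj : ψ.range = A := Subgroup.eq_of_le_of_card_ge hrange (by
    rw [Nat.card_congr (MonoidHom.ofInjective hinj).symm.toEquiv])
  let ι : Perm (Fin n) →* Perm (Fin (n + 1)) := Perm.viaEmbeddingHom Fin.castSuccEmb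
  have hιinj : Function.Injective ι := Perm.viaEmbeddingHom_injective _
  let ιA := ι.comp (alternatingGroup (Fin n)).subtype
  have hιinjA : Function.Injective ιA := hιinj.comp Subtype.val_injective
  have hle : ιA.range ≤ H.map ψ := by
    rintro _ ⟨τ, rfl⟩
    have hs : ιA τ ∈ A := Perm.mem_alternatingGroup.2 (by
      show Perm.sign (Perm.viaEmbedding τ.1 Fin.castSuccEmb) = 1
      unfold Perm.viaEmbedding
      rw [Perm.sign_extendDomain]
      exact Perm.mem_alternatingGroup.1 τ.2)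
    rw [← hsurj] at hs
    obtain ⟨g, hg⟩ := hs
    refine ⟨g, (hfix g).1 ?_, hg⟩
    rw [hg]
    exact Perm.viaEmbedding_apply_of_notMem _ _ _ fun ⟨x, hx⟩ => (Fin.castSucc_lt_last x).ne hx
  have : Nontrivial (Fin n) := Fin.nontrivial_iff_two_le.2 (by omega)
  have : Nontrivial (Fin (n + 1)) := Fin.nontrivial_iff_two_le.2 (by omega)
  have hc1 : 2 * Nat.card A = (n + 1).factorial := by
    rw [two_mul_nat_card_alternatingGroup, Nat.card_perm, Nat.card_fin]
  have hc2 : 2 * Nat.card (alternatingGroup (Fin n)) = n.factorial := by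
    rw [two_mul_nat_card_alternatingGroup, Nat.card_perm, Nat.card_fin]
  have hc3 := H.card_mul_index
  rw [hH] at hc3
  have heq : ιA.range = H.map ψ := Subgroup.eq_of_le_of_card_ge hle (by
    rw [Nat.card_congr (H.equivMapOfInjective ψ hinj).symm.toEquiv,
      Nat.card_congr (MonoidHom.ofInjective hιinjA).symm.toEquiv]
    rw [Nat.factorial_succ, ← hc2, ← hc3] at hc1
    nlinarith)
  exact ⟨(H.equivMapOfInjective ψ hinj).trans
    ((MulEquiv.subgroupCongr heq.symm).trans (MonoidHom.ofInjective hιinjA).symm)⟩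

end alternating

variable {G : Type*} [Group G] [Finite G] [IsSimpleGroup G]

/-- Simple groups of order 60. -/
theorem simple_sixty (h : Nat.card G = 60) : Nonempty (G ≃* alternatingGroup (Fin 5)) := by
  classical
  have : Fact (Nat.Prime 5) := ⟨by norm_num⟩
  obtain ⟨P⟩ := (inferInstance : Nonempty (Sylow 5 G))
  obtain ⟨hP, hPi⟩ := sylow_card_eq P (m := 12) (by rw [h]) (by norm_num)
  have hne : Nat.card (P : Subgroup G) ≠ Nat.card G := by rw [hP, h]; norm_num
  have hab := exists_noncomm P (by rw [h]; norm_num) hne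
  have hn1 := sylow_card_ne_one P (by rw [h]; norm_num) hne
  have hn2 : Nat.card (Sylow 5 G) ∣ 12 := hPi ▸ P.card_dvd_index
  have hn3 : Nat.card (Sylow 5 G) % 5 = 1 := card_sylow_modEq_one 5 G
  have hn : Nat.card (Sylow 5 G) = 6 := by
    have := Nat.le_of_dvd (by norm_num) hn2
    generalize Nat.card (Sylow 5 G) = a at hn1 hn2 hn3 this
    interval_cases a <;> omega
  let e : Sylow 5 G ≃ Fin 6 := Finite.equivFinOfCardEq hn
  let f : G →* Perm (Fin 6) := e.permCongrHom.toMonoidHom.comp (MulAction.toPermHom G (Sylow 5 G))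
  have hf : f ≠ 1 := fun hf => by
    refine hn1 (Nat.card_eq_one_iff_unique.2 ⟨⟨fun Q R => ?_⟩, ⟨P⟩⟩)
    obtain ⟨g, rfl⟩ := MulAction.exists_smul_eq G Q R
    have := congrArg (fun k : G →* Perm (Fin 6) => k g (e Q)) hf
    simpa [f] using this.symm
  obtain ⟨hinj, hrange⟩ := perm_rep hab f hf
  let f' : G →* alternatingGroup (Fin 6) := f.codRestrict _ fun g => hrange ⟨g, rfl⟩
  have hinj' : Function.Injective f' := fun x y hxy => hinj (congrArg Subtype.val hxy)
  have hidx : f'.range.index = 5 + 1 := by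
    have h1 := f'.range.card_mul_index
    have h2 := two_mul_nat_card_alternatingGroup (α := Fin 6)
    rw [Nat.card_congr (MonoidHom.ofInjective hinj').symm.toEquiv, h] at h1
    rw [Nat.card_perm, Nat.card_fin, show Nat.factorial 6 = 720 from rfl] at h2
    generalize Nat.card (alternatingGroup (Fin 6)) = a at h1 h2
    omega
  obtain ⟨ψ⟩ := alt_point_stab (by norm_num) f'.range hidx
  exact ⟨(MonoidHom.ofInjective hinj').trans ψ⟩

theorem ker_pslPerm {F : Type*} [Field F] {g : SpecialLinearGroup (Fin 2) F}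
    (hg : g ∈ (MulAction.toPermHom (SpecialLinearGroup (Fin 2) F) (ℙ F (Fin 2 → F))).ker) :
    g ∈ Subgroup.center (SpecialLinearGroup (Fin 2) F) := by
  have h := fix_std (g := Matrix.SpecialLinearGroup.toGL g) fun i => by
    have := congrArg (fun σ : Perm (ℙ F (Fin 2 → F)) => σ (stdPt F i)) hg
    exact this
  rw [Subgroup.mem_center_iff] at h ⊢
  intro y
  refine Subtype.ext ?_
  exact congrArg (fun z : GL (Fin 2) F => z.1) (h (Matrix.SpecialLinearGroup.toGL y))

omit [Finite G] [IsSimpleGroup G] in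
theorem pow_eq_of_pow_eq {a : G} {i j : ℕ} (ha : a ^ 7 = 1) (h : (i : ZMod 7) = (j : ZMod 7)) : a ^ i = a ^ j := by
  rw [← Nat.div_add_mod i 7, ← Nat.div_add_mod j 7, pow_add, pow_add, pow_mul, pow_mul, ha, one_pow, one_pow,
    show i % 7 = j % 7 from (ZMod.natCast_eq_natCast_iff' i j 7).1 h]

instance factPrimeSeven : Fact (Nat.Prime 7) := ⟨by norm_num⟩

/-- The eight Sylow 7-subgroups of a simple group of order 168, with coordinates. -/
theorem simple_168 (h : Nat.card G = 168) :
    Nonempty (G ≃* ProjectiveSpecialLinearGroup (Fin 2) (ZMod 7)) := by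
  classical
  have : Fact (Nat.Prime 3) := ⟨by norm_num⟩
  obtain ⟨P⟩ := (inferInstance : Nonempty (Sylow 7 G))
  obtain ⟨hP, hPi⟩ := sylow_card_eq P (m := 24) (by rw [h]) (by norm_num)
  have hne : Nat.card (P : Subgroup G) ≠ Nat.card G := by rw [hP, h]; norm_num
  have hab := exists_noncomm P (by rw [h]; norm_num) hne
  have hn1 := sylow_card_ne_one P (by rw [h]; norm_num) hne
  have hn2 : Nat.card (Sylow 7 G) ∣ 24 := hPi ▸ P.card_dvd_index
  have hn3 : Nat.card (Sylow 7 G) % 7 = 1 := card_sylow_modEq_one 7 G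
  have hn : Nat.card (Sylow 7 G) = 8 := by
    have := Nat.le_of_dvd (by norm_num) hn2
    generalize Nat.card (Sylow 7 G) = a at hn1 hn2 hn3 this
    interval_cases a <;> omega
  have : Fintype (Sylow 7 G) := Fintype.ofFinite _
  let act := MulAction.toPermHom G (Sylow 7 G)
  have hact : act ≠ 1 := fun hf => by
    refine hn1 (Nat.card_eq_one_iff_unique.2 ⟨⟨fun Q R => ?_⟩, ⟨P⟩⟩)
    obtain ⟨g, rfl⟩ := MulAction.exists_smul_eq G Q R
    exact (congrArg (fun k : G →* Perm (Sylow 7 G) => k g Q) hf).symm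
  obtain ⟨hinj, -⟩ := perm_rep hab act hact
  have hfaith : ∀ g : G, (∀ Q : Sylow 7 G, g • Q = Q) → g = 1 := fun g hg =>
    hinj (show act g = act 1 by rw [map_one]; exact Equiv.ext hg)
  -- a and the coordinate line
  obtain ⟨⟨a, haP⟩, ha⟩ := exists_prime_orderOf_dvd_card' 7 (show 7 ∣ Nat.card (P : Subgroup G) by rw [hP])
  rw [Subgroup.orderOf_mk] at ha
  have ha7 : a ^ 7 = 1 := ha ▸ pow_orderOf_eq_one a
  have haPfix : a • P = P := Sylow.smul_eq_iff_mem_normalizer.2 (Subgroup.le_normalizer haP)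
  have honly : ∀ Q : Sylow 7 G, a • Q = Q → Q = P := fun Q hQ => by
    have hz : IsPGroup 7 (Subgroup.zpowers a) :=
      IsPGroup.of_card (n := 1) (by rw [Nat.card_zpowers, ha, pow_one])
    have h1 := hz.inf_normalizer_sylow Q
    rw [inf_eq_left.2 (Subgroup.zpowers_le.2 (Sylow.smul_eq_iff_mem_normalizer.1 hQ))] at h1
    have haQ : a ∈ (Q : Subgroup G) := by
      have := Subgroup.mem_zpowers a
      rw [h1] at this
      exact this.2
    have hQc := (sylow_card_eq Q (m := 24) (by rw [h]) (by norm_num)).1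
    have e1 : Subgroup.zpowers a = (Q : Subgroup G) := Subgroup.eq_of_le_of_card_ge
      (Subgroup.zpowers_le.2 haQ) (by rw [Nat.card_zpowers, ha, hQc])
    have e2 : Subgroup.zpowers a = (P : Subgroup G) := Subgroup.eq_of_le_of_card_ge
      (Subgroup.zpowers_le.2 haP) (by rw [Nat.card_zpowers, ha, hP])
    exact Sylow.ext (e1.symm.trans e2)
  have hfree : ∀ Q, Q ≠ P → Function.Injective fun x : ZMod 7 => a ^ x.val • Q := by
    intro Q hQ x y hxy
    by_contra hne'
    refine hQ (honly Q ?_)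
    have h1 : a ^ (x - y).val • Q = Q := by
      have h2 : a ^ x.val = a ^ y.val * a ^ (x - y).val := by
        rw [← pow_add]
        exact pow_eq_of_pow_eq ha7 (by push_cast [ZMod.natCast_zmod_val]; ring)
      simp only [h2, mul_smul, smul_left_cancel_iff] at hxy
      exact hxy
    have hu : ∃ z : ZMod 7, (x - y) * z = 1 := ⟨(x - y)⁻¹, mul_inv_cancel₀ (sub_ne_zero.2 hne')⟩
    obtain ⟨z, hz⟩ := hu
    have h3 : ∀ k : ℕ, (a ^ (x - y).val) ^ k • Q = Q := fun k => by
      induction k with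
      | zero => rw [pow_zero, one_smul]
      | succ k ih => rw [pow_succ, mul_smul, h1, ih]
    have h4 := h3 z.val
    rwa [← pow_mul, pow_eq_of_pow_eq ha7 (j := 1) (by push_cast [ZMod.natCast_zmod_val]; exact hz), pow_one] at h4
  have hcover : ∀ Q, Q ≠ P → ∀ R, R ≠ P → ∃ x : ZMod 7, a ^ x.val • Q = R := by
    intro Q hQ R hR
    have hPow : ∀ k : ℕ, a ^ k • P = P := fun k => by
      induction k with
      | zero => rw [pow_zero, one_smul]
      | succ k ih => rw [pow_succ, mul_smul, haPfix, ih]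
    let o : Option (ZMod 7) → Sylow 7 G := fun x => x.elim P fun x => a ^ x.val • Q
    have ho : Function.Injective o := by
      rintro (_ | x) (_ | y) hxy
      · rfl
      · exact absurd (smul_left_cancel (a ^ y.val) ((hPow y.val).trans hxy)).symm hQ
      · exact absurd (smul_left_cancel (a ^ x.val) (hxy.trans (hPow x.val).symm)) hQ
      · exact congrArg some (hfree Q hQ hxy)
    have hb := (Nat.bijective_iff_injective_and_card o).2 ⟨ho, by rw [hn]; simp [Nat.card_eq_fintype_card]⟩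
    obtain ⟨_ | x, hx⟩ := hb.2 R
    · exact absurd hx.symm hR
    · exact ⟨x, hx⟩
  -- b
  set N := Subgroup.normalizer ((P : Subgroup G) : Set G)
  have hN : Nat.card N = 21 := by
    have h1 := N.card_mul_index
    rw [show N.index = Nat.card (Sylow 7 G) from (Sylow.card_eq_index_normalizer P).symm, hn, h] at h1
    omega
  obtain ⟨⟨b, hbN⟩, hb⟩ := exists_prime_orderOf_dvd_card' 3 (show 3 ∣ Nat.card N by rw [hN]; norm_num)
  rw [Subgroup.orderOf_mk] at hb
  have hPz : (P : Subgroup G) = Subgroup.zpowers a := (Subgroup.eq_of_le_of_card_ge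
    (Subgroup.zpowers_le.2 haP) (by rw [Nat.card_zpowers, ha, hP])).symm
  obtain ⟨r, hr⟩ : ∃ r : ZMod 7, b * a * b⁻¹ = a ^ r.val := by
    have := (Subgroup.mem_normalizer_iff.1 hbN a).1 haP
    rw [hPz, mem_powers_iff_mem_zpowers.symm, Submonoid.mem_powers_iff] at this
    obtain ⟨i, hi⟩ := this
    exact ⟨i, hi ▸ pow_eq_of_pow_eq ha7 (by push_cast [ZMod.natCast_zmod_val]; ring)⟩
  have hconjpow : ∀ k : ℕ, b * a ^ k * b⁻¹ = a ^ (r.val * k) := fun k => by rw [← conj_pow, hr, pow_mul]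
  have hbP : b • P = P := Sylow.smul_eq_iff_mem_normalizer.2 hbN
  have hr3 : r ^ 3 = 1 := by
    have e1 : a ^ (r.val * (r.val * r.val)) = a := by
      calc a ^ (r.val * (r.val * r.val)) = b * (b * (b * a * b⁻¹) * b⁻¹) * b⁻¹ := by
            rw [hr, hconjpow, hconjpow]
        _ = b ^ 3 * a * (b ^ 3)⁻¹ := by simp [pow_succ, mul_assoc]
        _ = a := by rw [← hb, pow_orderOf_eq_one]; group
    have e2 := (pow_eq_pow_iff_modEq.1 (e1.trans (pow_one a).symm))
    rw [ha, ← ZMod.natCast_eq_natCast_iff] at e2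
    push_cast [ZMod.natCast_zmod_val] at e2
    linear_combination e2
  obtain ⟨Q₀, hQ₀⟩ : ∃ Q : Sylow 7 G, Q ≠ P := by
    by_contra hc
    push Not at hc
    exact hn1 (Nat.card_eq_one_iff_unique.2 ⟨⟨fun Q R => (hc Q).trans (hc R).symm⟩, ⟨P⟩⟩)
  have hbne : ∀ Q, Q ≠ P → b • Q ≠ P := fun Q hQ hc => hQ (smul_left_cancel b (hc.trans hbP.symm))
  have hr1 : r ≠ 1 := by
    intro hr1
    have hcomm : b * a = a * b := by
      have e := pow_eq_of_pow_eq ha7 (i := r.val) (j := 1) (by push_cast [ZMod.natCast_zmod_val]; exact hr1)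
      rw [← hr, pow_one, mul_inv_eq_iff_eq_mul] at e
      exact e
    obtain ⟨j, hj⟩ := hcover Q₀ hQ₀ (b • Q₀) (hbne Q₀ hQ₀)
    have hPow : ∀ k : ℕ, a ^ k • P = P := fun k => by
      induction k with
      | zero => rw [pow_zero, one_smul]
      | succ k ih => rw [pow_succ, mul_smul, haPfix, ih]
    have hbj : b = a ^ j.val := by
      refine inv_mul_eq_one.1 (hfaith _ fun Q => ?_) |>.symm
      rw [mul_smul, inv_smul_eq_iff]
      by_cases hQ : Q = P
      · rw [hQ, hbP, hPow]
      · obtain ⟨x, rfl⟩ := hcover Q₀ hQ₀ Q hQ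
        have hc' : b * a ^ x.val = a ^ x.val * b := (Commute.pow_right hcomm x.val)
        rw [← mul_smul, hc', mul_smul, ← hj, ← mul_smul, ← mul_smul, ← pow_add, ← pow_add, add_comm]
    have h21 : orderOf b ∣ 7 := ha ▸ hbj ▸ orderOf_pow_dvd _
    rw [hb] at h21
    norm_num at h21
  obtain ⟨b, hb, hbN, hconj⟩ : ∃ b' : G, orderOf b' = 3 ∧ b' ∈ N ∧ b' * a * b'⁻¹ = a ^ 2 := by
    have hr24 : r = 2 ∨ r = 4 := (show ∀ t : ZMod 7, t ^ 3 = 1 → t ≠ 1 → t = 2 ∨ t = 4 by decide) r hr3 hr1
    rcases hr24 with hr' | hr'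
    · exact ⟨b, hb, hbN, hr.trans (pow_eq_of_pow_eq ha7 (by push_cast [ZMod.natCast_zmod_val]; exact hr'))⟩
    · refine ⟨b ^ 2, by rw [orderOf_pow b, hb]; norm_num, N.pow_mem hbN 2, ?_⟩
      calc b ^ 2 * a * (b ^ 2)⁻¹ = b * (b * a * b⁻¹) * b⁻¹ := by simp [pow_succ, mul_assoc]
        _ = a ^ (r.val * r.val) := by rw [hr, hconjpow]
        _ = a ^ 2 := pow_eq_of_pow_eq ha7 (by
          push_cast [ZMod.natCast_zmod_val]
          rw [hr']
          exact (show (4 : ZMod 7) * 4 = 2 by decide))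
  clear hr hr3 hr1 hconjpow hbne hbP
  have hbP : b • P = P := Sylow.smul_eq_iff_mem_normalizer.2 hbN
  have hba : ∀ k : ℕ, b * a ^ k = a ^ (2 * k) * b := fun k => by
    rw [pow_mul, ← hconj, conj_pow, inv_mul_cancel_right]
  have hb3 : b ^ 3 = 1 := hb ▸ pow_orderOf_eq_one b
  -- origin
  obtain ⟨O, hOP, hbO⟩ : ∃ O : Sylow 7 G, O ≠ P ∧ b • O = O := by
    have hne' : b • Q₀ ≠ P := fun hc => hQ₀ (smul_left_cancel b (hc.trans hbP.symm))
    obtain ⟨j, hj⟩ := hcover Q₀ hQ₀ (b • Q₀) hne'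
    have hPow : ∀ k : ℕ, a ^ k • P = P := fun k => by
      induction k with
      | zero => rw [pow_zero, one_smul]
      | succ k ih => rw [pow_succ, mul_smul, haPfix, ih]
    refine ⟨a ^ (-j).val • Q₀, fun hc => hQ₀ (smul_left_cancel (a ^ (-j).val) (hc.trans (hPow _).symm)), ?_⟩
    rw [← mul_smul, hba, mul_smul, ← hj, ← mul_smul, ← pow_add]
    exact congrArg (· • Q₀) (pow_eq_of_pow_eq ha7 (by push_cast [ZMod.natCast_zmod_val]; ring))
  let pt : ZMod 7 → Sylow 7 G := fun x => a ^ x.val • O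
  have hpt0 : pt 0 = O := by simp [pt]
  have hpta : ∀ x, a • pt x = pt (x + 1) := fun x => by
    show a • a ^ x.val • O = _
    rw [← mul_smul, ← pow_succ']
    exact congrArg (· • O) (pow_eq_of_pow_eq ha7 (by push_cast [ZMod.natCast_zmod_val]; ring))
  have hptb : ∀ x, b • pt x = pt (2 * x) := fun x => by
    show b • a ^ x.val • O = _
    rw [← mul_smul, hba, mul_smul, hbO]
    exact congrArg (· • O) (pow_eq_of_pow_eq ha7 (by push_cast [ZMod.natCast_zmod_val]; ring))
  have hptinj : Function.Injective pt := hfree O hOP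
  have hptP : ∀ x, pt x ≠ P := fun x hc => by
    have hPow : ∀ k : ℕ, a ^ k • P = P := fun k => by
      induction k with
      | zero => rw [pow_zero, one_smul]
      | succ k ih => rw [pow_succ, mul_smul, haPfix, ih]
    exact hOP (smul_left_cancel (a ^ x.val) (hc.trans (hPow _).symm))
  have hall : ∀ Q, Q = P ∨ ∃ x, pt x = Q := fun Q => by
    by_cases hQ : Q = P
    · exact Or.inl hQ
    · exact Or.inr (hcover O hOP Q hQ)
  have hbfix : ∀ Q, b • Q = Q → Q = P ∨ Q = O := fun Q hQ => by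
    rcases hall Q with hx | ⟨x, rfl⟩
    · exact Or.inl hx
    · rw [hptb] at hQ
      right
      rw [← hpt0]
      congr 1
      have := hptinj hQ
      linear_combination this
  -- stabilisers of P and O
  have hstab : ∀ g : G, g • P = P → g • O = O → g ^ 3 = 1 := fun g hgP hgO => by
    let S : Subgroup G := N ⊓ MulAction.stabilizer G O
    have hS : g ∈ S := ⟨Sylow.smul_eq_iff_mem_normalizer.1 hgP, hgO⟩
    have hd : Nat.card S ∣ 21 := hN ▸ Subgroup.card_dvd_of_le inf_le_left
    have h7 : ¬ 7 ∣ Nat.card S := fun h7 => by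
      obtain ⟨⟨z, hz⟩, hz7⟩ := exists_prime_orderOf_dvd_card' 7 h7
      rw [Subgroup.orderOf_mk] at hz7
      have hzp : IsPGroup 7 (Subgroup.zpowers z) :=
        IsPGroup.of_card (n := 1) (by rw [Nat.card_zpowers, hz7, pow_one])
      have h1 := hzp.inf_normalizer_sylow P
      rw [inf_eq_left.2 (show Subgroup.zpowers z ≤ Subgroup.normalizer (P : Set G) from
        Subgroup.zpowers_le.2 hz.1)] at h1
      have hzP : Subgroup.zpowers z = (P : Subgroup G) := Subgroup.eq_of_le_of_card_ge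
        (fun w hw => by rw [h1] at hw; exact hw.2) (by rw [Nat.card_zpowers, hz7, hP])
      have haz : a ∈ MulAction.stabilizer G O := by
        have : a ∈ Subgroup.zpowers z := hzP ▸ haP
        exact Subgroup.zpowers_le.2 hz.2 this
      exact hOP (honly O haz)
    have h3 : Nat.card S ∣ 3 :=
      (Nat.Coprime.dvd_mul_right (((by norm_num : Nat.Prime 7).coprime_iff_not_dvd.2 h7).symm)).1
        (by simpa using hd)
    have hord : orderOf g ∣ 3 := (S.orderOf_dvd_natCard hS).trans h3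
    exact orderOf_dvd_iff_pow_eq_one.1 hord
  -- u
  set B := Subgroup.zpowers b
  have hBc : Nat.card B = 3 := by rw [Nat.card_zpowers, hb]
  let SB : Sylow 3 G := Sylow.ofCard B (by
    rw [hBc, h, show (168 : ℕ) = 3 * 56 by norm_num,
      Nat.factorization_mul (by norm_num) (by norm_num)]
    simp [Nat.Prime.factorization_self (show Nat.Prime 3 by norm_num),
      Nat.factorization_eq_zero_of_not_dvd (show ¬ 3 ∣ 56 by norm_num)])
  have hSB : (SB : Subgroup G) = B := rfl
  have hnc : ¬ (Subgroup.normalizer (B : Set G) ≤ Subgroup.centralizer (B : Set G)) := by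
    intro hle
    have hc := MonoidHom.ker_transferSylow_isComplement' SB hle
    have hcm : Nat.card (MonoidHom.transferSylow SB hle).ker * Nat.card B = Nat.card G := hc.card_mul_card
    rw [hBc, h] at hcm
    rcases IsSimpleGroup.eq_bot_or_eq_top_of_normal (MonoidHom.transferSylow SB hle).ker
      inferInstance with hk | hk <;> rw [hk] at hcm <;> simp [h] at hcm
  obtain ⟨u, huN, huC⟩ := SetLike.not_le_iff_exists.1 hnc
  have hbinv : u * b * u⁻¹ = b⁻¹ := by
    have hmem := (Subgroup.mem_normalizer_iff.1 huN b).1 (Subgroup.mem_zpowers b)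
    rw [← mem_powers_iff_mem_zpowers, Submonoid.mem_powers_iff] at hmem
    obtain ⟨i, hi⟩ := hmem
    rw [← pow_mod_orderOf, hb] at hi
    have : i % 3 < 3 := Nat.mod_lt _ (by norm_num)
    interval_cases hi3 : i % 3
    · rw [pow_zero, eq_comm, conj_eq_one_iff] at hi
      rw [hi, orderOf_one] at hb
      norm_num at hb
    · rw [pow_one] at hi
      refine absurd (Subgroup.mem_centralizer_iff.2 fun z hz => ?_) huC
      obtain ⟨i, rfl⟩ := Subgroup.mem_zpowers_iff.1 hz
      exact ((show Commute b u from (mul_inv_eq_iff_eq_mul.1 hi.symm).symm).zpow_left i).eq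
    · rw [← hi]
      exact eq_inv_of_mul_eq_one_left (by rw [← pow_succ, hb3])
  have hu_map : ∀ Q : Sylow 7 G, b • Q = Q → b • (u • Q) = u • Q := fun Q hQ => by
    have e : b * u = u * b⁻¹ := by
      calc b * u = (u * b⁻¹ * u⁻¹) * u := by rw [← conj_inv, hbinv, inv_inv]
        _ = u * b⁻¹ := by group
    rw [← mul_smul, e, mul_smul, inv_smul_eq_iff.2 hQ.symm]
  have huP : u • P = O ∧ u • O = P := by
    rcases hbfix _ (hu_map P hbP) with h1 | h1
    · exfalso
      have h2 : u • O = O := by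
        rcases hbfix _ (hu_map O hbO) with h3 | h3
        · exact absurd (smul_left_cancel u (h3.trans h1.symm)) hOP
        · exact h3
      have hu3 := hstab u h1 h2
      have e1 : u ^ 3 * b * (u ^ 3)⁻¹ = b⁻¹ := by
        calc u ^ 3 * b * (u ^ 3)⁻¹ = u * (u * (u * b * u⁻¹) * u⁻¹) * u⁻¹ := by simp [pow_succ, mul_assoc]
          _ = b⁻¹ := by simp only [hbinv, ← conj_inv, inv_inv]
      rw [hu3, one_mul, inv_one, mul_one] at e1
      have : b ^ 2 = 1 := by rw [pow_two]; nth_rw 1 [e1]; exact inv_mul_cancel b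
      have hd := orderOf_dvd_of_pow_eq_one this
      rw [hb] at hd
      norm_num at hd
    · refine ⟨h1, ?_⟩
      rcases hbfix _ (hu_map O hbO) with h3 | h3
      · exact h3
      · exact absurd (smul_left_cancel u (h3.trans h1.symm)) hOP
  have hu2 : (u * u) • P = P ∧ (u * u) • O = O :=
    ⟨by rw [mul_smul, huP.1, huP.2], by rw [mul_smul, huP.2, huP.1]⟩
  obtain ⟨w, hw2, hwP, hwO, hwb⟩ : ∃ w : G, w * w = 1 ∧ w • P = O ∧ w • O = P ∧ w * b * w⁻¹ = b⁻¹ := by
    have h6 : (u * u) ^ 3 = 1 := hstab _ hu2.1 hu2.2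
    refine ⟨u ^ 3, by rw [← pow_add, ← h6, ← pow_two, ← pow_mul], ?_, ?_, ?_⟩
    · rw [pow_three, mul_smul, hu2.1, huP.1]
    · rw [pow_three, mul_smul, hu2.2, huP.2]
    · calc u ^ 3 * b * (u ^ 3)⁻¹ = u * (u * (u * b * u⁻¹) * u⁻¹) * u⁻¹ := by simp [pow_succ, mul_assoc]
        _ = b⁻¹ := by simp only [hbinv, ← conj_inv, inv_inv]
  have hwfix : ∀ Q : Sylow 7 G, w • Q ≠ Q := by
    intro Q hQ
    have hs : w ∈ MulAction.stabilizer G Q := hQ
    obtain ⟨g, hg⟩ := MulAction.exists_smul_eq G Q P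
    have h1 : g * w * g⁻¹ ∈ N := Sylow.smul_eq_iff_mem_normalizer.1 (by
      rw [mul_smul, mul_smul, ← hg, inv_smul_smul, hQ])
    have h2 : orderOf w = 2 := orderOf_eq_prime (by rw [pow_two, hw2]) fun hw1 => hOP (by rw [← hwP, hw1, one_smul])
    have h3 := N.orderOf_dvd_natCard h1
    rw [hN, show orderOf (g * w * g⁻¹) = orderOf w from
      ((MulAut.conj g).orderOf_eq w : orderOf ((MulAut.conj g) w) = orderOf w), h2] at h3
    norm_num at h3
  have hwpt : ∀ x, x ≠ 0 → ∃ y, y ≠ 0 ∧ pt y = w • pt x := fun x hx => by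
    rcases hall (w • pt x) with h1 | ⟨y, hy⟩
    · exact absurd (hptinj ((smul_left_cancel w (h1.trans hwO.symm)).trans hpt0.symm)) hx
    · refine ⟨y, fun hy0 => hptP x ?_, hy⟩
      rw [hy0, hpt0] at hy
      exact smul_left_cancel w (hy.symm.trans hwP.symm)
  choose φ hφ0 hφ using hwpt
  let φ' : ZMod 7 → ZMod 7 := fun x => if hx : x = 0 then 0 else φ x hx
  have hφ' : ∀ x, x ≠ 0 → w • pt x = pt (φ' x) ∧ φ' x ≠ 0 := fun x hx => by
    simp only [φ', dif_neg hx]
    exact ⟨(hφ x hx).symm, hφ0 x hx⟩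
  have hinv : ∀ x, x ≠ 0 → φ' (φ' x) = x := fun x hx => hptinj (by
    rw [← (hφ' _ (hφ' x hx).2).1, ← (hφ' x hx).1, ← mul_smul, hw2, one_smul])
  have hnofix : ∀ x, x ≠ 0 → φ' x ≠ x := fun x hx e => hwfix (pt x) (by rw [(hφ' x hx).1, e])
  have hhalf : ∀ x, x ≠ 0 → 2 * φ' (2 * x) = φ' x := fun x hx => by
    have h2x : 2 * x ≠ 0 := mul_ne_zero (by decide) hx
    refine hptinj ?_
    rw [← hptb, ← (hφ' _ h2x).1, ← (hφ' x hx).1, ← hptb, ← mul_smul, ← mul_smul]
    congr 1
    have e : w * b = b⁻¹ * w := by rw [← hwb, inv_mul_cancel_right]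
    rw [mul_assoc, e, mul_inv_cancel_left]
  obtain ⟨c, hc356, hc⟩ : ∃ c : ZMod 7, (c = 3 ∨ c = 5 ∨ c = 6) ∧ ∀ x, x ≠ 0 → x * φ' x = c := by
    have hB : ∀ c : ZMod 7, c ≠ 0 → c ≠ 1 → c ≠ 2 → c ≠ 4 → (c = 3 ∨ c = 5 ∨ c = 6) := by decide
    have e1 : φ' 2 = 4 * φ' 1 := by
      have := hhalf 1 (by decide)
      rw [mul_one] at this
      rw [← this, ← mul_assoc, show (4 : ZMod 7) * 2 = 1 by decide, one_mul]
    have e2 : φ' 4 = 2 * φ' 1 := by
      have := hhalf 2 (by decide)
      rw [show (2 : ZMod 7) * 2 = 4 by decide, e1] at this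
      calc φ' 4 = 4 * (2 * φ' 4) := by rw [← mul_assoc, show (4 : ZMod 7) * 2 = 1 by decide, one_mul]
        _ = _ := by rw [this, ← mul_assoc, show (4 : ZMod 7) * 4 = 2 by decide]
    have n1 := hnofix 1 (by decide)
    have i1 := hinv 1 (by decide)
    have i2 := hinv 2 (by decide)
    have i4 := hinv 4 (by decide)
    have hne0 := (hφ' 1 (by decide)).2
    rw [e1] at i2
    rw [e2] at i4
    have hc : φ' 1 ≠ 2 ∧ φ' 1 ≠ 4 := by
      constructor <;> intro e
      · refine hnofix 4 (by decide) ?_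
        rw [e2, e]
        decide
      · refine hnofix 2 (by decide) ?_
        rw [e1, e]
        decide
    refine ⟨φ' 1, hB _ hne0 n1 hc.1 hc.2, ?_⟩
    have hcases : ∀ x : ZMod 7, x ≠ 0 → x = 1 ∨ x = 2 ∨ x = 4 ∨ x = φ' 1 ∨ x = 4 * φ' 1 ∨ x = 2 * φ' 1 := by
      rcases hB _ hne0 n1 hc.1 hc.2 with e | e | e <;> rw [e] <;> decide
    intro x hx
    rcases hcases x hx with rfl | rfl | rfl | rfl | rfl | rfl
    · rw [one_mul]
    · rw [e1, ← mul_assoc, show (2 : ZMod 7) * 4 = 1 by decide, one_mul]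
    · rw [e2, ← mul_assoc, show (4 : ZMod 7) * 2 = 1 by decide, one_mul]
    · rw [i1, mul_one]
    · rw [i2, mul_comm 4, mul_assoc, show (4 : ZMod 7) * 2 = 1 by decide, mul_one]
    · rw [i4, mul_comm 2, mul_assoc, show (2 : ZMod 7) * 4 = 1 by decide, mul_one]
  -- transport to the projective line
  let π := MulAction.toPermHom (SpecialLinearGroup (Fin 2) (ZMod 7)) (ℙ (ZMod 7) (Fin 2 → ZMod 7))
  let v : Option (ZMod 7) → (Fin 2 → ZMod 7) := fun o => o.elim ![1, 0] fun x => ![x, 1]
  have hv : ∀ o, v o ≠ 0 := by decide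
  let ψ : Option (ZMod 7) → ℙ (ZMod 7) (Fin 2 → ZMod 7) := fun o => Projectivization.mk (ZMod 7) (v o) (hv o)
  have hψinj : Function.Injective ψ := fun o o' e => by
    obtain ⟨k, hk⟩ := (Projectivization.mk_eq_mk_iff' (ZMod 7) _ _ (hv o) (hv o')).1 e
    have := (show ∀ (o o' : Option (ZMod 7)) (k : ZMod 7), k • v o' = v o → o = o' by decide) o o' k hk
    exact this
  have hψ : Function.Bijective ψ := by
    refine (Nat.bijective_iff_injective_and_card ψ).2 ⟨hψinj, ?_⟩
    rw [Projectivization.card_of_finrank_two _ _ (Module.finrank_fin_fun _), Nat.card_zmod,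
      Nat.card_eq_fintype_card]
    rfl
  let χ : Option (ZMod 7) → Sylow 7 G := fun o => o.elim P pt
  have hχ : Function.Bijective χ := by
    refine ⟨?_, fun Q => ?_⟩
    · rintro (_ | x) (_ | y) e
      · rfl
      · exact absurd e.symm (hptP y)
      · exact absurd e (hptP x)
      · exact congrArg some (hptinj e)
    · rcases hall Q with rfl | ⟨x, rfl⟩
      · exact ⟨none, rfl⟩
      · exact ⟨some x, rfl⟩
  let e : Sylow 7 G ≃ ℙ (ZMod 7) (Fin 2 → ZMod 7) :=
    (Equiv.ofBijective χ hχ).symm.trans (Equiv.ofBijective ψ hψ)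
  have he : ∀ o, e (χ o) = ψ o := fun o => by
    simp only [e, Equiv.trans_apply, Equiv.ofBijective_symm_apply_apply, Equiv.ofBijective_apply]
  have key : ∀ (g : G) (M : SpecialLinearGroup (Fin 2) (ZMod 7)),
      (∀ o, ∃ o', g • χ o = χ o' ∧ ∃ k : ZMod 7, k • v o' = M.1 *ᵥ v o) →
      e.permCongrHom (act g) ∈ π.range := fun g M hM => by
    refine ⟨M, Equiv.ext fun p => ?_⟩
    obtain ⟨o, rfl⟩ := hψ.2 p
    obtain ⟨o', h1, h2⟩ := hM o
    show M • ψ o = e (g • e.symm (ψ o))
    rw [← he o, e.symm_apply_apply, h1, he, he]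
    exact (Projectivization.mk_eq_mk_iff' (ZMod 7) _ _ _ (hv o')).2 h2
  let T : Subgroup G := Subgroup.comap (e.permCongrHom.toMonoidHom.comp act) π.range
  have haT : a ∈ T := key a ⟨!![1, 1; 0, 1], by decide⟩ fun o => ⟨o.map (· + 1), by
    rcases o with _ | x
    · exact haPfix
    · exact hpta x, (show ∀ o : Option (ZMod 7), ∃ k : ZMod 7,
        k • v (o.map (· + 1)) = (!![1, 1; 0, 1] : Matrix (Fin 2) (Fin 2) (ZMod 7)) *ᵥ v o by decide) o⟩
  have hbT : b ∈ T := key b ⟨!![4, 0; 0, 2], by decide⟩ fun o => ⟨o.map (2 * ·), by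
    rcases o with _ | x
    · exact hbP
    · exact hptb x, (show ∀ o : Option (ZMod 7), ∃ k : ZMod 7,
        k • v (o.map (2 * ·)) = (!![4, 0; 0, 2] : Matrix (Fin 2) (Fin 2) (ZMod 7)) *ᵥ v o by decide) o⟩
  have hwT : w ∈ T := by
    have hsol : ∃ s t : ZMod 7, s * t = -1 ∧ s = c * t := by
      rcases hc356 with rfl | rfl | rfl
      exacts [⟨2, 3, by decide⟩, ⟨3, 2, by decide⟩, ⟨1, 6, by decide⟩]
    obtain ⟨s, t, hst, hsc⟩ := hsol
    have hs0 : s ≠ 0 ∧ t ≠ 0 := by
      constructor <;> rintro rfl <;> simp at hst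
    refine key w ⟨!![0, s; t, 0], by rw [Matrix.det_fin_two_of, hst]; decide⟩ fun o => ?_
    rcases o with _ | x
    · refine ⟨some 0, hwP.trans hpt0.symm, t, ?_⟩
      ext i; fin_cases i <;> simp [v, Matrix.mulVec, dotProduct]
    · rcases eq_or_ne x 0 with rfl | hx
      · refine ⟨none, (congrArg (w • ·) hpt0).trans hwO, s, ?_⟩
        ext i; fin_cases i <;> simp [v, Matrix.mulVec, dotProduct]
      · refine ⟨some (φ' x), (hφ' x hx).1, t * x, ?_⟩
        ext i; fin_cases i <;> simp [v, Matrix.mulVec, dotProduct]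
        rw [mul_assoc, hc x hx, mul_comm, hsc]
  have hNT : N ≤ T := by
    have haN : a ∈ N := Subgroup.le_normalizer haP
    let K : Subgroup G := Subgroup.closure {a, b}
    have hK : K ≤ N := (Subgroup.closure_le _).2 (by
      rintro _ (rfl | rfl)
      exacts [haN, hbN])
    have h7 : 7 ∣ Nat.card K := ha ▸ K.orderOf_dvd_natCard (Subgroup.subset_closure (Or.inl rfl))
    have h3 : 3 ∣ Nat.card K := hb ▸ K.orderOf_dvd_natCard (Subgroup.subset_closure (Or.inr rfl))
    have h21 : 21 ∣ Nat.card K := Nat.Coprime.mul_dvd_of_dvd_of_dvd (by norm_num) h7 h3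
    rw [← Subgroup.eq_of_le_of_card_ge hK (by rw [hN]; exact Nat.le_of_dvd Nat.card_pos h21)]
    exact (Subgroup.closure_le _).2 (by
      rintro _ (rfl | rfl)
      exacts [haT, hbT])
  have hT : T = ⊤ := by
    have hd1 : 21 ∣ Nat.card T := hN ▸ Subgroup.card_dvd_of_le hNT
    have hd2 : 2 ∣ Nat.card T := by
      have hwo : orderOf w = 2 := orderOf_eq_prime (by rw [pow_two, hw2]) fun hw1 =>
        hOP (by rw [← hwP, hw1, one_smul])
      exact hwo ▸ T.orderOf_dvd_natCard hwT
    have hd : 42 ∣ Nat.card T := Nat.Coprime.mul_dvd_of_dvd_of_dvd (by norm_num : Nat.Coprime 21 2) hd1 hd2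
    have hmul := T.card_mul_index
    rw [h] at hmul
    have hi4 : T.index ≤ 4 := by
      obtain ⟨k, hk⟩ := hd
      rw [hk] at hmul
      rcases k with _ | k
      · simp at hmul
      · nlinarith
    by_contra htop
    have hne' : MulAction.toPermHom G (G ⧸ T) ≠ 1 := fun he1 => htop (eq_top_iff.2 fun g _ => by
      have := congrArg (fun k : G →* Perm (G ⧸ T) => k g ((1 : G) : G ⧸ T)) he1
      change ((g * 1 : G) : G ⧸ T) = ((1 : G) : G ⧸ T) at this
      rwa [mul_one, QuotientGroup.eq, mul_one, inv_mem_iff] at this)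
    have : Fintype (G ⧸ T) := Fintype.ofFinite _
    have h' := Nat.card_le_card_of_injective _ (perm_rep hab _ hne').1
    rw [h, Nat.card_perm, ← Subgroup.index_eq_card] at h'
    have := Nat.factorial_le hi4
    simp [Nat.factorial] at this
    omega
  -- conclusion
  let f : G →* Perm (ℙ (ZMod 7) (Fin 2 → ZMod 7)) := e.permCongrHom.toMonoidHom.comp act
  have hf : Function.Injective f := e.permCongrHom.injective.comp hinj
  have hfr : f.range ≤ π.range := by
    rintro _ ⟨g, rfl⟩
    exact (hT ▸ Subgroup.mem_top g : g ∈ T)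
  have hker : π.ker = Subgroup.center (SpecialLinearGroup (Fin 2) (ZMod 7)) := by
    refine le_antisymm (fun g hg => ker_pslPerm hg) fun g hg => ?_
    rw [MonoidHom.mem_ker]
    refine Equiv.ext fun p => ?_
    show g • p = p
    obtain ⟨o, rfl⟩ := hψ.2 p
    obtain ⟨r, hr, hgr⟩ := Matrix.SpecialLinearGroup.mem_center_iff.1 hg
    refine (Projectivization.mk_eq_mk_iff' (ZMod 7) _ _ _ (hv o)).2 ⟨r, ?_⟩
    show r • v o = g.1 *ᵥ v o
    rw [← hgr]
    simp [Matrix.scalar_apply, Matrix.mulVec_diagonal, funext_iff]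
  let E : ProjectiveSpecialLinearGroup (Fin 2) (ZMod 7) ≃* π.range :=
    (QuotientGroup.quotientMulEquivOfEq hker.symm).trans (QuotientGroup.quotientKerEquivRange π)
  have hcard : Nat.card (ProjectiveSpecialLinearGroup (Fin 2) (ZMod 7)) = 168 := by
    have h1 := card_psl_mul (ι := Fin 2) (F := ZMod 7)
    rw [Classical.card_sl2, ZMod.card, Fintype.card_fin] at h1
    rw [show Nat.gcd 2 (7 - 1) = 2 from rfl, show 7 * (7 ^ 2 - 1) = 336 from rfl] at h1
    omega
  have heq : f.range = π.range := Subgroup.eq_of_le_of_card_ge hfr (by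
    rw [← Nat.card_congr E.toEquiv, hcard, Nat.card_congr (MonoidHom.ofInjective hf).symm.toEquiv, h])
  exact ⟨(MonoidHom.ofInjective hf).trans ((MulEquiv.subgroupCongr heq).trans E.symm)⟩

omit [Finite G] in
theorem psl_congr {F K : Type*} [Field F] [Field K] {n : ℕ} (σ : F ≃+* K) :
    Nonempty (ProjectiveSpecialLinearGroup (Fin n) F ≃* ProjectiveSpecialLinearGroup (Fin n) K) := by
  let φ : SpecialLinearGroup (Fin n) F ≃* SpecialLinearGroup (Fin n) K :=
    { toFun := SpecialLinearGroup.map σ.toRingHom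
      invFun := SpecialLinearGroup.map σ.symm.toRingHom
      left_inv := fun g => Matrix.SpecialLinearGroup.ext _ _ fun i j => by simp
      right_inv := fun g => Matrix.SpecialLinearGroup.ext _ _ fun i j => by simp
      map_mul' := map_mul _ }
  refine ⟨QuotientGroup.congr _ _ φ ?_⟩
  ext x
  constructor
  · rintro ⟨g, hg, rfl⟩
    refine Subgroup.mem_center_iff.2 fun y => ?_
    obtain ⟨y, rfl⟩ := φ.surjective y
    exact (map_mul φ y g).symm.trans ((congrArg φ (Subgroup.mem_center_iff.1 hg y)).trans (map_mul φ g y))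
  · intro hx
    refine ⟨φ.symm x, Subgroup.mem_center_iff.2 fun y => φ.injective ?_, φ.apply_symm_apply x⟩
    rw [map_mul, map_mul, φ.apply_symm_apply]
    exact Subgroup.mem_center_iff.1 hx _

end Cfsg.Agent.Classical.Small
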