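import Mathlib
import Cfsg.Agent.Classical.SmallSimple

/-!
Small projective special linear groups.
-/

set_option autoImplicit false

namespace Cfsg.Agent.Classical.Small

open Matrix

theorem exists_sq_ne_one {F : Type*} [Field F] [Fintype F] (h : 4 ≤ Fintype.card F) :
    ∃ x : F, x ≠ 0 ∧ x ^ 2 ≠ 1 := by
  obtain ⟨g, hg⟩ := IsCyclic.exists_generator (α := Fˣ)
  refine ⟨g, g.ne_zero, fun h2 => ?_⟩
  have h3 : g ^ 2 = 1 := Units.ext (by rw [Units.val_pow_eq_pow_val, h2, Units.val_one])
  have h4 := orderOf_le_of_pow_eq_one (by norm_num) h3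
  rw [orderOf_eq_card_of_forall_mem_zpowers hg, Nat.card_units, Nat.card_eq_fintype_card] at h4
  omega

theorem psl_two_sixty {F : Type*} [Field F] [Fintype F] (hF : Fintype.card F = 4 ∨ Fintype.card F = 5) :
    Nonempty (ProjectiveSpecialLinearGroup (Fin 2) F ≃* alternatingGroup (Fin 5)) := by
  classical
  have := isSimpleGroup_psl (ι := Fin 2) (F := F)
    (Or.inr ⟨by simp, exists_sq_ne_one (by rcases hF with h | h <;> omega)⟩)
  refine simple_sixty ?_
  have h1 := card_psl_mul (ι := Fin 2) (F := F)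
  rw [Classical.card_sl2, Fintype.card_fin] at h1
  rcases hF with h | h <;> rw [h] at h1
  · rw [show Nat.gcd 2 (4 - 1) = 1 from rfl, show 4 * (4 ^ 2 - 1) = 60 from rfl] at h1
    omega
  · rw [show Nat.gcd 2 (5 - 1) = 2 from rfl, show 5 * (5 ^ 2 - 1) = 120 from rfl] at h1
    omega

theorem simple_168_psl {G : Type*} [Group G] [Finite G] [IsSimpleGroup G] (h : Nat.card G = 168) {F : Type*}
    [Field F] [Fintype F] (hF : Fintype.card F = 7) : Nonempty (G ≃* ProjectiveSpecialLinearGroup (Fin 2) F) := by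
  obtain ⟨e⟩ := simple_168 h
  obtain ⟨e'⟩ := psl_congr (n := 2) (ZMod.ringEquivOfPrime F (by norm_num) hF)
  exact ⟨e.trans e'⟩

theorem psl_seven_three {F K : Type*} [Field F] [Fintype F] [Field K] [Fintype K] (hF : Fintype.card F = 7)
    (hK : Fintype.card K = 2) :
    Nonempty (ProjectiveSpecialLinearGroup (Fin 2) F ≃* ProjectiveSpecialLinearGroup (Fin 3) K) := by
  classical
  have := isSimpleGroup_psl (ι := Fin 3) (F := K) (Or.inl (by simp))
  have hc : Nat.card (ProjectiveSpecialLinearGroup (Fin 3) K) = 168 := by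
    have h1 := card_psl_mul (ι := Fin 3) (F := K)
    have h2 := card_sl_mul hK 3 (by norm_num)
    rw [Fintype.card_fin, hK, show Nat.gcd 3 (2 - 1) = 1 from rfl, one_mul] at h1
    rw [show (∏ i : Fin 3, (2 ^ 3 - 2 ^ (i : ℕ))) = 168 from by decide, show 2 - 1 = 1 from rfl, one_mul] at h2
    omega
  obtain ⟨e⟩ := simple_168_psl hc hF
  exact ⟨e.symm⟩

end Cfsg.Agent.Classical.Small
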