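import Mathlib

/-!
Non-degenerate Hermitian forms over a finite field with an automorphism of order two: the fixed field, trace and
norm, orthonormal bases, isotropic partners and Witt's lemma.

The form is semilinear in the first argument and linear in the second.
-/

set_option autoImplicit false

namespace Cfsg.Agent.Classical.Herm

open Module

section Field

variable {F : Type*} [Field F] {σ : F →+* F}

/-- σ is a ring endomorphism of order two. -/
structure IsInvol (σ : F →+* F) : Prop where
  ne_id : σ ≠ RingHom.id F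
  invol : ∀ a, σ (σ a) = a

/-- The fixed subfield of σ. -/
def fixField (σ : F →+* F) : Subfield F := RingHom.eqLocusField σ (RingHom.id F)

theorem mem_fixField {a : F} : a ∈ fixField σ ↔ σ a = a := Iff.rfl

variable (h : IsInvol σ)
include h

theorem exists_moved : ∃ b, σ b ≠ b := by
  by_contra hc
  push Not at hc
  exact h.ne_id (RingHom.ext hc)

theorem exists_skew : ∃ k : F, k ≠ 0 ∧ σ k = -k := by
  obtain ⟨b, hb⟩ := exists_moved h
  exact ⟨b - σ b, sub_ne_zero.2 (Ne.symm hb), by rw [map_sub, h.invol, neg_sub]⟩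

theorem exists_trace {a : F} (ha : σ a = a) : ∃ c, c + σ c = a := by
  have : ∃ c, c + σ c ≠ 0 := by
    by_contra hc
    push Not at hc
    obtain ⟨b, hb⟩ := exists_moved h
    have h2 : (2 : F) = 0 := by
      have := hc 1
      rw [map_one] at this
      linear_combination this
    exact hb (by linear_combination hc b - b * h2)
  obtain ⟨c, hc⟩ := this
  have hfix : σ (c + σ c) = c + σ c := by rw [map_add, h.invol, add_comm]
  refine ⟨a / (c + σ c) * c, ?_⟩
  rw [map_mul, map_div₀, ha, hfix, ← mul_add, div_mul_cancel₀ _ hc]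

theorem exists_antitrace {k : F} (hk : σ k = -k) : ∃ μ, σ μ - μ = k := by
  obtain ⟨b, hb⟩ := exists_moved h
  have hd : σ b - b ≠ 0 := sub_ne_zero.2 hb
  refine ⟨k / (σ b - b) * b, ?_⟩
  rw [map_mul, map_div₀, hk, map_sub, h.invol, show -k / (b - σ b) = k / (σ b - b) by
    rw [← neg_sub (σ b) b, neg_div_neg_eq], ← mul_sub, div_mul_cancel₀ _ hd]

theorem exists_conj_quot {y : F} (hy : y * σ y = 1) : ∃ z : F, z ≠ 0 ∧ z / σ z = y := by
  by_cases h1 : y = -1
  · obtain ⟨k, hk0, hk⟩ := exists_skew h
    exact ⟨k, hk0, by rw [hk, h1, div_neg, div_self hk0]⟩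
  · have h2 : 1 + y ≠ 0 := fun h0 => h1 (by linear_combination h0)
    refine ⟨1 + y, h2, ?_⟩
    rw [div_eq_iff ((map_ne_zero σ).2 h2), map_add, map_one, mul_add, mul_one, hy, add_comm]

theorem card_eq_fix_sq : Nat.card F = Nat.card (fixField σ) ^ 2 := by
  obtain ⟨b, hb⟩ := exists_moved h
  have hd : σ b - b ≠ 0 := sub_ne_zero.2 hb
  let e : fixField σ × fixField σ ≃ F := Equiv.ofBijective (fun p => (p.1 : F) + (p.2 : F) * b) ⟨by
    intro p p' he
    simp only at he
    have he' := congrArg σ he
    simp only [map_add, map_mul, mem_fixField.1 p.1.2, mem_fixField.1 p.2.2, mem_fixField.1 p'.1.2,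
      mem_fixField.1 p'.2.2] at he'
    have h2 : (p.2 : F) = p'.2 := mul_right_cancel₀ hd (by linear_combination he' - he)
    have h1 : (p.1 : F) = p'.1 := by linear_combination he - b * h2
    exact Prod.ext (Subtype.ext h1) (Subtype.ext h2), fun x => by
    have hs : σ ((σ x - x) / (σ b - b)) = (σ x - x) / (σ b - b) := by
      rw [map_div₀, map_sub, map_sub, h.invol, h.invol, ← neg_sub (σ x) x, ← neg_sub (σ b) b, neg_div_neg_eq]
    refine ⟨(⟨x - (σ x - x) / (σ b - b) * b, ?_⟩, ⟨_, hs⟩), sub_add_cancel _ _⟩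
    rw [mem_fixField, map_sub, map_mul, hs]
    field_simp
    ring⟩
  rw [← Nat.card_congr e, Nat.card_prod, sq]

omit h in
/-- The norm map on units. -/
def normHom (σ : F →+* F) : Fˣ →* Fˣ := MonoidHom.id Fˣ * Units.map σ.toMonoidHom

omit h in
theorem normHom_coe (x : Fˣ) : (normHom σ x : F) = x * σ x := rfl

theorem card_ker_normHom [Finite F] :
    Nat.card (normHom σ).ker = Nat.card (fixField σ) + 1 := by
  let g : Fˣ →* Fˣ := MonoidHom.id Fˣ * (Units.map σ.toMonoidHom)⁻¹
  have hg : ∀ x : Fˣ, (g x : F) = x / σ x := fun x => by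
    change (x : F) * ((Units.map σ.toMonoidHom x)⁻¹ : Fˣ) = _
    rw [Units.val_inv_eq_inv_val, div_eq_mul_inv]
    rfl
  have hrange : g.range = (normHom σ).ker := by
    ext y
    constructor
    · rintro ⟨x, rfl⟩
      refine Units.ext ?_
      rw [normHom_coe, hg, map_div₀, h.invol, div_mul_div_comm, mul_comm (σ (x : F)), Units.val_one,
        div_self (mul_ne_zero x.ne_zero ((map_ne_zero σ).2 x.ne_zero))]
    · intro hy
      have hy' : (y : F) * σ y = 1 := congrArg Units.val hy
      obtain ⟨z, hz0, hz⟩ := exists_conj_quot h hy'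
      exact ⟨Units.mk0 z hz0, Units.ext (by rw [hg]; exact hz)⟩
  have hker : Nat.card g.ker = Nat.card (fixField σ)ˣ := by
    refine Nat.card_congr ⟨fun x => Units.mk0 ⟨(x.1 : F), ?_⟩ ?_, fun y => ⟨Units.map (fixField σ).subtype.toMonoidHom y, ?_⟩, ?_, ?_⟩
    · have := congrArg Units.val (x.2 : g x.1 = 1)
      rw [hg, Units.val_one, div_eq_iff ((map_ne_zero σ).2 x.1.ne_zero), one_mul] at this
      exact this.symm
    · intro h0
      exact x.1.ne_zero (congrArg Subtype.val h0)
    · refine Units.ext ?_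
      rw [hg]
      have hf : σ ((y : fixField σ) : F) = ((y : fixField σ) : F) := (y : fixField σ).2
      change ((y : fixField σ) : F) / σ ((y : fixField σ) : F) = 1
      rw [hf, div_self]
      exact fun h0 => y.ne_zero (Subtype.ext h0)
    · intro x; exact Subtype.ext (Units.ext rfl)
    · intro y; exact Units.ext (Subtype.ext rfl)
  have h1 := g.ker.index_mul_card
  rw [Subgroup.index_ker, hrange, hker, Nat.card_units, Nat.card_units, card_eq_fix_sq h] at h1
  have hq : 1 < Nat.card (fixField σ) := Finite.one_lt_card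
  obtain ⟨m, hm⟩ : ∃ m, Nat.card (fixField σ) = m + 2 := ⟨Nat.card (fixField σ) - 2, by omega⟩
  rw [hm] at h1 ⊢
  rw [show (m + 2) ^ 2 - 1 = (m + 2 + 1) * (m + 2 - 1) by rw [← Nat.sq_sub_sq, one_pow]] at h1
  exact Nat.eq_of_mul_eq_mul_right (by omega) h1

/-- The norm is onto the fixed field. -/
theorem exists_norm [Finite F] {a : F} (ha : σ a = a) : ∃ c, c * σ c = a := by
  by_cases h0 : a = 0
  · exact ⟨0, by simp [h0]⟩
  let S : Subgroup Fˣ :=
    { carrier := {x | σ (x : F) = x}
      mul_mem' := fun {x y} hx hy => by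
        simp only [Set.mem_ofPred_eq] at hx hy ⊢
        rw [Units.val_mul, map_mul, hx, hy]
      one_mem' := map_one σ
      inv_mem' := fun {x} hx => by
        simp only [Set.mem_ofPred_eq] at hx ⊢
        rw [Units.val_inv_eq_inv_val, map_inv₀, hx] }
  have hle : (normHom σ).range ≤ S := by
    rintro _ ⟨x, rfl⟩
    change σ (normHom σ x : F) = _
    rw [normHom_coe, map_mul, h.invol, mul_comm]
  have hS : Nat.card S = Nat.card (fixField σ)ˣ := by
    refine Nat.card_congr ⟨fun x => Units.mk0 ⟨(x.1 : F), x.2⟩ (fun h0 => x.1.ne_zero (congrArg Subtype.val h0)),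
      fun y => ⟨Units.map (fixField σ).subtype.toMonoidHom y, (y : fixField σ).2⟩, fun x => Subtype.ext (Units.ext rfl),
      fun y => Units.ext (Subtype.ext rfl)⟩
  have h1 := (normHom σ).ker.index_mul_card
  rw [Subgroup.index_ker, card_ker_normHom h, Nat.card_units, card_eq_fix_sq h] at h1
  have hq : 1 < Nat.card (fixField σ) := Finite.one_lt_card
  have hr : Nat.card (normHom σ).range = Nat.card (fixField σ) - 1 := by
    refine Nat.eq_of_mul_eq_mul_right (show 0 < Nat.card (fixField σ) + 1 by omega) (h1.trans ?_)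
    rw [mul_comm, ← Nat.sq_sub_sq, one_pow]
  have heq := Subgroup.eq_of_le_of_card_ge hle (by rw [hS, Nat.card_units, hr])
  obtain ⟨c, hc⟩ : Units.mk0 a h0 ∈ (normHom σ).range := by rw [heq]; exact ha
  exact ⟨c, congrArg Units.val hc⟩

end Field

section Form

variable {F V : Type*} [Field F] [AddCommGroup V] [Module F V] {σ : F →+* F} {B : V →ₛₗ[σ] V →ₗ[F] F}

/-- A non-degenerate Hermitian form. -/
structure IsHerm (B : V →ₛₗ[σ] V →ₗ[F] F) : Prop extends IsInvol σ where
  symm : ∀ x y, σ (B x y) = B y x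
  nondeg : ∀ x, (∀ y, B x y = 0) → x = 0

/-- An orthonormal family. -/
def IsON (B : V →ₛₗ[σ] V →ₗ[F] F) {k : ℕ} (a : Fin k → V) : Prop :=
  ∀ i j, B (a i) (a j) = if i = j then 1 else 0

variable (h : IsHerm B)
include h

theorem fix_self (x : V) : σ (B x x) = B x x := h.symm x x

theorem eq_zero_comm {x y : V} : B x y = 0 ↔ B y x = 0 :=
  ⟨fun e => by rw [← h.symm, e, map_zero], fun e => by rw [← h.symm, e, map_zero]⟩

theorem smul_self (c : F) (x : V) : B (c • x) (c • x) = c * σ c * B x x := by
  simp only [map_smulₛₗ, LinearMap.smul_apply, smul_eq_mul, RingHom.id_apply]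
  ring

theorem exists_anisotropic (P : Submodule F V) (hP : ∃ u ∈ P, ∃ w ∈ P, B u w ≠ 0) :
    ∃ v ∈ P, B v v ≠ 0 := by
  by_contra hc
  push Not at hc
  obtain ⟨u, hu, w, hw, hne⟩ := hP
  have hsk : ∀ x ∈ P, ∀ y ∈ P, B x y + B y x = 0 := fun x hx y hy => by
    have := hc (x + y) (P.add_mem hx hy)
    simp only [map_add, LinearMap.add_apply, hc x hx, hc y hy] at this
    linear_combination this
  refine h.ne_id (RingHom.ext fun a => ?_)
  have h1 := hsk u hu w hw
  have h2 := hsk u hu (a • w) (P.smul_mem a hw)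
  simp only [map_smulₛₗ, LinearMap.smul_apply, smul_eq_mul, RingHom.id_apply] at h2
  refine mul_right_cancel₀ hne ?_
  rw [RingHom.id_apply]
  linear_combination σ a * h1 - h2

variable [Finite F]

theorem exists_unit_of_ne_zero {v : V} (hv : B v v ≠ 0) : ∃ c : F, B (c • v) (c • v) = 1 := by
  obtain ⟨c, hc⟩ := exists_norm h.toIsInvol (a := (B v v)⁻¹) (by rw [map_inv₀, fix_self h])
  exact ⟨c, by rw [smul_self h, hc, inv_mul_cancel₀ hv]⟩

variable [FiniteDimensional F V]

theorem exists_repr (f : V →ₗ[F] F) : ∃ v, ∀ x, B v x = f x := by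
  have : Finite V := Module.finite_of_finite F
  have hinj : Function.Injective B := fun a b hab =>
    sub_eq_zero.1 (h.nondeg _ fun y => by rw [map_sub, hab, sub_self]; rfl)
  have : Finite (V →ₗ[F] F) := Finite.of_injective _ DFunLike.coe_injective
  have hcard : Nat.card V = Nat.card (V →ₗ[F] F) :=
    Nat.card_congr (LinearEquiv.ofFinrankEq V (Module.Dual F V) Subspace.dual_finrank_eq.symm).toEquiv
  obtain ⟨v, hv⟩ := ((Nat.bijective_iff_injective_and_card _).2 ⟨hinj, hcard⟩).2 f
  exact ⟨v, fun x => by rw [hv]⟩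

omit [Finite F] in
theorem IsON.linearIndependent {k : ℕ} {a : Fin k → V} (ha : IsON B a) : LinearIndependent F a := by
  rw [Fintype.linearIndependent_iff]
  intro g hg i
  have := congrArg (B (a i)) hg
  simpa [map_sum, ha i] using this

omit [Finite F] in
theorem IsON.length_le {k : ℕ} {a : Fin k → V} (ha : IsON B a) : k ≤ finrank F V := by
  simpa using (ha.linearIndependent h).fintype_card_le_finrank

/-- An orthonormal family shorter than the dimension can be extended. -/
theorem exists_snoc {k : ℕ} {a : Fin k → V} (ha : IsON B a) (hk : k < finrank F V) :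
    ∃ v, IsON B (Fin.snoc a v : Fin (k + 1) → V) := by
  classical
  let P : Submodule F V := ⨅ i, LinearMap.ker (B (a i))
  have hmem : ∀ x, x ∈ P ↔ ∀ i, B (a i) x = 0 := fun x => by simp [P]
  let r : V → V := fun x => x - ∑ i, B (a i) x • a i
  have hr : ∀ x, r x ∈ P := fun x => (hmem _).2 fun j => by
    simp [r, map_sum, ha j]
  obtain ⟨x, hx⟩ : ∃ x, r x ≠ 0 := by
    by_contra hc
    push Not at hc
    have hspan : Submodule.span F (Set.range a) = ⊤ := Submodule.eq_top_iff'.2 fun x => by
      rw [show x = ∑ i, B (a i) x • a i from sub_eq_zero.1 (hc x)]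
      exact Submodule.sum_mem _ fun i _ => Submodule.smul_mem _ _ (Submodule.subset_span ⟨i, rfl⟩)
    have := finrank_span_eq_card (ha.linearIndependent h)
    rw [hspan, finrank_top, Fintype.card_fin] at this
    omega
  obtain ⟨y, hy⟩ : ∃ y, B (r x) (r y) ≠ 0 := by
    by_contra hc
    push Not at hc
    refine hx (h.nondeg _ fun y => ?_)
    have h0 : ∀ i, B (r x) (a i) = 0 := fun i => (eq_zero_comm h).1 ((hmem _).1 (hr x) i)
    rw [show y = r y + ∑ i, B (a i) y • a i from (sub_add_cancel _ _).symm, map_add, hc y, zero_add, map_sum]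
    exact Finset.sum_eq_zero fun i _ => by rw [map_smul, h0 i, smul_zero]
  obtain ⟨v, hvP, hv⟩ := exists_anisotropic h P ⟨_, hr x, _, hr y, hy⟩
  obtain ⟨c, hc⟩ := exists_unit_of_ne_zero h hv
  refine ⟨c • v, fun i j => ?_⟩
  have hperp : ∀ i, B (a i) (c • v) = 0 := fun i => by rw [map_smul, (hmem v).1 hvP i, smul_zero]
  refine Fin.lastCases ?_ (fun i => ?_) i <;> refine Fin.lastCases ?_ (fun j => ?_) j
  · simpa using hc
  · rw [Fin.snoc_castSucc, Fin.snoc_last, if_neg (Fin.castSucc_lt_last j).ne', (eq_zero_comm h).1 (hperp j)]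
  · rw [Fin.snoc_castSucc, Fin.snoc_last, if_neg (Fin.castSucc_lt_last i).ne, hperp i]
  · simpa using ha i j

theorem exists_extend (n : ℕ) {k : ℕ} (hn : k + n = finrank F V) {a : Fin k → V} (ha : IsON B a) :
    ∃ b : Fin (k + n) → V, IsON B b ∧ ∀ i : Fin k, b (Fin.castAdd n i) = a i := by
  induction n generalizing k with
  | zero => exact ⟨a, ha, fun i => rfl⟩
  | succ n ih =>
    obtain ⟨v, hv⟩ := exists_snoc h ha (by omega)
    obtain ⟨b, hb, hba⟩ := ih (k := k + 1) (by omega) hv
    refine ⟨fun i => b (Fin.cast (by omega) i), fun i j => by rw [hb]; simp, fun i => ?_⟩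
    have := hba i.castSucc
    rw [Fin.snoc_castSucc] at this
    rw [← this]
    rfl

theorem exists_orthonormal : ∃ b : Basis (Fin (finrank F V)) F V, IsON B b := by
  obtain ⟨b, hb, -⟩ := exists_extend h (finrank F V) (zero_add _) (a := Fin.elim0) (fun i => i.elim0)
  have hb' : IsON B (fun i => b (Fin.cast (zero_add _).symm i)) := fun i j => by rw [hb]; simp
  rcases Nat.eq_zero_or_pos (finrank F V) with h0 | h0
  · refine ⟨Module.finBasis F V, fun i => ?_⟩
    exact absurd i.2 (by omega)
  · have : Nonempty (Fin (finrank F V)) := ⟨⟨0, h0⟩⟩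
    refine ⟨basisOfLinearIndependentOfCardEqFinrank (hb'.linearIndependent h) (Fintype.card_fin _), ?_⟩
    rw [coe_basisOfLinearIndependentOfCardEqFinrank]
    exact hb'

omit [Finite F] [FiniteDimensional F V] h in
theorem isometry_of_basis {ι : Type*} [Fintype ι] (b b' : Basis ι F V)
    (hb : ∀ i j, B (b i) (b j) = B (b' i) (b' j)) (x y : V) :
    B (b.equiv b' (Equiv.refl ι) x) (b.equiv b' (Equiv.refl ι) y) = B x y := by
  have he : (B.compl₂ (b.equiv b' (Equiv.refl ι) : V →ₗ[F] V)).comp (b.equiv b' (Equiv.refl ι) : V →ₗ[F] V) = B :=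
    b.ext fun i => b.ext fun j => by simp [hb]
  exact LinearMap.congr_fun (LinearMap.congr_fun he x) y

/-- Isometry carrying one orthonormal family to another. -/
theorem exists_isometry_of_on {k : ℕ} {a a' : Fin k → V} (ha : IsON B a) (ha' : IsON B a') :
    ∃ g : V ≃ₗ[F] V, (∀ x y, B (g x) (g y) = B x y) ∧ ∀ i, g (a i) = a' i := by
  obtain ⟨n, hn⟩ := Nat.exists_eq_add_of_le (ha.length_le h)
  obtain ⟨b, hb, hba⟩ := exists_extend h n hn.symm ha
  obtain ⟨b', hb', hba'⟩ := exists_extend h n hn.symm ha'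
  rcases Nat.eq_zero_or_pos (k + n) with h0 | h0
  · exact ⟨LinearEquiv.refl F V, fun x y => rfl, fun i => absurd i.2 (by omega)⟩
  have : Nonempty (Fin (k + n)) := ⟨⟨0, h0⟩⟩
  let e := basisOfLinearIndependentOfCardEqFinrank (hb.linearIndependent h) (by simp [hn])
  let e' := basisOfLinearIndependentOfCardEqFinrank (hb'.linearIndependent h) (by simp [hn])
  refine ⟨e.equiv e' (Equiv.refl _), isometry_of_basis e e' fun i j => ?_, fun i => ?_⟩
  · simp only [e, e', coe_basisOfLinearIndependentOfCardEqFinrank, hb i j, hb' i j]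
  · rw [← hba i, ← hba' i]
    have := e.equiv_apply (Fin.castAdd n i) (b' := e') (e := Equiv.refl _)
    simpa [e, e'] using this

/-- Given a functional f and an isotropic u with f u = 1, an isotropic z pairing like f on the orthogonal of u. -/
theorem exists_isotropic_repr {u : V} (hu : B u u = 0) {f : V →ₗ[F] F} (hf : f u = 1) :
    ∃ z, B z z = 0 ∧ ∀ x, B u x = 0 → B z x = f x := by
  obtain ⟨v, hv⟩ := exists_repr h f
  obtain ⟨c, hc⟩ := exists_trace h.toIsInvol (a := -B v v) (by rw [map_neg, fix_self h])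
  refine ⟨v + c • u, ?_, fun x hx => by simp [hx, hv]⟩
  have h1 : B v u = 1 := by rw [hv, hf]
  have h2 : B u v = 1 := by rw [← h.symm, h1, map_one]
  simp [hu, h1, h2]
  linear_combination hc

/-- Witt's lemma for families with equal Gram matrices. -/
theorem witt_family (n : ℕ) :
    ∀ {k : ℕ} (a a' : Fin k → V), finrank F V - k = n → LinearIndependent F a → LinearIndependent F a' →
      (∀ i j, B (a i) (a j) = B (a' i) (a' j)) →
        ∃ g : V ≃ₗ[F] V, (∀ x y, B (g x) (g y) = B x y) ∧ ∀ i, g (a i) = a' i := by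
  induction n using Nat.strong_induction_on with
  | _ n ih => ?_
  intro k a a' hn ha ha' hG
  let L := Fintype.linearCombination F a
  let L' := Fintype.linearCombination F a'
  have hLL : ∀ c d, B (L' c) (L' d) = B (L c) (L d) := fun c d => by
    simp [L, L', Fintype.linearCombination_apply, map_sum, LinearMap.sum_apply, hG]
  by_cases hrad : ∃ c : Fin k → F, c ≠ 0 ∧ ∀ d, B (L c) (L d) = 0
  · obtain ⟨c, hc0, hc⟩ := hrad
    obtain ⟨i0, hi0⟩ : ∃ i, c i ≠ 0 := Function.ne_iff.1 hc0
    have key : ∀ (a : Fin k → V), LinearIndependent F a →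
        (∀ d, B (Fintype.linearCombination F a c) (Fintype.linearCombination F a d) = 0) →
        ∃ v, B v v = 0 ∧ (∀ i, B v (a i) = if i = i0 then (c i0)⁻¹ else 0) ∧
          LinearIndependent F (Fin.snoc a v : Fin (k + 1) → V) := by
      intro a ha hc
      obtain ⟨f, hf⟩ := LinearMap.exists_extend
        ((Basis.span ha).constr F fun i => if i = i0 then (c i0)⁻¹ else (0 : F))
      have hfa : ∀ i, f (a i) = if i = i0 then (c i0)⁻¹ else 0 := fun i => by
        have h1 := LinearMap.congr_fun hf (Basis.span ha i)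
        rwa [Basis.constr_basis, LinearMap.comp_apply, Submodule.coe_subtype, Basis.span_apply] at h1
      set u := Fintype.linearCombination F a c with hu
      have hfu : f u = 1 := by
        simp [hu, Fintype.linearCombination_apply, map_sum, hfa, mul_inv_cancel₀ hi0]
      obtain ⟨v, hv, hv'⟩ := exists_isotropic_repr h (hc c) hfu
      have hua : ∀ i, B u (a i) = 0 := fun i => by
        classical
        have := hc (Pi.single i 1)
        simpa [Fintype.linearCombination_apply_single] using this
      refine ⟨v, hv, fun i => by rw [hv' _ (hua i), hfa], ?_⟩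
      rw [linearIndependent_finSnoc]
      refine ⟨ha, fun hmem => ?_⟩
      have h0 : B u v = 0 := by
        have hle : Submodule.span F (Set.range a) ≤ LinearMap.ker (B u) :=
          Submodule.span_le.2 (by rintro _ ⟨i, rfl⟩; exact hua i)
        exact hle hmem
      have h1 : B v u = 1 := by rw [hv' u (hc c), hfu]
      rw [← h.symm, h1, map_one] at h0
      exact one_ne_zero h0
    obtain ⟨v, hv, hva, hvi⟩ := key a ha hc
    obtain ⟨v', hv', hva', hvi'⟩ := key a' ha' (fun d => (hLL c d).trans (hc d))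
    have hk : k + 1 ≤ finrank F V := by simpa using hvi.fintype_card_le_finrank
    obtain ⟨g, hg, hga⟩ := ih (finrank F V - (k + 1)) (by omega) (Fin.snoc a v) (Fin.snoc a' v') rfl hvi hvi'
      (fun i j => by
        refine Fin.lastCases ?_ (fun i => ?_) i <;> refine Fin.lastCases ?_ (fun j => ?_) j
        · simp [hv, hv']
        · simp only [Fin.snoc_castSucc, Fin.snoc_last, hva, hva']
        · simp only [Fin.snoc_castSucc, Fin.snoc_last]
          rw [← h.symm v (a i), ← h.symm v' (a' i), hva, hva']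
        · simp [hG])
    exact ⟨g, hg, fun i => by simpa using hga i.castSucc⟩
  · push Not at hrad
    let B0 : (Fin k → F) →ₛₗ[σ] (Fin k → F) →ₗ[F] F := (B.compl₂ L).comp L
    have hB0 : ∀ c d, B0 c d = B (L c) (L d) := fun c d => rfl
    have h0 : IsHerm B0 :=
      { toIsInvol := h.toIsInvol
        symm := fun c d => h.symm _ _
        nondeg := fun c hc => by
          by_contra hne
          obtain ⟨d, hd⟩ := hrad c hne
          exact hd (hc d) }
    obtain ⟨e, he⟩ := exists_orthonormal h0
    obtain ⟨g, hg, hge⟩ := exists_isometry_of_on h (a := fun i => L (e i)) (a' := fun i => L' (e i))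
      (fun i j => (hB0 _ _).symm.trans (he i j)) (fun i j => (hLL _ _).trans ((hB0 _ _).symm.trans (he i j)))
    refine ⟨g, hg, fun i => ?_⟩
    have heq : (g : V →ₗ[F] V).comp L = L' := e.ext fun j => hge j
    classical
    have := LinearMap.congr_fun heq (Pi.single i 1)
    simpa [L, L', Fintype.linearCombination_apply_single] using this

/-- Witt's lemma for subspaces. -/
theorem witt {X : Submodule F V} (φ : X →ₗ[F] V) (hinj : Function.Injective φ)
    (hφ : ∀ x x' : X, B (φ x) (φ x') = B (x : V) (x' : V)) :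
    ∃ g : V ≃ₗ[F] V, (∀ x y, B (g x) (g y) = B x y) ∧ ∀ x : X, g (x : V) = φ x := by
  let b := Module.finBasis F X
  obtain ⟨g, hg, hgb⟩ := witt_family h _ (fun i => ((b i : X) : V)) (fun i => φ (b i)) rfl
    (b.linearIndependent.map' X.subtype X.ker_subtype)
    (b.linearIndependent.map' φ (LinearMap.ker_eq_bot.2 hinj)) (fun i j => (hφ _ _).symm)
  exact ⟨g, hg, fun x => LinearMap.congr_fun (b.ext hgb : (g : V →ₗ[F] V).comp X.subtype = φ) x⟩

end Form

end Cfsg.Agent.Classical.Herm
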