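import Mathlib
import Cfsg.Prelude.Def_Classical
import Cfsg.Prelude.Def_LieClassical
import Cfsg.Agent.Classical.HermForm
import Cfsg.Agent.Classical.LinearBasic

/-!
The standard Hermitian form over a field with q² elements: numbers of vectors of given norm, the orders of GU, SU
and PSU, the centre of SU.
-/

set_option autoImplicit false

namespace Cfsg.Agent.Classical

open Matrix Herm Module

variable {F : Type*} [Field F]

/-- The automorphism `x ↦ x^q` of a field with q² elements, with its properties. -/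
theorem exists_powHom [Fintype F] {q : ℕ} (hF : Fintype.card F = q ^ 2) :
    ∃ σ : F →+* F, (∀ x, σ x = x ^ q) ∧ IsInvol σ ∧ Nat.card (fixField σ) = q ∧ 1 < q := by
  obtain ⟨p, hp⟩ := CharP.exists F
  obtain ⟨k, hpr, hk⟩ := FiniteField.card F p
  have : Fact p.Prime := ⟨hpr⟩
  obtain ⟨i, -, hi⟩ := (Nat.dvd_prime_pow hpr).1 (show q ∣ p ^ (k : ℕ) from ⟨q, by rw [← hk, hF, sq]⟩)
  have hq : 1 < q := by
    have h1 : 1 < q ^ 2 := hF ▸ Fintype.one_lt_card
    exact lt_of_pow_lt_pow_left₀ 2 (Nat.zero_le _) (by simpa using h1)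
  refine ⟨iterateFrobenius F p i, fun x => by rw [iterateFrobenius_def, ← hi], ?_, ?_, hq⟩
  · refine ⟨fun he => ?_, fun x => ?_⟩
    · obtain ⟨g, hg⟩ := IsCyclic.exists_generator (α := Fˣ)
      have h2 : g ^ (q - 1) = 1 := by
        refine Units.ext (mul_right_cancel₀ g.ne_zero ?_)
        rw [Units.val_pow_eq_pow_val, ← pow_succ, Nat.sub_add_cancel hq.le, Units.val_one, one_mul, hi,
          ← iterateFrobenius_def, he, RingHom.id_apply]
      have h3 : orderOf g ≤ q - 1 := orderOf_le_of_pow_eq_one (by omega) h2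
      rw [orderOf_eq_card_of_forall_mem_zpowers hg, Nat.card_units, Nat.card_eq_fintype_card, hF] at h3
      nlinarith [Nat.sub_add_cancel (Nat.one_le_pow 2 q (by omega)), Nat.sub_add_cancel hq.le]
    · rw [iterateFrobenius_def, iterateFrobenius_def, ← pow_mul, ← hi, ← sq, ← hF, FiniteField.pow_card]
  · have hinv : IsInvol (iterateFrobenius F p i) := by
      refine ⟨fun he => ?_, fun x => ?_⟩
      · obtain ⟨g, hg⟩ := IsCyclic.exists_generator (α := Fˣ)
        have h2 : g ^ (q - 1) = 1 := by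
          refine Units.ext (mul_right_cancel₀ g.ne_zero ?_)
          rw [Units.val_pow_eq_pow_val, ← pow_succ, Nat.sub_add_cancel hq.le, Units.val_one, one_mul, hi,
            ← iterateFrobenius_def, he, RingHom.id_apply]
        have h3 : orderOf g ≤ q - 1 := orderOf_le_of_pow_eq_one (by omega) h2
        rw [orderOf_eq_card_of_forall_mem_zpowers hg, Nat.card_units, Nat.card_eq_fintype_card, hF] at h3
        nlinarith [Nat.sub_add_cancel (Nat.one_le_pow 2 q (by omega)), Nat.sub_add_cancel hq.le]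
      · rw [iterateFrobenius_def, iterateFrobenius_def, ← pow_mul, ← hi, ← sq, ← hF, FiniteField.pow_card]
    have := card_eq_fix_sq hinv
    rw [Nat.card_eq_fintype_card, hF] at this
    exact (Nat.pow_left_injective (by norm_num) this).symm

variable {σ : F →+* F}

/-- The standard Hermitian form, linear in the second argument. -/
def hermB (n : ℕ) (σ : F →+* F) : (Fin n → F) →ₛₗ[σ] (Fin n → F) →ₗ[F] F :=
  LinearMap.mk₂'ₛₗ σ (RingHom.id F) (fun u v => ∑ i, σ (u i) * v i)
    (fun u u' v => by simp [add_mul, Finset.sum_add_distrib])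
    (fun c u v => by simp [Finset.mul_sum, mul_assoc])
    (fun u v v' => by simp [mul_add, Finset.sum_add_distrib])
    (fun c u v => by simp [Finset.mul_sum, mul_left_comm])

theorem hermB_apply (n : ℕ) (u v : Fin n → F) : hermB n σ u v = ∑ i, σ (u i) * v i := rfl

theorem isON_single (n : ℕ) : IsON (hermB n σ) (fun i => Pi.single i 1) := fun i j => by
  rw [hermB_apply, Finset.sum_eq_single j]
  · by_cases hij : i = j
    · subst hij; simp
    · simp [hij, Ne.symm hij]
  · intro k _ hk; simp [hk]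
  · simp

theorem hermForm_eq {q : ℕ} (hσ : ∀ x, σ x = x ^ q) (n : ℕ) (u v : Fin n → F) :
    Cfsg.hermForm n F q u v = hermB n σ v u := by
  simp [Cfsg.hermForm, hermB_apply, hσ, mul_comm]

theorem hermB_isHerm (hσ : IsInvol σ) (n : ℕ) : IsHerm (hermB n σ) :=
  { toIsInvol := hσ
    symm := fun u v => by simp [hermB_apply, map_sum, hσ.invol, mul_comm]
    nondeg := fun u hu => funext fun i => by
      classical
      have := hu (Pi.single i 1)
      simp [hermB_apply, Pi.single_apply] at this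
      simpa using this }

/-! ### Counting norms -/

variable (hσ : IsInvol σ)
include hσ

theorem card_norm_fibre [Finite F] {a : F} (ha : σ a = a) (ha0 : a ≠ 0) :
    Nat.card {x : F // x * σ x = a} = Nat.card (fixField σ) + 1 := by
  obtain ⟨c, hc⟩ := exists_norm hσ ha
  have hc0 : c ≠ 0 := by rintro rfl; exact ha0 (by simpa using hc.symm)
  rw [← card_ker_normHom hσ]
  suffices e : {x : F // x * σ x = a} ≃ (normHom σ).ker from Nat.card_congr e
  refine ⟨fun x => ⟨Units.mk0 (x.1 / c) (div_ne_zero (fun h => ha0 ?_) hc0), ?_⟩,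
    fun k => ⟨((k.1 : Fˣ) : F) * c, ?_⟩, ?_, ?_⟩
  · rw [← x.2, h, zero_mul]
  · refine Units.ext ?_
    rw [normHom_coe, Units.val_mk0, map_div₀, div_mul_div_comm, x.2, hc, Units.val_one, div_self ha0]
  · have hk : ((k.1 : Fˣ) : F) * σ ((k.1 : Fˣ) : F) = 1 := congrArg Units.val k.2
    rw [map_mul]
    linear_combination c * σ c * hk + hc
  · intro x; exact Subtype.ext (div_mul_cancel₀ _ hc0)
  · intro k; exact Subtype.ext (Units.ext (mul_div_cancel_right₀ _ hc0))

theorem card_herm_succ [Fintype F] (n : ℕ) (a : F) :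
    Nat.card {v : Fin (n + 1) → F // hermB (n + 1) σ v v = a} =
      ∑ x : F, Nat.card {v : Fin n → F // hermB n σ v v = a - x * σ x} := by
  classical
  rw [← Nat.card_sigma]
  refine Nat.card_congr ⟨fun v => ⟨v.1 0, Fin.tail v.1, ?_⟩, fun x => ⟨Fin.cons x.1 x.2.1, ?_⟩, ?_, ?_⟩
  · have h2 := v.2
    rw [hermB_apply, Fin.sum_univ_succ] at h2
    rw [hermB_apply]
    refine eq_sub_of_add_eq ((add_comm _ _).trans ?_)
    convert h2 using 2
    · exact mul_comm _ _
    · rfl
  · have := x.2.2
    rw [hermB_apply] at this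
    rw [hermB_apply, Fin.sum_univ_succ]
    simp [this, mul_comm x.1]
  · intro v; exact Subtype.ext (Fin.cons_self_tail v.1)
  · rintro ⟨x, v, hv⟩; rfl

theorem card_herm_scale [Finite F] (n : ℕ) {a : F} (ha : σ a = a) (ha0 : a ≠ 0) :
    Nat.card {v : Fin n → F // hermB n σ v v = a} = Nat.card {v : Fin n → F // hermB n σ v v = 1} := by
  obtain ⟨c, hc⟩ := exists_norm hσ ha
  have hc0 : c ≠ 0 := by rintro rfl; exact ha0 (by simpa using hc.symm)
  have hB := hermB_isHerm hσ n
  refine (Nat.card_congr ((Equiv.smulRight hc0).subtypeEquiv fun v => ?_)).symm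
  rw [Equiv.smulRight_apply, smul_self hB, hc]
  exact ⟨fun h => by rw [h, mul_one], fun h => mul_left_cancel₀ ha0 (by rw [h, mul_one])⟩

theorem card_herm_total [Fintype F] (n : ℕ) :
    Nat.card {v : Fin n → F // hermB n σ v v = 0}
      + (Nat.card (fixField σ) - 1) * Nat.card {v : Fin n → F // hermB n σ v v = 1}
      = Fintype.card F ^ n := by
  classical
  have hB := hermB_isHerm hσ n
  have e : (Fin n → F) ≃ Σ a : fixField σ, {v : Fin n → F // hermB n σ v v = a} :=
    ⟨fun v => ⟨⟨hermB n σ v v, fix_self hB v⟩, v, rfl⟩, fun x => x.2.1, fun v => rfl,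
      fun ⟨⟨a, ha⟩, v, hv⟩ => Sigma.subtype_ext (Subtype.ext hv) rfl⟩
  have := Nat.card_congr e
  rw [Nat.card_fun, Nat.card_eq_fintype_card, Nat.card_fin, Nat.card_sigma,
    ← Finset.sum_erase_add _ _ (Finset.mem_univ (0 : fixField σ))] at this
  rw [this, add_comm]
  congr 1
  rw [Finset.sum_congr rfl fun a ha => card_herm_scale hσ n a.2
      (fun h => (Finset.mem_erase.1 ha).1 (Subtype.ext h)), Finset.sum_const, smul_eq_mul,
    Finset.card_erase_of_mem (Finset.mem_univ _), Finset.card_univ, Nat.card_eq_fintype_card]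

theorem card_herm_zero [Fintype F] {q : ℕ} (hq : Nat.card (fixField σ) = q) (n : ℕ) :
    (q : ℤ) * Nat.card {v : Fin n → F // hermB n σ v v = 0} = (q : ℤ) ^ (2 * n) + (-1) ^ n * ((q : ℤ) ^ (n + 1) - q ^ n) := by
  classical
  have hF : Fintype.card F = q ^ 2 := by rw [← hq, ← card_eq_fix_sq hσ, Nat.card_eq_fintype_card]
  have hq1 : 1 < q := hq ▸ Finite.one_lt_card
  induction n with
  | zero =>
    have : Nat.card {v : Fin 0 → F // hermB 0 σ v v = 0} = 1 := by
      have : Nonempty {v : Fin 0 → F // hermB 0 σ v v = 0} := ⟨⟨0, by simp [hermB_apply]⟩⟩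
      exact Nat.card_unique
    rw [this]
    simp
  | succ n ih =>
    have hrec : Nat.card {v : Fin (n + 1) → F // hermB (n + 1) σ v v = 0}
        = Nat.card {v : Fin n → F // hermB n σ v v = 0}
          + (q ^ 2 - 1) * Nat.card {v : Fin n → F // hermB n σ v v = 1} := by
      rw [card_herm_succ hσ, ← Finset.sum_erase_add _ _ (Finset.mem_univ (0 : F)), add_comm]
      congr 1
      · simp
      · rw [Finset.sum_congr rfl fun x hx => card_herm_scale hσ n
          (by rw [map_sub, map_zero, map_mul, hσ.invol, mul_comm x])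
          (by
            rw [zero_sub, neg_ne_zero]
            exact mul_ne_zero (Finset.mem_erase.1 hx).1 ((map_ne_zero σ).2 (Finset.mem_erase.1 hx).1)),
          Finset.sum_const, smul_eq_mul, Finset.card_erase_of_mem (Finset.mem_univ _), Finset.card_univ, hF]
    have htot := card_herm_total hσ n
    rw [hq, hF, ← pow_mul] at htot
    have h1 : ((q ^ 2 - 1 : ℕ) : ℤ) = ((q : ℤ) + 1) * ((q - 1 : ℕ) : ℤ) := by
      rw [show q ^ 2 - 1 = (q + 1) * (q - 1) by rw [← Nat.sq_sub_sq, one_pow]]
      push_cast; ring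
    have htot' : (Nat.card {v : Fin n → F // hermB n σ v v = 0} : ℤ)
        + ((q - 1 : ℕ) : ℤ) * Nat.card {v : Fin n → F // hermB n σ v v = 1} = (q : ℤ) ^ (2 * n) := by
      exact_mod_cast htot
    have hrec' := congrArg (fun k : ℕ => (k : ℤ)) hrec
    simp only [Nat.cast_add, Nat.cast_mul, h1] at hrec'
    rw [show (q : ℤ) ^ (2 * (n + 1)) = q ^ (2 * n) * q * q by ring, pow_succ (-1 : ℤ), pow_succ (q : ℤ) (n + 1)]
    linear_combination (q : ℤ) * hrec' + (q : ℤ) * ((q : ℤ) + 1) * htot' - (q : ℤ) * ih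

theorem card_herm_one [Fintype F] {q : ℕ} (hq : Nat.card (fixField σ) = q) (n : ℕ) :
    Nat.card {v : Fin n → F // hermB n σ v v = 1}
      = if Even n then q ^ (n - 1) * (q ^ n - 1) else q ^ (n - 1) * (q ^ n + 1) := by
  classical
  have hF : Fintype.card F = q ^ 2 := by rw [← hq, ← card_eq_fix_sq hσ, Nat.card_eq_fintype_card]
  have hq1 : 1 < q := hq ▸ Finite.one_lt_card
  rcases n with _ | m
  · have : IsEmpty {v : Fin 0 → F // hermB 0 σ v v = 1} := ⟨fun v => by simpa [hermB_apply] using v.2⟩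
    simp
  have htot := card_herm_total hσ (m + 1)
  rw [hq, hF, ← pow_mul] at htot
  have h0 := card_herm_zero hσ hq (m + 1)
  have htot' : (Nat.card {v : Fin (m + 1) → F // hermB (m + 1) σ v v = 0} : ℤ)
      + ((q : ℤ) - 1) * Nat.card {v : Fin (m + 1) → F // hermB (m + 1) σ v v = 1} = (q : ℤ) ^ (2 * (m + 1)) := by
    have := congrArg (fun k : ℕ => (k : ℤ)) htot
    push_cast [Nat.cast_sub hq1.le] at this
    linear_combination this
  have key : (q : ℤ) * ((q : ℤ) - 1) * Nat.card {v : Fin (m + 1) → F // hermB (m + 1) σ v v = 1}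
      = (q : ℤ) * ((q : ℤ) - 1) * (q ^ m * (q ^ (m + 1) - (-1) ^ (m + 1))) := by
    rw [show (q : ℤ) * ((q : ℤ) - 1) * (q ^ m * (q ^ (m + 1) - (-1) ^ (m + 1)))
      = (q : ℤ) ^ (2 * (m + 1)) * ((q : ℤ) - 1) - (-1) ^ (m + 1) * ((q : ℤ) ^ (m + 1) * ((q : ℤ) - 1)) by ring]
    linear_combination (q : ℤ) * htot' - h0
  have hval := mul_left_cancel₀ (mul_ne_zero (by exact_mod_cast (by omega : q ≠ 0))
    (sub_ne_zero.2 (by exact_mod_cast (by omega : q ≠ 1)))) key
  rw [Nat.add_sub_cancel]
  split_ifs with he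
  · rw [he.neg_one_pow] at hval
    have h1 : 1 ≤ q ^ (m + 1) := Nat.one_le_pow _ _ (by omega)
    apply Int.natCast_inj.1
    push_cast [Nat.cast_sub h1]
    exact hval
  · rw [(Nat.not_even_iff_odd.1 he).neg_one_pow] at hval
    apply Int.natCast_inj.1
    push_cast
    linear_combination hval

theorem card_herm_isotropic [Fintype F] {q : ℕ} (hq : Nat.card (fixField σ) = q) (n : ℕ) :
    Nat.card {v : Fin n → F // hermB n σ v v = 0} =
      (if Even n then (q ^ n - 1) * (q ^ (n - 1) + 1) else (q ^ n + 1) * (q ^ (n - 1) - 1)) + 1 := by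
  have hq1 : 1 < q := hq ▸ Finite.one_lt_card
  have h0 := card_herm_zero hσ hq n
  rcases n with _ | m
  · have : Nonempty {v : Fin 0 → F // hermB 0 σ v v = 0} := ⟨⟨0, by simp [hermB_apply]⟩⟩
    simp [Nat.card_unique]
  rw [Nat.add_sub_cancel]
  apply Int.natCast_inj.1
  have h1 : 1 ≤ q ^ (m + 1) := Nat.one_le_pow _ _ (by omega)
  have h2 : 1 ≤ q ^ m := Nat.one_le_pow _ _ (by omega)
  have hq0 : (q : ℤ) ≠ 0 := by exact_mod_cast (by omega : q ≠ 0)
  refine mul_left_cancel₀ hq0 ?_
  rw [h0]
  split_ifs with he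
  · rw [he.neg_one_pow]; push_cast [Nat.cast_sub h1]; ring
  · rw [(Nat.not_even_iff_odd.1 he).neg_one_pow]; push_cast [Nat.cast_sub h2]; ring

/-! ### Orthonormal frames -/

theorem card_frames [Fintype F] {q : ℕ} (hq : Nat.card (fixField σ) = q) (n k : ℕ) (hk : k ≤ n) :
    Nat.card {a : Fin k → Fin n → F // IsON (hermB n σ) a} =
      ∏ j ∈ Finset.range k, Nat.card {v : Fin (n - j) → F // hermB (n - j) σ v v = 1} := by
  classical
  have hB := hermB_isHerm hσ n
  induction k with
  | zero =>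
    have : Nonempty {a : Fin 0 → Fin n → F // IsON (hermB n σ) a} := ⟨⟨Fin.elim0, fun i => i.elim0⟩⟩
    have : Subsingleton {a : Fin 0 → Fin n → F // IsON (hermB n σ) a} := ⟨fun a b => Subtype.ext (Subsingleton.elim _ _)⟩
    rw [Finset.prod_range_zero, Nat.card_unique]
  | succ k ih =>
    rw [Finset.prod_range_succ, ← ih (by omega)]
    let T := Σ a : {a : Fin k → Fin n → F // IsON (hermB n σ) a},
      {v : Fin n → F // IsON (hermB n σ) (Fin.snoc a.1 v : Fin (k + 1) → Fin n → F)}
    let e : {a : Fin (k + 1) → Fin n → F // IsON (hermB n σ) a} ≃ T :=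
      { toFun := fun a => ⟨⟨Fin.init a.1, fun i j => by simp [Fin.init, a.2 i.castSucc j.castSucc]⟩,
          a.1 (Fin.last k), by rw [Fin.snoc_init_self]; exact a.2⟩
        invFun := fun x => ⟨Fin.snoc x.1.1 x.2.1, x.2.2⟩
        left_inv := fun a => Subtype.ext (Fin.snoc_init_self _)
        right_inv := fun ⟨⟨a, ha⟩, v, hv⟩ => by
          refine Sigma.subtype_ext (Subtype.ext ?_) ?_
          · exact Fin.init_snoc (α := fun _ => Fin n → F) v a
          · exact Fin.snoc_last (α := fun _ => Fin n → F) v a }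
    rw [Nat.card_congr e, Nat.card_sigma]
    suffices hfib : ∀ a : {a : Fin k → Fin n → F // IsON (hermB n σ) a}, Nat.card
        {v : Fin n → F // IsON (hermB n σ) (Fin.snoc a.1 v : Fin (k + 1) → Fin n → F)}
        = Nat.card {v : Fin (n - k) → F // hermB (n - k) σ v v = 1} by
      rw [Finset.sum_congr rfl fun a _ => hfib a]
      simp [Finset.card_univ, Nat.card_eq_fintype_card]
    intro a
    obtain ⟨b, hb, hba⟩ := exists_extend hB (n - k) (by rw [Module.finrank_fin_fun]; omega) a.2
    let L := Fintype.linearCombination F fun j : Fin (n - k) => b (Fin.natAdd k j)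
    have hL : ∀ c, hermB n σ (L c) (L c) = hermB (n - k) σ c c := fun c => by
      simp [L, Fintype.linearCombination_apply, map_sum, LinearMap.sum_apply, hb _ _, hermB_apply (n - k),
        mul_comm]
    have hperp : ∀ i c, hermB n σ (a.1 i) (L c) = 0 := fun i c => by
      simp [L, Fintype.linearCombination_apply, map_sum, ← hba i, hb _ _, Fin.ext_iff]
      refine Finset.sum_eq_zero fun j _ => ?_
      rw [if_neg (by omega)]
    have hbi : LinearIndependent F (fun j : Fin (n - k) => b (Fin.natAdd k j)) :=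
      (hb.linearIndependent hB).comp _ (Fin.natAdd_injective (n - k) k)
    have hsnoc : ∀ v : Fin n → F, IsON (hermB n σ) (Fin.snoc a.1 v : Fin (k + 1) → Fin n → F) ↔
        hermB n σ v v = 1 ∧ ∀ i, hermB n σ (a.1 i) v = 0 := fun v => by
      constructor
      · intro h
        refine ⟨by simpa using h (Fin.last k) (Fin.last k), fun i => ?_⟩
        simpa [(Fin.castSucc_lt_last i).ne] using h i.castSucc (Fin.last k)
      · rintro ⟨h1, h2⟩ i j
        refine Fin.lastCases ?_ (fun i => ?_) i <;> refine Fin.lastCases ?_ (fun j => ?_) j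
        · simpa using h1
        · rw [Fin.snoc_castSucc, Fin.snoc_last, if_neg (Fin.castSucc_lt_last j).ne',
            (eq_zero_comm hB).1 (h2 j)]
        · rw [Fin.snoc_castSucc, Fin.snoc_last, if_neg (Fin.castSucc_lt_last i).ne, h2 i]
        · simpa using a.2 i j
    refine (Nat.card_congr (Equiv.ofBijective
      (fun c : {c : Fin (n - k) → F // hermB (n - k) σ c c = 1} =>
        (⟨L c.1, (hsnoc _).2 ⟨(hL c.1).trans c.2, fun i => hperp i c.1⟩⟩ :
          {v : Fin n → F // IsON (hermB n σ) (Fin.snoc a.1 v : Fin (k + 1) → Fin n → F)})) ⟨?_, ?_⟩)).symm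
    · intro c d hcd
      exact Subtype.ext (hbi.fintypeLinearCombination_injective (congrArg Subtype.val hcd))
    · rintro ⟨v, hv⟩
      obtain ⟨hv1, hv2⟩ := (hsnoc v).1 hv
      let c : Fin (n - k) → F := fun j => hermB n σ (b (Fin.natAdd k j)) v
      have hLc : L c = v := by
        refine sub_eq_zero.1 (hB.nondeg _ fun y => ?_)
        have hspan : Submodule.span F (Set.range b) = ⊤ :=
          (hb.linearIndependent hB).span_eq_top_of_card_eq_finrank' (by rw [Fintype.card_fin, Module.finrank_fin_fun]; omega)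
        have hall : ∀ i, hermB n σ (b i) (L c - v) = 0 := fun i => by
          rw [map_sub]
          refine Fin.addCases (fun i => ?_) (fun i => ?_) i
          · rw [hba, hperp, hv2, sub_zero]
          · simp [L, c, Fintype.linearCombination_apply, map_sum, hb _ _]
        have hle : Submodule.span F (Set.range b) ≤ LinearMap.ker (hermB n σ (L c - v)) :=
          Submodule.span_le.2 (by rintro _ ⟨i, rfl⟩; exact (eq_zero_comm hB).1 (hall i))
        exact hle (hspan ▸ Submodule.mem_top)
      exact ⟨⟨c, by rw [← hL, hLc, hv1]⟩, Subtype.ext hLc⟩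

omit hσ

/-! ### The groups -/

variable {n q : ℕ}

theorem mem_GU_iff (hσq : ∀ x, σ x = x ^ q) (g : GL (Fin n) F) :
    g ∈ Cfsg.GU n F q ↔ ∀ u v, hermB n σ (g.1 *ᵥ u) (g.1 *ᵥ v) = hermB n σ u v := by
  constructor
  · intro h u v
    have := h v u
    simpa [Units.coeHom_apply, hermForm_eq hσq] using this
  · intro h u v
    simpa [Units.coeHom_apply, hermForm_eq hσq] using h v u

theorem preserves_iff_cols (M : Matrix (Fin n) (Fin n) F) :
    (∀ u v, hermB n σ (M *ᵥ u) (M *ᵥ v) = hermB n σ u v) ↔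
      IsON (hermB n σ) fun j => M *ᵥ Pi.single j 1 := by
  constructor
  · intro h i j
    rw [h, isON_single n i j]
  · intro h u v
    have he : ((hermB n σ).compl₂ M.mulVecLin).comp M.mulVecLin = hermB n σ := by
      refine (Pi.basisFun F (Fin n)).ext fun i => (Pi.basisFun F (Fin n)).ext fun j => ?_
      simp only [Pi.basisFun_apply, LinearMap.comp_apply, LinearMap.compl₂_apply, Matrix.mulVecLin_apply]
      rw [h i j, isON_single n i j]
    exact LinearMap.congr_fun (LinearMap.congr_fun he u) v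

/-- GU_n corresponds to the orthonormal frames. -/
theorem card_GU [Fintype F] (hσ : IsInvol σ) (hσq : ∀ x, σ x = x ^ q) :
    Nat.card (Cfsg.GU n F q) = Nat.card {a : Fin n → Fin n → F // IsON (hermB n σ) a} := by
  classical
  let M : {a : Fin n → Fin n → F // IsON (hermB n σ) a} → Matrix (Fin n) (Fin n) F :=
    fun a => (Matrix.of a.1)ᵀ
  have hM : ∀ a j, M a *ᵥ Pi.single j 1 = a.1 j := fun a j => by ext i; simp [M, Matrix.mulVec_single]
  have hu : ∀ a, IsUnit (M a).det := fun a => by
    rw [← Matrix.isUnit_iff_isUnit_det, ← Matrix.linearIndependent_cols_iff_isUnit]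
    exact a.2.linearIndependent (hermB_isHerm hσ n)
  refine (Nat.card_congr (Equiv.ofBijective
    (fun a => (⟨Matrix.GeneralLinearGroup.mk'' (M a) (hu a), (mem_GU_iff hσq _).2
      ((preserves_iff_cols (σ := σ) (M a)).2 (fun i j => by simpa [hM] using a.2 i j))⟩ : Cfsg.GU n F q)) ⟨?_, ?_⟩)).symm
  · intro a b h
    refine Subtype.ext (funext fun j => ?_)
    rw [← hM a j, ← hM b j]
    exact congrArg (fun g : Cfsg.GU n F q => g.1.1 *ᵥ Pi.single j 1) h
  · intro g
    refine ⟨⟨fun j => g.1.1 *ᵥ Pi.single j 1, (preserves_iff_cols _).1 ((mem_GU_iff hσq _).1 g.2)⟩, ?_⟩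
    refine Subtype.ext (Units.ext ?_)
    ext i j
    change M _ i j = _
    simp [M, Matrix.mulVec_single]

theorem mem_SU_iff (hσq : ∀ x, σ x = x ^ q) (g : Matrix.SpecialLinearGroup (Fin n) F) :
    g ∈ Cfsg.SU n F q ↔
      ∀ u v, hermB n σ ((g : Matrix (Fin n) (Fin n) F) *ᵥ u) ((g : Matrix (Fin n) (Fin n) F) *ᵥ v) = hermB n σ u v := by
  constructor
  · intro h u v
    have := h v u
    simpa [hermForm_eq hσq] using this
  · intro h u v
    simpa [hermForm_eq hσq] using h v u

theorem det_norm_GU (hσq : ∀ x, σ x = x ^ q) {g : GL (Fin n) F} (hg : g ∈ Cfsg.GU n F q) :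
    g.1.det * σ g.1.det = 1 := by
  have h := (preserves_iff_cols g.1).1 ((mem_GU_iff hσq g).1 hg)
  have he : (g.1.map σ)ᵀ * g.1 = 1 := by
    ext i j
    have := h i j
    rw [hermB_apply] at this
    simpa [Matrix.mul_apply, Matrix.one_apply, Matrix.mulVec_single] using this
  have := congrArg Matrix.det he
  rw [Matrix.det_mul, Matrix.det_transpose, Matrix.det_one] at this
  rw [← this, mul_comm, RingHom.map_det]
  rfl

theorem diag_mem (hσq : ∀ x, σ x = x ^ q) (d : Fin n → Fˣ) (hd : ∀ i, (d i : F) * σ (d i) = 1) :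
    diagGL d ∈ Cfsg.GU n F q := by
  rw [mem_GU_iff hσq]
  intro u v
  rw [hermB_apply, hermB_apply]
  refine Finset.sum_congr rfl fun i _ => ?_
  rw [diagGL_coe, Matrix.mulVec_diagonal, Matrix.mulVec_diagonal, map_mul]
  linear_combination σ (u i) * v i * hd i

theorem det_diagGL (d : Fin n → Fˣ) : (diagGL d).1.det = ∏ i, (d i : F) := by
  rw [diagGL_coe, Matrix.det_diagonal]

variable [Fintype F]

theorem card_SU_mul_eq_GU (hσ : IsInvol σ) (hσq : ∀ x, σ x = x ^ q) (hq : Nat.card (fixField σ) = q) (hn : 1 ≤ n) :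
    (q + 1) * Nat.card (Cfsg.SU n F q) = Nat.card (Cfsg.GU n F q) := by
  classical
  let δ : Cfsg.GU n F q →* (normHom σ).ker :=
    (Matrix.GeneralLinearGroup.det.comp (Cfsg.GU n F q).subtype).codRestrict _ fun g =>
      Units.ext (det_norm_GU hσq g.2)
  have hsurj : Function.Surjective δ := fun ζ => by
    refine ⟨⟨diagGL (Function.update 1 ⟨0, hn⟩ ζ.1), diag_mem hσq _ fun i => ?_⟩, Subtype.ext (Units.ext ?_)⟩
    · by_cases hi : i = ⟨0, hn⟩
      · subst hi
        rw [Function.update_self]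
        exact congrArg Units.val ζ.2
      · simp [hi]
    · change (diagGL (Function.update (1 : Fin n → Fˣ) (⟨0, hn⟩ : Fin n) ζ.1)).1.det = _
      rw [det_diagGL]
      simp [Function.update_apply, apply_ite Units.val, Finset.prod_ite_eq']
  have h := δ.ker.index_mul_card
  rw [Subgroup.index_ker, MonoidHom.range_eq_top.2 hsurj, Subgroup.card_top, card_ker_normHom hσ, hq] at h
  rw [← h]
  congr 1
  refine Nat.card_congr ⟨fun g => ⟨⟨Matrix.SpecialLinearGroup.toGL g.1, (mem_GU_iff hσq _).2
      ((mem_SU_iff hσq g.1).1 g.2)⟩, Subtype.ext (Units.ext g.1.2)⟩,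
    fun g => ⟨⟨g.1.1.1, congrArg (fun z : (normHom σ).ker => ((z.1 : Fˣ) : F)) g.2⟩,
      (mem_SU_iff hσq _).2 ((mem_GU_iff hσq _).1 g.1.2)⟩, fun g => rfl,
    fun g => Subtype.ext (Subtype.ext (Units.ext rfl))⟩

theorem center_SU_scalar (hσ : IsInvol σ) (hσq : ∀ x, σ x = x ^ q) (hq : Nat.card (fixField σ) = q) (hn : 2 ≤ n)
    {g : Cfsg.SU n F q} (hg : g ∈ Subgroup.center (Cfsg.SU n F q)) :
    ∃ a : F, ((g : Matrix.SpecialLinearGroup (Fin n) F) : Matrix (Fin n) (Fin n) F) = Matrix.scalar (Fin n) a := by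
  classical
  set M := ((g : Matrix.SpecialLinearGroup (Fin n) F) : Matrix (Fin n) (Fin n) F) with hM
  have hcomm : ∀ N : Matrix (Fin n) (Fin n) F, N.det = 1 →
      (∀ u v, hermB n σ (N *ᵥ u) (N *ᵥ v) = hermB n σ u v) → N * M = M * N := fun N hd hN =>
    congrArg (fun x : Cfsg.SU n F q => ((x : Matrix.SpecialLinearGroup (Fin n) F) : Matrix (Fin n) (Fin n) F))
      (Subgroup.mem_center_iff.1 hg ⟨⟨N, hd⟩, (mem_SU_iff hσq _).2 hN⟩)
  have hq1 : 1 < q := hq ▸ Finite.one_lt_card
  have hζ : ∃ ζ : (normHom σ).ker, ζ ≠ 1 ∧ ((ζ.1 : Fˣ) : F) * (ζ.1 : Fˣ) ≠ 1 := by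
    by_contra hc
    push Not at hc
    have hsub : ∀ ζ : (normHom σ).ker, ((ζ.1 : Fˣ) : F) = 1 ∨ ((ζ.1 : Fˣ) : F) = -1 := fun ζ => by
      by_cases h1 : ζ = 1
      · left; simp [h1]
      · exact mul_self_eq_one_iff.1 (hc ζ h1)
    have hle : Nat.card (normHom σ).ker ≤ ({1, -1} : Finset F).card := by
      rw [Nat.card_eq_fintype_card, ← Finset.card_univ]
      refine Finset.card_le_card_of_injOn (fun ζ => ((ζ.1 : Fˣ) : F)) (fun ζ _ => ?_)
        (fun a _ b _ h => Subtype.ext (Units.ext h))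
      simp only [Finset.mem_coe, Finset.mem_insert, Finset.mem_singleton]
      exact hsub ζ
    rw [card_ker_normHom hσ, hq] at hle
    have := hle.trans Finset.card_le_two
    omega
  obtain ⟨ζ, hζ1, hζ2⟩ := hζ
  have hζn : ((ζ.1 : Fˣ) : F) * σ ((ζ.1 : Fˣ) : F) = 1 := congrArg Units.val ζ.2
  have hdiag : ∀ i j, i ≠ j → M i j = 0 := fun i j hij => by
    let d : Fin n → Fˣ := fun l => if l = i then ζ.1 else if l = j then ζ.1⁻¹ else 1
    have hd : ∀ l, (d l : F) * σ (d l) = 1 := fun l => by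
      by_cases h1 : l = i
      · simp [d, h1, hζn]
      by_cases h2 : l = j
      · simp only [d, if_neg h1, if_pos h2, Units.val_inv_eq_inv_val, map_inv₀, ← mul_inv, hζn, inv_one]
      · simp [d, h1, h2]
    have hdet : (diagGL d).1.det = 1 := by
      rw [det_diagGL, ← Finset.mul_prod_erase _ _ (Finset.mem_univ i),
        ← Finset.mul_prod_erase _ _ (Finset.mem_erase.2 ⟨hij.symm, Finset.mem_univ j⟩), Finset.prod_eq_one]
      · simp [d, hij.symm]
      · intro l hl
        simp only [Finset.mem_erase] at hl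
        simp [d, hl.1, hl.2.1]
    have := congrFun (congrFun (hcomm _ hdet ((mem_GU_iff hσq _).1 (diag_mem hσq d hd))) i) j
    rw [diagGL_coe, Matrix.diagonal_mul, Matrix.mul_diagonal] at this
    simp only [d, if_neg hij.symm, ↓reduceIte, Units.val_inv_eq_inv_val] at this
    by_contra hne
    apply hζ2
    field_simp at this
    linear_combination this
  refine ⟨M ⟨0, by omega⟩ ⟨0, by omega⟩, ?_⟩
  have heq : ∀ i j, M i i = M j j := fun i j => by
    by_cases hij : i = j
    · rw [hij]
    let N : Matrix (Fin n) (Fin n) F := Matrix.of fun r c =>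
      if r = j ∧ c = i then 1 else if r = i ∧ c = j then -1 else if r = c ∧ r ≠ i ∧ r ≠ j then 1 else 0
    have hN : ∀ u, N *ᵥ u = fun r => if r = j then u i else if r = i then -u j else u r := fun u => by
      ext r
      simp only [N, Matrix.mulVec, dotProduct, Matrix.of_apply]
      by_cases h1 : r = j
      · subst h1; simp [Ne.symm hij]
      by_cases h2 : r = i
      · subst h2; simp [hij]
      simp [h1, h2]
    have hdet : N.det = 1 := by
      have : N = (diagGL (fun r => if r = i then (-1 : Fˣ) else 1)).1 * (Equiv.swap i j).permMatrix F := by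
        ext r c
        rw [diagGL_coe, Matrix.diagonal_mul, Equiv.Perm.permMatrix, PEquiv.toMatrix_apply]
        simp only [N, Matrix.of_apply, Equiv.toPEquiv_apply, Option.mem_def, Option.some.injEq]
        by_cases h1 : r = j
        · subst h1; simp [Ne.symm hij, eq_comm]
        by_cases h2 : r = i
        · subst h2
          simp only [Equiv.swap_apply_left]
          by_cases h3 : c = j
          · simp [h3, hij, Ne.symm hij]
          · simp [h3, hij, Ne.symm h3, Ne.symm hij]
        rw [Equiv.swap_apply_of_ne_of_ne h2 h1]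
        simp [h1, h2]
      rw [this, Matrix.det_mul, det_diagGL, Matrix.det_permutation, Equiv.Perm.sign_swap hij]
      simp [apply_ite Units.val, Finset.prod_ite_eq']
    have hpres : ∀ u v, hermB n σ (N *ᵥ u) (N *ᵥ v) = hermB n σ u v := fun u v => by
      rw [hermB_apply, hermB_apply, hN, hN]
      rw [← Equiv.sum_comp (Equiv.swap i j) (fun l => σ (u l) * v l)]
      refine Finset.sum_congr rfl fun r _ => ?_
      by_cases h1 : r = j
      · subst h1; simp
      by_cases h2 : r = i
      · subst h2; simp [h1]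
      simp [h1, h2, Equiv.swap_apply_of_ne_of_ne h2 h1]
    have := congrFun (congrFun (hcomm _ hdet hpres) j) i
    rw [Matrix.mul_apply, Matrix.mul_apply, Finset.sum_eq_single i, Finset.sum_eq_single j] at this
    · simpa [N] using this
    · intro l _ hl; simp [hdiag j l hl.symm]
    · simp
    · intro l _ hl; simp [N, hl, Ne.symm hij]
    · simp
  ext i j
  by_cases hij : i = j
  · subst hij; simpa using heq i _
  · simpa [hij] using hdiag i j hij

theorem card_center_SU (hσ : IsInvol σ) (hσq : ∀ x, σ x = x ^ q) (hq : Nat.card (fixField σ) = q) (hn : 2 ≤ n) :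
    Nat.card (Subgroup.center (Cfsg.SU n F q)) = Nat.gcd n (q + 1) := by
  classical
  let i0 : Fin n := ⟨0, by omega⟩
  have hscal : ∀ a : F, ∀ u v, hermB n σ (Matrix.scalar (Fin n) a *ᵥ u) (Matrix.scalar (Fin n) a *ᵥ v)
      = σ a * a * hermB n σ u v := fun a u v => by
    rw [hermB_apply, hermB_apply, Finset.mul_sum]
    refine Finset.sum_congr rfl fun i _ => ?_
    rw [Matrix.scalar_apply, Matrix.mulVec_diagonal, Matrix.mulVec_diagonal, map_mul]
    ring
  let K : Subgroup Fˣ := (powMonoidHom n : Fˣ →* Fˣ).ker ⊓ (normHom σ).ker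
  have hcard : Nat.card K = Nat.gcd n (q + 1) := by
    have hk : (powMonoidHom (q + 1) : Fˣ →* Fˣ).ker = (normHom σ).ker := by
      ext x
      simp [MonoidHom.mem_ker, Units.ext_iff, normHom_coe, hσq, pow_succ, mul_comm]
    have : K = (powMonoidHom (Nat.gcd n (q + 1)) : Fˣ →* Fˣ).ker := by
      ext x
      simp only [K, ← hk, Subgroup.mem_inf, MonoidHom.mem_ker, powMonoidHom_apply, ← orderOf_dvd_iff_pow_eq_one,
        Nat.dvd_gcd_iff]
    rw [this, IsCyclic.card_powMonoidHom_ker, Nat.card_units, Nat.card_eq_fintype_card]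
    refine Nat.gcd_eq_right ((Nat.gcd_dvd_right _ _).trans ⟨q - 1, ?_⟩)
    rw [← Nat.sq_sub_sq, one_pow, ← hq, ← card_eq_fix_sq hσ, Nat.card_eq_fintype_card]
  rw [← hcard]
  refine (Nat.card_congr (Equiv.ofBijective (fun a : K =>
    (⟨⟨⟨Matrix.scalar (Fin n) ((a.1 : Fˣ) : F), ?_⟩, (mem_SU_iff hσq _).2 fun u v => ?_⟩,
      Subgroup.mem_center_iff.2 fun g => ?_⟩ : Subgroup.center (Cfsg.SU n F q))) ⟨?_, ?_⟩)).symm
  · rw [Matrix.scalar_apply, Matrix.det_diagonal, Finset.prod_const, Finset.card_univ, Fintype.card_fin]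
    exact congrArg Units.val a.2.1
  · change hermB n σ (Matrix.scalar (Fin n) ((a.1 : Fˣ) : F) *ᵥ u) (Matrix.scalar (Fin n) ((a.1 : Fˣ) : F) *ᵥ v) = _
    rw [hscal, show σ ((a.1 : Fˣ) : F) * ((a.1 : Fˣ) : F) = 1 from (mul_comm _ _).trans (congrArg Units.val a.2.2),
      one_mul]
  · exact Subtype.ext (Subtype.ext ((Matrix.scalar_commute _ (fun _ => Commute.all _ _) _).symm.eq))
  · intro a b h
    have := congrArg (fun x : Subgroup.center (Cfsg.SU n F q) =>
      ((x.1 : Matrix.SpecialLinearGroup (Fin n) F) : Matrix (Fin n) (Fin n) F) i0 i0) h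
    exact Subtype.ext (Units.ext (by simpa using this))
  · rintro ⟨g, hg⟩
    obtain ⟨a, ha⟩ := center_SU_scalar hσ hσq hq hn hg
    have hdet : a ^ n = 1 := by
      have := g.1.2
      rwa [ha, Matrix.scalar_apply, Matrix.det_diagonal, Finset.prod_const, Finset.card_univ, Fintype.card_fin] at this
    have ha0 : a ≠ 0 := by rintro rfl; simp [zero_pow (show n ≠ 0 by omega)] at hdet
    refine ⟨⟨Units.mk0 a ha0, Units.ext hdet, Units.ext ?_⟩, Subtype.ext (Subtype.ext (Subtype.ext ha.symm))⟩
    rw [normHom_coe, Units.val_mk0, Units.val_one]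
    have h1 := (mem_SU_iff hσq _).1 g.2 (Pi.single i0 1) (Pi.single i0 1)
    rw [ha, hscal, isON_single n i0 i0, if_pos rfl, mul_one] at h1
    rwa [mul_comm]

theorem card_GU_formula (hσ : IsInvol σ) (hσq : ∀ x, σ x = x ^ q) (hq : Nat.card (fixField σ) = q) :
    Nat.card (Cfsg.GU n F q) =
      q ^ (n * (n - 1) / 2) * ∏ i ∈ Finset.range n, (if Even i then q ^ (i + 1) + 1 else q ^ (i + 1) - 1) := by
  rw [card_GU hσ hσq, card_frames hσ hq n n le_rfl, ← Finset.sum_range_id, ← Finset.prod_pow_eq_pow_sum,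
    ← Finset.prod_mul_distrib, ← Finset.prod_range_reflect]
  refine Finset.prod_congr rfl fun i hi => ?_
  rw [Finset.mem_range] at hi
  rw [card_herm_one hσ hq, show n - (n - 1 - i) = i + 1 by omega, Nat.add_sub_cancel]
  by_cases he : Even i <;> simp [he, Nat.even_add_one]

end Cfsg.Agent.Classical
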