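import Mathlib

/-!
Symmetric bilinear forms over finite fields of odd characteristic: diagonalisation, discriminant, type.
-/

set_option autoImplicit false

namespace Cfsg.Agent.Classical.Quad

open Module Matrix

variable {F V : Type*} [Field F] [AddCommGroup V] [Module F V]

theorem orth_indep {B : LinearMap.BilinForm F V} {k : ℕ} {a : Fin k → V}
    (ha : ∀ i j, i ≠ j → B (a i) (a j) = 0) (hd : ∀ i, B (a i) (a i) ≠ 0) : LinearIndependent F a := by
  rw [Fintype.linearIndependent_iff]
  intro g hg i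
  have := congrArg (B (a i)) hg
  rw [map_sum, Finset.sum_eq_single i (fun j _ hj => by rw [map_smul, ha i j (Ne.symm hj), smul_zero])
    (fun h => absurd (Finset.mem_univ i) h), map_smul, map_zero, smul_eq_mul] at this
  exact (mul_eq_zero.1 this).resolve_right (hd i)

theorem exists_orth_next [FiniteDimensional F V] {B : LinearMap.BilinForm F V} (h2 : (2 : F) ≠ 0)
    (hS : B.IsSymm) (hB : B.Nondegenerate) {k : ℕ} {a : Fin k → V}
    (ha : ∀ i j, i ≠ j → B (a i) (a j) = 0) (hd : ∀ i, B (a i) (a i) ≠ 0) (hk : k < finrank F V) :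
    ∃ v, (∀ i, B (a i) v = 0) ∧ B v v ≠ 0 := by
  let r : V → V := fun x => x - ∑ i, (B (a i) x / B (a i) (a i)) • a i
  have hr : ∀ x i, B (a i) (r x) = 0 := fun x i => by
    simp only [r, map_sub, map_sum, map_smul, smul_eq_mul]
    rw [Finset.sum_eq_single i (fun j _ hj => by rw [ha i j (Ne.symm hj), mul_zero])
      (fun h => absurd (Finset.mem_univ i) h), div_mul_cancel₀ _ (hd i), sub_self]
  obtain ⟨x, hx⟩ : ∃ x, r x ≠ 0 := by
    by_contra hc
    push Not at hc
    have hspan : Submodule.span F (Set.range a) = ⊤ := Submodule.eq_top_iff'.2 fun x => by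
      rw [show x = ∑ i, (B (a i) x / B (a i) (a i)) • a i from sub_eq_zero.1 (hc x)]
      exact Submodule.sum_mem _ fun i _ => Submodule.smul_mem _ _ (Submodule.subset_span ⟨i, rfl⟩)
    have := finrank_span_eq_card (orth_indep ha hd)
    rw [hspan, finrank_top, Fintype.card_fin] at this
    omega
  obtain ⟨y, hy⟩ : ∃ y, B (r x) (r y) ≠ 0 := by
    by_contra hc
    push Not at hc
    refine hx (hB.1 _ fun y => ?_)
    rw [show y = r y + ∑ i, (B (a i) y / B (a i) (a i)) • a i from (sub_add_cancel _ _).symm, map_add, hc y,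
      zero_add, map_sum]
    exact Finset.sum_eq_zero fun i _ => by rw [map_smul, hS.eq (r x), hr, smul_zero]
  by_cases h1 : B (r x) (r x) = 0
  swap
  · exact ⟨_, hr x, h1⟩
  by_cases h3 : B (r y) (r y) = 0
  swap
  · exact ⟨_, hr y, h3⟩
  refine ⟨r x + r y, fun i => by rw [map_add, hr, hr, add_zero], ?_⟩
  simp only [map_add, LinearMap.add_apply, h1, h3, zero_add, add_zero, hS.eq (r y) (r x), ← two_mul]
  exact mul_ne_zero h2 hy

theorem exists_binary_one [Fintype F] (h2 : (2 : F) ≠ 0) {c d : F} (hc : c ≠ 0) (hd : d ≠ 0) :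
    ∃ x y : F, c * x ^ 2 + d * y ^ 2 = 1 := by
  have hodd : ringChar F ≠ 2 := fun h => h2 (by
    have : CharP F 2 := h ▸ ringChar.charP F
    exact CharTwo.two_eq_zero)
  obtain ⟨x, y, h⟩ := FiniteField.exists_root_sum_quadratic
    (f := Polynomial.C c * Polynomial.X ^ 2 + Polynomial.C 0 * Polynomial.X + Polynomial.C 0)
    (g := Polynomial.C d * Polynomial.X ^ 2 + Polynomial.C 0 * Polynomial.X + Polynomial.C (-1))
    (Polynomial.degree_quadratic hc) (Polynomial.degree_quadratic hd) (FiniteField.odd_card_of_char_ne_two hodd)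
  simp at h
  exact ⟨x, y, by linear_combination h⟩

theorem square_or_div_square [Finite F] {α : F} (hα : ¬IsSquare α) {c : F} (hc : c ≠ 0) :
    (∃ t, t * t * c = 1) ∨ (∃ t, t * t * c = α) := by
  classical
  have : Fintype F := Fintype.ofFinite F
  have hα0 : α ≠ 0 := fun h => hα (h ▸ IsSquare.zero)
  by_cases hs : IsSquare c
  · obtain ⟨s, rfl⟩ := hs
    have hs0 : s ≠ 0 := left_ne_zero_of_mul hc
    exact Or.inl ⟨s⁻¹, by field_simp⟩
  · have h : IsSquare (α / c) := by
      rw [← quadraticChar_one_iff_isSquare (div_ne_zero hα0 hc), div_eq_mul_inv, map_mul,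
        quadraticChar_neg_one_iff_not_isSquare.2 hα,
        quadraticChar_neg_one_iff_not_isSquare.2 (show ¬IsSquare c⁻¹ from fun h => hs (by simpa using h.inv))]
      norm_num
    obtain ⟨t, ht⟩ := h
    exact Or.inr ⟨t, by rw [← ht, div_mul_cancel₀ _ hc]⟩

theorem exists_diag_basis [Finite F] [FiniteDimensional F V] (h2 : (2 : F) ≠ 0) (B : LinearMap.BilinForm F V)
    (hS : B.IsSymm) (hB : B.Nondegenerate) {n : ℕ} (hn : finrank F V = n + 1) (α : F) (hα : ¬ IsSquare α) :
    ∃ b : Basis (Fin (n + 1)) F V, (∀ i j, i ≠ j → B (b i) (b j) = 0) ∧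
      (∀ i, i ≠ Fin.last n → B (b i) (b i) = 1) ∧
      (B (b (Fin.last n)) (b (Fin.last n)) = 1 ∨ B (b (Fin.last n)) (b (Fin.last n)) = α) := by
  have : Fintype F := Fintype.ofFinite F
  have snoc_orth : ∀ {k : ℕ} {a : Fin k → V} (v : V), (∀ i j, i ≠ j → B (a i) (a j) = 0) →
      (∀ i, B (a i) v = 0) → ∀ i j, i ≠ j →
        B ((Fin.snoc a v : Fin (k + 1) → V) i) ((Fin.snoc a v : Fin (k + 1) → V) j) = 0 := by
    intro k a v ha hv i j
    refine Fin.lastCases ?_ (fun i => ?_) i <;> refine Fin.lastCases ?_ (fun j => ?_) j <;> intro hij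
    · exact absurd rfl hij
    · rw [Fin.snoc_castSucc, Fin.snoc_last, hS.eq]; exact hv j
    · rw [Fin.snoc_castSucc, Fin.snoc_last]; exact hv i
    · rw [Fin.snoc_castSucc, Fin.snoc_castSucc]
      exact ha i j fun h => hij (congrArg _ h)
  have hfam : ∀ k ≤ n, ∃ a : Fin k → V, (∀ i j, i ≠ j → B (a i) (a j) = 0) ∧ ∀ i, B (a i) (a i) = 1 := by
    intro k
    induction k with
    | zero => exact fun _ => ⟨Fin.elim0, fun i => i.elim0, fun i => i.elim0⟩
    | succ k ih =>
      intro hk
      obtain ⟨a, ha, ha1⟩ := ih (by omega)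
      obtain ⟨u, hu, huu⟩ := exists_orth_next h2 hS hB ha (fun i => by rw [ha1]; exact one_ne_zero) (by omega)
      obtain ⟨w, hw, hww⟩ := exists_orth_next h2 hS hB (a := (Fin.snoc a u : Fin (k + 1) → V))
        (snoc_orth u ha hu) (fun i => by refine Fin.lastCases ?_ (fun i => ?_) i <;> simp [huu, ha1]) (by omega)
      have huw : B u w = 0 := by simpa using hw (Fin.last k)
      obtain ⟨x, y, hxy⟩ := exists_binary_one h2 huu hww
      have hv : ∀ i, B (a i) (x • u + y • w) = 0 := fun i => by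
        have h' : B (a i) w = 0 := by simpa using hw i.castSucc
        simp [hu i, h']
      refine ⟨Fin.snoc a (x • u + y • w), snoc_orth _ ha hv, fun i => ?_⟩
      refine Fin.lastCases ?_ (fun i => ?_) i
      · simp [huw, hS.eq w u]
        linear_combination hxy
      · simpa using ha1 i
  obtain ⟨a, ha, ha1⟩ := hfam n le_rfl
  obtain ⟨u, hu, huu⟩ := exists_orth_next h2 hS hB ha (fun i => by rw [ha1]; exact one_ne_zero) (by omega)
  obtain ⟨t, ht⟩ : ∃ t, t * t * B u u = 1 ∨ t * t * B u u = α := by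
    rcases square_or_div_square hα huu with ⟨t, ht⟩ | ⟨t, ht⟩
    · exact ⟨t, Or.inl ht⟩
    · exact ⟨t, Or.inr ht⟩
  have hv : ∀ i, B (a i) (t • u) = 0 := fun i => by simp [hu i]
  have hvv : B (t • u) (t • u) = t * t * B u u := by simp [mul_assoc]
  have hne : ∀ i, B ((Fin.snoc a (t • u) : Fin (n + 1) → V) i) ((Fin.snoc a (t • u) : Fin (n + 1) → V) i) ≠ 0 := by
    refine fun i => Fin.lastCases ?_ (fun i => ?_) i
    · rw [Fin.snoc_last, hvv]
      rcases ht with h | h <;> rw [h]
      · exact one_ne_zero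
      · exact fun h0 => hα (h0 ▸ IsSquare.zero)
    · rw [Fin.snoc_castSucc, ha1]; exact one_ne_zero
  let b := basisOfLinearIndependentOfCardEqFinrank (orth_indep (snoc_orth _ ha hv) hne)
    (by rw [hn, Fintype.card_fin])
  have hb : ∀ i, b i = (Fin.snoc a (t • u) : Fin (n + 1) → V) i := fun i => by
    simp only [b, coe_basisOfLinearIndependentOfCardEqFinrank]
  refine ⟨b, fun i j hij => by rw [hb, hb]; exact snoc_orth _ ha hv i j hij, fun i hi => ?_, ?_⟩
  · obtain ⟨i, rfl⟩ := Fin.exists_castSucc_eq.2 hi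
    rw [hb, Fin.snoc_castSucc]; exact ha1 i
  · rw [hb, Fin.snoc_last, hvv]; exact ht

theorem toMatrix_diag {B : LinearMap.BilinForm F V} {ι : Type*} [Fintype ι] [DecidableEq ι] (b : Basis ι F V)
    (d : ι → F) (ho : ∀ i j, i ≠ j → B (b i) (b j) = 0) (hd : ∀ i, B (b i) (b i) = d i) :
    LinearMap.BilinForm.toMatrix b B = Matrix.diagonal d := by
  ext i j
  rw [LinearMap.BilinForm.toMatrix_apply]
  by_cases hij : i = j
  · subst hij; rw [hd, Matrix.diagonal_apply_eq]
  · rw [ho i j hij, Matrix.diagonal_apply_ne _ hij]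

theorem det_congr_square {B : LinearMap.BilinForm F V} {ι : Type*} [Fintype ι] [DecidableEq ι] (b b' : Basis ι F V) :
    ∃ t : F, (LinearMap.BilinForm.toMatrix b' B).det = t * t * (LinearMap.BilinForm.toMatrix b B).det := by
  refine ⟨(b.toMatrix b').det, ?_⟩
  rw [← LinearMap.BilinForm.toMatrix_mul_basis_toMatrix b b' B, Matrix.det_mul, Matrix.det_mul,
    Matrix.det_transpose]
  ring

theorem prod_update {n : ℕ} (d : F) :
    ∏ i : Fin (n + 1), (if i = Fin.last n then d else (1 : F)) = d := by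
  rw [Finset.prod_eq_single (Fin.last n) (fun j _ hj => if_neg hj) (by simp), if_pos rfl]

theorem exists_similar [Finite F] (h2 : (2 : F) ≠ 0) [FiniteDimensional F V] {n : ℕ} (hn : Odd n)
    (hV : finrank F V = n) (Q₁ Q₂ : QuadraticForm F V)
    (h₁ : (QuadraticMap.polarBilin Q₁).Nondegenerate) (h₂ : (QuadraticMap.polarBilin Q₂).Nondegenerate) :
    ∃ (g : V ≃ₗ[F] V) (c : F), c ≠ 0 ∧ ∀ v, Q₂ (g v) = c * Q₁ v := by
  have : Fintype F := Fintype.ofFinite F
  have hodd : ringChar F ≠ 2 := fun h => h2 (by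
    have : CharP F 2 := h ▸ ringChar.charP F
    exact CharTwo.two_eq_zero)
  obtain ⟨m, rfl⟩ : ∃ m, n = m + 1 := ⟨n - 1, by obtain ⟨r, hr⟩ := hn; omega⟩
  obtain ⟨α, hα⟩ := FiniteField.exists_nonsquare hodd
  have hα0 : α ≠ 0 := fun h => hα (h ▸ IsSquare.zero)
  let P₁ : LinearMap.BilinForm F V := QuadraticMap.polarBilin Q₁
  let P₂ : LinearMap.BilinForm F V := QuadraticMap.polarBilin Q₂
  have sym : ∀ Q : QuadraticForm F V, LinearMap.BilinForm.IsSymm (QuadraticMap.polarBilin Q) := fun Q =>
    ⟨fun x y => QuadraticMap.polar_comm Q x y⟩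
  have key : ∀ (B B' : LinearMap.BilinForm F V) (b b' : Basis (Fin (m + 1)) F V),
      (∀ i j, i ≠ j → B (b i) (b j) = 0) → (∀ i j, i ≠ j → B' (b' i) (b' j) = 0) →
      (∀ i, B (b i) (b i) = B' (b' i) (b' i)) →
      ∀ x y, B' (b.equiv b' (Equiv.refl _) x) (b.equiv b' (Equiv.refl _) y) = B x y := by
    intro B B' b b' ho ho' hd x y
    have e : B'.comp (b.equiv b' (Equiv.refl _) : V →ₗ[F] V) (b.equiv b' (Equiv.refl _) : V →ₗ[F] V) = B := by
      refine LinearMap.BilinForm.ext_basis b fun i j => ?_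
      simp only [LinearMap.BilinForm.comp_apply, LinearEquiv.coe_coe, Basis.equiv_apply, Equiv.refl_apply]
      by_cases hij : i = j
      · subst hij; exact (hd i).symm
      · rw [ho i j hij, ho' i j hij]
    exact congrArg (fun T : LinearMap.BilinForm F V => T x y) e
  have finish : ∀ (g : V ≃ₗ[F] V) (c : F), c ≠ 0 → (∀ x, P₂ (g x) (g x) = c * P₁ x x) →
      ∃ (g : V ≃ₗ[F] V) (c : F), c ≠ 0 ∧ ∀ v, Q₂ (g v) = c * Q₁ v := fun g c hc hg =>
    ⟨g, c, hc, fun v => mul_left_cancel₀ h2 (by
      have := hg v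
      simp only [P₁, P₂, QuadraticMap.polarBilin_apply_apply, QuadraticMap.polar_self, nsmul_eq_mul,
        Nat.cast_ofNat] at this
      linear_combination this)⟩
  obtain ⟨b₁, ho₁, hb₁, hl₁⟩ := exists_diag_basis h2 P₁ (sym Q₁) h₁ hV α hα
  obtain ⟨b₂, ho₂, hb₂, hl₂⟩ := exists_diag_basis h2 P₂ (sym Q₂) h₂ hV α hα
  by_cases heq : P₁ (b₁ (Fin.last m)) (b₁ (Fin.last m)) = P₂ (b₂ (Fin.last m)) (b₂ (Fin.last m))
  · refine finish (b₁.equiv b₂ (Equiv.refl _)) 1 one_ne_zero fun x => ?_
    rw [one_mul]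
    exact key P₁ P₂ b₁ b₂ ho₁ ho₂ (fun i => by
      by_cases hi : i = Fin.last m
      · rw [hi]; exact heq
      · rw [hb₁ i hi, hb₂ i hi]) x x
  have hA : (α • P₁).Nondegenerate := ⟨fun x hx => h₁.1 x fun y => by
      have := hx y
      simpa [P₁, hα0] using this, fun x hx => h₁.2 x fun y => by
      have := hx y
      simpa [P₁, hα0] using this⟩
  have hAs : (α • P₁).IsSymm := ⟨fun x y => by simp [P₁, QuadraticMap.polar_comm]⟩
  obtain ⟨b₃, ho₃, hb₃, hl₃⟩ := exists_diag_basis h2 (α • P₁) hAs hA hV α hα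
  set d₁ := P₁ (b₁ (Fin.last m)) (b₁ (Fin.last m))
  set d₃ := (α • P₁) (b₃ (Fin.last m)) (b₃ (Fin.last m))
  have h13 : d₁ ≠ d₃ := by
    intro he
    obtain ⟨t, ht⟩ := det_congr_square (B := α • P₁) b₁ b₃
    rw [toMatrix_diag b₃ (fun i => if i = Fin.last m then d₃ else 1) ho₃ (fun i => by
        split_ifs with hi
        · rw [hi]
        · exact hb₃ i hi),
      map_smul, Matrix.det_smul, Fintype.card_fin,
      toMatrix_diag b₁ (fun i => if i = Fin.last m then d₁ else 1) ho₁ (fun i => by
        split_ifs with hi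
        · rw [hi]
        · exact hb₁ i hi),
      Matrix.det_diagonal, Matrix.det_diagonal, prod_update, prod_update, he] at ht
    have hd3 : d₃ ≠ 0 := by
      rcases hl₃ with h | h <;> rw [h]
      · exact one_ne_zero
      · exact hα0
    have e : t * t * α ^ (m + 1) = 1 := mul_right_cancel₀ hd3 (by linear_combination -ht)
    obtain ⟨r, hr⟩ := hn
    rw [hr, pow_succ, pow_mul'] at e
    refine hα ⟨(t * α ^ r)⁻¹, ?_⟩
    rw [← mul_inv]
    exact eq_inv_of_mul_eq_one_left (by linear_combination e)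
  refine finish (b₃.equiv b₂ (Equiv.refl _)) α hα0 fun x => ?_
  refine (key (α • P₁) P₂ b₃ b₂ ho₃ ho₂ (fun i => ?_) x x).trans (by simp)
  by_cases hi : i = Fin.last m
  · rw [hi]
    show d₃ = _
    rcases hl₁ with h₁' | h₁' <;> rcases hl₂ with h₂' | h₂' <;> rcases hl₃ with h₃' | h₃' <;>
      first
        | exact h₃'.trans h₂'.symm
        | exact absurd (h₁'.trans h₂'.symm) heq
        | exact absurd (h₁'.trans h₃'.symm) h13
  · rw [hb₂ i hi, hb₃ i hi]

theorem not_equivalent_diag {n : ℕ} (h2 : (2 : F) ≠ 0) (α : F) (hα : ¬ IsSquare α) :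
    ¬ (QuadraticMap.weightedSumSquares F (fun _ : Fin (n + 1) => (1 : F))).Equivalent
      (QuadraticMap.weightedSumSquares F (fun i : Fin (n + 1) => if i = Fin.last n then α else (1 : F))) := by
  rintro ⟨e⟩
  have hpolar : ∀ (w : Fin (n + 1) → F) (x y : Fin (n + 1) → F),
      QuadraticMap.polar (QuadraticMap.weightedSumSquares F w) x y = ∑ i, (2 * w i) * (x i * y i) := fun w x y => by
    simp only [QuadraticMap.polar, QuadraticMap.weightedSumSquares_apply, smul_eq_mul, Pi.add_apply,
      ← Finset.sum_sub_distrib]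
    exact Finset.sum_congr rfl fun i _ => by ring
  let b := Pi.basisFun F (Fin (n + 1))
  have hmat : ∀ w : Fin (n + 1) → F, LinearMap.BilinForm.toMatrix b
      (QuadraticMap.polarBilin (QuadraticMap.weightedSumSquares F w)) = Matrix.diagonal fun i => 2 * w i := fun w =>
    toMatrix_diag b _ (fun i j hij => by
      rw [QuadraticMap.polarBilin_apply_apply, hpolar]
      exact Finset.sum_eq_zero fun k _ => by
        simp only [b, Pi.basisFun_apply, Pi.single_apply]
        by_cases hk : k = i <;> simp [hk, hij])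
      (fun i => by
        rw [QuadraticMap.polarBilin_apply_apply, hpolar]
        simp [b, Pi.single_apply])
  obtain ⟨t, ht⟩ := det_congr_square
    (B := QuadraticMap.polarBilin (QuadraticMap.weightedSumSquares F fun i : Fin (n + 1) => if i = Fin.last n then α else (1 : F)))
    b (b.map e.toLinearEquiv)
  have hleft : LinearMap.BilinForm.toMatrix (b.map e.toLinearEquiv)
      (QuadraticMap.polarBilin (QuadraticMap.weightedSumSquares F fun i : Fin (n + 1) => if i = Fin.last n then α else (1 : F)))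
      = LinearMap.BilinForm.toMatrix b
        (QuadraticMap.polarBilin (QuadraticMap.weightedSumSquares F fun _ : Fin (n + 1) => (1 : F))) := by
    ext i j
    simp only [LinearMap.BilinForm.toMatrix_apply, QuadraticMap.polarBilin_apply_apply, Basis.map_apply,
      QuadraticMap.polar]
    simp only [← map_add]
    have he : ∀ x, (QuadraticMap.weightedSumSquares F fun i : Fin (n + 1) => if i = Fin.last n then α else (1 : F))
        (e.toLinearEquiv x) = QuadraticMap.weightedSumSquares F (fun _ : Fin (n + 1) => (1 : F)) x := e.map_app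
    rw [he, he, he]
  rw [hleft, hmat, hmat, Matrix.det_diagonal, Matrix.det_diagonal, Finset.prod_mul_distrib,
    Finset.prod_mul_distrib, prod_update] at ht
  simp only [Finset.prod_const_one, mul_one] at ht
  have hp : (∏ _i : Fin (n + 1), (2 : F)) ≠ 0 := Finset.prod_ne_zero_iff.2 fun _ _ => h2
  have e1 : t * t * α = 1 := mul_left_cancel₀ hp (by linear_combination -ht)
  refine hα ⟨t⁻¹, ?_⟩
  rw [← mul_inv]
  exact eq_inv_of_mul_eq_one_left (by linear_combination e1)

/-! ### Totally singular subspaces of sums of squares -/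

theorem det_swap (m : ℕ) :
    (Matrix.fromBlocks (0 : Matrix (Fin m) (Fin m) F) (1 : Matrix (Fin m) (Fin m) F)
      (1 : Matrix (Fin m) (Fin m) F) (0 : Matrix (Fin m) (Fin m) F)).det = (-1) ^ m := by
  let I : Matrix (Fin m) (Fin m) F := 1
  let O : Matrix (Fin m) (Fin m) F := 0
  have e1 : Matrix.fromBlocks I O I I * Matrix.fromBlocks I (-I) O I
      * Matrix.fromBlocks I O I I * Matrix.fromBlocks I O O (-I) = Matrix.fromBlocks O I I O := by
    simp [I, O, Matrix.fromBlocks_multiply]
  have := congrArg Matrix.det e1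
  simp [I, O, Matrix.det_mul, Matrix.det_neg] at this
  exact this.symm

theorem isSquare_of_singular {m : ℕ} (h2 : (2 : F) ≠ 0) (W : Submodule F (Fin (2 * m) → F))
    (hW : finrank F W = m) (h : ∀ w ∈ W, ∑ i, w i ^ 2 = 0) : IsSquare ((-1 : F) ^ m) := by
  obtain ⟨W', hW'⟩ := exists_isCompl W
  have hd : finrank F W' = m := by
    have := Submodule.finrank_add_eq_of_isCompl hW'
    rw [hW, Module.finrank_fin_fun] at this
    omega
  let b : Basis (Fin m ⊕ Fin m) F (Fin (2 * m) → F) :=
    ((Module.finBasisOfFinrankEq F W hW).prod (Module.finBasisOfFinrankEq F W' hd)).map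
      (Submodule.prodEquivOfIsCompl W W' hW')
  have hb : ∀ i, b (Sum.inl i) ∈ W := fun i => by
    simp [b, Submodule.coe_prodEquivOfIsCompl']
  let P : LinearMap.BilinForm F (Fin (2 * m) → F) := Matrix.toBilin' (1 : Matrix (Fin (2 * m)) (Fin (2 * m)) F)
  have hP : ∀ x y, P x y = ∑ i, x i * y i := fun x y => by
    simp [P, Matrix.toBilin'_apply', dotProduct]
  let e : Fin m ⊕ Fin m ≃ Fin (2 * m) := finSumFinEquiv.trans (finCongr (by omega))
  let bs : Basis (Fin m ⊕ Fin m) F (Fin (2 * m) → F) := (Pi.basisFun F (Fin (2 * m))).reindex e.symm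
  obtain ⟨t, ht⟩ := det_congr_square (B := P) bs b
  have h1 : LinearMap.BilinForm.toMatrix bs P = 1 := by
    rw [toMatrix_diag bs (fun _ => 1) (fun i j hij => ?_) (fun i => ?_), Matrix.diagonal_one]
    · rw [hP]
      refine Finset.sum_eq_zero fun k _ => ?_
      simp only [bs, Basis.reindex_apply, Equiv.symm_symm, Pi.basisFun_apply, Pi.single_apply]
      by_cases hk : k = e i <;> simp [hk, hij]
    · rw [hP]
      simp [bs, Basis.reindex_apply, Pi.single_apply]
  rw [h1, Matrix.det_one, mul_one] at ht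
  set M := LinearMap.BilinForm.toMatrix b P with hM
  have h11 : M.toBlocks₁₁ = 0 := by
    ext i j
    simp only [Matrix.toBlocks₁₁, Matrix.of_apply, hM, LinearMap.BilinForm.toMatrix_apply, hP, Matrix.zero_apply]
    refine mul_left_cancel₀ h2 ?_
    have e0 := h _ (W.add_mem (hb i) (hb j))
    simp only [Pi.add_apply, add_sq, Finset.sum_add_distrib, h _ (hb i), h _ (hb j), zero_add, add_zero] at e0
    rw [mul_zero, Finset.mul_sum, ← e0]
    exact Finset.sum_congr rfl fun k _ => by ring
  have h21 : M.toBlocks₂₁ = M.toBlocks₁₂ᵀ := by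
    ext i j
    simp only [Matrix.toBlocks₂₁, Matrix.toBlocks₁₂, Matrix.transpose_apply, Matrix.of_apply, hM,
      LinearMap.BilinForm.toMatrix_apply, hP]
    exact Finset.sum_congr rfl fun k _ => mul_comm _ _
  have hfac : M * Matrix.fromBlocks 0 1 1 0
      = Matrix.fromBlocks M.toBlocks₁₂ 0 M.toBlocks₂₂ M.toBlocks₁₂ᵀ := by
    conv_lhs => rw [← Matrix.fromBlocks_toBlocks M, h11, h21]
    simp [Matrix.fromBlocks_multiply]
  have hdet := congrArg Matrix.det hfac
  rw [Matrix.det_mul, det_swap, Matrix.det_fromBlocks_zero₁₂, Matrix.det_transpose, ht] at hdet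
  have ht0 : t ≠ 0 := by
    intro h0
    rw [h0, zero_mul] at ht
    have hn : P.Nondegenerate :=
      LinearMap.BilinForm.nondegenerate_toBilin'_of_det_ne_zero' _ (by rw [Matrix.det_one]; exact one_ne_zero)
    exact (LinearMap.BilinForm.nondegenerate_iff_det_ne_zero b).1 hn ht
  refine ⟨(M.toBlocks₁₂).det / t, ?_⟩
  field_simp
  linear_combination hdet

theorem exists_singular_of_anti {m : ℕ} (T : (Fin m → F) →ₗ[F] (Fin m → F))
    (hT : ∀ c, ∑ i, T c i ^ 2 = -∑ i, c i ^ 2) :
    ∃ W : Submodule F (Fin (2 * m) → F), finrank F W = m ∧ ∀ w ∈ W, ∑ i, w i ^ 2 = 0 := by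
  let e : Fin m ⊕ Fin m ≃ Fin (2 * m) := finSumFinEquiv.trans (finCongr (by omega))
  let L : (Fin m → F) →ₗ[F] (Fin (2 * m) → F) :=
    { toFun := fun c j => Sum.elim c (T c) (e.symm j)
      map_add' := fun c d => funext fun j => by cases h : e.symm j <;> simp [h]
      map_smul' := fun r c => funext fun j => by cases h : e.symm j <;> simp [h] }
  refine ⟨LinearMap.range L, ?_, ?_⟩
  · have hinj : Function.Injective L := fun c d hcd => funext fun i => by
      have := congrFun hcd (e (Sum.inl i))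
      simpa [L] using this
    rw [LinearMap.finrank_range_of_inj hinj, Module.finrank_fin_fun]
  · rintro _ ⟨c, rfl⟩
    rw [← e.sum_comp, Fintype.sum_sum_type]
    simp [L, hT]

theorem singular_sum_squares_iff [Fintype F] (h2 : (2 : F) ≠ 0) (m : ℕ) :
    (∃ W : Submodule F (Fin (2 * m) → F), finrank F W = m ∧ ∀ w ∈ W, ∑ i, w i ^ 2 = 0) ↔
      ¬ (Fintype.card F % 4 = 3 ∧ Odd m) := by
  constructor
  · rintro ⟨W, hW, h⟩ ⟨hq, hm⟩
    have hs := isSquare_of_singular h2 W hW h
    rw [hm.neg_one_pow] at hs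
    exact FiniteField.isSquare_neg_one_iff.1 hs hq
  · intro h
    by_cases hq : Fintype.card F % 4 = 3
    · obtain ⟨l, rfl⟩ : ∃ l, m = l + l := by
        rcases Nat.even_or_odd m with he | ho
        · exact he
        · exact absurd ⟨hq, ho⟩ h
      obtain ⟨x, y, hxy⟩ := exists_binary_one h2 (c := (-1 : F)) (d := -1) (by simp) (by simp)
      let T : (Fin (l + l) → F) →ₗ[F] (Fin (l + l) → F) :=
        { toFun := fun c => Fin.append (fun i => x * c (Fin.castAdd l i) + y * c (Fin.natAdd l i))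
            (fun i => x * c (Fin.natAdd l i) - y * c (Fin.castAdd l i))
          map_add' := fun c d => funext fun j => by
            refine Fin.addCases (fun i => ?_) (fun i => ?_) j <;>
              simp only [Pi.add_apply, Pi.smul_apply, Fin.append_left, Fin.append_right, smul_eq_mul, RingHom.id_apply] <;>
              ring
          map_smul' := fun r c => funext fun j => by
            refine Fin.addCases (fun i => ?_) (fun i => ?_) j <;>
              simp only [Pi.add_apply, Pi.smul_apply, Fin.append_left, Fin.append_right, smul_eq_mul, RingHom.id_apply] <;>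
              ring }
      refine exists_singular_of_anti T fun c => ?_
      simp only [T, LinearMap.coe_mk, AddHom.coe_mk, Fin.sum_univ_add, Fin.append_left, Fin.append_right]
      rw [← Finset.sum_add_distrib, ← Finset.sum_add_distrib, ← Finset.sum_neg_distrib]
      refine Finset.sum_congr rfl fun i _ => ?_
      linear_combination -(c (Fin.castAdd l i) ^ 2 + c (Fin.natAdd l i) ^ 2) * hxy
    · obtain ⟨i, hi⟩ := FiniteField.isSquare_neg_one_iff.2 hq
      refine exists_singular_of_anti (i • LinearMap.id) fun c => ?_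
      rw [← Finset.sum_neg_distrib]
      refine Finset.sum_congr rfl fun j _ => ?_
      simp
      linear_combination -(c j ^ 2) * hi

end Cfsg.Agent.Classical.Quad
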