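import Mathlib

/-!
Quadratic forms with non-degenerate polar form over an arbitrary field: reflections, Siegel transformations,
hyperbolic scalings, Witt's theorem in every characteristic.
-/

set_option autoImplicit false

namespace Cfsg.Agent.Classical.Quad

open Module QuadraticMap

variable {F V : Type*} [Field F] [AddCommGroup V] [Module F V] {Q : QuadraticForm F V}

/-- The isometry group of a quadratic form. -/
def oG (Q : QuadraticForm F V) : Subgroup (V ≃ₗ[F] V) where
  carrier := {g | ∀ x, Q (g x) = Q x}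
  mul_mem' {a b} ha hb x := by rw [LinearEquiv.mul_apply, ha, hb]
  one_mem' _ := rfl
  inv_mem' {a} ha x := by
    have := ha (a⁻¹ x)
    rw [← LinearEquiv.mul_apply, mul_inv_cancel] at this
    exact this.symm

theorem polar_eq_of_mem {g : V ≃ₗ[F] V} (hg : g ∈ oG Q) (x y : V) : polar Q (g x) (g y) = polar Q x y := by
  simp only [polar, ← map_add]
  rw [hg, hg, hg]

theorem polar_self' (x : V) : polar Q x x = 2 * Q x := by rw [polar_self, nsmul_eq_mul]; norm_num

theorem map_add' (x y : V) : Q (x + y) = Q x + Q y + polar Q x y := by rw [polar]; ring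

theorem map_smul' (a : F) (x : V) : Q (a • x) = a * a * Q x := by rw [QuadraticMap.map_smul, smul_eq_mul]

theorem map_add_smul (x : V) (a : F) (v : V) : Q (x + a • v) = Q x + a * polar Q x v + a * a * Q v := by
  rw [map_add', map_smul', polar_smul_right, smul_eq_mul]; ring

theorem map_add_two (x : V) (a : F) (v : V) (b : F) (w : V) :
    Q (x + a • v + b • w) = Q x + a * polar Q x v + b * polar Q x w + a * a * Q v + b * b * Q w
      + a * b * polar Q v w := by
  rw [map_add_smul, map_add_smul, polar_add_left, polar_smul_left, smul_eq_mul]; ring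

/-- The reflection in an anisotropic vector. -/
noncomputable def refl {v : V} (hv : Q v ≠ 0) : V ≃ₗ[F] V where
  toFun x := x - (polar Q x v / Q v) • v
  map_add' x y := by
    rw [polar_add_left, add_div, add_smul]; abel
  map_smul' a x := by
    rw [RingHom.id_apply, polar_smul_left, smul_eq_mul, mul_div_assoc, smul_sub, smul_smul]
  invFun x := x - (polar Q x v / Q v) • v
  left_inv x := by
    simp only [polar_sub_left, polar_smul_left, smul_eq_mul, polar_self']
    match_scalars <;> field_simp <;> ring
  right_inv x := by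
    simp only [polar_sub_left, polar_smul_left, smul_eq_mul, polar_self']
    match_scalars <;> field_simp <;> ring

theorem refl_apply {v : V} (hv : Q v ≠ 0) (x : V) : refl hv x = x - (polar Q x v / Q v) • v := rfl

theorem refl_mem {v : V} (hv : Q v ≠ 0) : refl hv ∈ oG Q := fun x => by
  rw [refl_apply, sub_eq_add_neg, ← neg_smul, map_add_smul]
  field_simp
  ring

theorem refl_fix {v : V} (hv : Q v ≠ 0) {x : V} (hx : polar Q x v = 0) : refl hv x = x := by
  rw [refl_apply, hx, zero_div, zero_smul, sub_zero]

theorem refl_neg {v : V} (hv : Q v ≠ 0) : refl hv v = -v := by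
  rw [refl_apply, polar_self', mul_div_cancel_right₀ _ hv, two_smul]; abel

/-- The Siegel transformation attached to a singular p and a vector w orthogonal to it. -/
def siegel {p w : V} (hp : Q p = 0) (hpw : polar Q p w = 0) : V ≃ₗ[F] V where
  toFun x := x + polar Q x w • p + (-polar Q x p) • w + (-(Q w * polar Q x p)) • p
  map_add' x y := by
    simp only [polar_add_left]
    match_scalars <;> ring
  map_smul' a x := by
    simp only [polar_smul_left, smul_eq_mul, RingHom.id_apply]
    match_scalars <;> ring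
  invFun x := x + (-polar Q x w) • p + polar Q x p • w + (-(Q w * polar Q x p)) • p
  left_inv x := by
    simp only [polar_add_left, polar_smul_left, smul_eq_mul, polar_self', hp, hpw, polar_comm Q w p]
    match_scalars <;> ring
  right_inv x := by
    simp only [polar_add_left, polar_smul_left, smul_eq_mul, polar_self', hp, hpw, polar_comm Q w p]
    match_scalars <;> ring

theorem siegel_apply {p w : V} (hp : Q p = 0) (hpw : polar Q p w = 0) (x : V) :
    siegel hp hpw x = x + polar Q x w • p + (-polar Q x p) • w + (-(Q w * polar Q x p)) • p := rfl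

theorem siegel_mem {p w : V} (hp : Q p = 0) (hpw : polar Q p w = 0) : siegel hp hpw ∈ oG Q := fun x => by
  rw [siegel_apply, map_add_smul, map_add_two, polar_add_left, polar_add_left, polar_smul_left, polar_smul_left,
    polar_self', hp, hpw, polar_comm Q w p, hpw]
  simp only [smul_eq_mul]
  ring

theorem siegel_fix {p w : V} (hp : Q p = 0) (hpw : polar Q p w = 0) {x : V} (h1 : polar Q x p = 0)
    (h2 : polar Q x w = 0) : siegel hp hpw x = x := by
  rw [siegel_apply, h1, h2]; simp

/-- Scaling of a hyperbolic pair. -/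
noncomputable def hypScale {p f : V} (hp : Q p = 0) (hf : Q f = 0) (hpf : polar Q p f = 1) {c : F} (hc : c ≠ 0) :
    V ≃ₗ[F] V where
  toFun x := x + ((c - 1) * polar Q x f) • p + ((c⁻¹ - 1) * polar Q x p) • f
  map_add' x y := by
    simp only [polar_add_left]
    match_scalars <;> ring
  map_smul' a x := by
    simp only [polar_smul_left, smul_eq_mul, RingHom.id_apply]
    match_scalars <;> ring
  invFun x := x + ((c⁻¹ - 1) * polar Q x f) • p + ((c - 1) * polar Q x p) • f
  left_inv x := by
    simp only [polar_add_left, polar_smul_left, smul_eq_mul, polar_self', hp, hf, hpf, polar_comm Q f p]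
    match_scalars <;> field_simp <;> ring
  right_inv x := by
    simp only [polar_add_left, polar_smul_left, smul_eq_mul, polar_self', hp, hf, hpf, polar_comm Q f p]
    match_scalars <;> field_simp <;> ring

theorem hypScale_apply {p f : V} (hp : Q p = 0) (hf : Q f = 0) (hpf : polar Q p f = 1) {c : F} (hc : c ≠ 0)
    (x : V) : hypScale hp hf hpf hc x = x + ((c - 1) * polar Q x f) • p + ((c⁻¹ - 1) * polar Q x p) • f := rfl

theorem hypScale_mem {p f : V} (hp : Q p = 0) (hf : Q f = 0) (hpf : polar Q p f = 1) {c : F} (hc : c ≠ 0) :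
    hypScale hp hf hpf hc ∈ oG Q := fun x => by
  rw [hypScale_apply, map_add_two, hp, hf, hpf]
  field_simp
  ring

variable [FiniteDimensional F V]

/-- A vector outside a subspace pairs to one with something orthogonal to the subspace. -/
theorem exists_perp (hQ : (polarBilin Q).Nondegenerate) {S : Submodule F V} {x : V} (hx : x ∉ S) :
    ∃ w, (∀ s ∈ S, polar Q s w = 0) ∧ polar Q x w = 1 := by
  obtain ⟨φ, hφ1, hφ2⟩ := Submodule.exists_dual_map_eq_bot_of_notMem hx inferInstance
  set w := (LinearMap.BilinForm.toDual (polarBilin Q) hQ).symm ((φ x)⁻¹ • φ) with hw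
  have key : ∀ y, polar Q w y = (φ x)⁻¹ * φ y := fun y => by
    have h := LinearMap.BilinForm.apply_toDual_symm_apply (hB := hQ) (f := (φ x)⁻¹ • φ) y
    rw [← hw] at h
    simpa using h
  refine ⟨w, fun s hs => ?_, by rw [polar_comm, key, inv_mul_cancel₀ hφ1]⟩
  have : φ s ∈ Submodule.map φ S := ⟨s, hs, rfl⟩
  rw [hφ2, Submodule.mem_bot] at this
  rw [polar_comm, key, this, mul_zero]

/-- Witt's theorem for families with equal values and polar values. -/
theorem witt_family (hQ : (polarBilin Q).Nondegenerate) :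
    ∀ (k : ℕ) (a b : Fin k → V), LinearIndependent F a → LinearIndependent F b → (∀ i, Q (a i) = Q (b i)) →
      (∀ i j, polar Q (a i) (a j) = polar Q (b i) (b j)) → ∃ g ∈ oG Q, ∀ i, g (a i) = b i := by
  intro k
  induction k with
  | zero => exact fun a b _ _ _ _ => ⟨1, one_mem _, fun i => i.elim0⟩
  | succ k ih =>
    intro a b ha hb hq hp
    have hsa : LinearIndependent F (Fin.snoc (Fin.init a) (a (Fin.last k)) : Fin (k + 1) → V) := by
      rwa [Fin.snoc_init_self]
    rw [linearIndependent_finSnoc] at hsa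
    have hib : LinearIndependent F (Fin.init b) := hb.comp _ (Fin.castSucc_injective k)
    obtain ⟨g₀, hg₀, hg₀a⟩ := ih (Fin.init a) (Fin.init b) hsa.1 hib (fun i => hq _) (fun i j => hp _ _)
    set x := a (Fin.last k)
    set H := Submodule.span F (Set.range (Fin.init a))
    set y := g₀⁻¹ (b (Fin.last k)) with hydef
    have hgi : g₀⁻¹ ∈ oG Q := inv_mem hg₀
    have hgy : g₀ y = b (Fin.last k) := by rw [hydef, ← LinearEquiv.mul_apply, mul_inv_cancel]; rfl
    have hqy : Q y = Q x := by rw [hydef, hgi, ← hq]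
    suffices ∃ g ∈ oG Q, g x = y ∧ ∀ i, g (Fin.init a i) = Fin.init a i by
      obtain ⟨g, hg, hgx, hga⟩ := this
      refine ⟨g₀ * g, mul_mem hg₀ hg, fun i => Fin.lastCases ?_ (fun i => ?_) i⟩
      · rw [LinearEquiv.mul_apply, hgx, hgy]
      · have := hga i
        rw [Fin.init] at this
        rw [LinearEquiv.mul_apply, this]
        exact hg₀a i
    set p := y - x with hpdef
    have hpH : ∀ i, polar Q (Fin.init a i) p = 0 := fun i => by
      rw [hpdef, polar_sub_right, ← polar_eq_of_mem hg₀, hgy, hg₀a, sub_eq_zero]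
      exact (hp i.castSucc (Fin.last k)).symm
    by_cases hQp : Q p = 0
    swap
    · refine ⟨refl hQp, refl_mem hQp, ?_, fun i => refl_fix hQp (hpH i)⟩
      have e : polar Q x p = -Q p := by
        have := map_add' (Q := Q) x p
        rw [show x + p = y by rw [hpdef]; abel, hqy] at this
        linear_combination -this
      rw [refl_apply, e, neg_div, div_self hQp, neg_one_smul, sub_neg_eq_add, hpdef]
      abel
    have hxp : polar Q x p = 0 := by
      have := map_add' (Q := Q) x p
      rw [show x + p = y by rw [hpdef]; abel, hqy, hQp] at this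
      linear_combination -this
    have hpp : polar Q p p = 0 := by rw [polar_self', hQp, mul_zero]
    by_cases hmem : x ∈ H ⊔ Submodule.span F {p}
    swap
    · obtain ⟨w, hw, hxw⟩ := exists_perp hQ hmem
      have hpw : polar Q p w = 0 := hw p (Submodule.mem_sup_right (Submodule.mem_span_singleton_self p))
      refine ⟨siegel hQp hpw, siegel_mem hQp hpw, ?_, fun i => siegel_fix hQp hpw (hpH i)
        (hw _ (Submodule.mem_sup_left (Submodule.subset_span ⟨i, rfl⟩)))⟩
      rw [siegel_apply, hxp, hxw, hpdef]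
      simp
    obtain ⟨h, hh, _, hcp, hxeq⟩ := Submodule.mem_sup.1 hmem
    obtain ⟨c, rfl⟩ := Submodule.mem_span_singleton.1 hcp
    have hc : c ≠ 0 := fun h0 => hsa.2 (by rw [← hxeq, h0, zero_smul, add_zero]; exact hh)
    have hpnH : p ∉ H := fun hpH' => hsa.2 (by rw [← hxeq]; exact H.add_mem hh (H.smul_mem c hpH'))
    have hyeq : y = h + (c + 1) • p := by rw [add_smul, one_smul, ← add_assoc, hxeq, hpdef]; abel
    have hc1 : c + 1 ≠ 0 := fun h0 => by
      rw [h0, zero_smul, add_zero] at hyeq
      have hmemb : b (Fin.last k) ∈ Submodule.span F (Set.range (Fin.init b)) := by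
        rw [← hgy, hyeq]
        have := Submodule.mem_map_of_mem (f := (g₀ : V →ₗ[F] V)) hh
        rw [Submodule.map_span, ← Set.range_comp] at this
        rwa [show (⇑(g₀ : V →ₗ[F] V)) ∘ Fin.init a = Fin.init b from funext hg₀a] at this
      have hsb : LinearIndependent F (Fin.snoc (Fin.init b) (b (Fin.last k)) : Fin (k + 1) → V) := by
        rwa [Fin.snoc_init_self]
      exact (linearIndependent_finSnoc.1 hsb).2 hmemb
    obtain ⟨f₀, hf₀, hpf₀⟩ := exists_perp hQ hpnH
    have hf : Q (f₀ + (-Q f₀) • p) = 0 := by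
      rw [map_add_smul, hQp, polar_comm Q f₀ p, hpf₀]; ring
    have hpf : polar Q p (f₀ + (-Q f₀) • p) = 1 := by
      rw [polar_add_right, polar_smul_right, hpp, hpf₀, smul_zero, add_zero]
    set f := f₀ + (-Q f₀) • p with hfdef
    have hfix : ∀ i, hypScale hQp hf hpf (div_ne_zero hc1 hc) (Fin.init a i) = Fin.init a i := fun i => by
      rw [hypScale_apply, hpH, hfdef, polar_add_right, polar_smul_right, hpH,
        hf₀ _ (Submodule.subset_span ⟨i, rfl⟩)]
      simp
    refine ⟨_, hypScale_mem hQp hf hpf (div_ne_zero hc1 hc), ?_, hfix⟩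
    have hfixH : hypScale hQp hf hpf (div_ne_zero hc1 hc) h = h := by
      have hle : H ≤ LinearMap.eqLocus (hypScale hQp hf hpf (div_ne_zero hc1 hc) : V →ₗ[F] V) LinearMap.id :=
        Submodule.span_le.2 (by rintro _ ⟨i, rfl⟩; exact hfix i)
      exact hle hh
    have hfp : hypScale hQp hf hpf (div_ne_zero hc1 hc) p = ((c + 1) / c) • p := by
      rw [hypScale_apply, hpp, hpf, mul_zero, zero_smul, add_zero, mul_one, sub_smul, one_smul]
      abel
    rw [← hxeq, map_add, map_smul, hfixH, hfp, smul_smul, mul_div_cancel₀ _ hc, hyeq]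

theorem witt (hQ : (polarBilin Q).Nondegenerate) (X Y : Submodule F V) (φ : X ≃ₗ[F] Y)
    (hφ : ∀ x : X, Q (φ x : V) = Q (x : V)) : ∃ g ∈ oG Q, ∀ x : X, g (x : V) = (φ x : V) := by
  let b := Module.finBasis F X
  have h1 : LinearIndependent F fun i => ((b i : X) : V) :=
    b.linearIndependent.map' X.subtype X.ker_subtype
  have h2 : LinearIndependent F fun i => (φ (b i) : V) :=
    (b.map φ).linearIndependent.map' Y.subtype Y.ker_subtype
  obtain ⟨g, hg, hgb⟩ := witt_family hQ _ _ _ h1 h2 (fun i => (hφ _).symm) (fun i j => by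
    simp only [polar, ← Submodule.coe_add, ← map_add, hφ])
  refine ⟨g, hg, fun x => ?_⟩
  have e : (g : V →ₗ[F] V).comp X.subtype = Y.subtype.comp (φ : X →ₗ[F] Y) := b.ext fun i => hgb i
  exact LinearMap.congr_fun e x

/-- Maximal totally singular subspaces have the same dimension. -/
theorem finrank_eq_of_maximal (hQ : (polarBilin Q).Nondegenerate) {W₁ W₂ : Submodule F V}
    (h₁ : ∀ w ∈ W₁, Q w = 0) (h₂ : ∀ w ∈ W₂, Q w = 0)
    (hmax₁ : ∀ W : Submodule F V, W₁ ≤ W → (∀ w ∈ W, Q w = 0) → W = W₁) (hle : finrank F W₁ ≤ finrank F W₂) :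
    finrank F W₁ = finrank F W₂ := by
  obtain ⟨U, hU, hUd⟩ : ∃ U : Submodule F V, U ≤ W₂ ∧ finrank F U = finrank F W₁ := by
    let b := Module.finBasis F W₂
    let v : Fin (finrank F W₁) → V := fun i => b (Fin.castLE hle i)
    have hv : LinearIndependent F v :=
      (b.linearIndependent.map' W₂.subtype W₂.ker_subtype).comp _ (Fin.castLE_injective hle)
    refine ⟨Submodule.span F (Set.range v), Submodule.span_le.2 ?_, by rw [finrank_span_eq_card hv, Fintype.card_fin]⟩
    rintro _ ⟨i, rfl⟩
    exact (b _).2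
  obtain ⟨g, hg, hgW⟩ := witt hQ W₁ U (LinearEquiv.ofFinrankEq W₁ U hUd.symm) fun x => by
    rw [h₁ _ x.2, h₂ _ (hU (Subtype.coe_prop _))]
  have hW : W₂.map (g⁻¹ : V ≃ₗ[F] V).toLinearMap = W₁ := by
    refine hmax₁ _ (fun x hx => ?_) ?_
    · refine ⟨g x, ?_, ?_⟩
      · rw [hgW ⟨x, hx⟩]; exact hU (Subtype.coe_prop _)
      · show g⁻¹ (g x) = x
        rw [← LinearEquiv.mul_apply, inv_mul_cancel]; rfl
    · rintro _ ⟨w, hw, rfl⟩
      rw [LinearEquiv.coe_coe, inv_mem hg, h₂ w hw]
  rw [← hW, LinearEquiv.finrank_map_eq]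

theorem two_mul_finrank_le (hQ : (polarBilin Q).Nondegenerate) {W : Submodule F V} (hW : ∀ w ∈ W, Q w = 0) :
    2 * finrank F W ≤ finrank F V := by
  let T : V →ₗ[F] Module.Dual F W := (LinearMap.lcomp F F W.subtype).comp (polarBilin Q)
  have hsurj : LinearMap.range T = ⊤ := by
    rw [eq_top_iff]
    intro φ _
    obtain ⟨ψ, hψ⟩ := LinearMap.exists_extend φ
    refine ⟨(LinearMap.BilinForm.toDual (polarBilin Q) hQ).symm ψ, ?_⟩
    refine LinearMap.ext fun w => ?_
    rw [← hψ]
    exact LinearMap.BilinForm.apply_toDual_symm_apply (hB := hQ) (f := ψ) (w : V)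
  have hker : W ≤ LinearMap.ker T := fun w hw => by
    rw [LinearMap.mem_ker]
    refine LinearMap.ext fun u => ?_
    show polar Q w (u : V) = 0
    rw [polar, hW _ (W.add_mem hw u.2), hW _ hw, hW _ u.2]
    ring
  have := LinearMap.finrank_range_add_finrank_ker T
  rw [hsurj, finrank_top, Subspace.dual_finrank_eq] at this
  have := Submodule.finrank_mono hker
  omega

end Cfsg.Agent.Classical.Quad
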