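import Mathlib
import Cfsg.Prelude.Def_Classical
import Cfsg.Prelude.Def_ClassicalGeometry
import Cfsg.Agent.Classical.QuadForm

/-!
Quadratic forms on coordinate spaces: `Cfsg.isometryGroup` as the abstract isometry group, reflection and Siegel
matrices, determinants.
-/

set_option autoImplicit false

namespace Cfsg.Agent.Classical.Quad

open Matrix QuadraticMap

variable {F : Type*} [Field F] {ι : Type} [Fintype ι] [DecidableEq ι] {Q : QuadraticForm F (ι → F)}

theorem polarVec_dot (v x : ι → F) : Cfsg.polarVec (⇑Q) v ⬝ᵥ x = polar Q v x := by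
  conv_rhs => rw [← Finset.univ_sum_single x]
  have e : ∀ j, (Pi.single j (x j) : ι → F) = x j • Pi.single j 1 := fun j => by
    rw [← Pi.single_smul, smul_eq_mul, mul_one]
  have h : ∀ w, polarBilin Q v w = polar Q v w := fun w => rfl
  rw [← h, map_sum]
  refine Finset.sum_congr rfl fun j _ => ?_
  rw [e, map_smul, h, smul_eq_mul]
  exact mul_comm _ _

theorem reflectionMatrix_mulVec (v x : ι → F) :
    Cfsg.reflectionMatrix (⇑Q) v *ᵥ x = x - (polar Q x v / Q v) • v := by
  rw [Cfsg.reflectionMatrix, Matrix.sub_mulVec, Matrix.one_mulVec, Matrix.smul_mulVec, Matrix.vecMulVec_mulVec,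
    polarVec_dot, op_smul_eq_smul, smul_smul, polar_comm Q v x, div_eq_inv_mul]

theorem det_reflectionMatrix {v : ι → F} (hv : Q v ≠ 0) : (Cfsg.reflectionMatrix (⇑Q) v).det = -1 := by
  have e : Cfsg.reflectionMatrix (⇑Q) v =
      1 + Matrix.replicateCol Unit ((-(Q v)⁻¹) • v) * Matrix.replicateRow Unit (Cfsg.polarVec (⇑Q) v) := by
    rw [← Matrix.vecMulVec_eq, Matrix.smul_vecMulVec, Cfsg.reflectionMatrix, neg_smul, sub_eq_add_neg]
  rw [e, Matrix.det_one_add_replicateCol_mul_replicateRow, dotProduct_smul, polarVec_dot, polar_self', smul_eq_mul]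
  field_simp
  ring

theorem siegelMatrix_mulVec (u v x : ι → F) (c : F) :
    Cfsg.siegelMatrix (⇑Q) u v c *ᵥ x = x + (c * polar Q x u) • v - (c * polar Q x v) • u := by
  rw [Cfsg.siegelMatrix, Matrix.add_mulVec, Matrix.one_mulVec, Matrix.smul_mulVec, Matrix.sub_mulVec,
    Matrix.vecMulVec_mulVec, Matrix.vecMulVec_mulVec, polarVec_dot, polarVec_dot, op_smul_eq_smul, op_smul_eq_smul,
    polar_comm Q u x, polar_comm Q v x, smul_sub, smul_smul, smul_smul, add_sub_assoc]

theorem siegelMatrix_mulVec_eq {u v : ι → F} (hu : Q u = 0) (hv : Q v = 0) (huv : polar Q u v = 0) (c : F)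
    (x : ι → F) :
    Cfsg.siegelMatrix (⇑Q) u v c *ᵥ x =
      siegel hu (show polar Q u (-c • v) = 0 by rw [polar_smul_right, huv, smul_zero]) x := by
  rw [siegelMatrix_mulVec, siegel_apply, map_smul', hv, polar_smul_right, smul_eq_mul]
  match_scalars <;> ring

theorem mem_isometryGroup_iff {Q' : (ι → F) → F} {g : GL ι F} :
    g ∈ Cfsg.isometryGroup F Q' ↔ ∀ x, Q' (g.1 *ᵥ x) = Q' x :=
  ⟨fun h x => h x x, fun h x _ => h x⟩

/-- A linear equivalence from an invertible matrix. -/
noncomputable def glLin (g : GL ι F) : (ι → F) ≃ₗ[F] (ι → F) :=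
  LinearEquiv.ofLinear (Matrix.toLin' g.1) (Matrix.toLin' (g⁻¹).1)
    (by rw [← Matrix.toLin'_mul, ← Units.val_mul, mul_inv_cancel, Units.val_one, Matrix.toLin'_one])
    (by rw [← Matrix.toLin'_mul, ← Units.val_mul, inv_mul_cancel, Units.val_one, Matrix.toLin'_one])

theorem glLin_apply (g : GL ι F) (x : ι → F) : glLin g x = g.1 *ᵥ x := rfl

/-- The isometry group of matrices to the group of linear isometries. -/
noncomputable def oHom (Q : QuadraticForm F (ι → F)) : Cfsg.isometryGroup F ⇑Q →* oG Q :=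
  MonoidHom.mk' (fun g => ⟨glLin g.1, mem_isometryGroup_iff.1 g.2⟩) fun g g' =>
    Subtype.ext (LinearEquiv.ext fun v => by
      simp [LinearEquiv.mul_apply, glLin_apply, Matrix.mulVec_mulVec])

theorem oHom_bijective (Q : QuadraticForm F (ι → F)) : Function.Bijective (oHom Q) := by
  refine ⟨fun A B h => ?_, fun g => ?_⟩
  · refine Subtype.ext (Units.ext (Matrix.ext_of_mulVec_single fun i => ?_))
    exact congrArg (fun g : oG Q => g.1 (Pi.single i 1)) h
  · have h1 : LinearMap.toMatrix' g.1.toLinearMap * LinearMap.toMatrix' g.1.symm.toLinearMap = 1 := by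
      rw [← LinearMap.toMatrix'_comp, LinearEquiv.comp_symm, LinearMap.toMatrix'_id]
    have h2 : LinearMap.toMatrix' g.1.symm.toLinearMap * LinearMap.toMatrix' g.1.toLinearMap = 1 := by
      rw [← LinearMap.toMatrix'_comp, LinearEquiv.symm_comp, LinearMap.toMatrix'_id]
    refine ⟨⟨⟨_, _, h1, h2⟩, mem_isometryGroup_iff.2 fun x => ?_⟩,
      Subtype.ext (LinearEquiv.ext fun v => LinearMap.toMatrix'_mulVec g.1.toLinearMap v)⟩
    rw [LinearMap.toMatrix'_mulVec]
    exact g.2 x

/-- `Cfsg.isometryGroup` is the group of linear isometries. -/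
noncomputable def oEquiv (Q : QuadraticForm F (ι → F)) : Cfsg.isometryGroup F ⇑Q ≃* oG Q :=
  MulEquiv.ofBijective (oHom Q) (oHom_bijective Q)

theorem oEquiv_apply (g : Cfsg.isometryGroup F ⇑Q) (x : ι → F) : (oEquiv Q g).1 x = g.1.1 *ᵥ x := rfl

theorem det_eq_one_or_neg_one (hQ : (polarBilin Q).Nondegenerate) {M : Matrix ι ι F}
    (hM : ∀ x, Q (M *ᵥ x) = Q x) : M.det = 1 ∨ M.det = -1 := by
  let P : LinearMap.BilinForm F (ι → F) := polarBilin Q
  have hP : P.Nondegenerate := hQ
  set G := LinearMap.BilinForm.toMatrix' P with hG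
  have hd : G.det ≠ 0 := Matrix.nondegenerate_iff_det_ne_zero.1 hP.toMatrix'
  have e : Mᵀ * G * M = G := by
    have h : P.comp (Matrix.toLin' M) (Matrix.toLin' M) = P := by
      refine LinearMap.ext₂ fun x y => ?_
      simp only [P, LinearMap.BilinForm.comp_apply, polarBilin_apply_apply, polar, ← map_add]
      simp only [Matrix.toLin'_apply, hM]
    have := congrArg LinearMap.BilinForm.toMatrix' h
    rwa [LinearMap.BilinForm.toMatrix'_comp, LinearMap.toMatrix'_toLin'] at this
  have := congrArg Matrix.det e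
  rw [Matrix.det_mul, Matrix.det_mul, Matrix.det_transpose] at this
  exact mul_self_eq_one_iff.1 (mul_right_cancel₀ hd (by linear_combination this))

end Cfsg.Agent.Classical.Quad
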