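import Mathlib
import Cfsg.Agent.Classical.QuadMat

/-!
Orders of finite orthogonal groups through hyperbolic pairs; numbers of singular vectors.
-/

set_option autoImplicit false

namespace Cfsg.Agent.Classical.Quad

open Module QuadraticMap

section General

variable {F U V W : Type*} [Field F] [AddCommGroup U] [Module F U] [AddCommGroup V] [Module F V]
  [AddCommGroup W] [Module F W]

theorem nondeg_of {Q : QuadraticForm F V} (h : ∀ x, (∀ y, polar Q x y = 0) → x = 0) :
    (polarBilin Q).Nondegenerate :=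
  ⟨fun x hx => h x hx, fun x hx => h x fun y => by rw [polar_comm]; exact hx y⟩

theorem eq_zero_of_polar {Q : QuadraticForm F V} (hQ : (polarBilin Q).Nondegenerate) {x : V}
    (hx : ∀ y, polar Q x y = 0) : x = 0 := hQ.1 x hx

/-- Isometric forms have isomorphic groups. -/
def oCongr {Q₁ : QuadraticForm F V} {Q₂ : QuadraticForm F W} (e : V ≃ₗ[F] W) (he : ∀ x, Q₂ (e x) = Q₁ x) :
    oG Q₁ ≃* oG Q₂ where
  toFun g := ⟨e.symm.trans (g.1.trans e), fun x => by
    simp only [LinearEquiv.trans_apply]
    rw [he, g.2, ← he, LinearEquiv.apply_symm_apply]⟩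
  invFun g := ⟨e.trans (g.1.trans e.symm), fun x => by
    simp only [LinearEquiv.trans_apply]
    rw [← he, LinearEquiv.apply_symm_apply, g.2, he]⟩
  left_inv g := Subtype.ext (LinearEquiv.ext fun x => by simp)
  right_inv g := Subtype.ext (LinearEquiv.ext fun x => by simp)
  map_mul' g h := Subtype.ext (LinearEquiv.ext fun x => by simp [LinearEquiv.mul_apply])

variable (R : QuadraticForm F U)

/-- A hyperbolic plane plus R. -/
def hypOne : QuadraticForm F ((F × F) × U) :=
  (linMulLin (LinearMap.fst F F F) (LinearMap.snd F F F)).prod R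

theorem hypOne_apply (x : (F × F) × U) : hypOne R x = x.1.1 * x.1.2 + R x.2 := rfl

theorem polar_hypOne (x y : (F × F) × U) :
    polar (hypOne R) x y = x.1.1 * y.1.2 + y.1.1 * x.1.2 + polar R x.2 y.2 := by
  simp only [polar, hypOne_apply, Prod.fst_add, Prod.snd_add]
  ring

theorem nondeg_hypOne {R : QuadraticForm F U} (hR : (polarBilin R).Nondegenerate) :
    (polarBilin (hypOne R)).Nondegenerate := nondeg_of fun x hx => by
  have h1 := hx ((0, 1), 0)
  have h2 := hx ((1, 0), 0)
  simp [polar_hypOne] at h1 h2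
  have h3 : x.2 = 0 := eq_zero_of_polar hR fun y => by simpa [polar_hypOne] using hx ((0, 0), y)
  exact Prod.ext (Prod.ext h1 h2) h3

/-- m hyperbolic planes plus R. -/
def hyp (m : ℕ) : QuadraticForm F (((Fin m → F) × (Fin m → F)) × U) :=
  (∑ i : Fin m, linMulLin ((LinearMap.proj i).comp (LinearMap.fst F (Fin m → F) (Fin m → F)))
    ((LinearMap.proj i).comp (LinearMap.snd F (Fin m → F) (Fin m → F)))).prod R

theorem hyp_apply (m : ℕ) (x : ((Fin m → F) × (Fin m → F)) × U) :
    hyp R m x = (∑ i, x.1.1 i * x.1.2 i) + R x.2 := by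
  simp [hyp]

theorem polar_hyp (m : ℕ) (x y : ((Fin m → F) × (Fin m → F)) × U) :
    polar (hyp R m) x y = (∑ i, (x.1.1 i * y.1.2 i + y.1.1 i * x.1.2 i)) + polar R x.2 y.2 := by
  simp only [polar, hyp_apply, Prod.fst_add, Prod.snd_add, Pi.add_apply, add_mul, mul_add, Finset.sum_add_distrib]
  ring

theorem nondeg_hyp {R : QuadraticForm F U} (hR : (polarBilin R).Nondegenerate) (m : ℕ) :
    (polarBilin (hyp R m)).Nondegenerate := nondeg_of fun x hx => by
  have h1 : x.1.1 = 0 := funext fun i => by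
    simpa [polar_hyp, Pi.single_apply] using hx ((0, Pi.single i 1), 0)
  have h2 : x.1.2 = 0 := funext fun i => by
    simpa [polar_hyp, Pi.single_apply] using hx ((Pi.single i 1, 0), 0)
  have h3 : x.2 = 0 := eq_zero_of_polar hR fun y => by simpa [polar_hyp] using hx ((0, 0), y)
  exact Prod.ext (Prod.ext h1 h2) h3

/-- Splitting off the first plane. -/
def hypSucc (m : ℕ) :
    (((Fin (m + 1) → F) × (Fin (m + 1) → F)) × U) ≃ₗ[F] (F × F) × (((Fin m → F) × (Fin m → F)) × U) where
  toFun x := ((x.1.1 0, x.1.2 0), ((Fin.tail x.1.1, Fin.tail x.1.2), x.2))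
  map_add' _ _ := rfl
  map_smul' _ _ := rfl
  invFun y := ((Fin.cons y.1.1 y.2.1.1, Fin.cons y.1.2 y.2.1.2), y.2.2)
  left_inv x := by simp
  right_inv y := by simp [Fin.tail_cons]

theorem hypSucc_map (m : ℕ) (x : ((Fin (m + 1) → F) × (Fin (m + 1) → F)) × U) :
    hypOne (hyp R m) (hypSucc m x) = hyp R (m + 1) x := by
  show x.1.1 0 * x.1.2 0 + hyp R m ((Fin.tail x.1.1, Fin.tail x.1.2), x.2) = _
  simp [hyp_apply, Fin.sum_univ_succ, Fin.tail]
  ring

/-- The number of zeros. -/
noncomputable def zcard (Q : QuadraticForm F V) : ℕ := Nat.card {x : V // Q x = 0}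

theorem zcard_congr {Q₁ : QuadraticForm F V} {Q₂ : QuadraticForm F W} (e : V ≃ₗ[F] W)
    (he : ∀ x, Q₂ (e x) = Q₁ x) : zcard Q₁ = zcard Q₂ :=
  Nat.card_congr (e.toEquiv.subtypeEquiv fun x => by simp [he])

variable [Finite F] [FiniteDimensional F U]

theorem zcard_hypOne :
    zcard (hypOne R) + Nat.card U = Nat.card F * zcard R + Nat.card F * Nat.card U := by
  classical
  have : Finite U := Module.finite_of_finite F
  have := Fintype.ofFinite U
  have := Fintype.ofFinite F
  have hfib : ∀ c : F, Nat.card {p : F × F // p.1 * p.2 = c} + 1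
      = Nat.card F + if c = 0 then Nat.card F else 0 := fun c => by
    let e : {p : F × F // p.1 * p.2 = c} ≃ Σ a : F, {b : F // a * b = c} :=
      ⟨fun p => ⟨p.1.1, p.1.2, p.2⟩, fun s => ⟨(s.1, s.2.1), s.2.2⟩, fun _ => rfl, fun _ => rfl⟩
    rw [Nat.card_congr e, Nat.card_sigma, ← Finset.sum_erase_add _ _ (Finset.mem_univ (0 : F))]
    have h1 : ∀ a ∈ Finset.univ.erase (0 : F), Nat.card {b : F // a * b = c} = 1 := fun a ha => by
      have ha0 := (Finset.mem_erase.1 ha).1
      rw [Nat.card_eq_one_iff_unique]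
      exact ⟨⟨fun b b' => Subtype.ext (mul_left_cancel₀ ha0 (b.2.trans b'.2.symm))⟩,
        ⟨⟨c / a, mul_div_cancel₀ c ha0⟩⟩⟩
    have h0 : Nat.card {b : F // (0 : F) * b = c} = if c = 0 then Nat.card F else 0 := by
      split_ifs with hc
      · exact Nat.card_congr (Equiv.subtypeUnivEquiv fun b => by simp [hc])
      · have : IsEmpty {b : F // (0 : F) * b = c} := ⟨fun b => hc (by simpa using b.2.symm)⟩
        exact Nat.card_of_isEmpty
    rw [Finset.sum_congr rfl h1, h0, Finset.sum_const, smul_eq_mul, mul_one,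
      Finset.card_erase_of_mem (Finset.mem_univ _), Finset.card_univ, Nat.card_eq_fintype_card]
    have : 0 < Fintype.card F := Fintype.card_pos
    omega
  let e : {x : (F × F) × U // hypOne R x = 0} ≃ Σ u : U, {p : F × F // p.1 * p.2 = -R u} :=
    ⟨fun x => ⟨x.1.2, x.1.1, eq_neg_of_add_eq_zero_left x.2⟩,
      fun s => ⟨(s.2.1, s.1), by rw [hypOne_apply, s.2.2, neg_add_cancel]⟩, fun _ => rfl, fun _ => rfl⟩
  have hz : ∑ u : U, (if -R u = 0 then Nat.card F else 0) = Nat.card F * zcard R := by
    simp_rw [neg_eq_zero]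
    rw [← Finset.sum_filter, Finset.sum_const, smul_eq_mul, mul_comm, zcard, Nat.card_eq_fintype_card (α := {x : U // R x = 0}),
      Fintype.card_subtype]
  have hU : Nat.card U = ∑ _u : U, 1 := by simp
  rw [zcard, Nat.card_congr e, Nat.card_sigma]
  conv_lhs => rw [hU, ← Finset.sum_add_distrib]
  simp_rw [hfib]
  rw [Finset.sum_add_distrib, hz, Finset.sum_const, Finset.card_univ, smul_eq_mul, Nat.card_eq_fintype_card (α := U)]
  ring

theorem card_space (m : ℕ) :
    Nat.card (((Fin m → F) × (Fin m → F)) × U) = Nat.card F ^ (2 * m) * Nat.card U := by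
  rw [Nat.card_prod, Nat.card_prod, Nat.card_fun, Nat.card_fin, two_mul, pow_add]

theorem zcard_hyp (m : ℕ) :
    Nat.card F * zcard (hyp R m) + Nat.card F ^ m * Nat.card U
      = Nat.card F ^ (m + 1) * zcard R + Nat.card F ^ (2 * m) * Nat.card U := by
  induction m with
  | zero =>
    have : zcard (hyp R 0) = zcard R :=
      Nat.card_congr ⟨fun x => ⟨x.1.2, by simpa [hyp_apply] using x.2⟩,
        fun u => ⟨((0, 0), u.1), by simpa [hyp_apply] using u.2⟩,
        fun x => Subtype.ext (Prod.ext (Subsingleton.elim _ _) rfl), fun u => rfl⟩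
    rw [this]; ring
  | succ m ih =>
    have h := zcard_hypOne (hyp R m)
    rw [← zcard_congr (hypSucc m) (hypSucc_map R m), card_space] at h
    set q := Nat.card F
    set A := zcard (hyp R m)
    set B := zcard (hyp R (m + 1))
    have h' : q * B + q * (q ^ (2 * m) * Nat.card U) = q * (q * A) + q * (q * (q ^ (2 * m) * Nat.card U)) := by
      rw [← Nat.mul_add, ← Nat.mul_add, h]
    have e1 : q * (q * A) + q ^ (m + 1) * Nat.card U = q ^ (m + 2) * zcard R + q * (q ^ (2 * m) * Nat.card U) := by
      calc q * (q * A) + q ^ (m + 1) * Nat.card U = q * (q * A + q ^ m * Nat.card U) := by ring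
        _ = _ := by rw [ih]; ring
    have e2 : q ^ (2 * (m + 1)) * Nat.card U = q * (q * (q ^ (2 * m) * Nat.card U)) := by ring
    rw [show m + 1 + 1 = m + 2 from rfl, e2]
    linarith [h', e1]

/-! ### Hyperbolic pairs -/

/-- The hyperbolic pairs. -/
def Pairs (Q : QuadraticForm F V) : Type _ :=
  {x : V × V // Q x.1 = 0 ∧ Q x.2 = 0 ∧ polar Q x.1 x.2 = 1}

omit [Finite F] [FiniteDimensional F U] in
theorem Pairs.indep {Q : QuadraticForm F V} (x : Pairs Q) : LinearIndependent F ![x.1.1, x.1.2] := by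
  rw [LinearIndependent.pair_iff]
  intro s t hst
  have e1 := congrArg (fun v => polar Q v x.1.2) hst
  have e2 := congrArg (fun v => polar Q v x.1.1) hst
  simp [polar_add_left, polar_smul_left, polar_self', x.2.1, x.2.2.1, x.2.2.2, polar_comm Q x.1.2 x.1.1] at e1 e2
  exact ⟨e1, e2⟩

omit [FiniteDimensional F U] in
theorem card_pairs [FiniteDimensional F V] {Q : QuadraticForm F V} (hQ : (polarBilin Q).Nondegenerate) :
    Nat.card F ^ 2 * Nat.card (Pairs Q) = (zcard Q - 1) * Nat.card V := by
  classical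
  have : Finite V := Module.finite_of_finite F
  have := Fintype.ofFinite V
  let S := {p : {x : V // Q x = 0} // p ≠ ⟨0, map_zero Q⟩}
  let Fib : S → Type _ := fun p => {f : V // Q f = 0 ∧ polar Q p.1.1 f = 1}
  have hfib : ∀ p : S, Nat.card F ^ 2 * Nat.card (Fib p) = Nat.card V := fun p => by
    have hp0 : (p.1.1 : V) ∉ (⊥ : Submodule F V) := fun h =>
      p.2 (Subtype.ext ((Submodule.mem_bot F).1 h))
    obtain ⟨f₁, -, hf₁⟩ := exists_perp hQ hp0
    have hpp : polar Q p.1.1 p.1.1 = 0 := by rw [polar_self', p.1.2, mul_zero]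
    have e : V ≃ F × F × Fib p :=
      { toFun := fun v => (polar Q p.1.1 v, Q (v + (1 - polar Q p.1.1 v) • f₁),
          ⟨v + (1 - polar Q p.1.1 v) • f₁ + (-Q (v + (1 - polar Q p.1.1 v) • f₁)) • p.1.1, by
            constructor
            · rw [map_add_smul, p.1.2, polar_comm Q (v + _) p.1.1, polar_add_right, polar_smul_right, hf₁]
              simp
            · rw [polar_add_right, polar_add_right, polar_smul_right, polar_smul_right, hf₁, hpp]
              simp⟩)
        invFun := fun x => x.2.2.1 + x.2.1 • p.1.1 + (x.1 - 1) • f₁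
        left_inv := fun v => by
          simp only
          match_scalars <;> ring
        right_inv := fun x => by
          obtain ⟨a, t, f, hf, hpf⟩ := x
          have e1 : polar Q p.1.1 (f + t • p.1.1 + (a - 1) • f₁) = a := by
            rw [polar_add_right, polar_add_right, polar_smul_right, polar_smul_right, hpf, hpp, hf₁]
            simp
          have e2 : f + t • p.1.1 + (a - 1) • f₁ + (1 - a) • f₁ = f + t • p.1.1 := by match_scalars <;> ring
          have e3 : Q (f + t • p.1.1) = t := by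
            rw [map_add_smul, hf, polar_comm, hpf, p.1.2]; ring
          simp only [e1, e2, e3]
          refine Prod.ext rfl (Prod.ext rfl (Subtype.ext ?_))
          show f + t • p.1.1 + (-t) • p.1.1 = f
          match_scalars <;> ring }
    rw [Nat.card_congr e, Nat.card_prod, Nat.card_prod]
    ring
  let e : Pairs Q ≃ Σ p : S, Fib p :=
    ⟨fun x => ⟨⟨⟨x.1.1, x.2.1⟩, fun h => by
        have h' : x.1.1 = 0 := congrArg Subtype.val h
        simpa [h'] using x.2.2.2⟩, x.1.2, x.2.2⟩,
      fun s => ⟨(s.1.1.1, s.2.1), s.1.1.2, s.2.2.1, s.2.2.2⟩, fun _ => rfl, fun _ => rfl⟩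
  rw [Nat.card_congr e, Nat.card_sigma, Finset.mul_sum, Finset.sum_congr rfl fun p _ => hfib p, Finset.sum_const,
    smul_eq_mul, Finset.card_univ, zcard, Nat.card_eq_fintype_card (α := {x : V // Q x = 0})]
  congr 1
  simp [S, Fintype.card_subtype_compl]

/-- Extending an isometry of R by the identity on the plane. -/
def extIso (h : oG R) : oG (hypOne R) :=
  ⟨(LinearEquiv.refl F (F × F)).prodCongr h.1, fun x => by
    rw [hypOne_apply, hypOne_apply, LinearEquiv.prodCongr_apply, LinearEquiv.refl_apply, h.2]⟩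

omit [Finite F] [FiniteDimensional F U] in
theorem extIso_apply (h : oG R) (x : (F × F) × U) : (extIso R h).1 x = (x.1, h.1 x.2) := rfl

theorem card_oG_hypOne (hR : (polarBilin R).Nondegenerate) :
    Nat.card (oG (hypOne R)) = Nat.card (Pairs (hypOne R)) * Nat.card (oG R) := by
  set e : (F × F) × U := ((1, 0), 0) with he
  set f : (F × F) × U := ((0, 1), 0) with hf
  let b : Pairs (hypOne R) := ⟨(e, f), by simp [he, hypOne_apply], by simp [hf, hypOne_apply],
    by simp [he, hf, polar_hypOne]⟩
  have hex : ∀ x : Pairs (hypOne R), ∃ g : oG (hypOne R), g.1 e = x.1.1 ∧ g.1 f = x.1.2 := fun x => by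
    obtain ⟨g, hg, hga⟩ := witt_family (nondeg_hypOne hR) 2 ![e, f] ![x.1.1, x.1.2] b.indep x.indep
      (fun i => by
        fin_cases i
        · simp [x.2.1, he, hypOne_apply]
        · simp [x.2.2.1, hf, hypOne_apply])
      (fun i j => by
        fin_cases i <;> fin_cases j <;>
          simp [he, hf, polar_hypOne, hypOne_apply, polar_self', x.2.1, x.2.2.1, x.2.2.2, polar_comm (hypOne R) x.1.2 x.1.1])
    exact ⟨⟨g, hg⟩, hga 0, hga 1⟩
  choose g hge hgf using hex
  rw [← Nat.card_prod]
  refine (Nat.card_congr (Equiv.ofBijective (fun x => g x.1 * extIso R x.2) ⟨?_, ?_⟩)).symm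
  · rintro ⟨x, h⟩ ⟨x', h'⟩ hxx
    simp only at hxx
    have h1 := congrArg (fun k : oG (hypOne R) => k.1 e) hxx
    have h2 := congrArg (fun k : oG (hypOne R) => k.1 f) hxx
    simp only [Subgroup.coe_mul, LinearEquiv.mul_apply, extIso_apply, he, hf, map_zero] at h1 h2
    have hx : x = x' := by
      refine Subtype.ext (Prod.ext ?_ ?_)
      · rw [← hge x, ← hge x']; exact h1
      · rw [← hgf x, ← hgf x']; exact h2
    subst hx
    refine Prod.ext rfl (Subtype.ext (LinearEquiv.ext fun u => ?_))
    exact congrArg Prod.snd (congrArg (fun k : oG (hypOne R) => k.1 ((0, 0), u)) (mul_left_cancel hxx))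
  · intro k
    let x : Pairs (hypOne R) := ⟨(k.1 e, k.1 f), by rw [k.2]; exact b.2.1, by rw [k.2]; exact b.2.2.1,
      by rw [polar_eq_of_mem k.2]; exact b.2.2.2⟩
    set k' := (g x)⁻¹ * k with hk'
    have hfixI : ∀ (t : oG (hypOne R)), t.1 e = e → t.1 f = f → ∀ u : U, (t.1 ((0, 0), u)).1 = 0 := by
      intro t te tf u
      have h1 := polar_eq_of_mem t.2 ((0, 0), u) e
      have h2 := polar_eq_of_mem t.2 ((0, 0), u) f
      rw [te] at h1
      rw [tf] at h2
      simp [he, hf, polar_hypOne] at h1 h2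
      exact Prod.ext h2 h1
    have hk'e : k'.1 e = e := by
      show (g x).1⁻¹ (k.1 e) = e
      rw [show k.1 e = (g x).1 e from (hge x).symm, ← LinearEquiv.mul_apply, inv_mul_cancel]; rfl
    have hk'f : k'.1 f = f := by
      show (g x).1⁻¹ (k.1 f) = f
      rw [show k.1 f = (g x).1 f from (hgf x).symm, ← LinearEquiv.mul_apply, inv_mul_cancel]; rfl
    have hinv : ∀ y, (k'⁻¹).1 (k'.1 y) = y := fun y => by
      rw [← LinearEquiv.mul_apply, ← Subgroup.coe_mul, inv_mul_cancel]; rfl
    have hie : (k'⁻¹).1 e = e := by rw [← hk'e, hinv, hk'e]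
    have hif : (k'⁻¹).1 f = f := by rw [← hk'f, hinv, hk'f]
    let L : ∀ t : oG (hypOne R), U →ₗ[F] U := fun t =>
      (LinearMap.snd F (F × F) U).comp (t.1.toLinearMap.comp (LinearMap.inr F (F × F) U))
    have hL : ∀ (t : oG (hypOne R)), t.1 e = e → t.1 f = f → ∀ u, t.1 ((0, 0), u) = ((0, 0), L t u) :=
      fun t te tf u => Prod.ext (hfixI t te tf u) rfl
    let h0 : U ≃ₗ[F] U := LinearEquiv.ofLinear (L k') (L k'⁻¹)
      (LinearMap.ext fun u => by
        have := congrArg (fun z : oG (hypOne R) => z.1 ((0, 0), u)) (mul_inv_cancel k')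
        simp only [Subgroup.coe_mul, LinearEquiv.mul_apply, hL _ hie hif, hL _ hk'e hk'f] at this
        exact congrArg Prod.snd this)
      (LinearMap.ext fun u => by
        have := congrArg (fun z : oG (hypOne R) => z.1 ((0, 0), u)) (inv_mul_cancel k')
        simp only [Subgroup.coe_mul, LinearEquiv.mul_apply, hL _ hie hif, hL _ hk'e hk'f] at this
        exact congrArg Prod.snd this)
    let h : oG R := ⟨h0, fun u => by
      have := k'.2 ((0, 0), u)
      rw [hL _ hk'e hk'f, hypOne_apply, hypOne_apply] at this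
      simpa [h0] using this⟩
    refine ⟨(x, h), ?_⟩
    show g x * extIso R h = k
    suffices extIso R h = k' by rw [this, hk', mul_inv_cancel_left]
    refine Subtype.ext (LinearEquiv.ext fun y => ?_)
    have hy : y = y.1.1 • e + y.1.2 • f + ((0, 0), y.2) := by
      obtain ⟨⟨a, c⟩, u⟩ := y
      simp [he, hf]
    conv_rhs => rw [hy, map_add, map_add, map_smul, map_smul, hk'e, hk'f, hL _ hk'e hk'f]
    rw [extIso_apply]
    simp [he, hf, h, h0]

theorem card_oG_hyp_succ (hR : (polarBilin R).Nondegenerate) (m : ℕ) :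
    Nat.card (oG (hyp R (m + 1))) =
      (zcard (hyp R (m + 1)) - 1) * (Nat.card F ^ (2 * m) * Nat.card U) * Nat.card (oG (hyp R m)) := by
  have h1 := card_oG_hypOne (hyp R m) (nondeg_hyp hR m)
  have h2 := card_pairs (nondeg_hypOne (nondeg_hyp hR m))
  rw [← Nat.card_congr (oCongr (hypSucc m) (hypSucc_map R m)).toEquiv] at h1
  rw [← zcard_congr (hypSucc m) (hypSucc_map R m), Nat.card_prod, Nat.card_prod, card_space] at h2
  have hq : 0 < Nat.card F ^ 2 := pow_pos Nat.card_pos 2
  refine Nat.eq_of_mul_eq_mul_left hq ?_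
  rw [h1, ← mul_assoc, h2]
  ring

theorem card_oG_hyp_zero : Nat.card (oG (hyp R 0)) = Nat.card (oG R) :=
  Nat.card_congr (oCongr (Q₁ := R) (Q₂ := hyp R 0)
    { toFun := fun u => ((0, 0), u)
      map_add' := fun _ _ => by simp
      map_smul' := fun _ _ => by simp
      invFun := fun x => x.2
      left_inv := fun _ => rfl
      right_inv := fun x => Prod.ext (Subsingleton.elim _ _) rfl } (fun u => by simp [hyp_apply])).toEquiv.symm

end General

end Cfsg.Agent.Classical.Quad
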