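import Mathlib
import Cfsg.Prelude.Def_Classical
import Cfsg.Agent.Classical.QuadOrder

/-!
The standard quadratic forms of `Cfsg`: numbers of zeros and orders of the isometry groups.
-/

set_option autoImplicit false

namespace Cfsg.Agent.Classical.Quad

open Module QuadraticMap Matrix

variable {F : Type*} [Field F]

section Transport

variable {V : Type*} [AddCommGroup V] [Module F V] {ι : Type} [Fintype ι] [DecidableEq ι]
  {Q : QuadraticForm F V} {Q' : (ι → F) → F}

/-- Pulling back a form along linear coordinates. -/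
theorem card_isometryGroup_eq (e : (ι → F) ≃ₗ[F] V) (he : ∀ x, Q (e x) = Q' x) :
    Nat.card (Cfsg.isometryGroup F Q') = Nat.card (oG Q) := by
  have hfun : Q' = ⇑(Q.comp e.toLinearMap) := funext fun x => (he x).symm
  subst hfun
  exact (Nat.card_congr (oEquiv (Q.comp e.toLinearMap)).toEquiv).trans
    (Nat.card_congr (oCongr e fun x => rfl).toEquiv)

theorem card_zeros_eq (e : (ι → F) ≃ₗ[F] V) (he : ∀ x, Q (e x) = Q' x) :
    Nat.card {v : ι → F // Q' v = 0} = zcard Q :=
  Nat.card_congr (e.toEquiv.subtypeEquiv fun x => by simp [he])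

end Transport

/-! ### Coordinates -/

/-- The zero form on the zero space. -/
def zeroForm (F : Type*) [Field F] : QuadraticForm F (Fin 0 → F) := 0

/-- x² on the line. -/
def sqForm (F : Type*) [Field F] : QuadraticForm F F := linMulLin LinearMap.id LinearMap.id

/-- The binary form z₁² + a z₁ z₂ + b z₂². -/
def binForm (a b : F) : QuadraticForm F (F × F) :=
  linMulLin (LinearMap.fst F F F) (LinearMap.fst F F F + a • LinearMap.snd F F F)
    + linMulLin (LinearMap.snd F F F) (b • LinearMap.snd F F F)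

theorem binForm_apply (a b : F) (z : F × F) : binForm a b z = z.1 ^ 2 + a * z.1 * z.2 + b * z.2 ^ 2 := by
  simp [binForm]; ring

theorem polar_binForm (a b : F) (z w : F × F) :
    polar (binForm a b) z w = 2 * z.1 * w.1 + a * (z.1 * w.2 + w.1 * z.2) + 2 * b * z.2 * w.2 := by
  simp only [polar, binForm_apply, Prod.fst_add, Prod.snd_add]; ring

/-- Coordinates of quadFormPlus. -/
def plusCoord (m : ℕ) :
    (Fin m ⊕ Fin m → F) ≃ₗ[F] ((Fin m → F) × (Fin m → F)) × (Fin 0 → F) where
  toFun v := ((fun i => v (.inl i), fun i => v (.inr i)), 0)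
  map_add' _ _ := Prod.ext rfl (Subsingleton.elim _ _)
  map_smul' _ _ := Prod.ext rfl (Subsingleton.elim _ _)
  invFun x := Sum.elim x.1.1 x.1.2
  left_inv v := by funext i; cases i <;> rfl
  right_inv x := Prod.ext rfl (Subsingleton.elim _ _)

theorem plusCoord_map (m : ℕ) (v : Fin m ⊕ Fin m → F) :
    hyp (zeroForm F) m (plusCoord m v) = Cfsg.quadFormPlus m F v := by
  simp [hyp_apply, plusCoord, Cfsg.quadFormPlus, zeroForm]

/-- Coordinates of quadFormOdd. -/
def oddCoord (m : ℕ) : (Unit ⊕ (Fin m ⊕ Fin m) → F) ≃ₗ[F] ((Fin m → F) × (Fin m → F)) × F where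
  toFun v := ((fun i => v (.inr (.inl i)), fun i => v (.inr (.inr i))), v (.inl ()))
  map_add' _ _ := rfl
  map_smul' _ _ := rfl
  invFun x := Sum.elim (fun _ => x.2) (Sum.elim x.1.1 x.1.2)
  left_inv v := by funext i; rcases i with _ | _ | _ <;> rfl
  right_inv _ := rfl

theorem oddCoord_map (m : ℕ) (v : Unit ⊕ (Fin m ⊕ Fin m) → F) :
    hyp (sqForm F) m (oddCoord m v) = Cfsg.quadFormOdd m F v := by
  rw [hyp_apply]
  show (∑ i, v (.inr (.inl i)) * v (.inr (.inr i))) + sqForm F (v (.inl ())) = _
  simp [Cfsg.quadFormOdd, sqForm]; ring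

/-- Coordinates of quadFormMinus. -/
def minusCoord (m : ℕ) :
    ((Fin m ⊕ Fin m) ⊕ Fin 2 → F) ≃ₗ[F] ((Fin m → F) × (Fin m → F)) × (F × F) where
  toFun v := ((fun i => v (.inl (.inl i)), fun i => v (.inl (.inr i))), (v (.inr 0), v (.inr 1)))
  map_add' _ _ := rfl
  map_smul' _ _ := rfl
  invFun x := Sum.elim (Sum.elim x.1.1 x.1.2) ![x.2.1, x.2.2]
  left_inv v := by
    funext i
    rcases i with (_ | _) | i
    · rfl
    · rfl
    · fin_cases i <;> rfl
  right_inv _ := rfl

theorem minusCoord_map (a b : F) (m : ℕ) (v : (Fin m ⊕ Fin m) ⊕ Fin 2 → F) :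
    hyp (binForm a b) m (minusCoord m v) = Cfsg.quadFormMinus m F a b v := by
  rw [hyp_apply]
  show (∑ i, v (.inl (.inl i)) * v (.inl (.inr i))) + binForm a b (v (.inr 0), v (.inr 1)) = _
  simp [Cfsg.quadFormMinus, binForm_apply]

/-! ### Base cases -/

theorem nondeg_zeroForm : (polarBilin (zeroForm F)).Nondegenerate :=
  nondeg_of fun _ _ => Subsingleton.elim _ _

theorem nondeg_sqForm (h2 : (2 : F) ≠ 0) : (polarBilin (sqForm F)).Nondegenerate := nondeg_of fun x hx => by
  have := hx 1
  simp [polar, sqForm] at this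
  have h : 2 * x = 0 := by linear_combination this
  exact (mul_eq_zero.1 h).resolve_left h2

variable {a b : F} (hab : ∀ z₁ z₂ : F, z₁ ^ 2 + a * z₁ * z₂ + b * z₂ ^ 2 = 0 → z₁ = 0 ∧ z₂ = 0)
include hab

theorem b_ne_zero : b ≠ 0 := fun hb => one_ne_zero (hab 0 1 (by rw [hb]; ring)).2

theorem binForm_ne_zero {z : F × F} (hz : z ≠ 0) : binForm a b z ≠ 0 := fun h => by
  rw [binForm_apply] at h
  obtain ⟨h1, h2⟩ := hab _ _ h
  exact hz (Prod.ext h1 h2)

theorem disc_ne_zero [Finite F] : a ^ 2 - 4 * b ≠ 0 := fun h => by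
  by_cases h2 : (2 : F) = 0
  · have ha : a = 0 := pow_eq_zero_iff two_ne_zero |>.1 (by linear_combination h + 2 * b * h2)
    have : Fintype F := Fintype.ofFinite F
    obtain ⟨t, ht⟩ := FiniteField.isSquare_of_char_two (by
      have : CharP F 2 := CharTwo.of_one_ne_zero_of_two_eq_zero one_ne_zero h2
      exact ringChar.eq F 2) b
    exact one_ne_zero (hab t 1 (by rw [ha]; linear_combination -ht + b * h2)).2
  · exact mul_ne_zero h2 (one_ne_zero) (by
      have := (hab (-a) 2 (by linear_combination -h)).2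
      linear_combination this)

theorem nondeg_binForm [Finite F] : (polarBilin (binForm a b)).Nondegenerate := nondeg_of fun x hx => by
  have h1 := hx (1, 0)
  have h2 := hx (0, 1)
  simp [polar_binForm] at h1 h2
  have hd := disc_ne_zero hab
  have e1 : (a ^ 2 - 4 * b) * x.1 = 0 := by linear_combination a * h2 - 2 * b * h1
  have e2 : (a ^ 2 - 4 * b) * x.2 = 0 := by linear_combination a * h1 - 2 * h2
  exact Prod.ext ((mul_eq_zero.1 e1).resolve_left hd) ((mul_eq_zero.1 e2).resolve_left hd)

omit hab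
/-- Product in the quadratic algebra attached to the binary form. -/
def qmul (a b : F) (z w : F × F) : F × F := (z.1 * w.1 - b * z.2 * w.2, z.1 * w.2 + z.2 * w.1 + a * z.2 * w.2)

theorem binForm_qmul (z w : F × F) : binForm a b (qmul a b z w) = binForm a b z * binForm a b w := by
  simp only [binForm_apply, qmul]; ring

include hab
theorem binForm_surjective [Fintype F] (c : F) : ∃ z, binForm a b z = c := by
  classical
  by_cases hc : c = 0
  · exact ⟨0, by simp [hc]⟩
  let S : Subgroup Fˣ :=
    { carrier := {u | ∃ z, binForm a b z = u}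
      mul_mem' := fun {u v} ⟨z, hz⟩ ⟨w, hw⟩ => ⟨qmul a b z w, by rw [binForm_qmul, hz, hw, Units.val_mul]⟩
      one_mem' := ⟨(1, 0), by simp [binForm_apply]⟩
      inv_mem' := fun {u} ⟨z, hz⟩ => ⟨(u : F)⁻¹ • z, by
        rw [map_smul', hz, Units.val_inv_eq_inv_val, mul_assoc, inv_mul_cancel₀ u.ne_zero, mul_one]⟩ }
  have hne : ∀ x : F, binForm a b (x, 1) ≠ 0 := fun x => binForm_ne_zero hab (by simp)
  let φ : F → S := fun x => ⟨Units.mk0 _ (hne x), (x, 1), rfl⟩
  have hcard : Fintype.card F ≤ 2 * Fintype.card S := by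
    refine (Finset.card_le_mul_card_image_of_maps_to (f := φ) (s := Finset.univ) (t := Finset.univ) (by simp) 2
      fun y _ => ?_).trans_eq rfl
    by_cases hy : ∃ x₀, φ x₀ = y
    · obtain ⟨x₀, hx₀⟩ := hy
      refine (Finset.card_le_card (t := {x₀, -a - x₀}) fun x hx => ?_).trans Finset.card_le_two
      simp only [Finset.mem_filter] at hx
      have e := congrArg (fun s : S => ((s : Fˣ) : F)) (hx.2.trans hx₀.symm)
      simp only [φ, Units.val_mk0, binForm_apply] at e
      rcases mul_eq_zero.1 (show (x - x₀) * (x + x₀ + a) = 0 by linear_combination e) with h | h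
      · simp [sub_eq_zero.1 h]
      · simp [show x = -a - x₀ by linear_combination h]
    · rw [Finset.filter_eq_empty_iff.2 fun x _ => fun h => hy ⟨x, h⟩]
      simp
  have hS : S = ⊤ := by
    refine Subgroup.index_eq_one.1 ?_
    have h1 := S.index_mul_card
    have h3 : Nat.card Fˣ + 1 = Fintype.card F := by
      rw [Nat.card_units, Nat.card_eq_fintype_card]; have := Fintype.card_pos (α := F); omega
    rw [Nat.card_eq_fintype_card (α := S)] at h1
    have hi : 0 < S.index := Nat.pos_of_ne_zero Subgroup.index_ne_zero_of_finite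
    nlinarith
  obtain ⟨z, hz⟩ : Units.mk0 c hc ∈ S := hS ▸ Subgroup.mem_top _
  exact ⟨z, hz⟩

theorem card_norm_one [Fintype F] {q : ℕ} (hF : Fintype.card F = q) :
    Nat.card {z : F × F // binForm a b z = 1} = q + 1 := by
  classical
  have hconj : ∀ z : F × F, binForm a b (z.1 + a * z.2, -z.2) = binForm a b z := fun z => by
    simp only [binForm_apply]; ring
  have hfib : ∀ c : F, c ≠ 0 → Nat.card {z : F × F // binForm a b z = c}
      = Nat.card {z : F × F // binForm a b z = 1} := fun c hc => by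
    obtain ⟨w, hw⟩ := binForm_surjective hab c
    let f : {z : F × F // binForm a b z = 1} → {z : F × F // binForm a b z = c} := fun z =>
      ⟨qmul a b w z.1, by rw [binForm_qmul, hw, z.2, mul_one]⟩
    let g : {z : F × F // binForm a b z = c} → {z : F × F // binForm a b z = 1} := fun z =>
      ⟨c⁻¹ • qmul a b (w.1 + a * w.2, -w.2) z.1, by
        rw [map_smul', binForm_qmul, hconj, hw, z.2]
        field_simp⟩
    have hw' := hw
    rw [binForm_apply] at hw'
    refine (Nat.card_congr ⟨f, g, fun z => Subtype.ext ?_, fun z => Subtype.ext ?_⟩).symm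
    · refine Prod.ext ?_ ?_
      · show c⁻¹ * _ = z.1.1
        rw [inv_mul_eq_iff_eq_mul₀ hc]
        simp only [f, qmul]
        linear_combination z.1.1 * hw'
      · show c⁻¹ * _ = z.1.2
        rw [inv_mul_eq_iff_eq_mul₀ hc]
        simp only [f, qmul]
        linear_combination z.1.2 * hw'
    · simp only [f, g, qmul, Prod.smul_fst, Prod.smul_snd, smul_eq_mul]
      refine Prod.ext ?_ ?_
      · show _ = z.1.1
        field_simp
        linear_combination z.1.1 * hw'
      · show _ = z.1.2
        field_simp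
        linear_combination z.1.2 * hw'
  let e : {z : F × F // z ≠ 0} ≃ Σ u : {c : F // c ≠ 0}, {z : F × F // binForm a b z = u} :=
    ⟨fun z => ⟨⟨_, binForm_ne_zero hab z.2⟩, z.1, rfl⟩,
      fun s => ⟨s.2.1, fun h => s.1.2 (by rw [← s.2.2, h, map_zero])⟩, fun _ => rfl,
      fun ⟨⟨u, hu⟩, z, hz⟩ => by
        dsimp only at hz
        subst hz
        rfl⟩
  have h := Nat.card_congr e
  rw [Nat.card_sigma, Finset.sum_congr rfl fun u _ => hfib u.1 u.2, Finset.sum_const, smul_eq_mul,
    Finset.card_univ, Nat.card_eq_fintype_card (α := {z : F × F // z ≠ 0})] at h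
  simp only [ne_eq, Fintype.card_subtype_compl, Fintype.card_subtype_eq, Fintype.card_prod, hF] at h
  have hq : 2 ≤ q := hF ▸ Fintype.one_lt_card
  refine Nat.eq_of_mul_eq_mul_left (show 0 < q - 1 by omega) ?_
  rw [← h, mul_comm (q - 1), ← Nat.sq_sub_sq, one_pow, pow_two]

theorem fix_one_cases [Finite F] {g : oG (binForm a b)} (hg : g.1 (1, 0) = (1, 0)) :
    g.1 (0, 1) = (0, 1) ∨ g.1 (0, 1) = (a, -1) := by
  have hd := disc_ne_zero hab
  have h1 := g.2 (0, 1)
  have h2 := polar_eq_of_mem g.2 (1, 0) (0, 1)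
  rw [hg] at h2
  simp only [binForm_apply, polar_binForm] at h1 h2
  generalize g.1 (0, 1) = w at h1 h2 ⊢
  by_cases h20 : (2 : F) = 0
  · have ha : a ≠ 0 := fun ha => hd (by rw [ha]; linear_combination -2 * b * h20)
    have hw2 : w.2 = 1 := mul_left_cancel₀ ha (by linear_combination h2 - w.1 * h20)
    have : w.1 * (w.1 + a) = 0 := by rw [hw2] at h1; linear_combination h1
    rcases mul_eq_zero.1 this with h | h
    · exact Or.inl (Prod.ext h hw2)
    · exact Or.inr (Prod.ext (by linear_combination h - a * h20) (by rw [hw2]; linear_combination h20))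
  · have : (a ^ 2 - 4 * b) * ((w.2 - 1) * (w.2 + 1)) = 0 := by
      linear_combination (2 * w.1 + a * w.2 + a) * h2 - 4 * h1
    rcases mul_eq_zero.1 ((mul_eq_zero.1 this).resolve_left hd) with h | h
    · refine Or.inl (Prod.ext (mul_left_cancel₀ h20 ?_) (sub_eq_zero.1 h))
      linear_combination h2 - a * h
    · refine Or.inr (Prod.ext (mul_left_cancel₀ h20 ?_) (eq_neg_of_add_eq_zero_left h))
      linear_combination h2 - a * h

omit hab in
theorem ext_basis {g g' : oG (binForm a b)} (h1 : g.1 (1, 0) = g'.1 (1, 0)) (h2 : g.1 (0, 1) = g'.1 (0, 1)) :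
    g = g' :=
  Subtype.ext (LinearEquiv.ext fun x => by
    have hx : x = x.1 • ((1, 0) : F × F) + x.2 • ((0, 1) : F × F) := by simp
    rw [hx, map_add, map_add, map_smul, map_smul, map_smul, map_smul, h1, h2])

omit hab in
/-- The conjugation of the quadratic algebra. -/
def flipO (a b : F) : oG (binForm a b) :=
  ⟨{ toFun := fun x => (x.1 + a * x.2, -x.2)
     map_add' := fun x y => by ext <;> simp <;> ring
     map_smul' := fun c x => by ext <;> simp <;> ring
     invFun := fun x => (x.1 + a * x.2, -x.2)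
     left_inv := fun x => by ext <;> simp
     right_inv := fun x => by ext <;> simp }, fun x => by simp [binForm_apply]; ring⟩

omit hab in
theorem flipO_apply (a b : F) (x : F × F) : (flipO a b).1 x = (x.1 + a * x.2, -x.2) := rfl

theorem flipO_ne_one [Finite F] : flipO a b ≠ 1 := fun h => by
  have e : (flipO a b).1 (0, 1) = ((0, 1) : F × F) := by rw [h]; rfl
  rw [flipO_apply, Prod.mk.injEq] at e
  have h20 : (2 : F) = 0 := by linear_combination -e.2
  exact disc_ne_zero hab (by linear_combination a * e.1 - 2 * b * h20)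

/-- Multiplication by a norm one element. -/
noncomputable def rotO (z : {z : F × F // binForm a b z = 1}) : oG (binForm a b) :=
  ⟨LinearEquiv.ofInjectiveEndo
    { toFun := qmul a b z.1
      map_add' := fun x y => by ext <;> simp [qmul] <;> ring
      map_smul' := fun c x => by ext <;> simp [qmul] <;> ring } (fun x y h => by
      change qmul a b z.1 x = qmul a b z.1 y at h
      refine sub_eq_zero.1 (by_contra fun hne => binForm_ne_zero hab hne ?_)
      have h' : qmul a b z.1 (x - y) = 0 := by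
        simp only [qmul, Prod.mk.injEq] at h
        ext
        · simp [qmul]; linear_combination h.1
        · simp [qmul]; linear_combination h.2
      have := congrArg (binForm a b) h'
      rwa [map_zero, binForm_qmul, z.2, one_mul] at this),
    fun x => show binForm a b (qmul a b z.1 x) = _ by rw [binForm_qmul, z.2, one_mul]⟩

theorem rotO_apply (z : {z : F × F // binForm a b z = 1}) (x : F × F) :
    (rotO hab z).1 x = qmul a b z.1 x := rfl

theorem rotO_one_zero (z : {z : F × F // binForm a b z = 1}) : (rotO hab z).1 (1, 0) = z.1 := by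
  rw [rotO_apply]; simp [qmul]

theorem card_oG_binForm [Fintype F] {q : ℕ} (hF : Fintype.card F = q) :
    Nat.card (oG (binForm a b)) = 2 * (q + 1) := by
  classical
  let Φ : {z : F × F // binForm a b z = 1} × Fin 2 → oG (binForm a b) :=
    fun p => rotO hab p.1 * if p.2 = 0 then 1 else flipO a b
  have hflipe : (flipO a b).1 (1, 0) = ((1, 0) : F × F) := by rw [flipO_apply]; simp
  have hΦe : ∀ p, (Φ p).1 (1, 0) = p.1.1 := fun p => by
    by_cases hp : p.2 = 0
    · simp only [Φ, if_pos hp, mul_one, rotO_one_zero]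
    · simp only [Φ, if_neg hp, Subgroup.coe_mul, LinearEquiv.mul_apply, hflipe, rotO_one_zero]
  have hbij : Function.Bijective Φ := by
    refine ⟨fun p p' h => ?_, fun g => ?_⟩
    · have hz : p.1 = p'.1 := Subtype.ext (by rw [← hΦe p, ← hΦe p', h])
      simp only [Φ, hz] at h
      have h' := mul_left_cancel h
      refine Prod.ext hz ?_
      by_cases hp : p.2 = 0 <;> by_cases hp' : p'.2 = 0
      · rw [hp, hp']
      · rw [if_pos hp, if_neg hp'] at h'
        exact absurd h'.symm (flipO_ne_one hab)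
      · rw [if_neg hp, if_pos hp'] at h'
        exact absurd h' (flipO_ne_one hab)
      · omega
    · let z : {z : F × F // binForm a b z = 1} := ⟨g.1 (1, 0), by rw [g.2]; simp [binForm_apply]⟩
      have hk : ((rotO hab z)⁻¹ * g).1 (1, 0) = (1, 0) := by
        have e : g.1 (1, 0) = (rotO hab z).1 (1, 0) := (rotO_one_zero hab z).symm
        show (rotO hab z).1⁻¹ (g.1 (1, 0)) = _
        rw [e, ← LinearEquiv.mul_apply, inv_mul_cancel]; rfl
      rcases fix_one_cases hab hk with h | h
      · refine ⟨(z, 0), ?_⟩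
        have hone : (rotO hab z)⁻¹ * g = 1 := ext_basis (by rw [hk]; rfl) (by rw [h]; rfl)
        simp only [Φ, if_true, mul_one]
        exact inv_mul_eq_one.1 hone
      · refine ⟨(z, 1), ?_⟩
        have hfl : (rotO hab z)⁻¹ * g = flipO a b :=
          ext_basis (by rw [hk, hflipe]) (by rw [h, flipO_apply]; simp)
        simp only [Φ, show ¬((1 : Fin 2) = 0) by decide, if_false, ← hfl, mul_inv_cancel_left]
  rw [← Nat.card_congr (Equiv.ofBijective Φ hbij), Nat.card_prod, Nat.card_fin, card_norm_one hab hF, mul_comm]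

omit hab

theorem card_oG_sqForm (h2 : (2 : F) ≠ 0) : Nat.card (oG (sqForm F)) = 2 := by
  classical
  have h1 : (-1 : F) ≠ 1 := fun h => h2 (by linear_combination -h)
  have key : ∀ g : oG (sqForm F), g.1 1 = 1 ∨ g.1 1 = -1 := fun g => by
    have := g.2 1
    simp [sqForm] at this
    exact mul_self_eq_one_iff.1 this
  refine (Nat.card_congr (Equiv.ofBijective
    (fun g : oG (sqForm F) => if g.1 1 = 1 then (0 : Fin 2) else 1) ⟨fun g g' h => ?_, fun i => ?_⟩)).trans (Nat.card_fin 2)
  · refine Subtype.ext (LinearEquiv.ext fun x => ?_)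
    rw [← mul_one x, ← smul_eq_mul, map_smul, map_smul]
    rcases key g with e | e <;> rcases key g' with e' | e' <;> simp [e, e', h1] at h ⊢
  · fin_cases i
    · exact ⟨1, by simp⟩
    · exact ⟨⟨LinearEquiv.neg F, fun x => by simp [sqForm]⟩, by simp [h1]⟩

theorem card_oG_zeroForm : Nat.card (oG (zeroForm F)) = 1 := by
  have : Subsingleton (oG (zeroForm F)) :=
    ⟨fun g g' => Subtype.ext (LinearEquiv.ext fun x => Subsingleton.elim _ _)⟩
  exact Nat.card_unique

/-! ### Formulas -/

variable [Fintype F] {q : ℕ}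

theorem zcard_plus (hF : Fintype.card F = q) (k : ℕ) :
    zcard (hyp (zeroForm F) (k + 1)) + q ^ k = q ^ (2 * k + 1) + q ^ (k + 1) := by
  have h0 : zcard (zeroForm F) = 1 := by
    rw [zcard, Nat.card_congr (Equiv.subtypeUnivEquiv fun x => by simp [zeroForm])]
    simp
  have h := zcard_hyp (zeroForm F) (k + 1)
  have hU : Nat.card (Fin 0 → F) = 1 := Nat.card_unique
  rw [Nat.card_eq_fintype_card (α := F), hF, h0, hU, mul_one, mul_one, mul_one] at h
  have hq : 0 < q := hF ▸ Fintype.card_pos
  refine Nat.eq_of_mul_eq_mul_left hq ?_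
  linear_combination h

theorem zcard_odd (hF : Fintype.card F = q) (m : ℕ) : zcard (hyp (sqForm F) m) = q ^ (2 * m) := by
  have h0 : zcard (sqForm F) = 1 := by
    rw [zcard, Nat.card_eq_one_iff_unique]
    exact ⟨⟨fun x y => Subtype.ext (by
      have hx := x.2
      have hy := y.2
      simp [sqForm] at hx hy
      rw [hx, hy])⟩, ⟨⟨0, map_zero _⟩⟩⟩
  have h := zcard_hyp (sqForm F) m
  rw [Nat.card_eq_fintype_card (α := F), hF, h0] at h
  have hq : 0 < q := hF ▸ Fintype.card_pos
  refine Nat.eq_of_mul_eq_mul_left hq ?_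
  refine Nat.add_right_cancel (m := q ^ m * q) ?_
  linear_combination h

include hab
theorem zcard_minus (hF : Fintype.card F = q) (k : ℕ) :
    zcard (hyp (binForm a b) k) + q ^ (k + 1) = q ^ (2 * k + 1) + q ^ k := by
  have h0 : zcard (binForm a b) = 1 := by
    rw [zcard, Nat.card_eq_one_iff_unique]
    exact ⟨⟨fun x y => Subtype.ext (by
      rw [by_contra fun h => binForm_ne_zero hab h x.2, by_contra fun h => binForm_ne_zero hab h y.2])⟩,
      ⟨⟨0, map_zero _⟩⟩⟩
  have h := zcard_hyp (binForm a b) k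
  rw [Nat.card_prod, Nat.card_eq_fintype_card (α := F), hF, h0] at h
  have hq : 0 < q := hF ▸ Fintype.card_pos
  refine Nat.eq_of_mul_eq_mul_left hq ?_
  linear_combination h
omit hab

theorem sq_pow_sub_one (k : ℕ) : q ^ (2 * k) - 1 = (q ^ k + 1) * (q ^ k - 1) := by
  rw [← Nat.sq_sub_sq, one_pow, ← pow_mul, mul_comm k]

theorem card_oG_odd (hF : Fintype.card F = q) (h2 : (2 : F) ≠ 0) (m : ℕ) :
    Nat.card (oG (hyp (sqForm F) m)) = 2 * q ^ (m ^ 2) * ∏ i ∈ Finset.range m, (q ^ (2 * (i + 1)) - 1) := by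
  induction m with
  | zero => simp [card_oG_hyp_zero, card_oG_sqForm h2]
  | succ m ih =>
    rw [card_oG_hyp_succ _ (nondeg_sqForm h2), ih, zcard_odd hF, Nat.card_eq_fintype_card (α := F), hF,
      Finset.prod_range_succ]
    ring

theorem card_oG_plus (hF : Fintype.card F = q) (k : ℕ) :
    Nat.card (oG (hyp (zeroForm F) (k + 1))) =
      2 * q ^ ((k + 1) * k) * (q ^ (k + 1) - 1) * ∏ i ∈ Finset.range k, (q ^ (2 * (i + 1)) - 1) := by
  have hq : 1 ≤ q := hF ▸ Fintype.card_pos
  have hz : ∀ j, zcard (hyp (zeroForm F) (j + 1)) - 1 = (q ^ (j + 1) - 1) * (q ^ j + 1) := fun j => by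
    obtain ⟨r, hr⟩ := Nat.exists_eq_add_of_le (Nat.one_le_pow (j + 1) q hq)
    have h := zcard_plus hF j
    have hzr : zcard (hyp (zeroForm F) (j + 1)) = r * (q ^ j + 1) + 1 := by
      refine Nat.add_right_cancel (m := q ^ j) ?_
      rw [h, show 2 * j + 1 = (j + 1) + j by omega, pow_add, hr]
      ring
    rw [hr, Nat.add_sub_cancel_left, hzr, Nat.add_sub_cancel]
  have hU : Nat.card (Fin 0 → F) = 1 := Nat.card_unique
  induction k with
  | zero =>
    rw [card_oG_hyp_succ _ nondeg_zeroForm, card_oG_hyp_zero, card_oG_zeroForm, hz, hU]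
    simp; ring
  | succ k ih =>
    rw [card_oG_hyp_succ _ nondeg_zeroForm, ih, hz, hU, Nat.card_eq_fintype_card (α := F), hF,
      Finset.prod_range_succ, sq_pow_sub_one]
    ring

include hab
theorem card_oG_minus (hF : Fintype.card F = q) (k : ℕ) :
    Nat.card (oG (hyp (binForm a b) k)) =
      2 * q ^ ((k + 1) * k) * (q ^ (k + 1) + 1) * ∏ i ∈ Finset.range k, (q ^ (2 * (i + 1)) - 1) := by
  have hq : 1 ≤ q := hF ▸ Fintype.card_pos
  have hz : ∀ j, zcard (hyp (binForm a b) (j + 1)) - 1 = (q ^ (j + 2) + 1) * (q ^ (j + 1) - 1) := fun j => by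
    obtain ⟨r, hr⟩ := Nat.exists_eq_add_of_le (Nat.one_le_pow (j + 1) q hq)
    have h := zcard_minus hab hF (j + 1)
    have hzr : zcard (hyp (binForm a b) (j + 1)) = (q ^ (j + 2) + 1) * r + 1 := by
      refine Nat.add_right_cancel (m := q ^ (j + 1 + 1)) ?_
      rw [h, show 2 * (j + 1) + 1 = (j + 2) + (j + 1) by omega, pow_add, hr]
      ring
    rw [hr, Nat.add_sub_cancel_left, hzr, Nat.add_sub_cancel]
  induction k with
  | zero => simp [card_oG_hyp_zero, card_oG_binForm hab hF]
  | succ k ih =>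
    rw [card_oG_hyp_succ _ (nondeg_binForm hab), ih, hz, Nat.card_prod, Nat.card_eq_fintype_card (α := F), hF,
      Finset.prod_range_succ, sq_pow_sub_one]
    ring

end Cfsg.Agent.Classical.Quad
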