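import Mathlib
import Cfsg.Agent.Classical.QuadStd

/-!
Structure of non-degenerate quadratic spaces over finite fields: hyperbolic planes plus an anisotropic part of
dimension at most two, and the resulting classification into standard forms.
-/

set_option autoImplicit false

namespace Cfsg.Agent.Classical.Quad

open Module QuadraticMap

universe u v w

variable {F : Type u} [Field F]

theorem exists_singular {V : Type v} [AddCommGroup V] [Module F V] [FiniteDimensional F V] [Finite F]
    (Q : QuadraticForm F V) (h3 : 3 ≤ finrank F V) : ∃ v, v ≠ 0 ∧ Q v = 0 := by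
  classical
  have : Fintype F := Fintype.ofFinite F
  by_contra hc
  push Not at hc
  obtain ⟨x, hx⟩ : ∃ x : V, x ≠ 0 := by
    have : Nontrivial V := Module.nontrivial_of_finrank_pos (R := F) (by omega)
    exact exists_ne 0
  have hnt : ∀ (f : V →ₗ[F] F × F), ∃ y, y ≠ 0 ∧ f y = 0 := fun f => by
    by_contra h0
    push Not at h0
    have hinj : Function.Injective f := (injective_iff_map_eq_zero f).2 fun y hy =>
      by_contra fun hne => h0 y hne hy
    have := LinearMap.finrank_le_finrank_of_injective hinj
    rw [Module.finrank_prod, Module.finrank_self] at this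
    omega
  by_cases h2 : (2 : F) = 0
  · -- characteristic two
    have hch : ringChar F = 2 := by
      have := ringChar.dvd (R := F) (x := 2) (by simpa using h2)
      rcases (Nat.prime_two.eq_one_or_self_of_dvd _ this) with h | h
      · exact absurd h (CharP.ringChar_ne_one (R := F))
      · exact h
    obtain ⟨χ, hχ⟩ : ∃ χ : V →ₗ[F] F, χ x = 1 := by
      obtain ⟨χ, hχ⟩ := Module.Projective.exists_dual_ne_zero F hx
      exact ⟨(χ x)⁻¹ • χ, by simp [hχ]⟩
    obtain ⟨y, hy0, hy⟩ := hnt ((polarBilin Q x).prod χ)
    simp only [LinearMap.prod_apply, Function.prod, Function.prod_apply, Prod.mk_eq_zero, polarBilin_apply_apply] at hy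
    obtain ⟨a, ha⟩ := FiniteField.isSquare_of_char_two hch (-(Q y / Q x))
    refine hc (a • x + y) (fun h => ?_) ?_
    · have := congrArg χ h
      simp [hχ, hy.2] at this
      rw [this, zero_smul, zero_add] at h
      exact hy0 h
    · rw [map_add', map_smul', polar_smul_left, hy.1, smul_zero, add_zero, ← ha]
      field_simp [hc x hx]
      ring
  · obtain ⟨y, hy0, hy⟩ := hnt ((polarBilin Q x).prod 0)
    obtain ⟨z, hz0, hz⟩ := hnt ((polarBilin Q x).prod (polarBilin Q y))
    simp only [LinearMap.prod_apply, Function.prod, Function.prod_apply, Prod.mk_eq_zero, polarBilin_apply_apply] at hy hz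
    have hodd : ringChar F ≠ 2 := fun h => h2 (by
      have : CharP F 2 := h ▸ ringChar.charP F
      exact CharTwo.two_eq_zero)
    obtain ⟨a, b, hab⟩ := FiniteField.exists_root_sum_quadratic
      (f := Polynomial.C (Q x) * Polynomial.X ^ 2 + Polynomial.C 0 * Polynomial.X + Polynomial.C 0)
      (g := Polynomial.C (Q y) * Polynomial.X ^ 2 + Polynomial.C 0 * Polynomial.X + Polynomial.C (Q z))
      (Polynomial.degree_quadratic (hc x hx)) (Polynomial.degree_quadratic (hc y hy0))
      (FiniteField.odd_card_of_char_ne_two hodd)
    simp at hab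
    refine hc (a • x + b • y + z) (fun h => ?_) ?_
    · have h' := congrArg (fun w => polar Q w z) h
      simp [polar_add_left, polar_smul_left, hz.1, hz.2, polar_self'] at h'
      rcases h' with h' | h'
      · exact h2 h'
      · exact hc z hz0 h'
    · rw [map_add', map_add', map_smul', map_smul', polar_add_left, polar_smul_left, polar_smul_left,
        polar_smul_left, polar_smul_right, hy.1, hz.1, hz.2]
      simp only [smul_eq_mul, mul_zero, add_zero]
      linear_combination hab

theorem exists_hyp_pair {V : Type v} [AddCommGroup V] [Module F V] {Q : QuadraticForm F V}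
    (hQ : (polarBilin Q).Nondegenerate) {p : V} (hp : p ≠ 0) (hp0 : Q p = 0) :
    ∃ f, Q f = 0 ∧ polar Q p f = 1 := by
  obtain ⟨y, hy⟩ : ∃ y, polar Q p y ≠ 0 := by
    by_contra h
    push Not at h
    exact hp (eq_zero_of_polar hQ h)
  set w := (polar Q p y)⁻¹ • y with hw
  have hpw : polar Q p w = 1 := by rw [hw, polar_smul_right, smul_eq_mul, inv_mul_cancel₀ hy]
  refine ⟨w + (-Q w) • p, ?_, ?_⟩
  · rw [map_add_smul, hp0, polar_comm, hpw]; ring
  · rw [polar_add_right, hpw, polar_smul_right, polar_self', hp0]; simp

/-- The orthogonal complement of a pair. -/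
def perpPair {V : Type v} [AddCommGroup V] [Module F V] (Q : QuadraticForm F V) (e f : V) : Submodule F V :=
  LinearMap.ker (polarBilin Q e) ⊓ LinearMap.ker (polarBilin Q f)

theorem mem_perpPair {V : Type v} [AddCommGroup V] [Module F V] {Q : QuadraticForm F V} {e f x : V} :
    x ∈ perpPair Q e f ↔ polar Q e x = 0 ∧ polar Q f x = 0 := by
  simp [perpPair, LinearMap.mem_ker]

/-- Restriction to the complement of a pair. -/
def restrictPair {V : Type v} [AddCommGroup V] [Module F V] (Q : QuadraticForm F V) (e f : V) :
    QuadraticForm F (perpPair Q e f) :=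
  Q.comp (perpPair Q e f).subtype

/-- Splitting off a hyperbolic pair. -/
def splitPair {V : Type v} [AddCommGroup V] [Module F V] {Q : QuadraticForm F V} {e f : V} (he : Q e = 0)
    (hf : Q f = 0) (hef : polar Q e f = 1) : V ≃ₗ[F] (F × F) × perpPair Q e f where
  toFun x := ((polar Q f x, polar Q e x),
    ⟨x - polar Q f x • e - polar Q e x • f, mem_perpPair.2
      ⟨by simp [sub_eq_add_neg, polar_add_right, polar_smul_right, polar_neg_right, polar_self', he, hef],
       by simp [sub_eq_add_neg, polar_add_right, polar_smul_right, polar_neg_right, polar_self', hf,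
          polar_comm Q f e, hef]⟩⟩)
  map_add' x y := by
    ext <;> simp [polar_add_right, add_smul]
    abel
  map_smul' c x := by
    ext <;> simp [polar_smul_right, smul_sub, smul_smul]
  invFun p := p.1.1 • e + p.1.2 • f + (p.2 : V)
  left_inv x := by simp
  right_inv p := by
    obtain ⟨⟨a, b⟩, ⟨u, hu⟩⟩ := p
    have h := mem_perpPair.1 hu
    have h1 : polar Q f (a • e + b • f + u) = a := by
      simp [polar_add_right, polar_smul_right, polar_self', hf, polar_comm Q f e, hef, h.2]
    have h2 : polar Q e (a • e + b • f + u) = b := by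
      simp [polar_add_right, polar_smul_right, polar_self', he, hef, h.1]
    refine Prod.ext (Prod.ext h1 h2) (Subtype.ext ?_)
    simp only [h1, h2]
    abel

theorem splitPair_map {V : Type v} [AddCommGroup V] [Module F V] {Q : QuadraticForm F V} {e f : V} (he : Q e = 0)
    (hf : Q f = 0) (hef : polar Q e f = 1) (x : V) :
    hypOne (restrictPair Q e f) (splitPair he hf hef x) = Q x := by
  obtain ⟨⟨⟨a, b⟩, ⟨u, hu⟩⟩, rfl⟩ := (splitPair he hf hef).symm.surjective x
  rw [LinearEquiv.apply_symm_apply]
  have h := mem_perpPair.1 hu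
  show a * b + Q u = Q (a • e + b • f + u)
  rw [map_add', map_add', map_smul', map_smul', polar_add_left, polar_smul_left, polar_smul_left,
    polar_smul_left, polar_smul_right, he, hf, hef, h.1, h.2]
  simp

theorem nondeg_restrictPair {V : Type v} [AddCommGroup V] [Module F V] {Q : QuadraticForm F V}
    (hQ : (polarBilin Q).Nondegenerate) {e f : V} (he : Q e = 0) (hf : Q f = 0) (hef : polar Q e f = 1) :
    (polarBilin (restrictPair Q e f)).Nondegenerate := nondeg_of fun x hx => Subtype.ext <|
  eq_zero_of_polar hQ fun y => by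
    have h := mem_perpPair.1 x.2
    have hz := hx (splitPair he hf hef y).2
    have : polar Q (x : V) (y - polar Q f y • e - polar Q e y • f) = 0 := hz
    simpa [sub_eq_add_neg, polar_add_right, polar_smul_right, polar_neg_right, polar_comm Q (x : V) e,
      polar_comm Q (x : V) f, h.1, h.2] using this

/-- Hyperbolic planes plus an anisotropic form in at most two variables. -/
theorem exists_hyp_aniso [Finite F] : ∀ (n : ℕ) {V : Type v} [AddCommGroup V] [Module F V]
    [FiniteDimensional F V] (Q : QuadraticForm F V), (polarBilin Q).Nondegenerate → finrank F V = n →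
    ∃ (m r : ℕ) (R : QuadraticForm F (Fin r → F)) (e : V ≃ₗ[F] ((Fin m → F) × (Fin m → F)) × (Fin r → F)),
      (polarBilin R).Nondegenerate ∧ (∀ z, R z = 0 → z = 0) ∧ r ≤ 2 ∧ n = 2 * m + r ∧
      ∀ x, hyp R m (e x) = Q x := by
  intro n
  induction n using Nat.strong_induction_on with
  | _ n ih =>
    intro V _ _ _ Q hQ hn
    by_cases hc : ∃ p, p ≠ 0 ∧ Q p = 0
    · obtain ⟨p, hp, hp0⟩ := hc
      obtain ⟨f, hf, hpf⟩ := exists_hyp_pair hQ hp hp0
      have hdim : finrank F V = 2 + finrank F (perpPair Q p f) := by
        rw [(splitPair hp0 hf hpf).finrank_eq, Module.finrank_prod, Module.finrank_prod, Module.finrank_self]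
      obtain ⟨m, r, R, e, hR, han, hr, hdim', he⟩ :=
        ih (finrank F (perpPair Q p f)) (by omega) (restrictPair Q p f) (nondeg_restrictPair hQ hp0 hf hpf) rfl
      refine ⟨m + 1, r, R, (splitPair hp0 hf hpf).trans
        (((LinearEquiv.refl F (F × F)).prodCongr e).trans (hypSucc m).symm), hR, han, hr, by omega, fun x => ?_⟩
      simp only [LinearEquiv.trans_apply]
      rw [← hypSucc_map, LinearEquiv.apply_symm_apply, ← splitPair_map hp0 hf hpf x]
      simp [hypOne_apply, he]
    · push Not at hc
      have hle : n ≤ 2 := by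
        by_contra h
        obtain ⟨v, hv, hv0⟩ := exists_singular Q (by omega)
        exact hc v hv hv0
      let b := finBasisOfFinrankEq F V hn
      let e₀ : (Fin n → F) ≃ₗ[F] V := b.equivFun.symm
      let R : QuadraticForm F (Fin n → F) := Q.comp (e₀ : (Fin n → F) →ₗ[F] V)
      have hR : ∀ z, R z = Q (e₀ z) := fun _ => rfl
      have hRp : ∀ z w, polar R z w = polar Q (e₀ z) (e₀ w) := fun z w => by simp [polar, hR]
      let e : V ≃ₗ[F] ((Fin 0 → F) × (Fin 0 → F)) × (Fin n → F) :=
        LinearEquiv.ofLinearMap (LinearMap.prod 0 (e₀.symm : V →ₗ[F] Fin n → F))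
          ((e₀ : (Fin n → F) →ₗ[F] V).comp (LinearMap.snd F _ _))
          (LinearMap.ext fun x => Prod.ext (Subsingleton.elim _ _) (by simp))
          (LinearMap.ext fun x => by simp)
      refine ⟨0, n, R, e, nondeg_of fun z hz => ?_, fun z hz => ?_, hle, by omega, fun x => ?_⟩
      · refine e₀.injective ?_
        rw [map_zero]
        exact eq_zero_of_polar hQ fun y => by simpa [hRp] using hz (e₀.symm y)
      · exact e₀.injective (by rw [map_zero]; exact by_contra fun h => hc _ h (hR z ▸ hz))
      · rw [hyp_apply]
        simp [e, hR]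

/-- Isometry of quadratic spaces. -/
def Iso {V : Type v} [AddCommGroup V] [Module F V] {W : Type w} [AddCommGroup W] [Module F W]
    (Q : QuadraticForm F V) (Q' : QuadraticForm F W) : Prop :=
  ∃ e : V ≃ₗ[F] W, ∀ x, Q' (e x) = Q x

/-- Changing the anisotropic part. -/
theorem iso_hyp {U : Type v} [AddCommGroup U] [Module F U] {U' : Type w} [AddCommGroup U'] [Module F U']
    {R : QuadraticForm F U} {R' : QuadraticForm F U'} (h : Iso R R') (m : ℕ) : Iso (hyp R m) (hyp R' m) := by
  obtain ⟨e, he⟩ := h
  exact ⟨(LinearEquiv.refl F _).prodCongr e, fun x => by simp [hyp_apply, he]⟩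

/-- An anisotropic binary form can be put in the shape `x² + xy + ζ y²` for every root-free `ζ`. -/
theorem exists_binary_basis [Finite F] {U : Type v} [AddCommGroup U] [Module F U] [FiniteDimensional F U]
    {R : QuadraticForm F U} (hR : (polarBilin R).Nondegenerate) (han : ∀ z, R z = 0 → z = 0)
    (hU : finrank F U = 2) {ζ : F} (hζ : ∀ t : F, t ^ 2 + t + ζ ≠ 0) : Iso (binForm 1 ζ) R := by
  classical
  have : Fintype F := Fintype.ofFinite F
  let b := finBasisOfFinrankEq F U hU
  have hb : ∀ s t : F, R (s • b 0 + t • b 1) =
      R (b 0) * binForm (polar R (b 0) (b 1) / R (b 0)) (R (b 1) / R (b 0)) (s, t) := fun s t => by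
    have h0 : R (b 0) ≠ 0 := fun h => b.ne_zero 0 (han _ h)
    rw [map_add', map_smul', map_smul', polar_smul_left, polar_smul_right, binForm_apply]
    simp only [smul_eq_mul]
    field_simp
    ring
  have h0 : R (b 0) ≠ 0 := fun h => b.ne_zero 0 (han _ h)
  have hlin : ∀ s t : F, s • b 0 + t • b 1 = 0 → s = 0 ∧ t = 0 := fun s t h => by
    have := Fintype.linearIndependent_iff.1 b.linearIndependent ![s, t] (by simpa [Fin.sum_univ_two] using h)
    exact ⟨this 0, this 1⟩
  have hab : ∀ z₁ z₂ : F, z₁ ^ 2 + polar R (b 0) (b 1) / R (b 0) * z₁ * z₂ + R (b 1) / R (b 0) * z₂ ^ 2 = 0 →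
      z₁ = 0 ∧ z₂ = 0 := fun z₁ z₂ h => hlin _ _ (han _ (by rw [hb, binForm_apply, h, mul_zero]))
  obtain ⟨⟨s, t⟩, hst⟩ := binForm_surjective hab ((R (b 0))⁻¹)
  set x := s • b 0 + t • b 1 with hx
  have hx1 : R x = 1 := by rw [hx, hb, hst, mul_inv_cancel₀ h0]
  have hx0 : x ≠ 0 := fun h => one_ne_zero (by rw [← hx1, h, map_zero] : (1 : F) = 0)
  obtain ⟨y, hxy, hy⟩ : ∃ y, polar R x y = 1 ∧ R y = ζ := by
    obtain ⟨y₀, hy₀⟩ : ∃ y, polar R x y = 1 := by
      obtain ⟨y, hy⟩ : ∃ y, polar R x y ≠ 0 := by
        by_contra h
        push Not at h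
        exact hx0 (eq_zero_of_polar hR h)
      exact ⟨(polar R x y)⁻¹ • y, by rw [polar_smul_right, smul_eq_mul, inv_mul_cancel₀ hy]⟩
    by_cases h2 : (2 : F) = 0
    · have : CharP F 2 := CharTwo.of_one_ne_zero_of_two_eq_zero one_ne_zero h2
      let φ : F →+ F := AddMonoidHom.mk' (fun t => t ^ 2 + t) fun a c => by
        linear_combination (a * c) * h2
      have hy₀' : ∀ t : F, t ^ 2 + t + R y₀ ≠ 0 := fun t ht => by
        have hne : t • x + y₀ ≠ 0 := fun h => by
          have := congrArg (polar R x) h
          simp [polar_add_right, polar_smul_right, polar_self', hy₀, h2] at this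
        refine hne (han _ ?_)
        rw [map_add', map_smul', polar_smul_left, hy₀, hx1]
        simp only [smul_eq_mul]
        linear_combination ht
      have hker : Nat.card φ.ker = 2 := by
        have e : (φ.ker : Set F) = {0, 1} := by
          ext t
          simp only [SetLike.mem_coe, AddMonoidHom.mem_ker, Set.mem_insert_iff, Set.mem_singleton_iff, φ,
            AddMonoidHom.mk'_apply]
          constructor
          · intro h
            have h' : t * (t - 1) = 0 := by linear_combination h - t * h2
            simpa [sub_eq_zero] using h'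
          · rintro (rfl | rfl)
            · simp
            · linear_combination h2
        show Nat.card (φ.ker : Set F) = 2
        rw [e]
        simp
      have hidx : φ.range.index = 2 := by
        have h1 := φ.range.index_mul_card
        have h2' := φ.ker.index_mul_card
        rw [AddSubgroup.index_ker, hker] at h2'
        have : 0 < Nat.card φ.range := Nat.card_pos
        nlinarith
      have hmem : ζ + R y₀ ∈ φ.range := by
        refine ((AddSubgroup.add_mem_iff_of_index_two hidx).2 (iff_of_false ?_ ?_))
        · rintro ⟨t, ht⟩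
          refine hζ t ?_
          simp only [φ, AddMonoidHom.mk'_apply] at ht
          linear_combination ht + ζ * h2
        · rintro ⟨t, ht⟩
          refine hy₀' t ?_
          simp only [φ, AddMonoidHom.mk'_apply] at ht
          linear_combination ht + (R y₀) * h2
      obtain ⟨t, ht⟩ := hmem
      simp only [φ, AddMonoidHom.mk'_apply] at ht
      refine ⟨t • x + y₀, ?_, ?_⟩
      · simp [polar_add_right, polar_smul_right, polar_self', hy₀, h2]
      · rw [map_add', map_smul', polar_smul_left, hy₀, hx1]
        simp only [smul_eq_mul]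
        linear_combination ht + (R y₀) * h2
    · obtain ⟨z, hz0, hz⟩ : ∃ z, z ≠ 0 ∧ polar R x z = 0 := by
        by_contra h
        push Not at h
        have hinj : Function.Injective (polarBilin R x) := (injective_iff_map_eq_zero _).2 fun y hy =>
          by_contra fun hne => h y hne hy
        have := LinearMap.finrank_le_finrank_of_injective hinj
        rw [hU, Module.finrank_self] at this
        omega
      have hRz : R z ≠ 0 := fun h => hz0 (han _ h)
      have n1 : ¬ IsSquare (-R z) := fun ⟨r, hr⟩ => by
        have hne : r • x + z ≠ 0 := fun h => by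
          have h' := congrArg (polar R x) h
          simp [polar_add_right, polar_smul_right, polar_self', hz, hx1, h2] at h'
          rw [h', zero_smul, zero_add] at h
          exact hz0 h
        refine hne (han _ ?_)
        rw [map_add', map_smul', polar_smul_left, hz, hx1]
        simp only [smul_eq_mul]
        linear_combination -hr
      have n2 : ¬ IsSquare ((2⁻¹ : F) * 2⁻¹ - ζ) := fun ⟨r, hr⟩ => hζ (r - 2⁻¹) (by
        linear_combination -hr - (r - 2⁻¹) * mul_inv_cancel₀ h2)
      have hs : IsSquare (((2⁻¹ : F) * 2⁻¹ - ζ) / -R z) := by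
        have hne : (2⁻¹ : F) * 2⁻¹ - ζ ≠ 0 := fun h => n2 (h ▸ IsSquare.zero)
        rw [← quadraticChar_one_iff_isSquare (div_ne_zero hne (neg_ne_zero.2 hRz)), div_eq_mul_inv, map_mul,
          quadraticChar_neg_one_iff_not_isSquare.2 n2,
          quadraticChar_neg_one_iff_not_isSquare.2 (show ¬IsSquare (-R z)⁻¹ from fun h => n1 (by simpa using h.inv))]
        norm_num
      obtain ⟨r, hr⟩ := hs
      rw [div_eq_iff (neg_ne_zero.2 hRz)] at hr
      refine ⟨(2⁻¹ : F) • x + r • z, ?_, ?_⟩
      · simp [polar_add_right, polar_smul_right, polar_self', hz, hx1, h2]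
      · rw [map_add', map_smul', map_smul', polar_smul_left, polar_smul_right, hz, hx1]
        simp only [smul_eq_mul, mul_zero, add_zero]
        linear_combination hr
  let f : (F × F) →ₗ[F] U :=
    LinearMap.coprod (LinearMap.toSpanSingleton F U x) (LinearMap.toSpanSingleton F U y)
  have hf : ∀ p : F × F, R (f p) = binForm 1 ζ p := fun p => by
    simp only [f, LinearMap.coprod_apply, LinearMap.toSpanSingleton_apply]
    rw [map_add', map_smul', map_smul', polar_smul_left, polar_smul_right, hxy, hx1, hy, binForm_apply]
    simp only [smul_eq_mul]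
    ring
  have hinj : Function.Injective f := (injective_iff_map_eq_zero f).2 fun p hp => by
    have h := hf p
    rw [hp, map_zero] at h
    have key : p.2 = 0 := by
      by_contra h2
      refine hζ (p.1 / p.2) ?_
      rw [binForm_apply] at h
      field_simp
      linear_combination -h
    rw [binForm_apply, key] at h
    simp at h
    exact Prod.ext (pow_eq_zero_iff two_ne_zero |>.1 h.symm) key
  exact ⟨LinearMap.linearEquivOfInjective f hinj (by rw [Module.finrank_prod, Module.finrank_self, hU]), hf⟩

end Cfsg.Agent.Classical.Quad
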