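import Mathlib
import Cfsg.Agent.Classical.QuadDecomp

/-!
The two types of even-dimensional quadratic spaces over a finite field and the single type in odd dimension.
-/

set_option autoImplicit false

namespace Cfsg.Agent.Classical.Quad

open Module QuadraticMap

universe u v w z

variable {F : Type u} [Field F]

variable {V : Type v} [AddCommGroup V] [Module F V] {W : Type w} [AddCommGroup W] [Module F W]
  {X : Type z} [AddCommGroup X] [Module F X]

theorem Iso.symm {Q : QuadraticForm F V} {Q' : QuadraticForm F W} (h : Iso Q Q') : Iso Q' Q := by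
  obtain ⟨e, he⟩ := h
  exact ⟨e.symm, fun x => by rw [← he, LinearEquiv.apply_symm_apply]⟩

theorem Iso.trans {Q : QuadraticForm F V} {Q' : QuadraticForm F W} {Q'' : QuadraticForm F X} (h : Iso Q Q')
    (h' : Iso Q' Q'') : Iso Q Q'' := by
  obtain ⟨e, he⟩ := h
  obtain ⟨e', he'⟩ := h'
  exact ⟨e.trans e', fun x => by rw [LinearEquiv.trans_apply, he', he]⟩

theorem Iso.zcard_eq {Q : QuadraticForm F V} {Q' : QuadraticForm F W} (h : Iso Q Q') : zcard Q = zcard Q' := by
  obtain ⟨e, he⟩ := h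
  exact Nat.card_congr (e.toEquiv.subtypeEquiv fun x => by simp [he])

theorem Iso.nondeg {Q : QuadraticForm F V} {Q' : QuadraticForm F W} (h : Iso Q Q')
    (hQ : (polarBilin Q).Nondegenerate) : (polarBilin Q').Nondegenerate := by
  obtain ⟨e, he⟩ := h
  refine nondeg_of fun x hx => ?_
  have hp : ∀ a b, polar Q' (e a) (e b) = polar Q a b := fun a b => by simp only [polar, ← map_add, he]
  rw [← e.apply_symm_apply x]
  rw [eq_zero_of_polar hQ (x := e.symm x) fun y => by rw [← hp, e.apply_symm_apply]; exact hx _, map_zero]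

variable [Finite F]

theorem exists_rootfree : ∃ ζ : F, ∀ t : F, t ^ 2 + t + ζ ≠ 0 := by
  by_contra h
  push Not at h
  have hsurj : Function.Surjective fun t : F => t ^ 2 + t := fun c => by
    obtain ⟨t, ht⟩ := h (-c)
    exact ⟨t, by linear_combination ht⟩
  have := Finite.injective_iff_surjective.2 hsurj (a₁ := 0) (a₂ := -1) (by simp)
  simp at this

theorem rootfree_aniso {ζ : F} (hζ : ∀ t : F, t ^ 2 + t + ζ ≠ 0) :
    ∀ z₁ z₂ : F, z₁ ^ 2 + 1 * z₁ * z₂ + ζ * z₂ ^ 2 = 0 → z₁ = 0 ∧ z₂ = 0 := by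
  intro z₁ z₂ h
  by_cases h2 : z₂ = 0
  · subst h2
    refine ⟨?_, rfl⟩
    simpa using h
  · refine absurd ?_ (hζ (z₁ / z₂))
    field_simp
    linear_combination h

theorem iso_binForm {a b : F} (hab : ∀ z₁ z₂ : F, z₁ ^ 2 + a * z₁ * z₂ + b * z₂ ^ 2 = 0 → z₁ = 0 ∧ z₂ = 0)
    {ζ : F} (hζ : ∀ t : F, t ^ 2 + t + ζ ≠ 0) : Iso (binForm 1 ζ) (binForm a b) :=
  exists_binary_basis (nondeg_binForm hab) (fun _ h => by_contra fun hz => binForm_ne_zero hab hz h)
    (by rw [Module.finrank_prod, Module.finrank_self]) hζ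

/-- An even-dimensional non-degenerate space is hyperbolic or elliptic. -/
theorem even_cases [FiniteDimensional F V] {Q : QuadraticForm F V} (hQ : (polarBilin Q).Nondegenerate) {m : ℕ}
    (hV : finrank F V = 2 * m) :
    Iso (hyp (zeroForm F) m) Q ∨
      (1 ≤ m ∧ ∀ a b : F, (∀ z₁ z₂ : F, z₁ ^ 2 + a * z₁ * z₂ + b * z₂ ^ 2 = 0 → z₁ = 0 ∧ z₂ = 0) →
        Iso (hyp (binForm a b) (m - 1)) Q) := by
  obtain ⟨k, r, R, e, hR, han, hr, hdim, he⟩ := exists_hyp_aniso _ Q hQ hV
  interval_cases r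
  · obtain rfl : k = m := by omega
    refine Or.inl (Iso.symm ⟨e, fun x => ?_⟩)
    rw [← he x, hyp_apply, hyp_apply, Subsingleton.elim (e x).2 0, map_zero, map_zero]
  · omega
  · obtain rfl : k = m - 1 := by omega
    refine Or.inr ⟨by omega, fun a b hab => ?_⟩
    obtain ⟨ζ, hζ⟩ := exists_rootfree (F := F)
    exact (iso_hyp ((iso_binForm hab hζ).symm.trans
      (exists_binary_basis hR han (Module.finrank_fin_fun F) hζ)) _).trans (Iso.symm ⟨e, he⟩)

/-- An odd-dimensional non-degenerate space. -/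
theorem odd_case [FiniteDimensional F V] {Q : QuadraticForm F V} (hQ : (polarBilin Q).Nondegenerate) {m : ℕ}
    (hV : finrank F V = 2 * m + 1) : ∃ c : F, c ≠ 0 ∧ (2 : F) ≠ 0 ∧ Iso (hyp (c • sqForm F) m) Q := by
  obtain ⟨k, r, R, e, hR, han, hr, hdim, he⟩ := exists_hyp_aniso _ Q hQ hV
  interval_cases r
  · omega
  · obtain rfl : k = m := by omega
    have h1 : R (fun _ => 1) ≠ 0 := fun h => one_ne_zero (congrFun (han _ h) 0)
    refine ⟨R (fun _ => 1), h1, fun h2 => ?_, (iso_hyp (R := R (fun _ => 1) • sqForm F) (R' := R)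
      ⟨(LinearEquiv.funUnique (Fin 1) F F).symm, fun x => ?_⟩ _).trans (Iso.symm ⟨e, he⟩)⟩
    · refine one_ne_zero (congrFun (eq_zero_of_polar hR (x := fun _ => (1 : F)) fun y => ?_) 0)
      have hy : y = y 0 • fun _ => (1 : F) := by
        funext i
        simp [Subsingleton.elim i 0]
      rw [hy, polar_smul_right, polar_self', h2]
      simp
    · have hx : (LinearEquiv.funUnique (Fin 1) F F).symm x = x • fun _ => (1 : F) := by
        funext i
        simp
      rw [hx, map_smul']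
      simp [sqForm, mul_comm]
  · omega

/-- The two even types differ. -/
theorem not_iso_plus_minus {a b : F}
    (hab : ∀ z₁ z₂ : F, z₁ ^ 2 + a * z₁ * z₂ + b * z₂ ^ 2 = 0 → z₁ = 0 ∧ z₂ = 0) (k : ℕ) :
    zcard (hyp (zeroForm F) (k + 1)) ≠ zcard (hyp (binForm a b) k) := by
  intro h
  have : Fintype F := Fintype.ofFinite F
  have h1 := zcard_plus (F := F) rfl k
  have h2 := zcard_minus hab rfl k
  have hlt : Fintype.card F ^ k < Fintype.card F ^ (k + 1) := Nat.pow_lt_pow_succ Fintype.one_lt_card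
  omega

theorem iso_smul_even [FiniteDimensional F V] {Q : QuadraticForm F V} (hQ : (polarBilin Q).Nondegenerate) {m : ℕ}
    (hV : finrank F V = 2 * m) {c : F} (hc : c ≠ 0) : Iso (c • Q) Q := by
  have hcQ : (polarBilin (c • Q)).Nondegenerate := nondeg_of fun x hx => eq_zero_of_polar hQ fun y => by
    have := hx y
    rw [show ⇑(c • Q) = c • ⇑Q from rfl, QuadraticMap.polar_smul, smul_eq_mul] at this
    exact (mul_eq_zero.1 this).resolve_left hc
  have hz : zcard (c • Q) = zcard Q := Nat.card_congr (Equiv.subtypeEquivRight fun x => by simp [hc])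
  obtain ⟨ζ, hζ⟩ := exists_rootfree (F := F)
  rcases even_cases hQ hV with h | ⟨hm, h⟩ <;> rcases even_cases hcQ hV with h' | ⟨hm', h'⟩
  · exact h'.symm.trans h
  · exfalso
    obtain ⟨k, rfl⟩ : ∃ k, m = k + 1 := ⟨m - 1, by omega⟩
    refine not_iso_plus_minus (rootfree_aniso hζ) k ?_
    rw [h.zcard_eq, ← hz, ← (h' _ _ (rootfree_aniso hζ)).zcard_eq, Nat.add_sub_cancel]
  · exfalso
    obtain ⟨k, rfl⟩ : ∃ k, m = k + 1 := ⟨m - 1, by omega⟩
    refine not_iso_plus_minus (rootfree_aniso hζ) k ?_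
    rw [h'.zcard_eq, hz, ← (h _ _ (rootfree_aniso hζ)).zcard_eq, Nat.add_sub_cancel]
  · exact (h' _ _ (rootfree_aniso hζ)).symm.trans (h _ _ (rootfree_aniso hζ))

end Cfsg.Agent.Classical.Quad
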