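import Mathlib
import Cfsg.Agent.Classical.QuadTypes
import Cfsg.Agent.Classical.QuadClass

/-!
Witt indices, discriminants and bases for the standard quadratic forms.
-/

set_option autoImplicit false

namespace Cfsg.Agent.Classical.Quad

open Module QuadraticMap

universe u v w

variable {F : Type u} [Field F]

/-- The first coordinate subspace of hyperbolic planes. -/
def stdSing (U : Type w) [AddCommGroup U] [Module F U] (m : ℕ) :
    Submodule F (((Fin m → F) × (Fin m → F)) × U) :=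
  LinearMap.range ((LinearMap.inl F ((Fin m → F) × (Fin m → F)) U).comp (LinearMap.inl F (Fin m → F) (Fin m → F)))

theorem finrank_stdSing (U : Type w) [AddCommGroup U] [Module F U] (m : ℕ) :
    finrank F (stdSing (F := F) U m) = m := by
  rw [stdSing, LinearMap.finrank_range_of_inj, Module.finrank_fin_fun]
  exact LinearMap.inl_injective.comp LinearMap.inl_injective

theorem stdSing_singular {U : Type w} [AddCommGroup U] [Module F U] (R : QuadraticForm F U) (m : ℕ) :
    ∀ x ∈ stdSing (F := F) U m, hyp R m x = 0 := by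
  rintro _ ⟨a, rfl⟩
  simp [hyp_apply]

theorem aniso_index {U : Type w} [AddCommGroup U] [Module F U] [FiniteDimensional F U] {R : QuadraticForm F U}
    (hR : (polarBilin R).Nondegenerate) (han : ∀ z, R z = 0 → z = 0) (m : ℕ)
    (W : Submodule F (((Fin m → F) × (Fin m → F)) × U)) (hW : ∀ x ∈ W, hyp R m x = 0) : finrank F W ≤ m := by
  by_contra hlt
  push Not at hlt
  have hmax : ∀ W' : Submodule F (((Fin m → F) × (Fin m → F)) × U), stdSing U m ≤ W' →
      (∀ w ∈ W', hyp R m w = 0) → W' = stdSing U m := by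
    intro W' hle hW'
    refine le_antisymm (fun x hx => ?_) hle
    have hy : x.1.2 = 0 := by
      funext i
      have hmem : ((Pi.single i 1, 0), 0) ∈ W' := hle ⟨Pi.single i 1, rfl⟩
      have h := hW' _ (W'.add_mem hx hmem)
      rw [map_add', hW' x hx, hW' _ hmem, polar_hyp] at h
      simpa [Pi.single_apply] using h
    have hz : x.2 = 0 := han _ (by simpa [hyp_apply, hy] using hW' x hx)
    exact ⟨x.1.1, by ext <;> simp [hy, hz]⟩
  have := finrank_eq_of_maximal (nondeg_hyp hR m) (stdSing_singular R m) hW hmax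
    (by rw [finrank_stdSing]; omega)
  rw [finrank_stdSing] at this
  omega

theorem plus_index (m : ℕ) :
    (∃ U : Submodule F (Fin m ⊕ Fin m → F), (∀ u ∈ U, Cfsg.quadFormPlus m F u = 0) ∧ finrank F U = m) ∧
      ∀ U : Submodule F (Fin m ⊕ Fin m → F), (∀ u ∈ U, Cfsg.quadFormPlus m F u = 0) → finrank F U ≤ m := by
  constructor
  · refine ⟨(stdSing (Fin 0 → F) m).map (plusCoord m).symm.toLinearMap, ?_, ?_⟩
    · rintro _ ⟨x, hx, rfl⟩
      rw [← plusCoord_map, LinearEquiv.coe_coe, LinearEquiv.apply_symm_apply]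
      exact stdSing_singular _ m x hx
    · rw [LinearEquiv.finrank_map_eq, finrank_stdSing]
  · intro U hU
    have := aniso_index (nondeg_zeroForm (F := F)) (fun _ _ => Subsingleton.elim _ _) m
      (U.map (plusCoord m).toLinearMap) (by
        rintro _ ⟨x, hx, rfl⟩
        rw [LinearEquiv.coe_coe, plusCoord_map]; exact hU x hx)
    rwa [LinearEquiv.finrank_map_eq] at this

theorem minus_index [Finite F] {a b : F}
    (hab : ∀ z₁ z₂ : F, z₁ ^ 2 + a * z₁ * z₂ + b * z₂ ^ 2 = 0 → z₁ = 0 ∧ z₂ = 0) (k : ℕ) :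
    (∃ U : Submodule F ((Fin k ⊕ Fin k) ⊕ Fin 2 → F),
      (∀ u ∈ U, Cfsg.quadFormMinus k F a b u = 0) ∧ finrank F U = k) ∧
      ∀ U : Submodule F ((Fin k ⊕ Fin k) ⊕ Fin 2 → F),
        (∀ u ∈ U, Cfsg.quadFormMinus k F a b u = 0) → finrank F U ≤ k := by
  constructor
  · refine ⟨(stdSing (F × F) k).map (minusCoord k).symm.toLinearMap, ?_, ?_⟩
    · rintro _ ⟨x, hx, rfl⟩
      rw [← minusCoord_map, LinearEquiv.coe_coe, LinearEquiv.apply_symm_apply]
      exact stdSing_singular _ k x hx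
    · rw [LinearEquiv.finrank_map_eq, finrank_stdSing]
  · intro U hU
    have := aniso_index (nondeg_binForm hab) (fun _ h => by_contra fun hz => binForm_ne_zero hab hz h) k
      (U.map (minusCoord k).toLinearMap) (by
        rintro _ ⟨x, hx, rfl⟩
        rw [LinearEquiv.coe_coe, minusCoord_map]; exact hU x hx)
    rwa [LinearEquiv.finrank_map_eq] at this

theorem plusCoord_apply (m : ℕ) (v : Fin m ⊕ Fin m → F) :
    plusCoord m v = ((fun i => v (.inl i), fun i => v (.inr i)), 0) := rfl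

theorem oddCoord_apply (m : ℕ) (v : Unit ⊕ (Fin m ⊕ Fin m) → F) :
    oddCoord m v = ((fun i => v (.inr (.inl i)), fun i => v (.inr (.inr i))), v (.inl ())) := rfl

theorem minusCoord_apply (m : ℕ) (v : (Fin m ⊕ Fin m) ⊕ Fin 2 → F) :
    minusCoord m v = ((fun i => v (.inl (.inl i)), fun i => v (.inl (.inr i))), (v (.inr 0), v (.inr 1))) := rfl

theorem polar_zeroForm (x y : Fin 0 → F) : polar (zeroForm F) x y = 0 := by simp [polar, zeroForm]

/-! ### Standard bases -/

theorem exists_basis_of_coord {V : Type v} [AddCommGroup V] [Module F V] {W : Type w} [AddCommGroup W]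
    [Module F W] {ι : Type} [Fintype ι] [DecidableEq ι] {Q : QuadraticForm F V} {Q' : QuadraticForm F W}
    (h : Iso Q' Q) (c : (ι → F) ≃ₗ[F] W) :
    ∃ b : Basis ι F V, (∀ i, Q (b i) = Q' (c (Pi.single i 1))) ∧
      ∀ i j, polar Q (b i) (b j) = polar Q' (c (Pi.single i 1)) (c (Pi.single j 1)) := by
  obtain ⟨e, he⟩ := h
  refine ⟨Basis.ofEquivFun (c.trans e).symm, fun i => ?_, fun i j => ?_⟩
  · simp [Basis.coe_ofEquivFun, he]
  · simp only [Basis.coe_ofEquivFun, LinearEquiv.symm_symm, LinearEquiv.trans_apply]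
    simp only [polar, ← map_add, he]

theorem exists_std_even [Finite F] {V : Type v} [AddCommGroup V] [Module F V] [FiniteDimensional F V] {m : ℕ}
    (hm : 1 ≤ m) (hV : finrank F V = 2 * m) (Q : QuadraticForm F V) (hQ : (polarBilin Q).Nondegenerate) :
    (∃ b : Basis (Fin m ⊕ Fin m) F V, (∀ i, Q (b (Sum.inl i)) = 0 ∧ Q (b (Sum.inr i)) = 0) ∧
      (∀ i j, polar ⇑Q (b (Sum.inl i)) (b (Sum.inr j)) = if i = j then 1 else 0) ∧
      (∀ i j, polar ⇑Q (b (Sum.inl i)) (b (Sum.inl j)) = 0 ∧ polar ⇑Q (b (Sum.inr i)) (b (Sum.inr j)) = 0)) ∨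
    (∃ (b : Basis ((Fin (m - 1) ⊕ Fin (m - 1)) ⊕ Fin 2) F V) (ζ : F), (∀ t : F, t ^ 2 + t + ζ ≠ 0) ∧
      (∀ i, Q (b (Sum.inl (Sum.inl i))) = 0 ∧ Q (b (Sum.inl (Sum.inr i))) = 0) ∧
      (∀ i j, polar ⇑Q (b (Sum.inl (Sum.inl i))) (b (Sum.inl (Sum.inr j))) = if i = j then 1 else 0) ∧
      (∀ i j, polar ⇑Q (b (Sum.inl (Sum.inl i))) (b (Sum.inl (Sum.inl j))) = 0 ∧
        polar ⇑Q (b (Sum.inl (Sum.inr i))) (b (Sum.inl (Sum.inr j))) = 0) ∧
      (∀ i (k : Fin 2), polar ⇑Q (b (Sum.inl (Sum.inl i))) (b (Sum.inr k)) = 0 ∧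
        polar ⇑Q (b (Sum.inl (Sum.inr i))) (b (Sum.inr k)) = 0) ∧
      Q (b (Sum.inr 0)) = 1 ∧ polar ⇑Q (b (Sum.inr 0)) (b (Sum.inr 1)) = 1 ∧ Q (b (Sum.inr 1)) = ζ) := by
  rcases even_cases hQ hV with h | ⟨-, h⟩
  · obtain ⟨b, h1, h2⟩ := exists_basis_of_coord h (plusCoord m)
    refine Or.inl ⟨b, fun i => ⟨?_, ?_⟩, fun i j => ?_, fun i j => ⟨?_, ?_⟩⟩ <;>
      (first | rw [h1] | rw [h2]) <;>
      simp [hyp_apply, polar_hyp, plusCoord_apply, Pi.single_apply, zeroForm, polar, eq_comm]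
  · obtain ⟨ζ, hζ⟩ := exists_rootfree (F := F)
    obtain ⟨b, h1, h2⟩ := exists_basis_of_coord (h _ _ (rootfree_aniso hζ)) (minusCoord (m - 1))
    refine Or.inr ⟨b, ζ, hζ, fun i => ⟨?_, ?_⟩, fun i j => ?_, fun i j => ⟨?_, ?_⟩, fun i k => ⟨?_, ?_⟩, ?_, ?_, ?_⟩ <;>
      (first | rw [h1] | rw [h2]) <;>
      simp [hyp_apply, polar_hyp, minusCoord_apply, Pi.single_apply, binForm_apply, polar_binForm, eq_comm]

theorem exists_std_odd [Finite F] {V : Type v} [AddCommGroup V] [Module F V] [FiniteDimensional F V] {m : ℕ}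
    (hV : finrank F V = 2 * m + 1) (Q : QuadraticForm F V) (hQ : (polarBilin Q).Nondegenerate) :
    ∃ b : Basis (Unit ⊕ (Fin m ⊕ Fin m)) F V, Q (b (Sum.inl ())) ≠ 0 ∧
      (∀ i, polar ⇑Q (b (Sum.inl ())) (b (Sum.inr (Sum.inl i))) = 0 ∧
        polar ⇑Q (b (Sum.inl ())) (b (Sum.inr (Sum.inr i))) = 0) ∧
      (∀ i, Q (b (Sum.inr (Sum.inl i))) = 0 ∧ Q (b (Sum.inr (Sum.inr i))) = 0) ∧
      (∀ i j, polar ⇑Q (b (Sum.inr (Sum.inl i))) (b (Sum.inr (Sum.inr j))) = if i = j then 1 else 0) ∧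
      (∀ i j, polar ⇑Q (b (Sum.inr (Sum.inl i))) (b (Sum.inr (Sum.inl j))) = 0 ∧
        polar ⇑Q (b (Sum.inr (Sum.inr i))) (b (Sum.inr (Sum.inr j))) = 0) := by
  obtain ⟨c, hc, -, h⟩ := odd_case hQ hV
  obtain ⟨b, h1, h2⟩ := exists_basis_of_coord h (oddCoord m)
  refine ⟨b, ?_, fun i => ⟨?_, ?_⟩, fun i => ⟨?_, ?_⟩, fun i j => ?_, fun i j => ⟨?_, ?_⟩⟩ <;>
    (first | rw [h1] | rw [h2]) <;>
    simp [hyp_apply, polar_hyp, oddCoord_apply, Pi.single_apply, sqForm, polar, hc, eq_comm]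

/-- Orthonormal basis in characteristic two. -/
theorem exists_orthonormal_char_two [Finite F] [CharP F 2] : ∀ (n : ℕ) {V : Type v} [AddCommGroup V] [Module F V]
    [FiniteDimensional F V] (B : LinearMap.BilinForm F V), finrank F V = n → B.IsSymm → B.Nondegenerate →
    (∃ v : V, B v v ≠ 0) → ∃ b : Basis (Fin n) F V, ∀ i j, B (b i) (b j) = if i = j then 1 else 0 := by
  intro n
  induction n with
  | zero =>
    intro V _ _ _ B hn _ _ ⟨v, hv⟩
    have := finrank_zero_iff.1 hn
    exact absurd (by rw [Subsingleton.elim v 0]; simp) hv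
  | succ n ih =>
    intro V _ _ _ B hn hS hB ⟨v₀, hv₀⟩
    have : Fintype F := Fintype.ofFinite F
    have h2 : (2 : F) = 0 := CharTwo.two_eq_zero
    obtain ⟨v, hv⟩ : ∃ v, B v v = 1 := by
      obtain ⟨s, hs⟩ := FiniteField.isSquare_of_char_two ((ringChar.eq F 2).symm ▸ rfl) (B v₀ v₀)⁻¹
      exact ⟨s • v₀, by simp [← mul_assoc, ← hs, inv_mul_cancel₀ hv₀]⟩
    obtain ⟨v, hv, hgood⟩ : ∃ v, B v v = 1 ∧ (n = 0 ∨ ∃ w, B v w = 0 ∧ B w w ≠ 0) := by
      by_cases hc : n = 0 ∨ ∃ w, B v w = 0 ∧ B w w ≠ 0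
      · exact ⟨v, hv, hc⟩
      push Not at hc
      obtain ⟨hn0, hc⟩ := hc
      obtain ⟨e, he0, he⟩ : ∃ e, e ≠ 0 ∧ B v e = 0 := by
        by_contra h
        push Not at h
        have hinj : Function.Injective (B v) := (injective_iff_map_eq_zero _).2 fun y hy =>
          by_contra fun hne => h y hne hy
        have := LinearMap.finrank_le_finrank_of_injective hinj
        rw [hn, Module.finrank_self] at this
        omega
      obtain ⟨y, hy⟩ : ∃ y, B e y ≠ 0 := by
        by_contra h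
        push Not at h
        exact he0 (hB.1 e h)
      set f := (B e y)⁻¹ • (y - B v y • v) with hfdef
      have hf : B v f = 0 := by simp [hfdef, hv]
      have hef : B e f = 1 := by simp [hfdef, hS.eq e v, he, inv_mul_cancel₀ hy]
      have hee := hc e he
      have hff := hc f hf
      refine ⟨v + e, ?_, Or.inr ⟨v + f, ?_, ?_⟩⟩
      · simp [hv, hee, he, hS.eq e v]
      · simp [hv, he, hf, hef, hS.eq e v]
        linear_combination h2
      · simp [hv, hff, hf, hS.eq f v]
    let N := LinearMap.ker (B v)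
    have hnN : finrank F N = n := by
      have := LinearMap.finrank_range_add_finrank_ker (B v)
      rw [hn, LinearMap.range_eq_top.2 (fun c => ⟨c • v, by simp [hv]⟩), finrank_top, Module.finrank_self] at this
      show finrank F (LinearMap.ker (B v)) = n
      omega
    let B' : LinearMap.BilinForm F N := B.restrict N
    have hS' : B'.IsSymm := ⟨fun x y => hS.eq x.1 y.1⟩
    have hB' : B'.Nondegenerate := by
      have hsep : ∀ x : N, (∀ y, B' x y = 0) → x = 0 := fun x hx => Subtype.ext <| hB.1 _ fun y => by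
        have hmem : y - B v y • v ∈ N := by simp [N, LinearMap.mem_ker, hv]
        have := hx ⟨_, hmem⟩
        have hxv : B x.1 v = 0 := by rw [hS.eq]; exact LinearMap.mem_ker.1 x.2
        simpa [B', hxv] using this
      exact ⟨hsep, fun y hy => hsep y fun x => by rw [hS'.eq]; exact hy x⟩
    have hbN : ∃ b : Basis (Fin n) F N, ∀ i j, B' (b i) (b j) = if i = j then 1 else 0 := by
      rcases hgood with h0 | ⟨w, hw, hww⟩
      · subst h0
        exact ⟨finBasisOfFinrankEq F N hnN, fun i => i.elim0⟩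
      · exact ih B' hnN hS' hB' ⟨⟨w, LinearMap.mem_ker.2 hw⟩, hww⟩
    obtain ⟨bN, hbN⟩ := hbN
    let b := Basis.mkFinCons v bN (fun c x hx h => by
        have := congrArg (B v) h
        rw [map_add, map_smul, hv, LinearMap.mem_ker.1 hx] at this
        simpa using this)
      (fun z => ⟨-(B v z), LinearMap.mem_ker.2 (by simp [hv])⟩)
    refine ⟨b, fun i j => ?_⟩
    simp only [b, Basis.coe_mkFinCons]
    have hvN : ∀ k, B v (bN k : V) = 0 := fun k => LinearMap.mem_ker.1 (bN k).2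
    refine Fin.cases ?_ (fun i => ?_) i <;> refine Fin.cases ?_ (fun j => ?_) j
    · simpa using hv
    · simpa [(Fin.succ_ne_zero j).symm] using hvN j
    · simpa [Fin.succ_ne_zero i, hS.eq _ v] using hvN i
    · simpa [B', Fin.succ_inj] using hbN i j

/-- Quadratic forms in characteristic two from polar form and diagonal values. -/
theorem existsUnique_char_two [CharP F 2] {V : Type v} [AddCommGroup V] [Module F V] {ι : Type w} [Fintype ι]
    (b : Basis ι F V) (B : LinearMap.BilinForm F V) (hB : B.IsAlt) (c : ι → F) :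
    ∃! Q : QuadraticForm F V, polarBilin Q = B ∧ ∀ i, Q (b i) = c i := by
  classical
  have h2 : (2 : F) = 0 := CharTwo.two_eq_zero
  let o := Fintype.equivFin ι
  let M : Matrix ι ι F := fun i j => if i = j then c i else if o i < o j then B (b i) (b j) else 0
  let T : LinearMap.BilinForm F V := Matrix.toBilin b M
  have hT : ∀ i j, T (b i) (b j) = M i j := fun i j => by
    have := congrFun (congrFun (LinearMap.BilinForm.toMatrix_toBilin b M) i) j
    rwa [LinearMap.BilinForm.toMatrix_apply] at this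
  let Q : QuadraticForm F V := LinearMap.BilinMap.toQuadraticMap T
  have hpB : polarBilin Q = B := by
    refine LinearMap.BilinForm.ext_basis b fun i j => ?_
    rw [polarBilin_apply_apply]
    show polar (LinearMap.BilinMap.toQuadraticMap T) (b i) (b j) = _
    rw [LinearMap.BilinMap.polar_toQuadraticMap, hT, hT]
    by_cases hij : i = j
    · subst hij
      simp only [M, if_pos, hB.self_eq_zero]
      linear_combination c i * h2
    · have hoij : o i ≠ o j := fun h => hij (o.injective h)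
      rcases lt_or_gt_of_ne hoij with h | h
      · simp [M, hij, Ne.symm hij, h, not_lt.2 h.le]
      · simp only [M, hij, Ne.symm hij, h, not_lt.2 h.le, if_false, if_true, zero_add]
        rw [← LinearMap.IsAlt.neg hB (b i) (b j), CharTwo.neg_eq]
  refine ⟨Q, ⟨hpB, fun i => by show T (b i) (b i) = c i; rw [hT]; simp [M]⟩, fun Q' ⟨h1, h2'⟩ => ?_⟩
  ext x
  have hD : ∀ x y, Q' (x + y) - Q (x + y) = (Q' x - Q x) + (Q' y - Q y) := fun x y => by
    have := LinearMap.congr_fun (LinearMap.congr_fun (h1.trans hpB.symm) x) y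
    rw [polarBilin_apply_apply, polarBilin_apply_apply] at this
    rw [map_add', map_add', this]; ring
  have key : Q' x - Q x = 0 := by
    induction b.mem_span x using Submodule.span_induction with
    | mem y hy =>
      obtain ⟨i, rfl⟩ := hy
      rw [h2' i]
      show c i - T (b i) (b i) = 0
      simp [hT, M]
    | zero => simp
    | add y z _ _ hy hz => rw [hD, hy, hz, add_zero]
    | smul a y _ hy => rw [map_smul', map_smul', ← mul_sub, hy, mul_zero]
  exact sub_eq_zero.1 key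

/-! ### Discriminants -/

theorem det_toMatrix_ne_zero {V : Type v} [AddCommGroup V] [Module F V] {ι : Type w} [Fintype ι] [DecidableEq ι]
    {B : LinearMap.BilinForm F V} (hB : B.Nondegenerate) (b : Basis ι F V) :
    (LinearMap.BilinForm.toMatrix b B).det ≠ 0 :=
  (LinearMap.BilinForm.nondegenerate_iff_det_ne_zero b).1 hB

theorem isometric_iff_disc [Finite F] (h2 : (2 : F) ≠ 0) {n : ℕ} (Q₁ Q₂ : QuadraticForm F (Fin n → F))
    (h₁ : (polarBilin Q₁).Nondegenerate) (h₂ : (polarBilin Q₂).Nondegenerate) :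
    (∃ g : (Fin n → F) ≃ₗ[F] (Fin n → F), ∀ v, Q₂ (g v) = Q₁ v) ↔
      IsSquare ((Matrix.of (fun i j : Fin n => polar ⇑Q₁ (Pi.single i 1) (Pi.single j 1))).det *
        (Matrix.of (fun i j : Fin n => polar ⇑Q₂ (Pi.single i 1) (Pi.single j 1))).det) := by
  have hM : ∀ Q : QuadraticForm F (Fin n → F),
      Matrix.of (fun i j : Fin n => polar ⇑Q (Pi.single i 1) (Pi.single j 1)) =
        LinearMap.BilinForm.toMatrix (Pi.basisFun F (Fin n)) (polarBilin Q) := fun Q => by
    ext i j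
    simp [LinearMap.BilinForm.toMatrix_apply]
  rw [hM, hM]
  constructor
  · rintro ⟨g, hg⟩
    have e : LinearMap.BilinForm.toMatrix ((Pi.basisFun F (Fin n)).map g) (polarBilin Q₂) =
        LinearMap.BilinForm.toMatrix (Pi.basisFun F (Fin n)) (polarBilin Q₁) := by
      ext i j
      simp [LinearMap.BilinForm.toMatrix_apply, polar, ← map_add, hg]
    obtain ⟨t, ht⟩ := det_congr_square (B := polarBilin Q₂) (Pi.basisFun F (Fin n))
      ((Pi.basisFun F (Fin n)).map g)
    rw [e] at ht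
    rw [ht]
    exact ⟨t * (LinearMap.BilinForm.toMatrix (Pi.basisFun F (Fin n)) (polarBilin Q₂)).det, by ring⟩
  · intro hsq
    cases n with
    | zero => exact ⟨LinearEquiv.refl F _, fun v => by rw [show v = 0 from Subsingleton.elim _ _, map_zero, map_zero, map_zero]⟩
    | succ m =>
      have : Fintype F := Fintype.ofFinite F
      have hodd : ringChar F ≠ 2 := fun h => h2 (by
        have : CharP F 2 := h ▸ ringChar.charP F
        exact CharTwo.two_eq_zero)
      obtain ⟨α, hα⟩ := FiniteField.exists_nonsquare hodd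
      have sym : ∀ Q : QuadraticForm F (Fin (m + 1) → F), LinearMap.BilinForm.IsSymm (polarBilin Q) := fun Q =>
        ⟨fun x y => polar_comm Q x y⟩
      obtain ⟨b₁, ho₁, hd₁, hl₁⟩ := exists_diag_basis h2 (polarBilin Q₁) (sym Q₁) h₁ (Module.finrank_fin_fun F) α hα
      obtain ⟨b₂, ho₂, hd₂, hl₂⟩ := exists_diag_basis h2 (polarBilin Q₂) (sym Q₂) h₂ (Module.finrank_fin_fun F) α hα
      have hdet : ∀ (Q : QuadraticForm F (Fin (m + 1) → F)) (b : Basis (Fin (m + 1)) F (Fin (m + 1) → F)),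
          (∀ i j, i ≠ j → polarBilin Q (b i) (b j) = 0) →
          (∀ i, i ≠ Fin.last m → polarBilin Q (b i) (b i) = 1) →
          ∃ t, (LinearMap.BilinForm.toMatrix (Pi.basisFun F (Fin (m + 1))) (polarBilin Q)).det =
            t * t * polarBilin Q (b (Fin.last m)) (b (Fin.last m)) := by
        intro Q b ho hd
        obtain ⟨t, ht⟩ := det_congr_square (B := polarBilin Q) b (Pi.basisFun F (Fin (m + 1)))
        refine ⟨t, ?_⟩
        rw [ht, toMatrix_diag b (fun i => if i = Fin.last m then polarBilin Q (b (Fin.last m)) (b (Fin.last m))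
          else 1) ho (fun i => by split_ifs with h; exacts [by rw [h], hd i h]), Matrix.det_diagonal, prod_update]
      obtain ⟨t₁, ht₁⟩ := hdet Q₁ b₁ ho₁ hd₁
      obtain ⟨t₂, ht₂⟩ := hdet Q₂ b₂ ho₂ hd₂
      have hne₁ := det_toMatrix_ne_zero h₁ (Pi.basisFun F (Fin (m + 1)))
      have hne₂ := det_toMatrix_ne_zero h₂ (Pi.basisFun F (Fin (m + 1)))
      rw [ht₁] at hne₁ hsq
      rw [ht₂] at hne₂ hsq
      have hlast : polarBilin Q₁ (b₁ (Fin.last m)) (b₁ (Fin.last m)) =
          polarBilin Q₂ (b₂ (Fin.last m)) (b₂ (Fin.last m)) := by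
        obtain ⟨s, hs⟩ := hsq
        have ht01 : t₁ ≠ 0 := left_ne_zero_of_mul (left_ne_zero_of_mul hne₁)
        have ht02 : t₂ ≠ 0 := left_ne_zero_of_mul (left_ne_zero_of_mul hne₂)
        have hns : ¬ IsSquare α := hα
        rcases hl₁ with e₁ | e₁ <;> rcases hl₂ with e₂ | e₂ <;> rw [e₁, e₂] at hs ⊢
        · exact absurd ⟨s / (t₁ * t₂), by field_simp; linear_combination hs⟩ hns
        · exact absurd ⟨s / (t₁ * t₂), by field_simp; linear_combination hs⟩ hns
      refine ⟨b₁.equiv b₂ (Equiv.refl _), fun v => ?_⟩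
      let P₂ : LinearMap.BilinForm F (Fin (m + 1) → F) := polarBilin Q₂
      have e : P₂.comp
          (b₁.equiv b₂ (Equiv.refl _) : (Fin (m + 1) → F) →ₗ[F] (Fin (m + 1) → F))
          (b₁.equiv b₂ (Equiv.refl _) : (Fin (m + 1) → F) →ₗ[F] (Fin (m + 1) → F)) = polarBilin Q₁ := by
        refine LinearMap.BilinForm.ext_basis b₁ fun i j => ?_
        simp only [P₂, LinearMap.BilinForm.comp_apply, LinearEquiv.coe_coe, Basis.equiv_apply, Equiv.refl_apply]
        by_cases hij : i = j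
        · subst hij
          by_cases hi : i = Fin.last m
          · subst hi; exact hlast.symm
          · rw [hd₁ i hi, hd₂ i hi]
        · rw [ho₁ i j hij, ho₂ i j hij]
      have := LinearMap.congr_fun (LinearMap.congr_fun e v) v
      simp only [P₂, LinearMap.BilinForm.comp_apply, LinearEquiv.coe_coe, polarBilin_apply_apply, polar_self'] at this
      exact mul_left_cancel₀ h2 this

theorem isSquare_of_similar [Finite F] {n : ℕ} (hn : Odd n) (Q : QuadraticForm F (Fin n → F))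
    (hQ : (polarBilin Q).Nondegenerate) (g : (Fin n → F) ≃ₗ[F] (Fin n → F)) (c : F)
    (hg : ∀ v, Q (g v) = c * Q v) : IsSquare c := by
  by_cases hc : c = 0
  · exact hc ▸ IsSquare.zero
  obtain ⟨t, ht⟩ := det_congr_square (B := polarBilin Q) (Pi.basisFun F (Fin n)) ((Pi.basisFun F (Fin n)).map g)
  have e : LinearMap.BilinForm.toMatrix ((Pi.basisFun F (Fin n)).map g) (polarBilin Q) =
      c • LinearMap.BilinForm.toMatrix (Pi.basisFun F (Fin n)) (polarBilin Q) := by
    ext i j
    simp [LinearMap.BilinForm.toMatrix_apply, polar, ← map_add, hg]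
    ring
  rw [e, Matrix.det_smul, Fintype.card_fin] at ht
  have h' := mul_right_cancel₀ (det_toMatrix_ne_zero hQ _) ht
  obtain ⟨k, rfl⟩ := hn
  refine ⟨t / c ^ k, ?_⟩
  field_simp
  linear_combination h'

theorem isSquare_neg_one_pow_iff [Fintype F] {q : ℕ} (hF : Fintype.card F = q) (hq : Odd q) (m : ℕ) :
    IsSquare ((-1 : F) ^ m) ↔ Even (m * (q - 1) / 2) := by
  obtain ⟨k, rfl⟩ := hq
  rw [show m * (2 * k + 1 - 1) / 2 = m * k by
    rw [Nat.add_sub_cancel, mul_left_comm, Nat.mul_div_cancel_left _ (by norm_num : 0 < 2)], Nat.even_mul]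
  rcases Nat.even_or_odd m with hm | hm
  · rw [hm.neg_one_pow]; exact iff_of_true IsSquare.one (Or.inl hm)
  · rw [hm.neg_one_pow, FiniteField.isSquare_neg_one_iff, hF, or_iff_right (Nat.not_even_iff_odd.2 hm),
      Nat.even_iff]
    omega

theorem disc_plus [Fintype F] {q : ℕ} (hF : Fintype.card F = q) (hq : Odd q) {m : ℕ} {ι : Type w} [Fintype ι]
    [DecidableEq ι] (b : Basis ι F (Fin m ⊕ Fin m → F)) :
    IsSquare (Matrix.of (fun i j : ι => polar (Cfsg.quadFormPlus m F) (b i) (b j))).det ↔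
      Even (m * (q - 1) / 2) := by
  let Q : QuadraticForm F (Fin m ⊕ Fin m → F) := (hyp (zeroForm F) m).comp (plusCoord m).toLinearMap
  have hQ : ⇑Q = Cfsg.quadFormPlus m F := funext fun x => by simp [Q, plusCoord_map]
  let σ : ι ≃ Fin m ⊕ Fin m := b.indexEquiv (Pi.basisFun F (Fin m ⊕ Fin m))
  obtain ⟨t, ht⟩ := det_congr_square (B := polarBilin Q) (Pi.basisFun F (Fin m ⊕ Fin m)) (b.reindex σ)
  have e1 : (Matrix.of (fun i j : ι => polar (Cfsg.quadFormPlus m F) (b i) (b j))).det =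
      (LinearMap.BilinForm.toMatrix (b.reindex σ) (polarBilin Q)).det := by
    rw [← Matrix.det_submatrix_equiv_self σ.symm]
    congr 1
    ext i j
    simp [LinearMap.BilinForm.toMatrix_apply, hQ]
  have e2 : LinearMap.BilinForm.toMatrix (Pi.basisFun F (Fin m ⊕ Fin m)) (polarBilin Q) =
      Matrix.fromBlocks (0 : Matrix (Fin m) (Fin m) F) (1 : Matrix (Fin m) (Fin m) F)
        (1 : Matrix (Fin m) (Fin m) F) (0 : Matrix (Fin m) (Fin m) F) := by
    ext i j
    have hp : ∀ x y, polar Q x y = polar (hyp (zeroForm F) m) (plusCoord m x) (plusCoord m y) := fun x y => by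
      simp [polar, Q]
    rcases i with i | i <;> rcases j with j | j <;>
      (rw [LinearMap.BilinForm.toMatrix_apply, Pi.basisFun_apply, Pi.basisFun_apply, polarBilin_apply_apply, hp]) <;>
      simp [-QuadraticMap.polar_self, polar_hyp, plusCoord_apply, Pi.single_apply, Matrix.one_apply,
        polar_zeroForm, eq_comm]
  rw [e2, det_swap] at ht
  have hne : (LinearMap.BilinForm.toMatrix (b.reindex σ) (polarBilin Q)).det ≠ 0 :=
    det_toMatrix_ne_zero (Iso.nondeg (Iso.symm ⟨plusCoord m, fun x => by simp [Q]⟩) (nondeg_hyp nondeg_zeroForm m)) _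
  rw [ht] at hne
  rw [e1, ht, ← isSquare_neg_one_pow_iff hF hq m]
  constructor
  · rintro ⟨s, hs⟩
    refine ⟨s / t, ?_⟩
    have ht0 : t ≠ 0 := left_ne_zero_of_mul (left_ne_zero_of_mul hne)
    field_simp
    linear_combination hs
  · exact fun h => (IsSquare.mul_self t).mul h

theorem disc_minus [Fintype F] {q : ℕ} (hF : Fintype.card F = q) (hq : Odd q) {k : ℕ} {a c : F}
    (hac : ∀ z₁ z₂ : F, z₁ ^ 2 + a * z₁ * z₂ + c * z₂ ^ 2 = 0 → z₁ = 0 ∧ z₂ = 0) {ι : Type w} [Fintype ι]
    [DecidableEq ι] (b : Basis ι F ((Fin k ⊕ Fin k) ⊕ Fin 2 → F)) :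
    IsSquare (Matrix.of (fun i j : ι => polar (Cfsg.quadFormMinus k F a c) (b i) (b j))).det ↔
      ¬ Even ((k + 1) * (q - 1) / 2) := by
  have h2 : (2 : F) ≠ 0 := Ring.two_ne_zero fun h => by
    have h' := FiniteField.even_card_of_char_two h
    rw [hF] at h'
    obtain ⟨r, hr⟩ := hq
    omega
  let Q : QuadraticForm F ((Fin k ⊕ Fin k) ⊕ Fin 2 → F) := (hyp (binForm a c) k).comp (minusCoord k).toLinearMap
  have hQ : ⇑Q = Cfsg.quadFormMinus k F a c := funext fun x => by simp [Q, minusCoord_map]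
  let σ : ι ≃ (Fin k ⊕ Fin k) ⊕ Fin 2 := b.indexEquiv (Pi.basisFun F ((Fin k ⊕ Fin k) ⊕ Fin 2))
  obtain ⟨t, ht⟩ := det_congr_square (B := polarBilin Q) (Pi.basisFun F ((Fin k ⊕ Fin k) ⊕ Fin 2)) (b.reindex σ)
  have e1 : (Matrix.of (fun i j : ι => polar (Cfsg.quadFormMinus k F a c) (b i) (b j))).det =
      (LinearMap.BilinForm.toMatrix (b.reindex σ) (polarBilin Q)).det := by
    rw [← Matrix.det_submatrix_equiv_self σ.symm]
    congr 1
    ext i j
    simp [LinearMap.BilinForm.toMatrix_apply, hQ]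
  have e2 : LinearMap.BilinForm.toMatrix (Pi.basisFun F ((Fin k ⊕ Fin k) ⊕ Fin 2)) (polarBilin Q) =
      Matrix.fromBlocks (Matrix.fromBlocks (0 : Matrix (Fin k) (Fin k) F) (1 : Matrix (Fin k) (Fin k) F)
        (1 : Matrix (Fin k) (Fin k) F) (0 : Matrix (Fin k) (Fin k) F)) 0 0 (!![2, a; a, 2 * c] : Matrix (Fin 2) (Fin 2) F) := by
    ext i j
    have hp : ∀ x y, polar Q x y = polar (hyp (binForm a c) k) (minusCoord k x) (minusCoord k y) := fun x y => by
      simp [polar, Q]
    rcases i with (i | i) | i <;> rcases j with (j | j) | j <;>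
      (rw [LinearMap.BilinForm.toMatrix_apply, Pi.basisFun_apply, Pi.basisFun_apply, polarBilin_apply_apply, hp]) <;>
      (try fin_cases i) <;> (try fin_cases j) <;>
      simp [-QuadraticMap.polar_self, polar_hyp, polar_binForm, minusCoord_apply, Pi.single_apply,
        Matrix.one_apply, eq_comm]
  rw [e2, Matrix.det_fromBlocks_zero₂₁, det_swap, Matrix.det_fin_two_of] at ht
  have hne : (LinearMap.BilinForm.toMatrix (b.reindex σ) (polarBilin Q)).det ≠ 0 :=
    det_toMatrix_ne_zero (Iso.nondeg (Iso.symm ⟨minusCoord k, fun x => by simp [Q]⟩)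
      (nondeg_hyp (nondeg_binForm hac) k)) _
  have hδ : ¬ IsSquare (a * a - 2 * (2 * c)) := fun ⟨r, hr⟩ => by
    exact one_ne_zero (hac ((r - a) / 2) 1 (by field_simp; linear_combination -hr)).2
  rw [ht] at hne
  have ht0 : t ≠ 0 := left_ne_zero_of_mul (left_ne_zero_of_mul hne)
  rw [e1, ht, ← isSquare_neg_one_pow_iff hF hq (k + 1)]
  rw [show t * t * ((-1 : F) ^ k * (2 * (2 * c) - a * a)) = t * t * ((-1) ^ (k + 1) * (a * a - 2 * (2 * c))) by ring]
  constructor
  · rintro ⟨s, hs⟩ ⟨r, hr⟩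
    have hr0 : r ≠ 0 := fun h => pow_ne_zero (k + 1) (neg_ne_zero.2 one_ne_zero) (by rw [hr, h, mul_zero])
    refine hδ ⟨s / (t * r), ?_⟩
    field_simp
    linear_combination hs - t * t * (a * a - 2 * (2 * c)) * hr
  · intro hns
    have hc0 : (-1 : F) ^ (k + 1) ≠ 0 := pow_ne_zero _ (neg_ne_zero.2 one_ne_zero)
    have hd0 : a * a - 2 * (2 * c) ≠ 0 := fun h => hδ (h ▸ IsSquare.zero)
    refine (IsSquare.mul_self t).mul ?_
    classical
    rw [← quadraticChar_one_iff_isSquare (mul_ne_zero hc0 hd0), map_mul,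
      quadraticChar_neg_one_iff_not_isSquare.2 hns, quadraticChar_neg_one_iff_not_isSquare.2 hδ]
    norm_num

end Cfsg.Agent.Classical.Quad
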