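import Mathlib
import Cfsg.Prelude.Def_Classical
import Cfsg.Prelude.Def_LieClassical
import Cfsg.Agent.Classical.HermGroup
import Cfsg.Agent.Classical.SympGroup
import Cfsg.Agent.Classical.QuadMat
import Cfsg.Agent.Classical.QuadBasis

/-!
Embeddings between classical groups obtained by restriction of scalars or by base change along a quadratic
extension of finite fields.
-/

set_option autoImplicit false

namespace Cfsg.Agent.Classical.Embed

open Module Matrix

section Targets

variable {F : Type*} [Field F] {V : Type*} [AddCommGroup V] [Module F V] [FiniteDimensional F V] {G : Type*} [Group G]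

/-- A representation preserving a non-degenerate alternating form lands in the symplectic group. -/
theorem exists_hom_symplectic {m : ℕ} (hV : finrank F V = 2 * m) (B : LinearMap.BilinForm F V) (hA : B.IsAlt)
    (hB : ∀ x, (∀ y, B x y = 0) → x = 0) (ρ : G →* (V ≃ₗ[F] V)) (hρ : Function.Injective ρ)
    (hp : ∀ g x y, B (ρ g x) (ρ g y) = B x y) :
    ∃ φ : G →* ↥(Matrix.symplecticGroup (Fin m) F), Function.Injective φ := by
  obtain ⟨m', k, b, h1, h2, h3, h4⟩ := Alt.exists_basis_symp hA
  obtain rfl : k = 0 := by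
    by_contra hk
    exact b.ne_zero (Sum.inr ⟨0, by omega⟩) (hB _ (h4 _))
  obtain rfl : m' = m := by
    have := Module.finrank_eq_card_basis b
    rw [hV, Fintype.card_sum, Fintype.card_sum, Fintype.card_fin, Fintype.card_fin] at this
    omega
  let φ : V ≃ₗ[F] (Fin m' ⊕ Fin m' → F) :=
    b.equiv (Pi.basisFun F (Fin m' ⊕ Fin m')) ((Equiv.sumEmpty _ _).trans (Equiv.sumComm _ _))
  have e : (sympB m' F).comp (φ : V →ₗ[F] _) (φ : V →ₗ[F] _) = B := by
    refine LinearMap.BilinForm.ext_basis b fun i j => ?_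
    simp only [φ, LinearMap.BilinForm.comp_apply, LinearEquiv.coe_coe, Basis.equiv_apply, Pi.basisFun_apply,
      sympB_eq_sum]
    rcases i with (i | i) | i
    rotate_left 2
    · exact i.elim0
    all_goals
      rcases j with (j | j) | j
      rotate_left 2
      · exact j.elim0
    · rw [h2]; simp
    · rw [h1]; simp [Pi.single_apply, eq_comm]
    · rw [← LinearMap.IsAlt.neg hA, h1]; simp [Pi.single_apply, eq_comm]
    · rw [h3]; simp
  let f : (V ≃ₗ[F] V) →* ((Fin m' ⊕ Fin m' → F) ≃ₗ[F] (Fin m' ⊕ Fin m' → F)) :=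
    MonoidHom.mk' (fun g => (φ.symm.trans g).trans φ) fun g h => by ext x; simp [LinearEquiv.mul_apply]
  let toM : G →* Matrix (Fin m' ⊕ Fin m') (Fin m' ⊕ Fin m') F :=
    { toFun := fun g => LinearMap.toMatrix' (f (ρ g)).toLinearMap
      map_one' := by rw [map_one, map_one]; exact LinearMap.toMatrix'_id
      map_mul' := fun g h => by rw [← LinearMap.toMatrix'_comp, map_mul, map_mul]; rfl }
  have htoM : ∀ g v, toM g *ᵥ v = φ (ρ g (φ.symm v)) := fun g v => by
    simp [toM, f, LinearMap.toMatrix'_mulVec]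
  refine ⟨MonoidHom.mk' (fun g => (⟨toM g, (mem_symplectic_iff _).2 fun u v => ?_⟩ : Matrix.symplecticGroup (Fin m') F))
      fun g h => Subtype.ext (map_mul toM g h), fun g h hgh => hρ ?_⟩
  · have := fun x y => LinearMap.congr_fun (LinearMap.congr_fun e x) y
    simp only [LinearMap.BilinForm.comp_apply, LinearEquiv.coe_coe] at this
    rw [htoM, htoM, this, hp, ← this, φ.apply_symm_apply, φ.apply_symm_apply]
  · ext x
    have h0 := congrArg (fun M : Matrix (Fin m' ⊕ Fin m') (Fin m' ⊕ Fin m') F => M *ᵥ φ x) (congrArg Subtype.val hgh)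
    simp only [MonoidHom.mk'_apply, htoM, φ.symm_apply_apply] at h0
    exact φ.injective h0

/-- A representation preserving a quadratic form lands in the matrix isometry group of an isometric form. -/
theorem exists_hom_isometry {ι : Type} [Fintype ι] [DecidableEq ι] {Q' : (ι → F) → F} {W : Type*} [AddCommGroup W]
    [Module F W] {S : QuadraticForm F W} {Q : QuadraticForm F V} (h : Quad.Iso S Q) (c : (ι → F) ≃ₗ[F] W)
    (hc : ∀ x, S (c x) = Q' x) (ρ : G →* (V ≃ₗ[F] V)) (hρ : Function.Injective ρ)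
    (hp : ∀ g x, Q (ρ g x) = Q x) : ∃ φ : G →* ↥(Cfsg.isometryGroup F Q'), Function.Injective φ := by
  obtain ⟨e, he⟩ := h
  let Q₀ : QuadraticForm F (ι → F) := S.comp c.toLinearMap
  have hQ₀ : ⇑Q₀ = Q' := funext fun x => hc x
  let ρ' : G →* Quad.oG Q := ρ.codRestrict (Quad.oG Q) hp
  let E : Quad.oG Q ≃* Cfsg.isometryGroup F Q' :=
    ((Quad.oCongr (Q₁ := Q₀) (Q₂ := Q) (c.trans e) fun x => by simp [Q₀, he]).symm.trans
      (Quad.oEquiv Q₀).symm).trans (MulEquiv.subgroupCongr (by rw [hQ₀]))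
  exact ⟨E.toMonoidHom.comp ρ',
    E.injective.comp fun g h hgh => hρ (congrArg Subtype.val hgh : _)⟩

end Targets

theorem exists_subfield_hom {K F : Type*} [Field K] [Fintype K] [Field F] [Fintype F] {q : ℕ}
    (hK : Fintype.card K = q ^ 2) (hF : Fintype.card F = q) :
    ∃ (σ : K →+* K) (ι : F →+* K), (∀ x, σ x = x ^ q) ∧ Herm.IsInvol σ ∧ Nat.card (Herm.fixField σ) = q ∧
      (∀ a, σ (ι a) = ι a) ∧ (∀ x, σ x = x → ∃ a, ι a = x) := by
  classical
  obtain ⟨σ, hσq, hσ, hfix, -⟩ := exists_powHom hK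
  have : Fintype (Herm.fixField σ) := Fintype.ofFinite _
  let e : F ≃+* Herm.fixField σ := FiniteField.ringEquivOfCardEq (by rw [hF, ← Nat.card_eq_fintype_card, hfix])
  exact ⟨σ, (Herm.fixField σ).subtype.comp e.toRingHom, hσq, hσ, hfix, fun a => (e a).2, fun x hx =>
    ⟨e.symm ⟨x, hx⟩, by simp⟩⟩

variable {K F : Type*} [Field K] [Fintype K] [Field F] [Fintype F] {q : ℕ}

theorem finrank_quadratic [Algebra F K] (hK : Fintype.card K = q ^ 2) (hF : Fintype.card F = q) :
    finrank F K = 2 := by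
  have h := Module.card_eq_pow_finrank (K := F) (V := K)
  rw [hK, hF] at h
  exact (Nat.pow_right_injective (hF ▸ Fintype.one_lt_card) h).symm

theorem exists_retraction [Algebra F K] : ∃ π : K →ₗ[F] F, ∀ a, π (algebraMap F K a) = a := by
  obtain ⟨π, hπ⟩ := (Algebra.linearMap F K).exists_leftInverse_of_injective
    (LinearMap.ker_eq_bot.2 (algebraMap F K).injective)
  exact ⟨π, fun a => LinearMap.congr_fun hπ a⟩

/-- The F-linear action of a matrix group over K. -/
noncomputable def restrictHom (F : Type*) [Field F] {K : Type*} [Field K] [Algebra F K] (ι : Type) [Fintype ι]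
    [DecidableEq ι] : GL ι K →* ((ι → K) ≃ₗ[F] (ι → K)) :=
  MonoidHom.mk' (fun g => (Quad.glLin g).restrictScalars F) fun g h => LinearEquiv.ext fun x => by
    simp [LinearEquiv.mul_apply, Quad.glLin_apply, Matrix.mulVec_mulVec]

theorem restrictHom_apply [Algebra F K] {ι : Type} [Fintype ι] [DecidableEq ι] (g : GL ι K) (x : ι → K) :
    restrictHom F ι g x = g.1 *ᵥ x := rfl

theorem restrictHom_injective [Algebra F K] (ι : Type) [Fintype ι] [DecidableEq ι] :
    Function.Injective (restrictHom F (K := K) ι) := fun g h hgh => by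
  refine Units.ext (Matrix.ext_of_mulVec_single fun j => ?_)
  exact LinearEquiv.congr_fun hgh (Pi.single j 1)

/-- The Hermitian form as an F-bilinear map. -/
noncomputable def hermF [Algebra F K] {σ : K →+* K} (hσF : ∀ a, σ (algebraMap F K a) = algebraMap F K a) (m : ℕ) :
    (Fin m → K) →ₗ[F] (Fin m → K) →ₗ[F] K :=
  LinearMap.mk₂ F (fun u v => hermB m σ u v) (fun u u' v => by rw [map_add, LinearMap.add_apply])
    (fun c u v => by simp [hermB_apply, Algebra.smul_def, hσF, mul_assoc, Finset.mul_sum])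
    (fun u v v' => map_add _ _ _)
    (fun c u v => by simp [hermB_apply, Algebra.smul_def, Finset.mul_sum, mul_left_comm])

theorem hermF_apply [Algebra F K] {σ : K →+* K} (hσF : ∀ a, σ (algebraMap F K a) = algebraMap F K a) (m : ℕ)
    (u v : Fin m → K) : hermF hσF m u v = hermB m σ u v := rfl

theorem hermB_symm {σ : K →+* K} (hσ : Herm.IsInvol σ) (m : ℕ) (u v : Fin m → K) :
    σ (hermB m σ u v) = hermB m σ v u := by
  simp [hermB_apply, hσ.invol, mul_comm]

/-- GU_m(q) embeds in Sp_2m(q). -/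
theorem gu_to_sp (hK : Fintype.card K = q ^ 2) (hF : Fintype.card F = q) (m : ℕ) :
    ∃ φ : ↥(Cfsg.GU m K q) →* ↥(Matrix.symplecticGroup (Fin m) F), Function.Injective φ := by
  obtain ⟨σ, ι, hσq, hσ, hfix, hσι, hιsurj⟩ := exists_subfield_hom hK hF
  letI : Algebra F K := ι.toAlgebra
  obtain ⟨π, hπ⟩ := exists_retraction (F := F) (K := K)
  obtain ⟨k, hk0, hk⟩ := Herm.exists_skew hσ
  obtain ⟨c, hc⟩ := Herm.exists_moved hσ
  let H := hermF (F := F) (σ := σ) hσι m
  let B : LinearMap.BilinForm F (Fin m → K) := (H - H.flip).compr₂ (π.comp (LinearMap.mulLeft F k⁻¹))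
  have hB : ∀ u v, B u v = π (k⁻¹ * (hermB m σ u v - hermB m σ v u)) := fun u v => rfl
  refine exists_hom_symplectic (V := Fin m → K)
    (by rw [Module.finrank_pi_fintype]; simp [finrank_quadratic hK hF, mul_comm]) B (fun u => by simp [hB]) ?_
    ((restrictHom F (Fin m)).comp (Cfsg.GU m K q).subtype)
    ((restrictHom_injective (F := F) (Fin m)).comp (Cfsg.GU m K q).subtype_injective) ?_
  · intro u hu
    have key : ∀ v, hermB m σ u v = hermB m σ v u := fun v => by
      set x := k⁻¹ * (hermB m σ u v - hermB m σ v u) with hx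
      have hxf : σ x = x := by
        rw [hx, map_mul, map_sub, map_inv₀, hk, hermB_symm hσ, hermB_symm hσ, inv_neg]; ring
      obtain ⟨a, ha⟩ := hιsurj x hxf
      have h0 := hu v
      rw [hB, ← hx, ← ha] at h0
      rw [← show algebraMap F K a = ι a from rfl] at ha
      rw [show π (ι a) = a from hπ a] at h0
      rw [h0, map_zero, hx, eq_comm, mul_eq_zero, or_iff_right (inv_ne_zero hk0), sub_eq_zero] at ha
      exact ha
    refine (hermB_isHerm hσ m).nondeg u fun v => ?_
    have h1 := key (c • v)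
    rw [map_smul, LinearMap.map_smulₛₗ, LinearMap.smul_apply, ← key v, smul_eq_mul, smul_eq_mul] at h1
    by_contra hne
    exact hc (mul_right_cancel₀ hne h1).symm
  · intro g u v
    have := (mem_GU_iff hσq g.1).1 g.2
    simp only [MonoidHom.comp_apply, Subgroup.coe_subtype, restrictHom_apply, hB, this]

/-- The trace quadratic form of the Hermitian form has the standard type. -/
theorem gu_to_o_aux (hK : Fintype.card K = q ^ 2) (hF : Fintype.card F = q) (m : ℕ) :
    ∃ (_ : Algebra F K) (Q : QuadraticForm F (Fin m → K)) (ρ : ↥(Cfsg.GU m K q) →* ((Fin m → K) ≃ₗ[F] (Fin m → K))),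
      Function.Injective ρ ∧ (∀ g x, Q (ρ g x) = Q x) ∧ (QuadraticMap.polarBilin Q).Nondegenerate ∧
        finrank F (Fin m → K) = 2 * m ∧
        (Quad.zcard Q : ℤ) * q = (q : ℤ) ^ (2 * m) + (-1) ^ m * ((q : ℤ) ^ (m + 1) - q ^ m) := by
  obtain ⟨σ, ι, hσq, hσ, hfix, hσι, hιsurj⟩ := exists_subfield_hom hK hF
  letI : Algebra F K := ι.toAlgebra
  obtain ⟨π, hπ⟩ := exists_retraction (F := F) (K := K)
  obtain ⟨c, hc⟩ := Herm.exists_moved hσ
  let H := hermF (F := F) (σ := σ) hσι m
  let T : LinearMap.BilinForm F (Fin m → K) := H.compr₂ π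
  let Q : QuadraticForm F (Fin m → K) := LinearMap.BilinMap.toQuadraticMap T
  have hfixπ : ∀ x, σ x = x → π x = 0 → x = 0 := fun x hx h0 => by
    obtain ⟨a, rfl⟩ := hιsurj x hx
    rw [show π (ι a) = a from hπ a] at h0
    rw [h0, map_zero]
  have hQ : ∀ v, Q v = π (hermB m σ v v) := fun v => rfl
  refine ⟨ι.toAlgebra, Q, (restrictHom F (Fin m)).comp (Cfsg.GU m K q).subtype,
    (restrictHom_injective (F := F) (Fin m)).comp (Cfsg.GU m K q).subtype_injective, fun g x => ?_, ?_,
    by rw [Module.finrank_pi_fintype]; simp [finrank_quadratic hK hF, mul_comm], ?_⟩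
  · have := (mem_GU_iff hσq g.1).1 g.2
    simp only [MonoidHom.comp_apply, Subgroup.coe_subtype, restrictHom_apply, hQ, this]
  · refine Quad.nondeg_of fun u hu => (hermB_isHerm hσ m).nondeg u fun v => ?_
    have key : ∀ v, hermB m σ u v + hermB m σ v u = 0 := fun v => by
      refine hfixπ _ (by rw [map_add, hermB_symm hσ, hermB_symm hσ, add_comm]) ?_
      have h := hu v
      rw [show QuadraticMap.polar Q u v = T u v + T v u from LinearMap.BilinMap.polar_toQuadraticMap u v] at h
      rw [map_add]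
      exact h
    have h1 := key (c • v)
    rw [map_smul, LinearMap.map_smulₛₗ, LinearMap.smul_apply, smul_eq_mul, smul_eq_mul,
      eq_neg_of_add_eq_zero_right (key v)] at h1
    by_contra hne
    exact hc (mul_right_cancel₀ hne (by linear_combination h1)).symm
  · have e : Quad.zcard Q = Nat.card {v : Fin m → K // hermB m σ v v = 0} :=
      Nat.card_congr (Equiv.subtypeEquivRight fun v => by
        rw [hQ]
        exact ⟨hfixπ _ ((hermB_isHerm hσ m).symm v v), fun h => by rw [h, map_zero]⟩)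
    rw [e, mul_comm]
    exact card_herm_zero hσ hfix m

omit [Fintype K] in
theorem neg_one_pow_cast (q : ℕ) : ((-1 : ℤ) ^ (2 * q)) = 1 := by rw [pow_mul]; norm_num

/-- For even m, GU_m(q) embeds in O⁺_2m(q). -/
theorem gu_to_o_plus (hK : Fintype.card K = q ^ 2) (hF : Fintype.card F = q) (m : ℕ) (hm : Even m) :
    ∃ φ : ↥(Cfsg.GU m K q) →* ↥(Cfsg.isometryGroup F (Cfsg.quadFormPlus m F)), Function.Injective φ := by
  obtain ⟨_, Q, ρ, hρ, hp, hQ, hdim, hz⟩ := gu_to_o_aux hK hF m
  rcases Quad.even_cases hQ hdim with h | ⟨hm1, h⟩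
  · exact exists_hom_isometry h (Quad.plusCoord m) (Quad.plusCoord_map m) ρ hρ hp
  · exfalso
    obtain ⟨ζ, hζ⟩ := Quad.exists_rootfree (F := F)
    have hab := Quad.rootfree_aniso hζ
    obtain ⟨k, rfl⟩ : ∃ k, m = k + 1 := ⟨m - 1, by omega⟩
    have hzm := congrArg (Nat.cast : ℕ → ℤ) (Quad.zcard_minus hab hF k)
    rw [(h _ _ hab).zcard_eq.symm, Nat.add_sub_cancel, hm.neg_one_pow] at hz
    push_cast at hzm
    have hq1 : (1 : ℤ) < q := by exact_mod_cast hF ▸ Fintype.one_lt_card
    have : (2 : ℤ) * (q : ℤ) ^ (k + 1) * ((q : ℤ) - 1) = 0 := by linear_combination (q : ℤ) * hzm - hz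
    rcases mul_eq_zero.1 this with h0 | h0
    · exact absurd h0 (by positivity)
    · omega

/-- For odd m, GU_m(q) embeds in O⁻_2m(q). -/
theorem gu_to_o_minus (hK : Fintype.card K = q ^ 2) (hF : Fintype.card F = q) (m : ℕ) (hm : Odd m) (a b : F)
    (hab : ∀ z₁ z₂ : F, z₁ ^ 2 + a * z₁ * z₂ + b * z₂ ^ 2 = 0 → z₁ = 0 ∧ z₂ = 0) :
    ∃ φ : ↥(Cfsg.GU m K q) →* ↥(Cfsg.isometryGroup F (Cfsg.quadFormMinus (m - 1) F a b)), Function.Injective φ := by
  obtain ⟨_, Q, ρ, hρ, hp, hQ, hdim, hz⟩ := gu_to_o_aux hK hF m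
  rcases Quad.even_cases hQ hdim with h | ⟨hm1, h⟩
  · exfalso
    obtain ⟨k, rfl⟩ : ∃ k, m = k + 1 := ⟨m - 1, by obtain ⟨r, hr⟩ := hm; omega⟩
    have hzp := congrArg (Nat.cast : ℕ → ℤ) (Quad.zcard_plus hF k)
    rw [h.zcard_eq.symm, hm.neg_one_pow] at hz
    push_cast at hzp
    have hq1 : (1 : ℤ) < q := by exact_mod_cast hF ▸ Fintype.one_lt_card
    have : (2 : ℤ) * (q : ℤ) ^ (k + 1) * ((q : ℤ) - 1) = 0 := by linear_combination hz - (q : ℤ) * hzp
    rcases mul_eq_zero.1 this with h0 | h0
    · exact absurd h0 (by positivity)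
    · omega
  · exact exists_hom_isometry (h a b hab) (Quad.minusCoord (m - 1)) (Quad.minusCoord_map a b (m - 1)) ρ hρ hp

/-- Sp_2a over the quadratic extension embeds in Sp_4a. -/
theorem sp_restrict (hK : Fintype.card K = q ^ 2) (hF : Fintype.card F = q) (a : ℕ) :
    ∃ φ : ↥(Matrix.symplecticGroup (Fin a) K) →* ↥(Matrix.symplecticGroup (Fin (2 * a)) F), Function.Injective φ := by
  obtain ⟨σ, ι, -⟩ := exists_subfield_hom hK hF
  letI : Algebra F K := ι.toAlgebra
  obtain ⟨π, hπ⟩ := exists_retraction (F := F) (K := K)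
  let S : (Fin a ⊕ Fin a → K) →ₗ[F] (Fin a ⊕ Fin a → K) →ₗ[F] K :=
    LinearMap.mk₂ F (fun u v => sympB a K u v) (fun u u' v => by rw [map_add, LinearMap.add_apply])
      (fun c u v => by rw [LinearMap.map_smul_of_tower, LinearMap.smul_apply])
      (fun u v v' => map_add _ _ _) (fun c u v => LinearMap.map_smul_of_tower _ c v)
  let B : LinearMap.BilinForm F (Fin a ⊕ Fin a → K) := S.compr₂ π
  have hB : ∀ u v, B u v = π (sympB a K u v) := fun u v => rfl
  refine exists_hom_symplectic (V := Fin a ⊕ Fin a → K)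
    (by rw [Module.finrank_pi_fintype]; simp [finrank_quadratic hK hF]; ring) B
    (fun u => by rw [hB, sympB_isAlt u, map_zero]) ?_
    (MonoidHom.mk' (fun A : ↥(Matrix.symplecticGroup (Fin a) K) => (spLin A).restrictScalars F) fun A A' =>
      LinearEquiv.ext fun x => by simp [LinearEquiv.mul_apply, spLin_apply, Matrix.mulVec_mulVec]) ?_ ?_
  · intro u hu
    refine sympB_nondeg.1 u fun v => ?_
    by_contra hne
    have h := hu ((sympB a K u v)⁻¹ • v)
    rw [hB, map_smul, smul_eq_mul, inv_mul_cancel₀ hne, ← map_one (algebraMap F K), hπ] at h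
    exact one_ne_zero h
  · intro A A' h
    refine Subtype.ext (Matrix.ext_of_mulVec_single fun j => ?_)
    exact LinearEquiv.congr_fun h (Pi.single j 1)
  · intro A u v
    simp only [hB, MonoidHom.mk'_apply, LinearEquiv.restrictScalars_apply, spLin_apply,
      (mem_symplectic_iff A.1).1 A.2]

theorem ext_of_basis {L W : Type*} [Field L] [AddCommGroup W] [Module L W] {n : Type*} [Fintype n]
    (b : Basis n L W) (Q Q' : QuadraticForm L W) (h₁ : ∀ i, Q (b i) = Q' (b i))
    (h₂ : ∀ i j, Q (b i + b j) = Q' (b i + b j)) : Q = Q' := by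
  have hp : QuadraticMap.polarBilin Q = QuadraticMap.polarBilin Q' := by
    refine LinearMap.BilinForm.ext_basis b fun i j => ?_
    simp [QuadraticMap.polar, h₁, h₂]
  ext x
  induction b.mem_span x using Submodule.span_induction with
  | mem y hy =>
    obtain ⟨i, rfl⟩ := hy
    exact h₁ i
  | zero => simp
  | add y z _ _ hy hz =>
    have := LinearMap.congr_fun (LinearMap.congr_fun hp y) z
    rw [QuadraticMap.polarBilin_apply_apply, QuadraticMap.polarBilin_apply_apply] at this
    rw [Quad.map_add', Quad.map_add', hy, hz, this]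
  | smul c y _ hy => rw [Quad.map_smul', Quad.map_smul', hy]

/-- O⁻_2m(F) embeds in O⁺_2m over the quadratic extension. -/
theorem minus_to_plus (hF : Fintype.card F = q) (hK : Fintype.card K = q ^ 2) {m : ℕ} (hm : 1 ≤ m) (a c : F)
    (hac : ∀ z₁ z₂ : F, z₁ ^ 2 + a * z₁ * z₂ + c * z₂ ^ 2 = 0 → z₁ = 0 ∧ z₂ = 0) :
    ∃ φ : ↥(Cfsg.isometryGroup F (Cfsg.quadFormMinus (m - 1) F a c)) →*
      ↥(Cfsg.isometryGroup K (Cfsg.quadFormPlus m K)), Function.Injective φ := by
  classical
  obtain ⟨σ, ι, hσq, hσ, hfix, hσι, hιsurj⟩ := exists_subfield_hom hK hF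
  obtain ⟨k, rfl⟩ : ∃ k, m = k + 1 := ⟨m - 1, by omega⟩
  rw [Nat.add_sub_cancel]
  let J := (Fin k ⊕ Fin k) ⊕ Fin 2
  let QK : QuadraticForm K (J → K) :=
    (Quad.hyp (Quad.binForm (ι a) (ι c)) k).comp (Quad.minusCoord k).toLinearMap
  have hQK : ∀ v, QK v = Cfsg.quadFormMinus k K (ι a) (ι c) v := fun v => Quad.minusCoord_map (ι a) (ι c) k v
  have hmap : ∀ v : J → F, QK (ι ∘ v) = ι (Cfsg.quadFormMinus k F a c v) := fun v => by
    simp [hQK, Cfsg.quadFormMinus]
  obtain ⟨z, hz⟩ : ∃ z : K, z ^ 2 + ι a * z + ι c = 0 := by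
    letI : Algebra F K := ι.toAlgebra
    let p : Polynomial F := Polynomial.X ^ 2 + Polynomial.C a * Polynomial.X + Polynomial.C c
    have hpd : p.natDegree = 2 := by simp only [p]; compute_degree!
    have hirr : Irreducible p := by
      rw [Polynomial.Monic.irreducible_iff_roots_eq_zero_of_degree_le_three (by simp only [p]; monicity!) (by omega) (by omega)]
      refine Multiset.eq_zero_of_forall_notMem fun r hr => ?_
      have := (Polynomial.mem_roots'.1 hr).2
      simp [p] at this
      exact one_ne_zero (hac r 1 (by linear_combination this)).2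
    obtain ⟨φ⟩ : Nonempty (AdjoinRoot p →ₐ[F] K) := by
      have : Fact (Irreducible p) := ⟨hirr⟩
      have : FiniteDimensional F (AdjoinRoot p) := (AdjoinRoot.powerBasis hirr.ne_zero).finite
      have hdim : finrank F (AdjoinRoot p) = 2 := by rw [(AdjoinRoot.powerBasis hirr.ne_zero).finrank]; exact hpd
      have : Finite (AdjoinRoot p) := Module.finite_of_finite F
      exact FiniteField.nonempty_algHom_of_finrank_dvd (by rw [hdim, finrank_quadratic hK hF])
    refine ⟨φ (AdjoinRoot.root p), ?_⟩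
    have h0 := congrArg φ ((AdjoinRoot.aeval_eq (f := p) p).trans AdjoinRoot.mk_self)
    generalize AdjoinRoot.root p = r at h0 ⊢
    simpa [p, ← AdjoinRoot.algebraMap_eq, show algebraMap F K = ι from rfl] using h0
  have hdet : (Quad.binForm (ι a) (ι c) : QuadraticForm K (K × K)) (z, 1) = 0 := by
    rw [Quad.binForm_apply]; linear_combination hz
  have hnd : (QuadraticMap.polarBilin QK).Nondegenerate := by
    refine Quad.Iso.nondeg (Quad.Iso.symm ⟨Quad.minusCoord k, fun x => rfl⟩)
      (Quad.nondeg_hyp (Quad.nondeg_of fun x hx => ?_) k)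
    have hd : (ι a) ^ 2 - 4 * ι c ≠ 0 := by
      have := (map_ne_zero ι).2 (Quad.disc_ne_zero hac)
      rwa [map_sub, map_mul, map_pow, map_ofNat] at this
    have h1 := hx (1, 0)
    have h2 := hx (0, 1)
    rw [Quad.polar_binForm] at h1 h2
    simp at h1 h2
    have e2 : ((ι a) ^ 2 - 4 * ι c) * x.2 = 0 := by linear_combination ι a * h1 - 2 * h2
    have hx2 : x.2 = 0 := (mul_eq_zero.1 e2).resolve_left hd
    have e1 : ((ι a) ^ 2 - 4 * ι c) * x.1 = 0 := by linear_combination ι a * h2 - 2 * ι c * h1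
    exact Prod.ext ((mul_eq_zero.1 e1).resolve_left hd) hx2
  have hdim : finrank K (J → K) = 2 * (k + 1) := by simp [J]; ring
  have hiso : Quad.Iso (Quad.hyp (Quad.zeroForm K) (k + 1)) QK := by
    rcases Quad.even_cases hnd hdim with h | ⟨-, h⟩
    · exact h
    exfalso
    obtain ⟨ζ, hζ⟩ := Quad.exists_rootfree (F := K)
    rw [show k + 1 - 1 = k from rfl] at h
    obtain ⟨e, he⟩ := h _ _ (Quad.rootfree_aniso hζ)
    let W : Submodule K (((Fin k → K) × (Fin k → K)) × (K × K)) :=
      LinearMap.range ((LinearMap.inl K (Fin k → K) (Fin k → K)).prodMap (LinearMap.toSpanSingleton K (K × K) (z, 1)))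
    have hW : ∀ x ∈ W, Quad.hyp (Quad.binForm (ι a) (ι c)) k x = 0 := by
      rintro _ ⟨x, rfl⟩
      simp only [LinearMap.prodMap_apply, LinearMap.toSpanSingleton_apply, Quad.hyp_apply, Quad.map_smul', hdet]
      simp
    have hWd : finrank K W = k + 1 := by
      rw [LinearMap.finrank_range_of_inj, Module.finrank_prod, Module.finrank_fin_fun, Module.finrank_self]
      intro x y hxy
      simp [Prod.ext_iff] at hxy
      exact Prod.ext hxy.1 hxy.2.2
    let L := (Quad.minusCoord (F := K) k).symm.trans e.symm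
    have := Quad.aniso_index (Quad.nondeg_binForm (Quad.rootfree_aniso hζ))
      (fun _ h => by_contra fun hz => Quad.binForm_ne_zero (Quad.rootfree_aniso hζ) hz h) k
      (W.map L.toLinearMap) (by
        rintro _ ⟨x, hx, rfl⟩
        rw [LinearEquiv.coe_coe]
        show Quad.hyp (Quad.binForm 1 ζ) k (L x) = 0
        rw [← he (L x)]
        simp [L, QK, hW x hx])
    rw [LinearEquiv.finrank_map_eq, hWd] at this
    omega
  let base : ↥(Cfsg.isometryGroup F (Cfsg.quadFormMinus k F a c)) →* GL J K :=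
    (Matrix.GeneralLinearGroup.map ι).comp (Cfsg.isometryGroup F _).subtype
  have hbase : ∀ g x, QK ((base g).1 *ᵥ x) = QK x := by
    intro g
    have hpres := Quad.mem_isometryGroup_iff.1 g.2
    have e : QK.comp (Matrix.toLin' (base g).1) = QK := by
      have key : ∀ v : J → F, QK ((base g).1 *ᵥ (ι ∘ v)) = QK (ι ∘ v) := fun v => by
        have h : (base g).1 *ᵥ (ι ∘ v) = ι ∘ (g.1.1 *ᵥ v) := funext fun i => by
          simp [base, RingHom.map_mulVec, Function.comp_def]
          rfl
        rw [h, hmap, hmap, hpres]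
      have hs : ∀ i, (Pi.basisFun K J i) = ι ∘ (Pi.single i (1 : F)) := fun i => by
        funext j
        simp [Pi.single_apply, apply_ite ι]
      refine ext_of_basis (Pi.basisFun K J) _ _ (fun i => ?_) fun i j => ?_
      · rw [hs]; exact key _
      · rw [hs, hs, show (ι ∘ Pi.single i (1 : F) + ι ∘ Pi.single j (1 : F)) =
          ι ∘ (Pi.single i (1 : F) + Pi.single j (1 : F)) from funext fun l => by simp]
        exact key _
    exact fun x => DFunLike.congr_fun e x
  exact exists_hom_isometry hiso (Quad.plusCoord (k + 1)) (Quad.plusCoord_map (k + 1))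
    (MonoidHom.mk' (fun g => Quad.glLin (base g)) fun g h => LinearEquiv.ext fun x => by
      simp [LinearEquiv.mul_apply, Quad.glLin_apply, Matrix.mulVec_mulVec])
    (fun g h hgh => by
      refine Subtype.ext (Units.ext (Matrix.ext fun i j => ι.injective ?_))
      have := congrFun (LinearEquiv.congr_fun hgh (Pi.single j 1)) i
      simpa [base, Quad.glLin_apply] using this)
    hbase

end Cfsg.Agent.Classical.Embed
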