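import Mathlib
import Cfsg.Agent.Classical.QuadOrder

/-!
Generation of the isometry group of a quadratic form by reflections and Siegel transformations, algebra of Siegel
transformations, reflections of equal norm modulo the commutator subgroup.
-/

set_option autoImplicit false

namespace Cfsg.Agent.Classical.Quad

open Module QuadraticMap
open scoped commutatorElement

variable {F V : Type*} [Field F] [AddCommGroup V] [Module F V] {Q : QuadraticForm F V}

/-- A reflection as an element of the isometry group. -/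
noncomputable def rO {v : V} (hv : Q v ≠ 0) : oG Q := ⟨refl hv, refl_mem hv⟩

/-- A Siegel transformation as an element of the isometry group. -/
def sO {p w : V} (hp : Q p = 0) (hpw : polar Q p w = 0) : oG Q := ⟨siegel hp hpw, siegel_mem hp hpw⟩

theorem ext_oG {g h : oG Q} (e : ∀ x, g.1 x = h.1 x) : g = h := Subtype.ext (LinearEquiv.ext e)

theorem oG_mul_apply (g h : oG Q) (x : V) : (g * h).1 x = g.1 (h.1 x) := rfl

theorem oG_one_apply (x : V) : (1 : oG Q).1 x = x := rfl

theorem oG_inv_apply (g : oG Q) (x : V) : (g⁻¹).1 (g.1 x) = x := g.1.symm_apply_apply x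

theorem oG_apply_inv (g : oG Q) (x : V) : g.1 ((g⁻¹).1 x) = x := g.1.apply_symm_apply x

theorem polar_oG (g : oG Q) (x y : V) : polar Q (g.1 x) (g.1 y) = polar Q x y := polar_eq_of_mem g.2 x y

theorem rO_apply {v : V} (hv : Q v ≠ 0) (x : V) : (rO hv).1 x = x - (polar Q x v / Q v) • v := rfl

theorem sO_apply {p w : V} (hp : Q p = 0) (hpw : polar Q p w = 0) (x : V) :
    (sO hp hpw).1 x = x + polar Q x w • p + (-polar Q x p) • w + (-(Q w * polar Q x p)) • p := rfl

theorem rO_mul_self {v : V} (hv : Q v ≠ 0) : rO hv * rO hv = 1 :=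
  ext_oG fun x => (refl hv).symm_apply_apply x

theorem rO_inv {v : V} (hv : Q v ≠ 0) : (rO hv)⁻¹ = rO hv := inv_eq_of_mul_eq_one_right (rO_mul_self hv)

theorem rO_congr {v v' : V} (hv : Q v ≠ 0) (hv' : Q v' ≠ 0) (e : v = v') : rO hv = rO hv' := by subst e; rfl

theorem rO_smul {v : V} (hv : Q v ≠ 0) {c : F} (hc : c ≠ 0) (hcv : Q (c • v) ≠ 0) : rO hcv = rO hv :=
  ext_oG fun x => by
    rw [rO_apply, rO_apply, map_smul', polar_smul_right, smul_eq_mul, smul_smul]
    congr 2
    field_simp

theorem conj_rO (g : oG Q) {v : V} (hv : Q v ≠ 0) :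
    g * rO hv * g⁻¹ = rO (v := g.1 v) (by rwa [g.2]) := by
  rw [mul_inv_eq_iff_eq_mul]
  refine ext_oG fun x => ?_
  simp only [oG_mul_apply, rO_apply, map_sub, map_smul, polar_oG, g.2 v]

theorem sO_congr {p w w' : V} (hp : Q p = 0) (hw : polar Q p w = 0) (hw' : polar Q p w' = 0) (e : w = w') :
    sO hp hw = sO hp hw' := by subst e; rfl

theorem polar_perp_add {p w w' : V} (hw : polar Q p w = 0) (hw' : polar Q p w' = 0) :
    polar Q p (w + w') = 0 := by rw [polar_add_right, hw, hw', add_zero]

theorem polar_perp_smul {p w : V} (hw : polar Q p w = 0) (c : F) : polar Q p (c • w) = 0 := by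
  rw [polar_smul_right, hw, smul_zero]

theorem polar_perp_neg {p w : V} (hw : polar Q p w = 0) : polar Q p (-w) = 0 := by
  rw [polar_neg_right, hw, neg_zero]

theorem sO_mul {p w w' : V} (hp : Q p = 0) (hw : polar Q p w = 0) (hw' : polar Q p w' = 0) :
    sO hp hw * sO hp hw' = sO hp (polar_perp_add hw hw') := ext_oG fun x => by
  simp only [oG_mul_apply, sO_apply, polar_add_left, polar_add_right, polar_smul_left, smul_eq_mul, map_add' w w',
    polar_self', hp, hw, hw', polar_comm Q w' p, polar_comm Q w' w]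
  match_scalars <;> ring

theorem sO_zero {p : V} (hp : Q p = 0) (h : polar Q p (0 : V) = 0) : sO hp h = 1 := ext_oG fun x => by
  rw [sO_apply, oG_one_apply]
  simp [polar]

theorem sO_inv {p w : V} (hp : Q p = 0) (hw : polar Q p w = 0) : (sO hp hw)⁻¹ = sO hp (polar_perp_neg hw) :=
  inv_eq_of_mul_eq_one_right (by rw [sO_mul, sO_congr hp _ (by simp [polar]) (add_neg_cancel w), sO_zero])

theorem sO_add_self {p w : V} (hp : Q p = 0) (hw : polar Q p w = 0) (t : F)
    (h : polar Q p (w + t • p) = 0) : sO hp h = sO hp hw := ext_oG fun x => by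
  simp only [sO_apply, polar_add_right, polar_smul_right, smul_eq_mul, map_add_smul, hp, polar_comm Q w p, hw]
  match_scalars <;> ring

theorem sO_smul_self {p : V} (hp : Q p = 0) (t : F) (h : polar Q p (t • p) = 0) : sO hp h = 1 := by
  rw [sO_congr hp h (by simpa using h) (zero_add (t • p)).symm, sO_add_self hp (by simp [polar]) t, sO_zero]

theorem sO_smul_left {p w : V} (hp : Q p = 0) (hw : polar Q p w = 0) (c : F) (hcp : Q (c • p) = 0)
    (hcw : polar Q (c • p) w = 0) : sO hcp hcw = sO hp (polar_perp_smul hw c) := ext_oG fun x => by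
  simp only [sO_apply, polar_smul_right, smul_eq_mul, map_smul', smul_smul]
  match_scalars <;> ring

theorem conj_sO (g : oG Q) {p w : V} (hp : Q p = 0) (hw : polar Q p w = 0) :
    g * sO hp hw * g⁻¹ = sO (p := g.1 p) (w := g.1 w) (by rw [g.2, hp]) (by rw [polar_oG, hw]) := by
  rw [mul_inv_eq_iff_eq_mul]
  refine ext_oG fun x => ?_
  simp only [oG_mul_apply, sO_apply, map_add, map_smul, polar_oG, g.2 w]

/-- A Siegel transformation takes a hyperbolic partner to any other. -/
theorem sO_partner {e f f' : V} (he : Q e = 0) (hf : Q f = 0) (hef : polar Q e f = 1) (hf' : Q f' = 0)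
    (hef' : polar Q e f' = 1) :
    ∃ h : polar Q e (f - f') = 0, (sO he h).1 e = e ∧ (sO he h).1 f = f' := by
  have h : polar Q e (f - f') = 0 := by rw [polar_sub_right, hef, hef', sub_self]
  refine ⟨h, ?_, ?_⟩
  · rw [sO_apply, h, polar_self', he]
    simp
  · have hq : Q (f - f') = -polar Q f f' := by
      rw [sub_eq_add_neg, map_add', polar_neg_right, QuadraticMap.map_neg, hf, hf']; ring
    rw [sO_apply, hq, polar_comm Q f e, hef, polar_sub_right, polar_self', hf]
    match_scalars <;> ring

/-- A Siegel transformation with anisotropic parameter is a product of two reflections of equal norm. -/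
theorem sO_eq_rO_mul {p v : V} (hp : Q p = 0) (hpv : polar Q p v = 0) (hv : Q v ≠ 0) :
    ∃ hv' : Q (v + (-Q v) • p) ≠ 0, Q (v + (-Q v) • p) = Q v ∧ sO hp hpv = rO hv * rO hv' := by
  have e : Q (v + (-Q v) • p) = Q v := by rw [map_add_smul, hp, polar_comm Q v p, hpv]; ring
  refine ⟨by rwa [e], e, ext_oG fun x => ?_⟩
  simp only [oG_mul_apply, sO_apply, rO_apply, e, polar_add_right, polar_smul_right, polar_sub_left, polar_add_left,
    polar_smul_left, smul_eq_mul, polar_self', hpv]
  match_scalars <;> field_simp <;> ring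

/-- The fixed space. -/
def fixSub (g : oG Q) : Submodule F V := LinearMap.eqLocus (g.1 : V →ₗ[F] V) LinearMap.id

theorem mem_fixSub {g : oG Q} {x : V} : x ∈ fixSub g ↔ g.1 x = x := Iff.rfl

variable [FiniteDimensional F V]

/-- Reflections and Siegel transformations generate. -/
theorem gen_eq_top (hQ : (polarBilin Q).Nondegenerate) (H : Subgroup (oG Q))
    (hr : ∀ (v : V) (hv : Q v ≠ 0), rO hv ∈ H)
    (hs : ∀ (p w : V) (hp : Q p = 0) (hpw : polar Q p w = 0), sO hp hpw ∈ H) : H = ⊤ := by
  rw [eq_top_iff]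
  suffices ∀ k, ∀ g : oG Q, finrank F V - finrank F (fixSub g) ≤ k → g ∈ H from fun g _ => this _ g le_rfl
  intro k
  induction k with
  | zero =>
    intro g hg
    have htop : fixSub g = ⊤ := Submodule.eq_top_of_finrank_eq (by
      have := Submodule.finrank_le (fixSub g); omega)
    have : g = 1 := ext_oG fun x => by
      rw [oG_one_apply]; exact mem_fixSub.1 (htop ▸ Submodule.mem_top)
    exact this ▸ one_mem _
  | succ k ih =>
    intro g hg
    by_cases htop : fixSub g = ⊤
    · have : g = 1 := ext_oG fun x => by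
        rw [oG_one_apply]; exact mem_fixSub.1 (htop ▸ Submodule.mem_top)
      exact this ▸ one_mem _
    suffices ∃ h ∈ H, fixSub g < fixSub (h * g) by
      obtain ⟨h, hh, hlt⟩ := this
      have := Submodule.finrank_lt_finrank_of_lt hlt
      have hm := ih (h * g) (by omega)
      exact (Subgroup.mul_mem_cancel_left H hh).1 hm
    by_cases hx : ∃ x, Q (g.1 x - x) ≠ 0
    · obtain ⟨x, hx⟩ := hx
      set d := g.1 x - x with hd
      refine ⟨rO hx, hr _ hx, lt_of_le_of_ne (fun w hw => ?_) fun he => ?_⟩
      · rw [mem_fixSub, oG_mul_apply, mem_fixSub.1 hw]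
        refine refl_fix hx ?_
        rw [hd, polar_sub_right]
        nth_rw 1 [← mem_fixSub.1 hw]
        rw [polar_oG, sub_self]
      · have hxf : x ∈ fixSub (rO hx * g) := by
          have e : polar Q (g.1 x) d = Q d := by
            have h1 := map_add' (Q := Q) x d
            have h2 : polar Q (g.1 x) d = polar Q x d + polar Q d d := by
              rw [← polar_add_left, hd, add_sub_cancel]
            rw [hd, add_sub_cancel, g.2, ← hd] at h1
            rw [h2, polar_self']
            linear_combination -h1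
          rw [mem_fixSub, oG_mul_apply, rO_apply, e, div_self hx, one_smul, hd]
          abel
        rw [← he, mem_fixSub] at hxf
        exact hx (by rw [hd, hxf, sub_self, map_zero])
    push Not at hx
    obtain ⟨x, -, hxW⟩ := SetLike.exists_of_lt (lt_top_iff_ne_top.2 htop)
    set p := g.1 x - x with hp
    have hxp : polar Q x p = 0 := by
      have h1 := map_add' (Q := Q) x p
      rw [hp, add_sub_cancel, g.2, ← hp, hx x] at h1
      linear_combination -h1
    have hWp : ∀ w ∈ fixSub g, polar Q w p = 0 := fun w hw => by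
      rw [hp, polar_sub_right]
      nth_rw 1 [← mem_fixSub.1 hw]
      rw [polar_oG, sub_self]
    have hpW : p ∈ fixSub g := by
      refine mem_fixSub.2 (sub_eq_zero.1 (eq_zero_of_polar hQ fun y => ?_))
      have hp0 := hx x
      rw [← hp] at hp0
      have key : ∀ a b, polar Q (g.1 a - a) (g.1 b - b) = 0 := fun a b => by
        have h1 := map_add' (Q := Q) (g.1 a - a) (g.1 b - b)
        rw [hx a, hx b, show g.1 a - a + (g.1 b - b) = g.1 (a + b) - (a + b) by rw [map_add]; abel, hx] at h1
        linear_combination -h1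
      have h1 : polar Q (g.1 p - p) (g.1 y) = -polar Q p (g.1 y - y) := by
        rw [polar_sub_left, polar_oG, polar_sub_right]; ring
      rw [hp, key, neg_zero, ← hp] at h1
      have h2 := key p y
      rw [polar_sub_right, h1, zero_sub, neg_eq_zero] at h2
      exact h2
    obtain ⟨w, hw, hxw⟩ := exists_perp hQ hxW
    have hpw : polar Q p (-w) = 0 := polar_perp_neg (hw p hpW)
    refine ⟨sO (hx x) hpw, hs _ _ _ _, lt_of_le_of_ne (fun y hy => ?_) fun he => ?_⟩
    · rw [mem_fixSub, oG_mul_apply, mem_fixSub.1 hy]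
      exact siegel_fix (hx x) hpw (hWp y hy) (polar_perp_neg (hw y hy))
    · have hxf : x ∈ fixSub (sO (hx x) hpw * g) := by
        have h1 : polar Q (g.1 x) w = 1 := by
          rw [show g.1 x = x + p by rw [hp, add_sub_cancel], polar_add_left, hxw, hw p hpW, add_zero]
        have h2 : polar Q (g.1 x) p = 0 := by
          rw [show g.1 x = x + p by rw [hp, add_sub_cancel], polar_add_left, hxp, polar_self', hx x, mul_zero,
            add_zero]
        rw [mem_fixSub, oG_mul_apply, sO_apply, ← hp, polar_neg_right, h1, h2]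
        simp [hp]
      exact hxW (he ▸ hxf)

omit [FiniteDimensional F V] in
theorem exists_ne_two_values [Finite F] (hq : Nat.card F ≠ 2) (c : F) : ∃ a : F, a ≠ 0 ∧ a ≠ c := by
  classical
  have := Fintype.ofFinite F
  by_contra h
  push Not at h
  have hle : (Finset.univ : Finset F).card ≤ ({0, c} : Finset F).card := Finset.card_le_card fun a _ => by
    by_cases ha : a = 0 <;> simp [ha]
    exact h a ha
  have := Finset.card_le_two (a := (0 : F)) (b := c)
  have := Fintype.one_lt_card (α := F)
  rw [Nat.card_eq_fintype_card] at hq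
  rw [Finset.card_univ] at hle
  omega

/-- A subgroup with the Siegel transformations of anisotropic parameter contains all of them. -/
theorem sO_mem_of_aniso [Finite F] (hQ : (polarBilin Q).Nondegenerate) (hex : Nat.card F ≠ 2 ∨ finrank F V ≠ 4)
    (H : Subgroup (oG Q)) {p : V} (hp : Q p = 0)
    (hH : ∀ (v : V) (hpv : polar Q p v = 0), Q v ≠ 0 → sO hp hpv ∈ H) {w : V} (hpw : polar Q p w = 0) :
    sO hp hpw ∈ H := by
  by_cases hw : Q w = 0
  swap
  · exact hH w hpw hw
  by_cases hp0 : p = 0
  · have e : sO hp hpw = 1 := ext_oG fun x => by rw [sO_apply, oG_one_apply, hp0]; simp [polar]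
    exact e ▸ one_mem _
  by_cases hmem : w ∈ Submodule.span F {p}
  · obtain ⟨t, rfl⟩ := Submodule.mem_span_singleton.1 hmem
    exact (sO_smul_self hp t hpw) ▸ one_mem _
  suffices ∃ v, polar Q p v = 0 ∧ Q v ≠ 0 ∧ Q v ≠ polar Q w v by
    obtain ⟨v, hpv, hv, hne⟩ := this
    have hwv : polar Q p (w + -v) = 0 := polar_perp_add hpw (polar_perp_neg hpv)
    have hq : Q (w + -v) ≠ 0 := by
      rw [map_add', hw, QuadraticMap.map_neg, polar_neg_right, zero_add, ← sub_eq_add_neg]
      exact sub_ne_zero.2 hne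
    have := mul_mem (hH _ hwv hq) (hH _ hpv hv)
    rwa [sO_mul, sO_congr hp _ hpw (neg_add_cancel_right w v)] at this
  let S : Submodule F V := LinearMap.ker (polarBilin Q p) ⊓ LinearMap.ker (polarBilin Q w)
  have hS : ∀ x ∈ S, polar Q p x = 0 ∧ polar Q w x = 0 := fun x hx => hx
  let P : Submodule F V := LinearMap.ker (polarBilin Q p)
  have h4 : 4 ≤ finrank F V := by
    have hli : LinearIndependent F ![p, w] := by
      rw [LinearIndependent.pair_iff' hp0]
      exact fun a h => hmem (Submodule.mem_span_singleton.2 ⟨a, h⟩)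
    have h := two_mul_finrank_le hQ (W := Submodule.span F (Set.range ![p, w])) (fun x hx => by
      rw [show Set.range ![p, w] = {p, w} by simp [Set.pair_comm], Submodule.mem_span_pair] at hx
      obtain ⟨a, b, rfl⟩ := hx
      rw [map_add', map_smul', map_smul', polar_smul_left, polar_smul_right, hp, hw, hpw]
      simp)
    rw [finrank_span_eq_card hli, Fintype.card_fin] at h
    omega
  have hdim : ∀ (x : V) (T : Submodule F V), finrank F T ≤ finrank F (T ⊓ LinearMap.ker (polarBilin Q x) :
      Submodule F V) + 1 := fun x T => by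
    have h1 := Submodule.finrank_sup_add_finrank_inf_eq T (LinearMap.ker (polarBilin Q x))
    have h2 := LinearMap.finrank_range_add_finrank_ker (polarBilin Q x)
    have h3 := Submodule.finrank_le (LinearMap.range (polarBilin Q x))
    have h4 := Submodule.finrank_le (T ⊔ LinearMap.ker (polarBilin Q x))
    rw [Module.finrank_self] at h3
    omega
  have hP : finrank F V ≤ finrank F P + 1 := by
    have := hdim p ⊤
    rwa [top_inf_eq, finrank_top] at this
  have hSd : finrank F P ≤ finrank F S + 1 := hdim w P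
  by_cases hq : Nat.card F = 2
  · have hn : finrank F V ≠ 4 := hex.resolve_left (not_not.2 hq)
    obtain ⟨v, hv, hQv⟩ : ∃ v ∈ S, Q v ≠ 0 := by
      by_contra h
      push Not at h
      have := two_mul_finrank_le hQ h
      omega
    exact ⟨v, (hS v hv).1, hQv, by rwa [(hS v hv).2]⟩
  obtain ⟨v, hv, hQv⟩ : ∃ v ∈ P, Q v ≠ 0 := by
    by_contra h
    push Not at h
    have := two_mul_finrank_le hQ h
    omega
  obtain ⟨a, ha, ha'⟩ := exists_ne_two_values hq (polar Q w v / Q v)
  refine ⟨a • v, polar_perp_smul hv a, ?_, ?_⟩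
  · rw [map_smul']
    exact mul_ne_zero (mul_ne_zero ha ha) hQv
  · rw [map_smul', polar_smul_right, smul_eq_mul, mul_assoc]
    intro h
    exact ha' ((eq_div_iff hQv).2 (mul_left_cancel₀ ha h))

/-- The reflections. -/
def reflSet (Q : QuadraticForm F V) : Set (oG Q) := {g | ∃ (v : V) (hv : Q v ≠ 0), g = rO hv}

/-- Generation by reflections. -/
theorem closure_reflSet [Finite F] (hQ : (polarBilin Q).Nondegenerate)
    (hex : Nat.card F ≠ 2 ∨ finrank F V ≠ 4) : Subgroup.closure (reflSet Q) = ⊤ := by
  refine gen_eq_top hQ _ (fun v hv => Subgroup.subset_closure ⟨v, hv, rfl⟩) fun p w hp hpw => ?_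
  refine sO_mem_of_aniso hQ hex _ hp (fun v hpv hv => ?_) hpw
  obtain ⟨hv', -, e⟩ := sO_eq_rO_mul hp hpv hv
  exact e ▸ mul_mem (Subgroup.subset_closure ⟨_, _, rfl⟩) (Subgroup.subset_closure ⟨_, _, rfl⟩)

theorem exists_move (hQ : (polarBilin Q).Nondegenerate) {u v : V} (hu : u ≠ 0) (hv : v ≠ 0) (h : Q u = Q v) :
    ∃ g : oG Q, g.1 u = v := by
  obtain ⟨g, hg, hgu⟩ := witt_family hQ 1 ![u] ![v] (LinearIndependent.of_subsingleton 0 hu)
    (LinearIndependent.of_subsingleton 0 hv) (fun i => by simpa [Fin.fin_one_eq_zero i] using h)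
    (fun i j => by simp [Fin.fin_one_eq_zero i, Fin.fin_one_eq_zero j, h])
  exact ⟨⟨g, hg⟩, hgu 0⟩

/-- Reflections in vectors of the same square class are conjugate. -/
theorem exists_conj_rO (hQ : (polarBilin Q).Nondegenerate) {u v : V} (hu : Q u ≠ 0) (hv : Q v ≠ 0) {t : F}
    (ht : Q v = t * t * Q u) : ∃ g : oG Q, g * rO hu * g⁻¹ = rO hv := by
  have ht0 : t ≠ 0 := fun h => hv (by rw [ht, h]; ring)
  have htu : Q (t • u) ≠ 0 := by rwa [map_smul', ← ht]
  obtain ⟨g, hg⟩ := exists_move hQ (u := t • u) (v := v) (fun h => htu (by rw [h, map_zero]))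
    (fun h => hv (by rw [h, map_zero])) (by rw [map_smul', ← ht])
  refine ⟨g, ?_⟩
  rw [← rO_smul hu ht0 htu, conj_rO]
  exact rO_congr _ _ hg

theorem rO_mul_mem_commutator (hQ : (polarBilin Q).Nondegenerate) {u v : V} (hu : Q u ≠ 0) (hv : Q v ≠ 0) {t : F}
    (ht : Q v = t * t * Q u) : rO hu * rO hv ∈ commutator (oG Q) := by
  obtain ⟨g, hg⟩ := exists_conj_rO hQ hu hv ht
  have e : rO hu * rO hv = ⁅rO hu, g⁆ := by
    rw [commutatorElement_def, rO_inv, ← hg]; group
  rw [e]
  exact Subgroup.commutator_mem_commutator (Subgroup.mem_top _) (Subgroup.mem_top _)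

theorem sO_mem_commutator [Finite F] (hQ : (polarBilin Q).Nondegenerate) (hex : Nat.card F ≠ 2 ∨ finrank F V ≠ 4)
    {p w : V} (hp : Q p = 0) (hpw : polar Q p w = 0) : sO hp hpw ∈ commutator (oG Q) := by
  refine sO_mem_of_aniso hQ hex _ hp (fun v hpv hv => ?_) hpw
  obtain ⟨hv', he, e⟩ := sO_eq_rO_mul hp hpv hv
  exact e ▸ rO_mul_mem_commutator hQ hv hv' (t := 1) (by rw [he]; ring)

end Cfsg.Agent.Classical.Quad
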