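import Mathlib
import Cfsg.Agent.Classical.OrthGen
import Cfsg.Agent.Classical.QuadClass

/-!
The Dickson invariant (parity of the codimension of the fixed space), the spinor character (sign of the
permutation of the vectors of norm one), and the abelianisation of the isometry group of a quadratic form.
-/

set_option autoImplicit false

namespace Cfsg.Agent.Classical.Quad

open Module QuadraticMap
open scoped commutatorElement

section parity

variable {F V : Type*} [Field F] [AddCommGroup V] [Module F V] {Q : QuadraticForm F V} [FiniteDimensional F V]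

theorem finrank_inf_ker_add_one (φ : V →ₗ[F] F) {T : Submodule F V} (h : ¬T ≤ LinearMap.ker φ) :
    finrank F (T ⊓ LinearMap.ker φ : Submodule F V) + 1 = finrank F T := by
  have hlt : finrank F (T ⊓ LinearMap.ker φ : Submodule F V) < finrank F T :=
    Submodule.finrank_lt_finrank_of_lt (inf_lt_left.2 h)
  have h1 := Submodule.finrank_sup_add_finrank_inf_eq T (LinearMap.ker φ)
  have h2 := LinearMap.finrank_range_add_finrank_ker φ
  have h3 := Submodule.finrank_le (LinearMap.range φ)
  have h4 := Submodule.finrank_le (T ⊔ LinearMap.ker φ)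
  rw [Module.finrank_self] at h3
  omega

/-- Multiplying by a reflection changes the dimension of the fixed space by one. -/
theorem finrank_fix_mul_rO (hQ : (polarBilin Q).Nondegenerate) (g : oG Q) {v : V} (hv : Q v ≠ 0) :
    finrank F (fixSub (g * rO hv)) = finrank F (fixSub g) + 1 ∨
      finrank F (fixSub (g * rO hv)) + 1 = finrank F (fixSub g) := by
  let K := LinearMap.ker (polarBilin Q v)
  have hK : ∀ x, x ∈ K ↔ polar Q x v = 0 := fun x => by rw [polar_comm]; rfl
  have hinf : fixSub (g * rO hv) ⊓ K = fixSub g ⊓ K := by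
    ext x
    simp only [Submodule.mem_inf, hK, mem_fixSub, oG_mul_apply]
    constructor <;> rintro ⟨h1, h2⟩
    · refine ⟨?_, h2⟩
      have := refl_fix hv h2
      rwa [show (rO hv).1 x = x from this] at h1
    · exact ⟨by rw [show (rO hv).1 x = x from refl_fix hv h2, h1], h2⟩
  by_cases hle : fixSub g ≤ K
  · left
    obtain ⟨y, hy⟩ : ∃ y, g.1 y - y = v := by
      by_contra hc
      push Not at hc
      let R := LinearMap.range ((g.1 : V →ₗ[F] V) - LinearMap.id)
      have hvR : v ∉ R := by rintro ⟨y, hy⟩; exact hc y hy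
      obtain ⟨w, hw, hvw⟩ := exists_perp hQ hvR
      have hwf : w ∈ fixSub g := by
        refine mem_fixSub.2 (sub_eq_zero.1 (eq_zero_of_polar hQ fun z => ?_))
        obtain ⟨z', rfl⟩ := g.1.surjective z
        have := hw _ ⟨z', rfl⟩
        simp only [LinearMap.sub_apply, LinearMap.id_apply, LinearEquiv.coe_coe] at this
        rw [polar_sub_left, polar_oG, sub_eq_zero, polar_comm Q w z', polar_comm Q w (g.1 z')]
        rw [polar_sub_left, sub_eq_zero] at this
        exact this.symm
      have := (hK w).1 (hle hwf)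
      rw [polar_comm, hvw] at this
      exact one_ne_zero this
    have hp : polar Q (g.1 y) v = Q v := by
      rw [← hy, polar_sub_right, polar_self', g.2, sub_eq_add_neg (g.1 y) y, map_add', polar_neg_right,
        QuadraticMap.map_neg, g.2]
      ring
    have hgy : g.1 y ∈ fixSub (g * rO hv) := by
      rw [mem_fixSub, oG_mul_apply, rO_apply, hp, div_self hv, one_smul, ← hy, sub_sub_cancel]
    have := finrank_inf_ker_add_one (polarBilin Q v) (T := fixSub (g * rO hv))
      fun h => hv (by rw [← hp, (hK _).1 (h hgy)])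
    have hinf' : fixSub (g * rO hv) ⊓ LinearMap.ker (polarBilin Q v) = fixSub g := by
      rw [show LinearMap.ker (polarBilin Q v) = K from rfl, hinf, inf_eq_left.2 hle]
    rw [hinf'] at this
    omega
  · right
    have hle' : fixSub (g * rO hv) ≤ K := by
      intro x hx
      rw [hK]
      by_contra hc
      obtain ⟨x₀, hx₀, hx₀v⟩ := SetLike.not_le_iff_exists.1 hle
      rw [hK] at hx₀v
      rw [mem_fixSub, oG_mul_apply, rO_apply, map_sub, map_smul] at hx
      set c := polar Q x v / Q v with hcdef
      have hc0 : c ≠ 0 := div_ne_zero hc hv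
      have h1 : polar Q x₀ (g.1 x - x) = 0 := by
        rw [polar_sub_right]
        nth_rw 1 [← mem_fixSub.1 hx₀]
        rw [polar_oG, sub_self]
      have h2 : g.1 x - x = c • g.1 v := by linear_combination (norm := module) hx
      rw [h2, polar_smul_right, smul_eq_mul] at h1
      refine hx₀v ((mul_eq_zero.1 h1).resolve_left hc0 ▸ ?_)
      nth_rw 2 [← mem_fixSub.1 hx₀]
      rw [polar_oG]
    have := finrank_inf_ker_add_one (polarBilin Q v) hle
    rw [show LinearMap.ker (polarBilin Q v) = K from rfl, ← hinf, inf_eq_left.2 hle'] at this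
    exact this

/-- The parity of the codimension of the fixed space. -/
noncomputable def dsign (g : oG Q) : ℤˣ := (-1) ^ (finrank F V + finrank F (fixSub g))

theorem dsign_one : dsign (1 : oG Q) = 1 := by
  have e : fixSub (1 : oG Q) = ⊤ := eq_top_iff.2 fun x _ => mem_fixSub.2 rfl
  rw [dsign, e, finrank_top, ← two_mul, pow_mul]
  simp

theorem dsign_mul_rO (hQ : (polarBilin Q).Nondegenerate) (g : oG Q) {v : V} (hv : Q v ≠ 0) :
    dsign (g * rO hv) = -dsign g := by
  rcases finrank_fix_mul_rO hQ g hv with h | h
  · rw [dsign, dsign, h, ← add_assoc, pow_succ, mul_neg_one]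
  · rw [dsign, dsign, ← h, ← add_assoc, pow_succ, mul_neg_one, neg_neg]

theorem dsign_mul [Finite F] (hQ : (polarBilin Q).Nondegenerate) (hex : Nat.card F ≠ 2 ∨ finrank F V ≠ 4)
    (g h : oG Q) : dsign (g * h) = dsign g * dsign h := by
  have hh : h ∈ Subgroup.closure (reflSet Q) := by rw [closure_reflSet hQ hex]; trivial
  induction hh using Subgroup.closure_induction_right with
  | one => rw [mul_one, dsign_one, mul_one]
  | mul_right x _ y hy ih =>
    obtain ⟨v, hv, rfl⟩ := hy
    rw [← mul_assoc, dsign_mul_rO hQ _ hv, dsign_mul_rO hQ _ hv, ih, mul_neg]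
  | mul_inv_cancel x _ y hy ih =>
    obtain ⟨v, hv, rfl⟩ := hy
    rw [rO_inv, ← mul_assoc, dsign_mul_rO hQ _ hv, dsign_mul_rO hQ _ hv, ih, mul_neg]

/-- The Dickson invariant. -/
noncomputable def dickson [Finite F] (hQ : (polarBilin Q).Nondegenerate)
    (hex : Nat.card F ≠ 2 ∨ finrank F V ≠ 4) : oG Q →* ℤˣ :=
  MonoidHom.mk' dsign (dsign_mul hQ hex)

theorem dickson_rO [Finite F] (hQ : (polarBilin Q).Nondegenerate) (hex : Nat.card F ≠ 2 ∨ finrank F V ≠ 4)
    {v : V} (hv : Q v ≠ 0) : dickson hQ hex (rO hv) = -1 := by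
  show dsign (rO hv) = -1
  rw [← one_mul (rO hv), dsign_mul_rO hQ 1 hv, dsign_one]

end parity

section spinor

theorem four_dvd_card {α : Type*} [DecidableEq α] (a b : α → α) (ha : ∀ x, a (a x) = x) (hb : ∀ x, b (b x) = x)
    (hab : ∀ x, a (b x) = b (a x)) : ∀ s : Finset α, (∀ x ∈ s, a x ∈ s) → (∀ x ∈ s, b x ∈ s) →
      (∀ x ∈ s, a x ≠ x) → (∀ x ∈ s, b x ≠ x) → (∀ x ∈ s, a (b x) ≠ x) → 4 ∣ s.card := by
  intro s
  induction s using Finset.strongInduction with
  | _ s ih =>
    intro hsa hsb h1 h2 h3
    rcases s.eq_empty_or_nonempty with rfl | ⟨x, hx⟩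
    · simp
    set t : Finset α := {x, a x, b x, a (b x)} with ht
    have hts : t ⊆ s := by
      intro y hy
      simp only [ht, Finset.mem_insert, Finset.mem_singleton] at hy
      rcases hy with rfl | rfl | rfl | rfl
      exacts [hx, hsa _ hx, hsb _ hx, hsa _ (hsb _ hx)]
    have hta : ∀ y, y ∈ t → a y ∈ t := by
      intro y hy
      simp only [ht, Finset.mem_insert, Finset.mem_singleton] at hy ⊢
      rcases hy with rfl | rfl | rfl | rfl <;> simp [ha]
    have htb : ∀ y, y ∈ t → b y ∈ t := by
      intro y hy
      simp only [ht, Finset.mem_insert, Finset.mem_singleton] at hy ⊢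
      rcases hy with rfl | rfl | rfl | rfl <;> simp [hb, hab]
    have hcard : t.card = 4 := by
      have e1 : a x ≠ b x := fun h => h3 x hx (by rw [← h, ha])
      have e2 : a x ≠ a (b x) := fun h => h2 x hx (by rw [← ha (b x), ← h, ha])
      have e3 : b x ≠ a (b x) := fun h => h1 _ (hsb x hx) h.symm
      rw [ht, Finset.card_insert_of_notMem, Finset.card_insert_of_notMem, Finset.card_insert_of_notMem,
        Finset.card_singleton]
      · simpa using e3
      · simp [e1, e2]
      · simp [(h1 x hx).symm, (h2 x hx).symm, (h3 x hx).symm]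
    have hsub : s \ t ⊂ s := Finset.sdiff_ssubset hts ⟨x, by simp [ht]⟩
    have := ih (s \ t) hsub
      (fun y hy => by
        rw [Finset.mem_sdiff] at hy ⊢
        exact ⟨hsa y hy.1, fun h => hy.2 (ha y ▸ hta _ h)⟩)
      (fun y hy => by
        rw [Finset.mem_sdiff] at hy ⊢
        exact ⟨hsb y hy.1, fun h => hy.2 (hb y ▸ htb _ h)⟩)
      (fun y hy => h1 y (Finset.mem_sdiff.1 hy).1) (fun y hy => h2 y (Finset.mem_sdiff.1 hy).1)
      (fun y hy => h3 y (Finset.mem_sdiff.1 hy).1)
    rw [Finset.card_sdiff_of_subset hts, hcard] at this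
    have := Finset.card_le_card hts
    omega

variable {F V : Type*} [Field F] [AddCommGroup V] [Module F V]

/-- The vectors of norm one. -/
abbrev NormOne (Q : QuadraticForm F V) : Type _ := {x : V // Q x = 1}

/-- The action on the vectors of norm one. -/
def permOne (Q : QuadraticForm F V) : oG Q →* Equiv.Perm (NormOne Q) where
  toFun g := g.1.toEquiv.subtypeEquiv fun x => by
    show Q x = 1 ↔ Q (g.1 x) = 1
    rw [g.2]
  map_one' := rfl
  map_mul' _ _ := rfl

variable {Q : QuadraticForm F V} [Finite V]

open scoped _root_.Classical in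
/-- The spinor character. -/
noncomputable def spin (Q : QuadraticForm F V) : oG Q →* ℤˣ :=
  let _ : Fintype (NormOne Q) := Fintype.ofFinite _
  Equiv.Perm.sign.comp (permOne Q)

open scoped _root_.Classical in
theorem spin_rO (h2 : (2 : F) ≠ 0) {v : V} (hv : Q v ≠ 0) :
    spin Q (rO hv) = if IsSquare (Q v) then -1 else 1 := by
  let _ : Fintype (NormOne Q) := Fintype.ofFinite _
  show Equiv.Perm.sign (permOne Q (rO hv)) = _
  set σ := permOne Q (rO hv) with hσdef
  have happ : ∀ x : NormOne Q, (σ x).1 = x.1 - (polar Q x.1 v / Q v) • v := fun x => rfl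
  have hσσ : ∀ x, σ (σ x) = x := fun x => Subtype.ext ((refl hv).symm_apply_apply x.1)
  have hσ : σ ^ 2 = 1 := Equiv.ext fun x => by rw [pow_two, Equiv.Perm.mul_apply, hσσ]; rfl
  rw [Equiv.Perm.sign_of_pow_two_eq_one hσ]
  set S : Finset (NormOne Q) := Finset.univ.filter fun x => σ x ≠ x with hSdef
  have hS : Fintype.card (NormOne Q) - Fintype.card (Function.fixedPoints σ) = S.card := by
    rw [hSdef, Finset.filter_not, Finset.card_univ_sdiff]
    congr 1
    rw [← Set.toFinset_card]
    congr 1
    ext x
    rw [Set.mem_toFinset, Finset.mem_filter]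
    simp [Function.fixedPoints, Function.IsFixedPt]
  rw [hS]
  have hv0 : v ≠ 0 := fun h => hv (by rw [h, map_zero])
  have hmoved : ∀ x : NormOne Q, x ∈ S ↔ polar Q x.1 v ≠ 0 := fun x => by
    rw [hSdef, Finset.mem_filter, Ne, Subtype.ext_iff, happ, sub_eq_self]
    simp [hv, hv0]
  let neg : NormOne Q → NormOne Q := fun x => ⟨-x.1, by rw [QuadraticMap.map_neg, x.2]⟩
  set S₁ := S.filter fun x => x.1 ∉ Submodule.span F {v} with hS₁
  set S₂ := S.filter fun x => x.1 ∈ Submodule.span F {v} with hS₂
  have hsplit : S₂.card + S₁.card = S.card := Finset.card_filter_add_card_filter_not _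
  have hspan : ∀ x : NormOne Q, (σ x).1 ∈ Submodule.span F {v} ↔ x.1 ∈ Submodule.span F {v} := fun x => by
    rw [happ]
    exact Submodule.sub_mem_iff_left _ (Submodule.smul_mem _ _ (Submodule.mem_span_singleton_self v))
  have h4 : 4 ∣ S₁.card := by
    refine four_dvd_card neg σ (fun x => Subtype.ext (neg_neg _)) hσσ (fun x => Subtype.ext ?_) S₁
      (fun x hx => ?_) (fun x hx => ?_) (fun x hx h => ?_) (fun x hx => ?_) (fun x hx h => ?_)
    · show -(σ x).1 = (σ ⟨-x.1, _⟩).1
      simp only [happ, polar_neg_left, neg_div, neg_smul]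
      abel
    · rw [hS₁, Finset.mem_filter, hmoved] at hx ⊢
      simpa [neg, polar_neg_left] using hx
    · rw [hS₁, Finset.mem_filter, hspan, hmoved, happ] at *
      refine ⟨?_, hx.2⟩
      rw [polar_sub_left, polar_smul_left, polar_self', smul_eq_mul]
      field_simp
      intro h
      exact hx.1 (by linear_combination -h)
    · have h' := congrArg Subtype.val h
      have h0 : (2 : F) • x.1 = 0 := by
        rw [two_smul]; nth_rw 1 [← (h' : -x.1 = x.1)]; exact neg_add_cancel _
      have := (smul_eq_zero.1 h0).resolve_left h2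
      exact one_ne_zero (α := F) (by rw [← x.2, this, map_zero])
    · rw [hS₁, Finset.mem_filter, hSdef, Finset.mem_filter] at hx
      exact hx.1.2
    · rw [hS₁, Finset.mem_filter] at hx
      have h' : -(σ x).1 = x.1 := congrArg Subtype.val h
      rw [happ] at h'
      refine hx.2 (Submodule.mem_span_singleton.2 ⟨(2 : F)⁻¹ * (polar Q x.1 v / Q v), ?_⟩)
      rw [mul_smul, inv_smul_eq_iff₀ h2, two_smul]
      linear_combination (norm := module) h'
  split_ifs with hsq
  · obtain ⟨s, hs⟩ := hsq
    have hs0 : s ≠ 0 := fun h => hv (by rw [hs, h, mul_zero])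
    have hQs : Q (s⁻¹ • v) = 1 := by rw [map_smul', hs]; field_simp
    have h2card : S₂.card = 2 := by
      refine Finset.card_eq_two.2 ⟨⟨_, hQs⟩, neg ⟨_, hQs⟩, fun h => ?_, ?_⟩
      · have h' : s⁻¹ • v = -(s⁻¹ • v) := congrArg Subtype.val h
        have h0 : (2 : F) • (s⁻¹ • v) = 0 := by rw [two_smul]; exact eq_neg_iff_add_eq_zero.1 h'
        simp [h2, hs0, hv0] at h0
      · ext x
        simp only [hS₂, Finset.mem_filter, hmoved, Finset.mem_insert, Finset.mem_singleton,
          Submodule.mem_span_singleton]
        constructor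
        · rintro ⟨-, t, ht⟩
          have h1 := x.2
          rw [← ht, map_smul', hs] at h1
          have : (t * s) * (t * s) = 1 := by linear_combination h1
          rcases mul_self_eq_one_iff.1 this with h | h
          · left
            exact Subtype.ext (by rw [← ht, eq_inv_of_mul_eq_one_left h])
          · right
            refine Subtype.ext ?_
            show x.1 = -(s⁻¹ • v)
            rw [← ht, ← neg_smul]
            congr 1
            field_simp
            linear_combination h
        · rintro (rfl | rfl)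
          · refine ⟨?_, _, rfl⟩
            simp [polar_smul_left, polar_self', hs0, h2, hv]
          · refine ⟨?_, -s⁻¹, neg_smul _ _⟩
            simp [neg, polar_neg_left, polar_smul_left, polar_self', hs0, h2, hv]
    obtain ⟨k, hk⟩ := h4
    rw [show S.card / 2 = 2 * k + 1 by omega, pow_succ, pow_mul]
    simp
  · have h0 : S₂.card = 0 := by
      rw [Finset.card_eq_zero, hS₂, Finset.filter_eq_empty_iff]
      intro x _ hx
      obtain ⟨t, ht⟩ := Submodule.mem_span_singleton.1 hx
      have h1 := x.2
      rw [← ht, map_smul'] at h1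
      exact hsq ⟨t⁻¹, by
        have ht0 : t ≠ 0 := fun h => by simp [h] at h1
        field_simp
        linear_combination h1⟩
    obtain ⟨k, hk⟩ := h4
    rw [show S.card / 2 = 2 * k by omega, pow_mul]
    simp

end spinor

end Cfsg.Agent.Classical.Quad
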