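import Mathlib
import Cfsg.Agent.Classical.OrthSpinor
import Cfsg.Agent.Classical.QuadBasis
import Cfsg.Agent.Classical.QuadMat

/-!
The commutator subgroup of the isometry group as the common kernel of the Dickson invariant and the spinor
character; its index; the isometries of determinant one.
-/

set_option autoImplicit false

namespace Cfsg.Agent.Classical.Quad

open Module QuadraticMap
open scoped commutatorElement

variable {F V : Type*} [Field F] [AddCommGroup V] [Module F V] {Q : QuadraticForm F V} [Finite F]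
  [FiniteDimensional F V]

theorem hex_of_two (h2 : (2 : F) ≠ 0) (n : ℕ) : Nat.card F ≠ 2 ∨ n ≠ 4 := by
  left
  intro h
  have := Fintype.ofFinite F
  rw [Nat.card_eq_fintype_card] at h
  refine h2 ?_
  have := FiniteField.cast_card_eq_zero F
  rw [h] at this
  exact_mod_cast this

theorem exists_aniso (hQ : (polarBilin Q).Nondegenerate) (hn : 1 ≤ finrank F V) : ∃ v, Q v ≠ 0 := by
  by_contra h
  push Not at h
  have := Module.nontrivial_of_finrank_pos (R := F) (M := V) (by omega)
  obtain ⟨x, hx⟩ := exists_ne (0 : V)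
  exact hx (eq_zero_of_polar hQ fun y => by rw [polar, h, h, h]; ring)

/-- A non-degenerate form in at least two variables takes every non-zero value. -/
theorem exists_value (hQ : (polarBilin Q).Nondegenerate) (h2 : (2 : F) ≠ 0) (hn : 2 ≤ finrank F V) {c : F}
    (hc : c ≠ 0) : ∃ v, Q v = c := by
  have := Fintype.ofFinite F
  obtain ⟨u, hu⟩ := exists_aniso hQ (by omega)
  have hS : LinearMap.BilinForm.IsSymm (polarBilin Q : LinearMap.BilinForm F V) := ⟨fun x y => polar_comm Q x y⟩
  have hb : ∀ x, polarBilin Q x x = 2 * Q x := fun x => polar_self' x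
  obtain ⟨w, huw, hw⟩ := exists_orth_next h2 hS hQ (a := ![u])
    (fun i j h => absurd (Subsingleton.elim i j) h) (fun i => by simp [Fin.fin_one_eq_zero i, hb, h2, hu]) (by omega)
  rw [hb] at hw
  have hw' : Q w ≠ 0 := fun h => hw (by rw [h, mul_zero])
  obtain ⟨x, y, hxy⟩ := exists_binary_one h2 (div_ne_zero hu hc) (div_ne_zero hw' hc)
  refine ⟨x • u + y • w, ?_⟩
  have h0 : polar Q u w = 0 := huw 0
  rw [map_add', map_smul', map_smul', polar_smul_left, polar_smul_right, h0]
  field_simp at hxy
  simp
  linear_combination hxy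

theorem exists_rO_square (hQ : (polarBilin Q).Nondegenerate) (h2 : (2 : F) ≠ 0) (hn : 2 ≤ finrank F V) :
    ∃ (a b : V) (ha : Q a ≠ 0) (hb : Q b ≠ 0), IsSquare (Q a) ∧ ¬ IsSquare (Q b) := by
  obtain ⟨a, ha⟩ := exists_value hQ h2 hn (c := 1) one_ne_zero
  have hodd : ringChar F ≠ 2 := fun h => h2 (by
    have : CharP F 2 := h ▸ ringChar.charP F
    exact CharTwo.two_eq_zero)
  obtain ⟨α, hα⟩ := FiniteField.exists_nonsquare hodd
  obtain ⟨b, hb⟩ := exists_value hQ h2 hn (c := α) (fun h => hα (h ▸ IsSquare.zero))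
  exact ⟨a, b, by rw [ha]; exact one_ne_zero, by rw [hb]; exact fun h => hα (h ▸ IsSquare.zero),
    by rw [ha]; exact IsSquare.one, by rwa [hb]⟩

omit [Finite F] in
theorem of_rO_congr (hQ : (polarBilin Q).Nondegenerate) {u v : V} (hu : Q u ≠ 0) (hv : Q v ≠ 0) {t : F}
    (ht : Q v = t * t * Q u) : Abelianization.of (rO hu) = Abelianization.of (rO hv) := by
  obtain ⟨g, hg⟩ := exists_conj_rO hQ hu hv ht
  rw [← hg, map_mul, map_mul, map_inv, mul_right_comm, mul_inv_cancel, one_mul]

theorem of_rO_self {v : V} (hv : Q v ≠ 0) :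
    Abelianization.of (rO hv) * Abelianization.of (rO hv) = 1 := by
  rw [← map_mul, rO_mul_self, map_one]

/-- The abelianisation has at most four elements, given by two reflections. -/
theorem of_mem_four (hQ : (polarBilin Q).Nondegenerate) (h2 : (2 : F) ≠ 0) {a b : V} (ha : Q a ≠ 0)
    (hb : Q b ≠ 0) (hsa : IsSquare (Q a)) (hsb : ¬ IsSquare (Q b)) (g : oG Q) :
    Abelianization.of g = 1 ∨ Abelianization.of g = Abelianization.of (rO ha) ∨
      Abelianization.of g = Abelianization.of (rO hb) ∨
      Abelianization.of g = Abelianization.of (rO ha) * Abelianization.of (rO hb) := by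
  have hr : ∀ (v : V) (hv : Q v ≠ 0), Abelianization.of (rO hv) = Abelianization.of (rO ha) ∨
      Abelianization.of (rO hv) = Abelianization.of (rO hb) := fun v hv => by
    obtain ⟨s, hs⟩ := hsa
    have hs0 : s ≠ 0 := fun h => ha (by rw [hs, h, mul_zero])
    by_cases hsv : IsSquare (Q v)
    · obtain ⟨t, ht⟩ := hsv
      exact Or.inl (of_rO_congr hQ ha hv (t := t / s) (by rw [hs, ht]; field_simp)).symm
    · rcases square_or_div_square hsb hv with ⟨t, ht⟩ | ⟨t, ht⟩
      · exact absurd ⟨t⁻¹, by
          have : t ≠ 0 := fun h => by simp [h] at ht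
          field_simp; linear_combination ht⟩ hsv
      · exact Or.inr (of_rO_congr hQ hv hb (t := t) ht.symm)
  set A := Abelianization.of (rO ha) with hA
  set B := Abelianization.of (rO hb) with hB
  have hAA : A * A = 1 := of_rO_self ha
  have hBB : B * B = 1 := of_rO_self hb
  have hg : g ∈ Subgroup.closure (reflSet Q) := by rw [closure_reflSet hQ (hex_of_two h2 _)]; trivial
  have step : ∀ (x : Abelianization (oG Q)) (R : Abelianization (oG Q)), (R = A ∨ R = B) →
      (x = 1 ∨ x = A ∨ x = B ∨ x = A * B) → (x * R = 1 ∨ x * R = A ∨ x * R = B ∨ x * R = A * B) := by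
    rintro x R (rfl | rfl) (rfl | rfl | rfl | rfl) <;>
      first
        | (simp [hAA, hBB, mul_comm B A, mul_assoc]; done)
        | (right; right; left; rw [mul_right_comm, hAA, one_mul])
  induction hg using Subgroup.closure_induction_right with
  | one => exact Or.inl (map_one _)
  | mul_right x _ y hy ih =>
    obtain ⟨v, hv, rfl⟩ := hy
    rw [map_mul]
    exact step _ _ (hr v hv) ih
  | mul_inv_cancel x _ y hy ih =>
    obtain ⟨v, hv, rfl⟩ := hy
    rw [rO_inv, map_mul]
    exact step _ _ (hr v hv) ih

variable [Finite V]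

/-- In odd characteristic the commutator subgroup is the kernel of the two characters. -/
theorem mem_commutator_iff (hQ : (polarBilin Q).Nondegenerate) (h2 : (2 : F) ≠ 0) (hn : 2 ≤ finrank F V)
    (g : oG Q) : g ∈ commutator (oG Q) ↔ dickson hQ (hex_of_two h2 _) g = 1 ∧ spin Q g = 1 := by
  constructor
  · intro hg
    exact ⟨Abelianization.commutator_subset_ker _ hg, Abelianization.commutator_subset_ker _ hg⟩
  · rintro ⟨hd, hs⟩
    obtain ⟨a, b, ha, hb, hsa, hsb⟩ := exists_rO_square hQ h2 hn
    rw [← Abelianization.ker_of, MonoidHom.mem_ker]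
    let D := dickson hQ (hex_of_two h2 (finrank F V))
    have hD : ∀ {v : V} (hv : Q v ≠ 0), D (rO hv) = -1 := fun hv => dickson_rO hQ _ hv
    have hSa : spin Q (rO ha) = -1 := by rw [spin_rO h2 ha, if_pos hsa]
    have hSb : spin Q (rO hb) = 1 := by rw [spin_rO h2 hb, if_neg hsb]
    have key : ∀ h : oG Q, Abelianization.of g = Abelianization.of h → D h = 1 ∧ spin Q h = 1 := fun h he => by
      have hm : g⁻¹ * h ∈ (Abelianization.of : oG Q →* _).ker := by
        rw [MonoidHom.mem_ker, map_mul, map_inv, he, inv_mul_cancel]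
      rw [Abelianization.ker_of] at hm
      have h1 := MonoidHom.mem_ker.1 (Abelianization.commutator_subset_ker D hm)
      have h2' := MonoidHom.mem_ker.1 (Abelianization.commutator_subset_ker (spin Q) hm)
      rw [map_mul, map_inv, hd, inv_one, one_mul] at h1
      rw [map_mul, map_inv, hs, inv_one, one_mul] at h2'
      exact ⟨h1, h2'⟩
    rcases of_mem_four hQ h2 ha hb hsa hsb g with h | h | h | h
    · exact h
    · have := (key _ h).1; rw [hD] at this; exact absurd this (by decide)
    · have := (key _ h).1; rw [hD] at this; exact absurd this (by decide)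
    · rw [← map_mul] at h
      have := (key _ h).2; rw [map_mul, hSa, hSb] at this; exact absurd this (by decide)

theorem surjective_chars (hQ : (polarBilin Q).Nondegenerate) (h2 : (2 : F) ≠ 0) (hn : 2 ≤ finrank F V) :
    Function.Surjective ((dickson hQ (hex_of_two h2 (finrank F V))).prod (spin Q)) := by
  obtain ⟨a, b, ha, hb, hsa, hsb⟩ := exists_rO_square hQ h2 hn
  have hA : ((dickson hQ (hex_of_two h2 (finrank F V))).prod (spin Q)) (rO ha) = (-1, -1) := by
    rw [MonoidHom.prod_apply, dickson_rO, spin_rO h2 ha, if_pos hsa]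
  have hB : ((dickson hQ (hex_of_two h2 (finrank F V))).prod (spin Q)) (rO hb) = (-1, 1) := by
    rw [MonoidHom.prod_apply, dickson_rO, spin_rO h2 hb, if_neg hsb]
  rintro ⟨x, y⟩
  rcases Int.units_eq_one_or x with rfl | rfl <;> rcases Int.units_eq_one_or y with rfl | rfl
  · exact ⟨1, map_one _⟩
  · exact ⟨rO ha * rO hb, by rw [map_mul, hA, hB]; rfl⟩
  · exact ⟨_, hB⟩
  · exact ⟨_, hA⟩

/-- In odd characteristic the commutator subgroup has index four. -/
theorem index_commutator_odd (hQ : (polarBilin Q).Nondegenerate) (h2 : (2 : F) ≠ 0) (hn : 2 ≤ finrank F V) :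
    (commutator (oG Q)).index = 4 := by
  have e : commutator (oG Q) = ((dickson hQ (hex_of_two h2 (finrank F V))).prod (spin Q)).ker := by
    ext g
    rw [mem_commutator_iff hQ h2 hn, MonoidHom.mem_ker, MonoidHom.prod_apply, Prod.mk_eq_one]
  rw [e, Subgroup.index_ker, MonoidHom.range_eq_top.2 (surjective_chars hQ h2 hn), Subgroup.card_top]
  simp [Nat.card_prod]

omit [Finite V] in
/-- In characteristic two the commutator subgroup is the kernel of the Dickson invariant. -/
theorem commutator_eq_ker_dickson [CharP F 2] (hQ : (polarBilin Q).Nondegenerate)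
    (hex : Nat.card F ≠ 2 ∨ finrank F V ≠ 4) (hn : 1 ≤ finrank F V) :
    commutator (oG Q) = (dickson hQ hex).ker ∧ (commutator (oG Q)).index = 2 := by
  obtain ⟨a, ha⟩ := exists_aniso hQ hn
  have hr : ∀ (v : V) (hv : Q v ≠ 0), Abelianization.of (rO hv) = Abelianization.of (rO ha) := fun v hv => by
    obtain ⟨t, ht⟩ := FiniteField.isSquare_of_char_two (F := F) (ringChar.eq F 2) (Q v / Q a)
    exact (of_rO_congr hQ ha hv (t := t) (by rw [← ht, div_mul_cancel₀ _ ha])).symm
  have hall : ∀ g : oG Q, Abelianization.of g = 1 ∨ Abelianization.of g = Abelianization.of (rO ha) := by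
    intro g
    have hg : g ∈ Subgroup.closure (reflSet Q) := by rw [closure_reflSet hQ hex]; trivial
    induction hg using Subgroup.closure_induction_right with
    | one => exact Or.inl (map_one _)
    | mul_right x _ y hy ih =>
      obtain ⟨v, hv, rfl⟩ := hy
      rw [map_mul, hr v hv]
      rcases ih with h | h
      · exact Or.inr (by rw [h, one_mul])
      · exact Or.inl (by rw [h, of_rO_self])
    | mul_inv_cancel x _ y hy ih =>
      obtain ⟨v, hv, rfl⟩ := hy
      rw [rO_inv, map_mul, hr v hv]
      rcases ih with h | h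
      · exact Or.inr (by rw [h, one_mul])
      · exact Or.inl (by rw [h, of_rO_self])
  have hle : commutator (oG Q) = (dickson hQ hex).ker := by
    refine le_antisymm (Abelianization.commutator_subset_ker _) fun g hg => ?_
    rw [MonoidHom.mem_ker] at hg
    rw [← Abelianization.ker_of, MonoidHom.mem_ker]
    refine (hall g).resolve_right fun h => ?_
    have hm : (rO ha)⁻¹ * g ∈ (Abelianization.of : oG Q →* _).ker := by
      rw [MonoidHom.mem_ker, map_mul, map_inv, h, inv_mul_cancel]
    rw [Abelianization.ker_of] at hm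
    have h1 := MonoidHom.mem_ker.1 (Abelianization.commutator_subset_ker (dickson hQ hex) hm)
    rw [map_mul, map_inv, dickson_rO, hg] at h1
    exact absurd h1 (by decide)
  refine ⟨hle, ?_⟩
  rw [hle, Subgroup.index_ker]
  have : Function.Surjective (dickson hQ hex) := fun x => by
    rcases Int.units_eq_one_or x with rfl | rfl
    · exact ⟨1, map_one _⟩
    · exact ⟨_, dickson_rO hQ hex ha⟩
  rw [MonoidHom.range_eq_top.2 this, Subgroup.card_top]
  simp

omit [Finite V] in
/-- The commutator subgroup is generated by squares of elements of trivial Dickson invariant. -/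
theorem commutator_le_squares (hQ : (polarBilin Q).Nondegenerate) (hex : Nat.card F ≠ 2 ∨ finrank F V ≠ 4) :
    commutator (oG Q) ≤ Subgroup.closure {x | ∃ g, dickson hQ hex g = 1 ∧ g * g = x} := by
  set M := Subgroup.closure {x | ∃ g, dickson hQ hex g = 1 ∧ g * g = x} with hM
  have : M.Normal := by
    refine ⟨fun x hx k => ?_⟩
    suffices M.map (MulAut.conj k).toMonoidHom ≤ M from this ⟨x, hx, rfl⟩
    rw [hM, MonoidHom.map_closure, Subgroup.closure_le]
    rintro _ ⟨_, ⟨g, hg, rfl⟩, rfl⟩
    refine Subgroup.subset_closure ⟨k * g * k⁻¹, ?_, ?_⟩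
    · rw [map_mul, map_mul, map_inv, hg, mul_one, mul_inv_cancel]
    · simp [MulAut.conj_apply, mul_assoc]
  have hgen : ∀ g : oG Q, g ∈ Subgroup.closure (reflSet Q) := fun g => by
    rw [closure_reflSet hQ hex]; trivial
  have hcr : ∀ {u v : V} (hu : Q u ≠ 0) (hv : Q v ≠ 0),
      Commute (QuotientGroup.mk' M (rO hu)) (QuotientGroup.mk' M (rO hv)) := fun {u v} hu hv => by
    have h : (rO hu * rO hv) * (rO hu * rO hv) ∈ M :=
      Subgroup.subset_closure ⟨_, by rw [map_mul, dickson_rO, dickson_rO]; rfl, rfl⟩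
    have h1 : QuotientGroup.mk' M (rO hu) * QuotientGroup.mk' M (rO hv) *
        (QuotientGroup.mk' M (rO hu) * QuotientGroup.mk' M (rO hv)) = 1 := by
      rw [← map_mul, ← map_mul]; exact (QuotientGroup.eq_one_iff _).2 h
    have i1 : (QuotientGroup.mk' M (rO hu))⁻¹ = QuotientGroup.mk' M (rO hu) := by rw [← map_inv, rO_inv]
    have i2 : (QuotientGroup.mk' M (rO hv))⁻¹ = QuotientGroup.mk' M (rO hv) := by rw [← map_inv, rO_inv]
    have := eq_inv_of_mul_eq_one_left h1
    rwa [mul_inv_rev, i1, i2] at this
  have hcomm : ∀ g h : oG Q, Commute (QuotientGroup.mk' M g) (QuotientGroup.mk' M h) := by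
    intro g h
    refine Subgroup.closure_induction (p := fun g _ => Commute (QuotientGroup.mk' M g) (QuotientGroup.mk' M h))
      ?_ (by simp) (fun a b _ _ ha hb => by rw [map_mul]; exact ha.mul_left hb)
      (fun a _ ha => by rw [map_inv]; exact ha.inv_left) (hgen g)
    rintro _ ⟨u, hu, rfl⟩
    refine Subgroup.closure_induction (p := fun h _ => Commute (QuotientGroup.mk' M (rO hu)) (QuotientGroup.mk' M h))
      ?_ (by simp) (fun a b _ _ ha hb => by rw [map_mul]; exact ha.mul_right hb)
      (fun a _ ha => by rw [map_inv]; exact ha.inv_right) (hgen h)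
    rintro _ ⟨v, hv, rfl⟩
    exact hcr hu hv
  rw [commutator_def, Subgroup.commutator_le]
  intro g _ h _
  rw [← QuotientGroup.eq_one_iff]
  show QuotientGroup.mk' M ⁅g, h⁆ = 1
  rw [map_commutatorElement]
  exact commutatorElement_eq_one_iff_commute.2 (hcomm g h)

end Cfsg.Agent.Classical.Quad
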