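import Mathlib
import Cfsg.Agent.Classical.OrthIndex

/-!
`Cfsg.isometryGroup`, `Cfsg.Omega`, `Cfsg.specialIsometryGroup` in terms of the abstract isometry group, minus one.
-/

set_option autoImplicit false

namespace Cfsg.Agent.Classical.Quad

open Module QuadraticMap Matrix

variable {F : Type*} [Field F] [Finite F] {ι : Type} [Fintype ι] [DecidableEq ι] {Q : QuadraticForm F (ι → F)}

omit [Finite F] in
theorem matrix_eq_reflection_iff {g : Cfsg.isometryGroup F ⇑Q} {v : ι → F} (hv : Q v ≠ 0) :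
    ((g : GL ι F) : Matrix ι ι F) = Cfsg.reflectionMatrix (⇑Q) v ↔ oEquiv Q g = rO hv := by
  constructor
  · intro h
    exact ext_oG fun x => by rw [oEquiv_apply, h, reflectionMatrix_mulVec, rO_apply]
  · intro h
    refine Matrix.ext_of_mulVec_single fun i => ?_
    rw [← oEquiv_apply, h, reflectionMatrix_mulVec, rO_apply]

omit [Finite F] in
theorem map_closure_matrix_reflections (P : (ι → F) → Prop) :
    (Subgroup.closure {g : Cfsg.isometryGroup F ⇑Q | ∃ v : ι → F, Q v ≠ 0 ∧ P v ∧
      ((g : GL ι F) : Matrix ι ι F) = Cfsg.reflectionMatrix (⇑Q) v}).map (oEquiv Q).toMonoidHom =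
      Subgroup.closure {g | ∃ (v : ι → F) (hv : Q v ≠ 0), P v ∧ g = rO hv} := by
  rw [MonoidHom.map_closure]
  congr 1
  ext g
  constructor
  · rintro ⟨g, ⟨v, hv, hP, h⟩, rfl⟩
    exact ⟨v, hv, hP, (matrix_eq_reflection_iff hv).1 h⟩
  · rintro ⟨v, hv, hP, rfl⟩
    exact ⟨(oEquiv Q).symm (rO hv), ⟨v, hv, hP, (matrix_eq_reflection_iff hv).2 ((oEquiv Q).apply_symm_apply _)⟩,
      (oEquiv Q).apply_symm_apply _⟩

omit [Finite F] in
theorem mem_omega_iff (g : Cfsg.isometryGroup F ⇑Q) :
    g ∈ Cfsg.Omega F ⇑Q ↔ oEquiv Q g ∈ commutator (oG Q) := by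
  have e : (Cfsg.Omega F ⇑Q).map (oEquiv Q).toMonoidHom = commutator (oG Q) := by
    rw [Cfsg.Omega, commutator_def, commutator_def, Subgroup.map_commutator,
      Subgroup.map_top_of_surjective (oEquiv Q).toMonoidHom (oEquiv Q).surjective]
  rw [← e]
  exact (Subgroup.mem_map_iff_mem (oEquiv Q).injective).symm

omit [Finite F] in
theorem index_omega : (Cfsg.Omega F ⇑Q).index = (commutator (oG Q)).index := by
  have e : Cfsg.Omega F ⇑Q = (commutator (oG Q)).comap (oEquiv Q).toMonoidHom := by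
    ext g; exact mem_omega_iff g
  rw [e, Subgroup.index_comap_of_surjective (f := (oEquiv Q).toMonoidHom) _ (oEquiv Q).surjective]

theorem det_eq_dickson (hQ : (polarBilin Q).Nondegenerate) (hex : Nat.card F ≠ 2 ∨ finrank F (ι → F) ≠ 4)
    (g : Cfsg.isometryGroup F ⇑Q) :
    ((g : GL ι F) : Matrix ι ι F).det = ((((dickson hQ hex (oEquiv Q g) : ℤˣ) : ℤ)) : F) := by
  let f₁ : oG Q →* F := (Matrix.detMonoidHom.comp
    ((Units.coeHom (Matrix ι ι F)).comp (Cfsg.isometryGroup F ⇑Q).subtype)).comp (oEquiv Q).symm.toMonoidHom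
  let f₂ : oG Q →* F := ((Int.castRingHom F).toMonoidHom.comp (Units.coeHom ℤ)).comp (dickson hQ hex)
  suffices f₁ = f₂ by
    have h := congrArg (fun f : oG Q →* F => f (oEquiv Q g)) this
    simpa [f₁, f₂] using h
  refine MonoidHom.eq_of_eqOn_dense (closure_reflSet hQ hex) ?_
  rintro _ ⟨v, hv, rfl⟩
  have := (matrix_eq_reflection_iff hv).2 ((oEquiv Q).apply_symm_apply (rO hv))
  simp [f₁, f₂, dickson_rO, this, det_reflectionMatrix hv]

theorem mem_special_iff (hQ : (polarBilin Q).Nondegenerate) (h2 : (2 : F) ≠ 0) (g : Cfsg.isometryGroup F ⇑Q) :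
    g ∈ Cfsg.specialIsometryGroup F ⇑Q ↔ dickson hQ (hex_of_two h2 _) (oEquiv Q g) = 1 := by
  rw [Cfsg.specialIsometryGroup, MonoidHom.mem_ker, Units.ext_iff, MonoidHom.comp_apply]
  simp only [Subgroup.coe_subtype, Matrix.GeneralLinearGroup.val_det_apply, Units.val_one]
  rw [det_eq_dickson hQ (hex_of_two h2 _)]
  rcases Int.units_eq_one_or (dickson hQ (hex_of_two h2 _) (oEquiv Q g)) with h | h <;> rw [h]
  · simp
  · refine iff_of_false (fun h' => h2 ?_) (by decide)
    push_cast at h'
    linear_combination -h'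

omit [Finite F] in
theorem special_eq_top [CharP F 2] (hQ : (polarBilin Q).Nondegenerate) :
    Cfsg.specialIsometryGroup F ⇑Q = ⊤ := by
  rw [eq_top_iff]
  intro g _
  rw [Cfsg.specialIsometryGroup, MonoidHom.mem_ker, Units.ext_iff, MonoidHom.comp_apply]
  simp only [Subgroup.coe_subtype, Matrix.GeneralLinearGroup.val_det_apply, Units.val_one]
  rcases det_eq_one_or_neg_one hQ (mem_isometryGroup_iff.1 g.2) with h | h
  · exact h
  · rw [h, CharTwo.neg_eq]

/-- The isometries of determinant one have the commutator subgroup as their only subgroup of index two. -/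
theorem existsUnique_index_two (hQ : (polarBilin Q).Nondegenerate) (hn : 2 ≤ finrank F (ι → F))
    (hex : Nat.card F ≠ 2 ∨ finrank F (ι → F) ≠ 4) :
    ∃! H : Subgroup (Cfsg.specialIsometryGroup F ⇑Q), H.index = 2 := by
  set S := Cfsg.specialIsometryGroup F ⇑Q with hS
  set C := Cfsg.Omega F ⇑Q with hC
  obtain ⟨hCS, hidx, hd⟩ : C ≤ S ∧ C.relIndex S = 2 ∧
      ∀ g, dickson hQ hex (oEquiv Q g) = 1 → g ∈ S := by
    by_cases h2 : (2 : F) = 0
    · have : CharP F 2 := CharTwo.of_one_ne_zero_of_two_eq_zero one_ne_zero h2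
      have hSt : S = ⊤ := special_eq_top hQ
      refine ⟨hSt ▸ le_top, ?_, fun g _ => hSt ▸ Subgroup.mem_top g⟩
      rw [hSt, Subgroup.relIndex_top_right, hC, index_omega]
      exact (commutator_eq_ker_dickson hQ hex (by omega)).2
    · have hle : C ≤ S := fun g hg => by
        rw [hS, mem_special_iff hQ h2]
        exact ((mem_commutator_iff hQ h2 hn _).1 ((mem_omega_iff g).1 hg)).1
      have hSi : S.index = 2 := by
        have e : S = ((dickson hQ (hex_of_two h2 (finrank F (ι → F)))).comp (oEquiv Q).toMonoidHom).ker := by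
          ext g; rw [hS, mem_special_iff hQ h2, MonoidHom.mem_ker]; rfl
        have hsurj : Function.Surjective
            ((dickson hQ (hex_of_two h2 (finrank F (ι → F)))).comp (oEquiv Q).toMonoidHom) := fun x => by
          obtain ⟨y, hy⟩ := surjective_chars hQ h2 hn (x, 1)
          exact ⟨(oEquiv Q).symm y, by simpa using congrArg Prod.fst hy⟩
        rw [e, Subgroup.index_ker, MonoidHom.range_eq_top.2 hsurj, Subgroup.card_top]
        simp
      refine ⟨hle, ?_, fun g hg => by rw [hS, mem_special_iff hQ h2]; exact hg⟩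
      have := Subgroup.relIndex_mul_index hle
      rw [hSi, hC, index_omega, index_commutator_odd hQ h2 hn, ← hC] at this
      omega
  refine ⟨C.subgroupOf S, hidx, fun H hH => ?_⟩
  have hle : C.subgroupOf S ≤ H := by
    intro g hg
    rw [Subgroup.mem_subgroupOf, hC, mem_omega_iff] at hg
    have h1 := commutator_le_squares hQ hex hg
    let K : Subgroup (oG Q) := H.map ((oEquiv Q).toMonoidHom.comp S.subtype)
    have hK : Subgroup.closure {x | ∃ g, dickson hQ hex g = 1 ∧ g * g = x} ≤ K := by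
      rw [Subgroup.closure_le]
      rintro _ ⟨k, hk, rfl⟩
      have hkS := hd ((oEquiv Q).symm k) (by rw [MulEquiv.apply_symm_apply]; exact hk)
      exact ⟨⟨_, hkS⟩ * ⟨_, hkS⟩, Subgroup.mul_self_mem_of_index_two hH _, by simp⟩
    obtain ⟨x, hx, hxg⟩ := hK h1
    exact ((oEquiv Q).injective.comp Subtype.val_injective hxg) ▸ hx
  have h1 := Subgroup.relIndex_mul_index hle
  rw [hH, show (C.subgroupOf S).index = 2 from hidx] at h1
  exact le_antisymm (Subgroup.relIndex_eq_one.1 (by omega)) hle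

/-- In odd characteristic and dimension at least two there are exactly three subgroups of index two. -/
theorem card_index_two (hQ : (polarBilin Q).Nondegenerate) (h2 : (2 : F) ≠ 0) (hn : 2 ≤ finrank F (ι → F)) :
    Nat.card {H : Subgroup (Cfsg.isometryGroup F ⇑Q) // H.index = 2} = 3 := by
  let χ : Cfsg.isometryGroup F ⇑Q →* ℤˣ × ℤˣ :=
    ((dickson hQ (hex_of_two h2 (finrank F (ι → F)))).prod (spin Q)).comp (oEquiv Q).toMonoidHom
  have hχ : Function.Surjective χ := (surjective_chars hQ h2 hn).comp (oEquiv Q).surjective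
  have hker : χ.ker ≤ Cfsg.Omega F ⇑Q := fun g hg => by
    rw [mem_omega_iff, mem_commutator_iff hQ h2 hn]
    exact ⟨congrArg Prod.fst (MonoidHom.mem_ker.1 hg), congrArg Prod.snd (MonoidHom.mem_ker.1 hg)⟩
  have hkerH : ∀ H : Subgroup (Cfsg.isometryGroup F ⇑Q), H.index = 2 → χ.ker ≤ H := fun H hH => by
    have : H.Normal := Subgroup.normal_of_index_eq_two hH
    refine hker.trans ?_
    rw [Cfsg.Omega, commutator_def, Subgroup.commutator_le]
    intro a _ b _
    rw [commutatorElement_def]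
    simp only [Subgroup.mul_mem_iff_of_index_two hH, inv_mem_iff]
    tauto
  have e : {H : Subgroup (Cfsg.isometryGroup F ⇑Q) // H.index = 2} ≃ {K : Subgroup (ℤˣ × ℤˣ) // K.index = 2} :=
    { toFun := fun H => ⟨H.1.map χ, by rw [Subgroup.index_map_eq _ hχ (hkerH _ H.2)]; exact H.2⟩
      invFun := fun K => ⟨K.1.comap χ, by rw [Subgroup.index_comap_of_surjective _ hχ]; exact K.2⟩
      left_inv := fun H => Subtype.ext (Subgroup.comap_map_eq_self (hkerH _ H.2))
      right_inv := fun K => Subtype.ext (Subgroup.map_comap_eq_self_of_surjective hχ _) }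
  rw [Nat.card_congr e]
  have key : ∀ K : Subgroup (ℤˣ × ℤˣ), K.index = 2 ↔
      ∃ x : ℤˣ × ℤˣ, x ≠ 1 ∧ K = Subgroup.zpowers x := fun K => by
    have h4 : Nat.card (ℤˣ × ℤˣ) = 4 := by simp [Nat.card_prod]
    have hx2 : ∀ x : ℤˣ × ℤˣ, x ≠ 1 → orderOf x = 2 := fun x hx =>
      orderOf_eq_prime (by rw [pow_two]; exact Prod.ext (Int.units_mul_self _) (Int.units_mul_self _)) hx
    have hci := K.card_mul_index
    rw [h4] at hci
    constructor
    · intro hK
      rw [hK] at hci
      have hK2 : Nat.card K = 2 := by omega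
      have : Nontrivial K := Finite.one_lt_card_iff_nontrivial.1 (by omega)
      obtain ⟨⟨x, hx⟩, hx1⟩ := exists_ne (1 : K)
      have hx' : x ≠ 1 := fun h => hx1 (Subtype.ext h)
      refine ⟨x, hx', (Subgroup.eq_of_le_of_card_ge ((Subgroup.zpowers_le).2 hx) ?_).symm⟩
      rw [Nat.card_zpowers, hx2 x hx', hK2]
    · rintro ⟨x, hx, rfl⟩
      rw [Nat.card_zpowers, hx2 x hx] at hci
      omega
  have e2 : {x : ℤˣ × ℤˣ // x ≠ 1} ≃ {K : Subgroup (ℤˣ × ℤˣ) // K.index = 2} :=
    Equiv.ofBijective (fun x => ⟨Subgroup.zpowers x.1, (key _).2 ⟨x.1, x.2, rfl⟩⟩) ⟨fun x y h => by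
      have hh : Subgroup.zpowers x.1 = Subgroup.zpowers y.1 := congrArg Subtype.val h
      have h' : x.1 ∈ Subgroup.zpowers y.1 := hh ▸ Subgroup.mem_zpowers x.1
      obtain ⟨k, hk⟩ := h'
      have hy : y.1 ^ (2 : ℤ) = 1 := by
        rw [zpow_two]; exact Prod.ext (Int.units_mul_self _) (Int.units_mul_self _)
      rcases Int.even_or_odd k with ⟨j, rfl⟩ | ⟨j, rfl⟩
      · exact absurd (by rw [← hk]; simp only [← two_mul, _root_.zpow_mul, hy, _root_.one_zpow]) x.2
      · refine Subtype.ext ?_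
        rw [← hk]
        simp only [_root_.zpow_add, _root_.zpow_mul, hy, _root_.one_zpow, one_mul, zpow_one], fun K => by
      obtain ⟨x, hx, hK⟩ := (key K.1).1 K.2
      exact ⟨⟨x, hx⟩, Subtype.ext hK.symm⟩⟩
  rw [← Nat.card_congr e2]
  simp [Nat.card_eq_fintype_card, Fintype.card_subtype_compl]

/-! ### Minus one -/

theorem prod_refl_apply {κ : Type*} {V : Type*} [AddCommGroup V] [Module F V] {Q : QuadraticForm F V}
    (b : κ → V) (hb : ∀ i, Q (b i) ≠ 0) (ho : ∀ i j, i ≠ j → polar Q (b i) (b j) = 0) [DecidableEq κ] :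
    ∀ l : List κ, l.Nodup → ∀ j, (l.map fun i => rO (hb i)).prod.1 (b j) = if j ∈ l then -b j else b j := by
  intro l
  induction l with
  | nil => intro _ j; simp [oG_one_apply]
  | cons a l ih =>
    intro hnd j
    rw [List.nodup_cons] at hnd
    rw [List.map_cons, List.prod_cons, oG_mul_apply, ih hnd.2 j]
    by_cases hja : j = a
    · subst hja
      rw [if_neg hnd.1, if_pos List.mem_cons_self]
      exact refl_neg (hb j)
    · have h0 : (rO (hb a)).1 (b j) = b j := refl_fix (hb a) (ho j a hja)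
      by_cases hjl : j ∈ l
      · rw [if_pos hjl, if_pos (List.mem_cons_of_mem a hjl), map_neg, h0]
      · rw [if_neg hjl, if_neg (by simp [hja, hjl]), h0]

/-- Minus one lies in the commutator subgroup if and only if the discriminant is a square (even dimension). -/
theorem neg_one_iff_disc (hQ : (polarBilin Q).Nondegenerate) (h2 : (2 : F) ≠ 0) (hn : 2 ≤ finrank F (ι → F))
    (hev : Even (finrank F (ι → F))) {κ : Type*} [Fintype κ] [DecidableEq κ] (b' : Basis κ F (ι → F)) :
    (∃ g : Cfsg.isometryGroup F ⇑Q, g ∈ Cfsg.Omega F ⇑Q ∧ ((g : GL ι F) : Matrix ι ι F) = -1) ↔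
      IsSquare (Matrix.of (fun i j : κ => polar Q (b' i) (b' j))).det := by
  classical
  let B : LinearMap.BilinForm F (ι → F) := polarBilin Q
  have hBS : B.IsSymm := ⟨fun x y => polar_comm Q x y⟩
  have hodd : ringChar F ≠ 2 := fun h => h2 (by
    have : CharP F 2 := h ▸ ringChar.charP F
    exact CharTwo.two_eq_zero)
  obtain ⟨α, hα⟩ := FiniteField.exists_nonsquare hodd
  obtain ⟨k, hk⟩ : ∃ k, finrank F (ι → F) = k + 1 := ⟨finrank F (ι → F) - 1, by omega⟩
  obtain ⟨b, ho, h1, hlast⟩ := exists_diag_basis h2 B hBS hQ hk α hα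
  have hB : ∀ x, B x x = 2 * Q x := fun x => polar_self' x
  have hbne : ∀ i, Q (b i) ≠ 0 := fun i h => by
    by_cases hi : i = Fin.last k
    · subst hi
      rcases hlast with h' | h' <;> rw [hB, h, mul_zero] at h'
      · exact one_ne_zero h'.symm
      · exact hα (h' ▸ IsSquare.zero)
    · have h' := h1 i hi
      rw [hB, h, mul_zero] at h'
      exact one_ne_zero h'.symm
  set g : oG Q := ((List.finRange (k + 1)).map fun i => rO (hbne i)).prod with hg
  have hgneg : ∀ x, g.1 x = -x := by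
    intro x
    have e : (g.1 : (ι → F) →ₗ[F] (ι → F)) = -LinearMap.id := b.ext fun j => by
      show g.1 (b j) = -b j
      rw [hg, prod_refl_apply b hbne (fun i j h => ho i j h) _ (List.nodup_finRange _) j,
        if_pos (List.mem_finRange j)]
    exact LinearMap.congr_fun e x
  have hiff : ∀ h : Cfsg.isometryGroup F ⇑Q, ((h : GL ι F) : Matrix ι ι F) = -1 ↔ oEquiv Q h = g := fun h => by
    constructor
    · intro hh
      exact ext_oG fun x => by rw [oEquiv_apply, hh, hgneg, Matrix.neg_mulVec, Matrix.one_mulVec]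
    · intro hh
      refine Matrix.ext_of_mulVec_single fun i => ?_
      rw [← oEquiv_apply, hh, hgneg, Matrix.neg_mulVec, Matrix.one_mulVec]
  have step1 : (∃ h : Cfsg.isometryGroup F ⇑Q, h ∈ Cfsg.Omega F ⇑Q ∧ ((h : GL ι F) : Matrix ι ι F) = -1) ↔
      g ∈ commutator (oG Q) := by
    constructor
    · rintro ⟨h, hm, hh⟩
      rw [← (hiff h).1 hh]
      exact (mem_omega_iff h).1 hm
    · intro hm
      exact ⟨(oEquiv Q).symm g, by rwa [mem_omega_iff, MulEquiv.apply_symm_apply],
        (hiff _).2 (MulEquiv.apply_symm_apply _ _)⟩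
  rw [step1, mem_commutator_iff hQ h2 hn]
  have hdick : dickson hQ (hex_of_two h2 (finrank F (ι → F))) g = 1 := by
    have hke : Even (k + 1) := hk ▸ hev
    rw [hg, map_list_prod, List.map_map,
      show (⇑(dickson hQ (hex_of_two h2 (finrank F (ι → F)))) ∘ fun i => rO (hbne i)) = fun _ => -1 from
        funext fun i => dickson_rO hQ _ _, List.map_const', List.prod_replicate, List.length_finRange,
      hke.neg_one_pow]
  rw [and_iff_right hdick]
  let s : F → ℤˣ := fun c => if IsSquare c then -1 else 1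
  have hspin : spin Q g = ∏ i, s (Q (b i)) := by
    rw [hg, map_list_prod, List.map_map, Fin.prod_univ_def]
    exact congrArg List.prod (List.map_congr_left fun i _ => by simp [s, spin_rO h2 (hbne i)])
  have hhalf : ∀ i, i ≠ Fin.last k → Q (b i) = 2⁻¹ := fun i hi => by
    have h' := h1 i hi
    rw [hB] at h'
    exact eq_inv_of_mul_eq_one_right h'
  set δ := B (b (Fin.last k)) (b (Fin.last k)) with hδ
  have hlastQ : Q (b (Fin.last k)) = δ * 2⁻¹ := by
    rw [hδ, hB, mul_comm (2 : F), mul_assoc, mul_inv_cancel₀ h2, mul_one]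
  have hkodd : Odd k := by
    rw [hk, Nat.even_add_one, Nat.not_even_iff_odd] at hev; exact hev
  have hprod : spin Q g = s 2⁻¹ * s (δ * 2⁻¹) := by
    rw [hspin, Fin.prod_univ_castSucc, hlastQ, Finset.prod_congr rfl fun i _ => by
      rw [hhalf _ (Fin.castSucc_ne_last i)]]
    rw [Finset.prod_const, Finset.card_univ, Fintype.card_fin]
    obtain ⟨j, rfl⟩ := hkodd
    rw [pow_succ, pow_mul, pow_two, Int.units_mul_self, one_pow, one_mul]
  rw [hprod]
  let σ : κ ≃ Fin (k + 1) := b'.indexEquiv b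
  obtain ⟨t, ht⟩ := det_congr_square (B := B) b (b'.reindex σ)
  have e1 : (LinearMap.BilinForm.toMatrix (b'.reindex σ) B).det =
      (Matrix.of (fun i j : κ => polar Q (b' i) (b' j))).det := by
    rw [← Matrix.det_submatrix_equiv_self σ]
    congr 1
    ext i j
    simp [LinearMap.BilinForm.toMatrix_apply, B]
  have e2 : (LinearMap.BilinForm.toMatrix b B).det = δ := by
    rw [toMatrix_diag b (fun i => if i = Fin.last k then δ else 1) ho fun i => by
      by_cases hi : i = Fin.last k
      · rw [if_pos hi, hi]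
      · rw [if_neg hi, h1 i hi], Matrix.det_diagonal, prod_update]
  rw [e1, e2] at ht
  have hdne : (Matrix.of (fun i j : κ => polar Q (b' i) (b' j))).det ≠ 0 := e1 ▸ det_toMatrix_ne_zero hQ _
  have ht0 : t ≠ 0 := fun h => hdne (by rw [ht, h]; ring)
  have hsqd : IsSquare (Matrix.of (fun i j : κ => polar Q (b' i) (b' j))).det ↔ IsSquare δ := by
    rw [ht]
    constructor
    · rintro ⟨r, hr⟩
      exact ⟨r / t, by field_simp; linear_combination hr⟩
    · exact fun h => (IsSquare.mul_self t).mul h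
  rw [hsqd]
  have h2i : (2 : F)⁻¹ ≠ 0 := inv_ne_zero h2
  have hmul : IsSquare δ → (IsSquare (δ * 2⁻¹) ↔ IsSquare (2⁻¹ : F)) := fun ⟨r, hr⟩ => by
    have hr0 : r ≠ 0 := fun h => (show δ ≠ 0 by
      intro h0; exact hdne (by rw [ht, h0]; ring)) (by rw [hr, h, mul_zero])
    constructor
    · rintro ⟨w, hw⟩
      exact ⟨w / r, by rw [hr] at hw; field_simp at hw ⊢; linear_combination hw⟩
    · exact fun h => IsSquare.mul ⟨r, hr⟩ h
  by_cases hδs : IsSquare δ
  · refine iff_of_true ?_ hδs
    rw [show s (δ * 2⁻¹) = s 2⁻¹ from if_congr (hmul hδs) rfl rfl, Int.units_mul_self]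
  · refine iff_of_false ?_ hδs
    have hsw : IsSquare (δ * 2⁻¹) ↔ ¬ IsSquare (2⁻¹ : F) := by
      have hδα : δ = α := hlast.resolve_left fun h => hδs (h ▸ IsSquare.one)
      rcases square_or_div_square hα h2i with ⟨r, hr⟩ | ⟨r, hr⟩
      · have hr0 : r ≠ 0 := fun h => by simp [h] at hr
        refine iff_of_false (fun ⟨w, hw⟩ => hδs ⟨w * r, ?_⟩) (not_not.2 ⟨r⁻¹, ?_⟩)
        · linear_combination r * r * hw - δ * hr
        · field_simp at hr ⊢; linear_combination hr
      · have hr0 : r ≠ 0 := fun h => hα (by rw [← hr, h]; simp)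
        refine iff_of_true ⟨δ / r, ?_⟩ fun ⟨w, hw⟩ => hα ⟨r * w, by rw [← hr, hw]; ring⟩
        rw [hδα]
        field_simp at hr ⊢
        first | linear_combination α * hr | linear_combination hr | linear_combination -hr | linear_combination -α * hr
    intro h
    simp only [s] at h
    by_cases hh : IsSquare (2⁻¹ : F)
    · rw [if_pos hh, if_neg fun h' => hsw.1 h' hh] at h; exact absurd h (by decide)
    · rw [if_neg hh, if_pos (hsw.2 hh)] at h; exact absurd h (by decide)

end Cfsg.Agent.Classical.Quad
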