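import Mathlib
import Cfsg.Agent.Classical.OrthMat
import Cfsg.Agent.Classical.OrthIndex
import Cfsg.Agent.Classical.QuadTypes
import Cfsg.Agent.Classical.SmallPSL

/-!
Turning a homomorphism onto the derived group of an orthogonal group into an isomorphism of the simple quotients.
-/

set_option autoImplicit false

namespace Cfsg.Agent.Classical.Exc

open Module QuadraticMap

variable {S G : Type*} [Group S] [Group G]

/-- Commutators with g inside a central kernel give a homomorphism. -/
def centralHom (f : S →* G) (hker : f.ker ≤ Subgroup.center S) (g : S)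
    (hg : ∀ x, g * x * g⁻¹ * x⁻¹ ∈ f.ker) : S →* f.ker :=
  MonoidHom.mk' (fun x => ⟨g * x * g⁻¹ * x⁻¹, hg x⟩) fun x y => Subtype.ext (by
    show g * (x * y) * g⁻¹ * (x * y)⁻¹ = g * x * g⁻¹ * x⁻¹ * (g * y * g⁻¹ * y⁻¹)
    have h := Subgroup.mem_center_iff.1 (hker (hg y)) x
    calc g * (x * y) * g⁻¹ * (x * y)⁻¹ = g * x * g⁻¹ * ((g * y * g⁻¹ * y⁻¹) * x⁻¹) := by group
      _ = g * x * g⁻¹ * (x⁻¹ * (x * (g * y * g⁻¹ * y⁻¹)) * x⁻¹) := by group
      _ = g * x * g⁻¹ * (x⁻¹ * ((g * y * g⁻¹ * y⁻¹) * x) * x⁻¹) := by rw [h]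
      _ = _ := by group)

theorem strong_of_perfect (f : S →* G) (hker : f.ker ≤ Subgroup.center S) (hS : commutator S = ⊤) (g : S)
    (hg : ∀ x, g * x * g⁻¹ * x⁻¹ ∈ f.ker) : g ∈ Subgroup.center S := by
  let c := centralHom f hker g hg
  have h1 : commutator S ≤ c.ker := by
    rw [commutator_eq_closure, Subgroup.closure_le]
    rintro _ ⟨a, b, rfl⟩
    rw [SetLike.mem_coe, MonoidHom.mem_ker, map_commutatorElement, commutatorElement_eq_one_iff_mul_comm]
    exact Subtype.ext (Subgroup.mem_center_iff.1 (hker (c b).2) _)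
  refine Subgroup.mem_center_iff.2 fun x => ?_
  have h2 : (c x : S) = 1 := congrArg Subtype.val (h1 (hS ▸ Subgroup.mem_top x))
  have h3 : g * x * g⁻¹ * x⁻¹ = 1 := h2
  rw [mul_inv_eq_one, mul_inv_eq_iff_eq_mul] at h3
  exact h3.symm

theorem strong_of_odd (f : S →* G) (hker : f.ker ≤ Subgroup.center S) (hexp : ∀ k ∈ f.ker, k * k = 1)
    {T : Set S} (hT : Subgroup.closure T = ⊤) (hodd : ∀ t ∈ T, Odd (orderOf t)) (g : S)
    (hg : ∀ x, g * x * g⁻¹ * x⁻¹ ∈ f.ker) : g ∈ Subgroup.center S := by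
  let c := centralHom f hker g hg
  have h1 : Subgroup.closure T ≤ c.ker := by
    rw [Subgroup.closure_le]
    intro t ht
    have h2 : c t ^ 2 = 1 := Subtype.ext (by rw [pow_two]; exact hexp _ (c t).2)
    have h3 : orderOf (c t) ∣ 1 := by
      have := Nat.dvd_gcd (orderOf_dvd_of_pow_eq_one h2) (orderOf_map_dvd c t)
      rwa [Nat.coprime_two_left.2 (hodd t ht) |>.gcd_eq_one] at this
    exact orderOf_eq_one_iff.1 (Nat.dvd_one.1 h3)
  refine Subgroup.mem_center_iff.2 fun x => ?_
  have h2 : (c x : S) = 1 := congrArg Subtype.val (h1 (hT ▸ Subgroup.mem_top x))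
  have h3 : g * x * g⁻¹ * x⁻¹ = 1 := h2
  rw [mul_inv_eq_one, mul_inv_eq_iff_eq_mul] at h3
  exact h3.symm

theorem range_le_of_perfect (f : S →* G) (hS : commutator S = ⊤) : f.range ≤ commutator G := by
  rw [MonoidHom.range_eq_map, ← hS, commutator_def, Subgroup.map_commutator, commutator_def]
  exact Subgroup.commutator_mono le_top le_top

theorem range_le_of_odd (f : S →* G) (hsq : ∀ x : G, x * x ∈ commutator G) {T : Set S}
    (hT : Subgroup.closure T = ⊤) (hodd : ∀ t ∈ T, Odd (orderOf t)) : f.range ≤ commutator G := by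
  rw [MonoidHom.range_eq_map, ← hT, MonoidHom.map_closure, Subgroup.closure_le]
  rintro _ ⟨t, ht, rfl⟩
  obtain ⟨k, hk⟩ := hodd t ht
  have e : t = t ^ (k + 1) * t ^ (k + 1) := by
    rw [← pow_add, show k + 1 + (k + 1) = orderOf t + 1 by omega, pow_succ, pow_orderOf_eq_one, one_mul]
  rw [SetLike.mem_coe, e, map_mul]
  exact hsq _

/-- The derived group of G modulo its centre is S modulo its centre. -/
theorem derived_quot_equiv [Finite G] [Finite S] (f : S →* G) (hle : f.range ≤ commutator G)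
    (hstrong : ∀ g, (∀ x, g * x * g⁻¹ * x⁻¹ ∈ f.ker) → g ∈ Subgroup.center S)
    (hcard : Nat.card (commutator G) * Nat.card f.ker ≤ Nat.card S) :
    Nonempty ((commutator G : Subgroup G) ⧸ Subgroup.center (commutator G : Subgroup G) ≃* S ⧸ Subgroup.center S) := by
  let f' : S →* commutator G := f.codRestrict _ fun x => hle ⟨x, rfl⟩
  have hker : f'.ker = f.ker := MonoidHom.ker_codRestrict _ _ _
  have hS := f.ker.card_eq_card_quotient_mul_card_subgroup
  rw [Nat.card_congr (QuotientGroup.quotientKerEquivRange f).toEquiv] at hS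
  have hr : f.range = commutator G := by
    refine Subgroup.eq_of_le_of_card_ge hle ?_
    exact Nat.le_of_mul_le_mul_right (hcard.trans hS.le) Nat.card_pos
  have hsurj : Function.Surjective f' := fun y => by
    obtain ⟨x, hx⟩ : (y : G) ∈ f.range := by rw [hr]; exact y.2
    exact ⟨x, Subtype.ext hx⟩
  let π := (QuotientGroup.mk' (Subgroup.center (commutator G : Subgroup G))).comp f'
  have hπ : π.ker = Subgroup.center S := by
    ext g
    rw [MonoidHom.mem_ker]
    show QuotientGroup.mk (s := Subgroup.center (commutator G : Subgroup G)) (f' g) = 1 ↔ _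
    rw [QuotientGroup.eq_one_iff]
    refine ⟨fun h => hstrong g fun x => ?_, fun h => Subgroup.mem_center_iff.2 fun y => ?_⟩
    · rw [← hker, MonoidHom.mem_ker, map_mul, map_mul, map_mul, map_inv, map_inv,
        ← Subgroup.mem_center_iff.1 h (f' x), mul_inv_cancel_right, mul_inv_cancel]
    · obtain ⟨x, rfl⟩ := hsurj y
      rw [← map_mul, ← map_mul, Subgroup.mem_center_iff.1 h x]
  have hπs : Function.Surjective π := (QuotientGroup.mk'_surjective _).comp hsurj
  exact ⟨((QuotientGroup.quotientMulEquivOfEq hπ.symm).trans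
    (QuotientGroup.quotientKerEquivOfSurjective π hπs)).symm⟩

theorem center_map_eq {A B : Type*} [Group A] [Group B] (e : A ≃* B) :
    (Subgroup.center A).map e.toMonoidHom = Subgroup.center B := by
  ext x
  obtain ⟨x, rfl⟩ := e.surjective x
  rw [Subgroup.mem_map_equiv, e.symm_apply_apply, Subgroup.mem_center_iff, Subgroup.mem_center_iff]
  refine ⟨fun h y => ?_, fun h y => e.injective (by rw [map_mul, map_mul]; exact h _)⟩
  obtain ⟨y, rfl⟩ := e.surjective y
  rw [← map_mul, ← map_mul, h]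

/-- POmega for a form in coordinates. -/
theorem pomega_equiv {F V : Type*} [Field F] [AddCommGroup V] [Module F V] {Q : QuadraticForm F V} {ι : Type}
    [Fintype ι] [DecidableEq ι] {Q' : (ι → F) → F} (e : (ι → F) ≃ₗ[F] V) (he : ∀ x, Q (e x) = Q' x) :
    Nonempty (Cfsg.POmega F Q' ≃*
      (commutator (Quad.oG Q) : Subgroup (Quad.oG Q)) ⧸ Subgroup.center (commutator (Quad.oG Q) : Subgroup (Quad.oG Q))) := by
  have hfun : Q' = ⇑(Q.comp e.toLinearMap) := funext fun x => (he x).symm
  subst hfun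
  let ψ : Cfsg.isometryGroup F ⇑(Q.comp e.toLinearMap) ≃* Quad.oG Q :=
    (Quad.oEquiv _).trans (Quad.oCongr e fun x => rfl)
  have hmap : (commutator (Cfsg.isometryGroup F ⇑(Q.comp e.toLinearMap))).map ψ.toMonoidHom =
      commutator (Quad.oG Q) := by
    rw [commutator_def, Subgroup.map_commutator, Subgroup.map_top_of_surjective _ ψ.surjective, commutator_def]
  let φ := (ψ.subgroupMap (Cfsg.Omega F ⇑(Q.comp e.toLinearMap))).trans (MulEquiv.subgroupCongr hmap)
  exact ⟨QuotientGroup.congr _ _ φ (center_map_eq φ)⟩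

theorem card_commutator_odd {F V : Type*} [Field F] [Finite F] [AddCommGroup V] [Module F V] [FiniteDimensional F V]
    [Finite V] {Q : QuadraticForm F V} (hQ : (polarBilin Q).Nondegenerate) (h2 : (2 : F) ≠ 0)
    (hn : 2 ≤ finrank F V) : Nat.card (commutator (Quad.oG Q)) * 4 = Nat.card (Quad.oG Q) := by
  rw [← Quad.index_commutator_odd hQ h2 hn, Subgroup.card_mul_index]

theorem card_commutator_two {F V : Type*} [Field F] [Finite F] [AddCommGroup V] [Module F V] [FiniteDimensional F V]
    [Finite V] {Q : QuadraticForm F V} (hQ : (polarBilin Q).Nondegenerate) (h2 : (2 : F) = 0)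
    (hex : Nat.card F ≠ 2 ∨ finrank F V ≠ 4) (hn : 1 ≤ finrank F V) :
    Nat.card (commutator (Quad.oG Q)) * 2 = Nat.card (Quad.oG Q) := by
  have : CharP F 2 := CharTwo.of_one_ne_zero_of_two_eq_zero one_ne_zero h2
  rw [← (Quad.commutator_eq_ker_dickson hQ hex hn).2, Subgroup.card_mul_index]

theorem sq_mem_commutator {F V : Type*} [Field F] [Finite F] [AddCommGroup V] [Module F V] [FiniteDimensional F V]
    [Finite V] {Q : QuadraticForm F V} (hQ : (polarBilin Q).Nondegenerate) (h2 : (2 : F) ≠ 0)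
    (hn : 2 ≤ finrank F V) (x : Quad.oG Q) : x * x ∈ commutator (Quad.oG Q) := by
  rw [Quad.mem_commutator_iff hQ h2 hn, map_mul, map_mul]
  exact ⟨Int.units_mul_self _, Int.units_mul_self _⟩

/-- Elements of odd order generate, or the group is perfect. -/
def Good (S : Type*) [Group S] : Prop :=
  commutator S = ⊤ ∨ ∃ T : Set S, Subgroup.closure T = ⊤ ∧ ∀ t ∈ T, Odd (orderOf t)

theorem good_prod {S₁ S₂ : Type*} [Group S₁] [Group S₂]
    (h : (commutator S₁ = ⊤ ∧ commutator S₂ = ⊤) ∨
      ((∃ T : Set S₁, Subgroup.closure T = ⊤ ∧ ∀ t ∈ T, Odd (orderOf t)) ∧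
        ∃ T : Set S₂, Subgroup.closure T = ⊤ ∧ ∀ t ∈ T, Odd (orderOf t))) : Good (S₁ × S₂) := by
  have split : ∀ H : Subgroup (S₁ × S₂), (∀ x, (x, 1) ∈ H) → (∀ y, (1, y) ∈ H) → H = ⊤ := fun H h1 h2 =>
    eq_top_iff.2 fun p _ => by
      have := H.mul_mem (h1 p.1) (h2 p.2)
      rwa [Prod.mk_mul_mk, mul_one, one_mul] at this
  rcases h with ⟨h1, h2⟩ | ⟨⟨T₁, h1, o1⟩, T₂, h2, o2⟩
  · refine Or.inl (split _ (fun x => ?_) fun y => ?_)
    · have := Subgroup.mem_map_of_mem (MonoidHom.inl S₁ S₂) (h1 ▸ Subgroup.mem_top x : x ∈ commutator S₁)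
      rw [commutator_def, Subgroup.map_commutator] at this
      exact Subgroup.commutator_mono le_top le_top this
    · have := Subgroup.mem_map_of_mem (MonoidHom.inr S₁ S₂) (h2 ▸ Subgroup.mem_top y : y ∈ commutator S₂)
      rw [commutator_def, Subgroup.map_commutator] at this
      exact Subgroup.commutator_mono le_top le_top this
  · refine Or.inr ⟨MonoidHom.inl S₁ S₂ '' T₁ ∪ MonoidHom.inr S₁ S₂ '' T₂, split _ (fun x => ?_) fun y => ?_, ?_⟩
    · have := Subgroup.mem_map_of_mem (MonoidHom.inl S₁ S₂) (h1 ▸ Subgroup.mem_top x : x ∈ Subgroup.closure T₁)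
      rw [MonoidHom.map_closure] at this
      exact Subgroup.closure_mono Set.subset_union_left this
    · have := Subgroup.mem_map_of_mem (MonoidHom.inr S₁ S₂) (h2 ▸ Subgroup.mem_top y : y ∈ Subgroup.closure T₂)
      rw [MonoidHom.map_closure] at this
      exact Subgroup.closure_mono Set.subset_union_right this
    · rintro _ (⟨t, ht, rfl⟩ | ⟨t, ht, rfl⟩)
      · rw [orderOf_injective (MonoidHom.inl S₁ S₂) (fun a b h => congrArg Prod.fst h)]
        exact o1 t ht
      · rw [orderOf_injective (MonoidHom.inr S₁ S₂) (fun a b h => congrArg Prod.snd h)]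
        exact o2 t ht

theorem quot_equiv_of_good [Finite G] [Finite S] (f : S →* G) (hS : Good S)
    (hsq : commutator S = ⊤ ∨ ∀ x : G, x * x ∈ commutator G) (hker : f.ker ≤ Subgroup.center S)
    (hexp : ∀ k ∈ f.ker, k * k = 1) (hcard : Nat.card (commutator G) * Nat.card f.ker ≤ Nat.card S) :
    Nonempty ((commutator G : Subgroup G) ⧸ Subgroup.center (commutator G : Subgroup G) ≃* S ⧸ Subgroup.center S) := by
  rcases hsq with hp | hsq
  · exact derived_quot_equiv f (range_le_of_perfect f hp) (strong_of_perfect f hker hp) hcard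
  rcases hS with hp | ⟨T, hT, hodd⟩
  · exact derived_quot_equiv f (range_le_of_perfect f hp) (strong_of_perfect f hker hp) hcard
  · exact derived_quot_equiv f (range_le_of_odd f hsq hT hodd) (strong_of_odd f hker hexp hT hodd) hcard

theorem oG_finite {F V : Type*} [Field F] [AddCommGroup V] [Module F V] [Finite V] (Q : QuadraticForm F V) :
    Finite (Quad.oG Q) :=
  Finite.of_injective (fun g : Quad.oG Q => (g.1 : V → V)) fun g h e => Subtype.ext (LinearEquiv.ext (congrFun e))

end Cfsg.Agent.Classical.Exc
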