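import Mathlib
import Cfsg.Agent.Classical.OrthGen
import Cfsg.Agent.Classical.OrthIndex
import Cfsg.Agent.Classical.QuadDecomp

/-!
The subgroup generated by Siegel transformations: transitivity on singular points and hyperbolic pairs,
it contains the commutator subgroup in dimension at least three, perfectness in dimension at least five.
-/

set_option autoImplicit false

namespace Cfsg.Agent.Classical.Quad

open Module QuadraticMap
open scoped commutatorElement

variable {F V : Type*} [Field F] [AddCommGroup V] [Module F V] {Q : QuadraticForm F V}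

/-- The subgroup generated by the Siegel transformations. -/
def eo (Q : QuadraticForm F V) : Subgroup (oG Q) :=
  Subgroup.closure {g | ∃ (p w : V) (hp : Q p = 0) (hpw : polar Q p w = 0), g = sO hp hpw}

theorem sO_mem_eo {p w : V} (hp : Q p = 0) (hpw : polar Q p w = 0) : sO hp hpw ∈ eo Q :=
  Subgroup.subset_closure ⟨p, w, hp, hpw, rfl⟩

instance eo_normal : (eo Q).Normal := by
  refine ⟨fun x hx k => ?_⟩
  suffices (eo Q).map (MulAut.conj k).toMonoidHom ≤ eo Q from this ⟨x, hx, rfl⟩
  rw [eo, MonoidHom.map_closure, Subgroup.closure_le]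
  rintro _ ⟨_, ⟨p, w, hp, hpw, rfl⟩, rfl⟩
  show k * sO hp hpw * k⁻¹ ∈ eo Q
  rw [conj_sO]
  exact sO_mem_eo _ _

/-- The plane vectors attached to a hyperbolic pair. -/
theorem Q_pair {e f : V} (he : Q e = 0) (hf : Q f = 0) (hef : polar Q e f = 1) (a : F) :
    Q (a • e + f) = a := by
  rw [map_add', map_smul', polar_smul_left, he, hf, hef]; simp

/-- The reflection in `a • e + f`. -/
noncomputable def rPair {e f : V} (he : Q e = 0) (hf : Q f = 0) (hef : polar Q e f = 1) {a : F} (ha : a ≠ 0) :
    oG Q := rO (v := a • e + f) (by rwa [Q_pair he hf hef])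

theorem rPair_congr {e f : V} (he : Q e = 0) (hf : Q f = 0) (hef : polar Q e f = 1) {a b : F} (ha : a ≠ 0)
    (hb : b ≠ 0) (h : a = b) : rPair he hf hef ha = rPair he hf hef hb := by subst h; rfl

theorem rPair_mul {e f : V} (he : Q e = 0) (hf : Q f = 0) (hef : polar Q e f = 1) {a b c : F} (ha : a ≠ 0)
    (hb : b ≠ 0) (hc : c ≠ 0) :
    rPair he hf hef (mul_ne_zero hc ha) * rPair he hf hef ha =
      rPair he hf hef (mul_ne_zero hc hb) * rPair he hf hef hb := ext_oG fun x => by
  simp only [rPair, oG_mul_apply, rO_apply, Q_pair he hf hef, polar_add_right, polar_add_left, polar_smul_right,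
    polar_smul_left, polar_sub_left, smul_eq_mul, polar_self', he, hf, hef, polar_comm Q f e]
  match_scalars <;> field_simp <;> ring

/-- The product of three Siegel transformations acting as two reflections. -/
theorem weyl_eq {e f u : V} (he : Q e = 0) (hf : Q f = 0) (hef : polar Q e f = 1) (heu : polar Q e u = 0)
    (hfu : polar Q f u = 0) (hu : Q u ≠ 0) :
    sO he heu * sO hf (polar_perp_smul hfu (Q u)⁻¹) * sO he heu = rPair he hf hef hu * rO hu := ext_oG fun x => by
  simp only [rPair, oG_mul_apply, sO_apply, rO_apply, Q_pair he hf hef, map_smul', polar_add_right, polar_add_left,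
    polar_smul_right, polar_smul_left, polar_sub_left, smul_eq_mul, polar_self', he, hf, hef, heu, hfu,
    polar_comm Q f e, polar_comm Q u e, polar_comm Q u f]
  match_scalars <;> field_simp <;> ring

variable [FiniteDimensional F V]

theorem finrank_perpPair {e f : V} (he : Q e = 0) (hf : Q f = 0) (hef : polar Q e f = 1) :
    finrank F V = 2 + finrank F (perpPair Q e f) := by
  rw [(splitPair he hf hef).finrank_eq, Module.finrank_prod, Module.finrank_prod, Module.finrank_self]

variable [Finite F]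

theorem exists_aniso_perp (hQ : (polarBilin Q).Nondegenerate) (hn : 3 ≤ finrank F V) {e f : V} (he : Q e = 0)
    (hf : Q f = 0) (hef : polar Q e f = 1) : ∃ u, polar Q e u = 0 ∧ polar Q f u = 0 ∧ Q u ≠ 0 := by
  have h := finrank_perpPair he hf hef
  obtain ⟨u, hu⟩ := exists_aniso (nondeg_restrictPair hQ he hf hef) (by omega)
  exact ⟨u, (mem_perpPair.1 u.2).1, (mem_perpPair.1 u.2).2, hu⟩

/-- Two singular vectors have a common non-orthogonal singular vector. -/
theorem exists_common (hQ : (polarBilin Q).Nondegenerate) (hn : 3 ≤ finrank F V) {e e' : V} (he0 : e ≠ 0)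
    (he : Q e = 0) (he0' : e' ≠ 0) (he' : Q e' = 0) :
    ∃ z, Q z = 0 ∧ polar Q z e ≠ 0 ∧ polar Q z e' ≠ 0 := by
  by_cases hc : polar Q e e' = 0
  · by_cases hmem : e' ∈ Submodule.span F {e}
    · obtain ⟨t, rfl⟩ := Submodule.mem_span_singleton.1 hmem
      obtain ⟨f, hf, hef⟩ := exists_hyp_pair hQ he0 he
      have ht : t ≠ 0 := fun h => he0' (by rw [h, zero_smul])
      exact ⟨f, hf, by rw [polar_comm, hef]; exact one_ne_zero,
        by rw [polar_smul_right, polar_comm, hef, smul_eq_mul, mul_one]; exact ht⟩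
    · have hS : e ∉ Submodule.span F {e - e'} := fun h => by
        obtain ⟨t, ht⟩ := Submodule.mem_span_singleton.1 h
        have ht0 : t ≠ 0 := fun h0 => he0 (by rw [← ht, h0, zero_smul])
        refine hmem (Submodule.mem_span_singleton.2 ⟨(t - 1) / t, ?_⟩)
        have h1 : t • e' = (t - 1) • e := by linear_combination (norm := module) -ht
        rw [div_eq_inv_mul, mul_smul, ← h1, inv_smul_smul₀ ht0]
      obtain ⟨w, hw, hew⟩ := exists_perp hQ hS
      have hew' : polar Q e' w = 1 := by
        have := hw _ (Submodule.mem_span_singleton_self _)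
        rw [polar_sub_left, hew, sub_eq_zero] at this
        exact this.symm
      refine ⟨w + (-Q w) • e, ?_, ?_, ?_⟩
      · rw [map_add_smul, he, polar_comm Q w e, hew]; ring
      · rw [polar_add_left, polar_smul_left, polar_comm Q w e, hew, polar_self', he]; simp
      · rw [polar_add_left, polar_smul_left, polar_comm Q w e', hew', hc]; simp
  · have hf : Q ((polar Q e e')⁻¹ • e') = 0 := by rw [map_smul', he', mul_zero]
    have hef : polar Q e ((polar Q e e')⁻¹ • e') = 1 := by rw [polar_smul_right, smul_eq_mul, inv_mul_cancel₀ hc]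
    obtain ⟨u, heu, hfu, hu⟩ := exists_aniso_perp hQ hn he hf hef
    have heu' : polar Q e' u = 0 := by
      rw [polar_smul_left, smul_eq_mul] at hfu
      exact (mul_eq_zero.1 hfu).resolve_left (inv_ne_zero hc)
    refine ⟨e + (-Q u) • ((polar Q e e')⁻¹ • e') + u, ?_, ?_, ?_⟩
    · rw [map_add', map_add_smul, he, hf, hef, polar_add_left, polar_smul_left, polar_smul_left, heu, heu']
      simp
    · rw [polar_add_left, polar_add_left, polar_smul_left, polar_self', he, polar_comm Q _ e, hef,
        polar_comm Q u e, heu]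
      simp [hu]
    · rw [polar_add_left, polar_add_left, polar_smul_left, polar_smul_left, polar_self', he', polar_comm Q u e',
        heu']
      simp [hc]

/-- Transitivity on singular points. -/
theorem exists_eo_point (hQ : (polarBilin Q).Nondegenerate) (hn : 3 ≤ finrank F V) {e e' : V} (he0 : e ≠ 0)
    (he : Q e = 0) (he0' : e' ≠ 0) (he' : Q e' = 0) :
    ∃ g ∈ eo Q, ∃ t : F, t ≠ 0 ∧ g.1 e = t • e' := by
  obtain ⟨z, hz, h1, h2⟩ := exists_common hQ hn he0 he he0' he'
  have hf : Q ((polar Q z e)⁻¹ • e) = 0 := by rw [map_smul', he, mul_zero]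
  have hf' : Q ((polar Q z e')⁻¹ • e') = 0 := by rw [map_smul', he', mul_zero]
  obtain ⟨h, -, hg⟩ := sO_partner hz hf (by rw [polar_smul_right, smul_eq_mul, inv_mul_cancel₀ h1]) hf'
    (by rw [polar_smul_right, smul_eq_mul, inv_mul_cancel₀ h2])
  refine ⟨_, sO_mem_eo hz h, polar Q z e * (polar Q z e')⁻¹, mul_ne_zero h1 (inv_ne_zero h2), ?_⟩
  rw [map_smul] at hg
  conv_rhs => rw [mul_smul, ← hg, smul_inv_smul₀ h1]

/-- Transitivity on hyperbolic pairs up to scaling. -/
theorem exists_eo_pair (hQ : (polarBilin Q).Nondegenerate) (hn : 3 ≤ finrank F V) {e f e' f' : V} (he : Q e = 0)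
    (hf : Q f = 0) (hef : polar Q e f = 1) (he' : Q e' = 0) (hf' : Q f' = 0) (hef' : polar Q e' f' = 1) :
    ∃ g ∈ eo Q, ∃ t : F, t ≠ 0 ∧ g.1 e = t • e' ∧ g.1 f = t⁻¹ • f' := by
  obtain ⟨g, hg, t, ht, hge⟩ := exists_eo_point hQ hn (e := e) (e' := e')
    (fun h => by simp [h, polar] at hef) he (fun h => by simp [h, polar] at hef') he'
  obtain ⟨h, hfix, hmove⟩ := sO_partner (Q := Q) (e := t • e') (f := g.1 f) (f' := t⁻¹ • f')
    (by rw [map_smul', he', mul_zero]) (by rw [g.2, hf]) (by rw [← hge, polar_oG, hef])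
    (by rw [map_smul', hf', mul_zero])
    (by rw [polar_smul_left, polar_smul_right, hef', smul_eq_mul, smul_eq_mul, mul_one, mul_inv_cancel₀ ht])
  exact ⟨_, mul_mem (sO_mem_eo _ h) hg, t, ht, by rw [oG_mul_apply, hge, hfix], by rw [oG_mul_apply, hmove]⟩

/-- An anisotropic vector lies in a hyperbolic plane. -/
theorem exists_pair_through (hQ : (polarBilin Q).Nondegenerate) (hn : 3 ≤ finrank F V) {v : V}
    (hv : Q v ≠ 0) : ∃ z f, Q z = 0 ∧ Q f = 0 ∧ polar Q z f = 1 ∧ v = Q v • z + f := by
  suffices ∃ z, Q z = 0 ∧ polar Q z v ≠ 0 by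
    obtain ⟨z, hz, hzv⟩ := this
    have hz1 : Q ((polar Q z v)⁻¹ • z) = 0 := by rw [map_smul', hz, mul_zero]
    have hzv1 : polar Q ((polar Q z v)⁻¹ • z) v = 1 := by rw [polar_smul_left, smul_eq_mul, inv_mul_cancel₀ hzv]
    refine ⟨(polar Q z v)⁻¹ • z, v + (-Q v) • ((polar Q z v)⁻¹ • z), hz1, ?_, ?_, by module⟩
    · rw [map_add_smul, hz1, polar_comm Q v, hzv1]; ring
    · rw [polar_add_right, hzv1, polar_smul_right, polar_self', hz1]; simp
  obtain ⟨e, he0, he⟩ := exists_singular Q hn
  obtain ⟨f, hf, hef⟩ := exists_hyp_pair hQ he0 he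
  by_cases h1 : polar Q e v = 0
  swap
  · exact ⟨e, he, h1⟩
  by_cases h2 : polar Q f v = 0
  swap
  · exact ⟨f, hf, h2⟩
  have hv0 : (⟨v, mem_perpPair.2 ⟨h1, h2⟩⟩ : perpPair Q e f) ≠ 0 := fun h => hv (by
    rw [show v = 0 from congrArg Subtype.val h, map_zero])
  obtain ⟨u, hu⟩ : ∃ u : perpPair Q e f, polar (restrictPair Q e f) ⟨v, mem_perpPair.2 ⟨h1, h2⟩⟩ u ≠ 0 := by
    by_contra h
    push Not at h
    exact hv0 (eq_zero_of_polar (nondeg_restrictPair hQ he hf hef) h)
  have h := mem_perpPair.1 u.2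
  have hu' : polar Q v u ≠ 0 := hu
  refine ⟨e + (-Q u) • f + u, ?_, ?_⟩
  · rw [map_add', map_add_smul, he, hf, hef, polar_add_left, polar_smul_left, h.1, h.2]
    simp
  · rw [polar_add_left, polar_add_left, polar_smul_left, h1, h2, polar_comm Q (u : V) v]
    simpa using hu'

theorem mk_rO_eq (hQ : (polarBilin Q).Nondegenerate) (hn : 3 ≤ finrank F V) {e f : V} (he : Q e = 0) (hf : Q f = 0)
    (hef : polar Q e f = 1) {v : V} (hv : Q v ≠ 0) :
    QuotientGroup.mk' (eo Q) (rO hv) = QuotientGroup.mk' (eo Q) (rPair he hf hef hv) := by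
  have eq_of_mem : ∀ {x y : oG Q}, x * y ∈ eo Q → y * y = 1 →
      QuotientGroup.mk' (eo Q) x = QuotientGroup.mk' (eo Q) y := fun {x y} h hy => by
    have h1 : QuotientGroup.mk' (eo Q) x * QuotientGroup.mk' (eo Q) y = 1 := by
      rw [← map_mul]; exact (QuotientGroup.eq_one_iff _).2 h
    have h2 : QuotientGroup.mk' (eo Q) y * QuotientGroup.mk' (eo Q) y = 1 := by rw [← map_mul, hy, map_one]
    rw [eq_inv_of_mul_eq_one_left h1, ← eq_inv_of_mul_eq_one_left h2]
  obtain ⟨u, heu, hfu, hu⟩ := exists_aniso_perp hQ hn he hf hef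
  have wey : ∀ {u : V}, polar Q e u = 0 → polar Q f u = 0 → ∀ hu : Q u ≠ 0,
      QuotientGroup.mk' (eo Q) (rPair he hf hef hu) = QuotientGroup.mk' (eo Q) (rO hu) := fun {u} h1 h2 hu => by
    refine eq_of_mem ?_ (rO_mul_self hu)
    rw [← weyl_eq he hf hef h1 h2 hu]
    exact mul_mem (mul_mem (sO_mem_eo _ _) (sO_mem_eo _ _)) (sO_mem_eo _ _)
  obtain ⟨z, g', hz, hg', hzg, hveq⟩ := exists_pair_through hQ hn hv
  obtain ⟨g, hg, t, ht, hgz, hgf⟩ := exists_eo_pair hQ hn hz hg' hzg he hf hef
  have hg1 : QuotientGroup.mk' (eo Q) g = 1 := (QuotientGroup.eq_one_iff _).2 hg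
  have hs : (t * t) * Q v ≠ 0 := mul_ne_zero (mul_ne_zero ht ht) hv
  have hgv : g.1 v = t⁻¹ • ((t * t * Q v) • e + f) := by
    have h := congrArg g.1 hveq
    rw [map_add, map_smul, hgz, hgf] at h
    rw [h]
    match_scalars <;> field_simp
  have hne : Q ((t * t * Q v) • e + f) ≠ 0 := by rwa [Q_pair he hf hef]
  have hc : rO (v := g.1 v) (by rwa [g.2]) = rPair he hf hef hs := by
    rw [rO_congr _ (by rw [map_smul', Q_pair he hf hef]; exact mul_ne_zero (mul_ne_zero (inv_ne_zero ht) (inv_ne_zero ht)) hs) hgv,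
      rO_smul hne (inv_ne_zero ht)]
    rfl
  have step1 : QuotientGroup.mk' (eo Q) (rO hv) = QuotientGroup.mk' (eo Q) (rPair he hf hef hs) := by
    rw [← hc, ← conj_rO g hv, map_mul, map_mul, map_inv, hg1, one_mul, inv_one, mul_one]
  rw [step1]
  -- replace the square factor using the vector orthogonal to the pair
  have htu : Q (t • u) ≠ 0 := by rw [map_smul']; exact mul_ne_zero (mul_ne_zero ht ht) hu
  have hsq : QuotientGroup.mk' (eo Q) (rPair he hf hef (mul_ne_zero (mul_ne_zero ht ht) hu)) =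
      QuotientGroup.mk' (eo Q) (rPair he hf hef hu) := by
    rw [rPair_congr he hf hef _ htu (map_smul' t u).symm, wey (polar_perp_smul heu t) (polar_perp_smul hfu t) htu,
      rO_smul hu ht htu, ← wey heu hfu hu]
  have := congrArg (QuotientGroup.mk' (eo Q)) (rPair_mul he hf hef (a := Q v) (b := Q u) hv hu (mul_ne_zero ht ht))
  rw [map_mul, map_mul, hsq] at this
  have h2 : QuotientGroup.mk' (eo Q) (rPair he hf hef hu) * QuotientGroup.mk' (eo Q) (rPair he hf hef hu) = 1 := by
    rw [← map_mul, rPair, rO_mul_self, map_one]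
  rw [h2] at this
  rw [eq_inv_of_mul_eq_one_left this, ← map_inv, rPair, rO_inv]

/-- In dimension at least three the Siegel transformations generate a group containing the commutator subgroup. -/
theorem commutator_le_eo (hQ : (polarBilin Q).Nondegenerate) (hn : 3 ≤ finrank F V) :
    commutator (oG Q) ≤ eo Q := by
  obtain ⟨e, he0, he⟩ := exists_singular Q hn
  obtain ⟨f, hf, hef⟩ := exists_hyp_pair hQ he0 he
  let q := QuotientGroup.mk' (eo Q)
  have sqc : ∀ {a t : F} (ha : a ≠ 0) (ht : t ≠ 0),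
      q (rPair he hf hef (mul_ne_zero (mul_ne_zero ht ht) ha)) = q (rPair he hf hef ha) := fun {a t} ha ht => by
    have hv : Q (t • (a • e + f)) ≠ 0 := by
      rw [map_smul', Q_pair he hf hef]; exact mul_ne_zero (mul_ne_zero ht ht) ha
    have hv' : Q (a • e + f) ≠ 0 := by rwa [Q_pair he hf hef]
    have h1 := mk_rO_eq hQ hn he hf hef hv
    rw [rO_smul hv' ht hv] at h1
    rw [rPair_congr he hf hef _ hv (show t * t * a = _ by rw [map_smul', Q_pair he hf hef]), ← h1]
    rfl
  have hcr : ∀ {a b : F} (ha : a ≠ 0) (hb : b ≠ 0),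
      Commute (q (rPair he hf hef ha)) (q (rPair he hf hef hb)) := fun {a b} ha hb => by
    have e1 := congrArg q (rPair_mul he hf hef (a := b) (b := a) hb ha (div_ne_zero ha hb))
    rw [map_mul, map_mul, rPair_congr he hf hef (mul_ne_zero (div_ne_zero ha hb) hb) ha (div_mul_cancel₀ a hb),
      rPair_congr he hf hef (mul_ne_zero (div_ne_zero ha hb) ha)
        (mul_ne_zero (mul_ne_zero (div_ne_zero ha hb) (div_ne_zero ha hb)) hb) (by field_simp),
      sqc hb (div_ne_zero ha hb)] at e1
    exact e1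
  have hgen : ∀ H : Subgroup (oG Q ⧸ eo Q), (∀ (v : V) (hv : Q v ≠ 0), q (rO hv) ∈ H) → ∀ g, q g ∈ H :=
    fun H hr g => by
      have : H.comap q = ⊤ := gen_eq_top hQ _ hr fun p w hp hpw => by
        rw [Subgroup.mem_comap, show q (sO hp hpw) = 1 from (QuotientGroup.eq_one_iff _).2 (sO_mem_eo hp hpw)]
        exact one_mem _
      exact Subgroup.mem_comap.1 (this ▸ Subgroup.mem_top g)
  rw [commutator_def, Subgroup.commutator_le]
  intro g _ h _
  rw [← QuotientGroup.eq_one_iff]
  show q ⁅g, h⁆ = 1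
  rw [map_commutatorElement, commutatorElement_eq_one_iff_commute]
  have h1 : ∀ (v : V) (hv : Q v ≠ 0), ∀ h, Commute (q (rO hv)) (q h) := fun v hv h => by
    refine (Subgroup.mem_centralizer_singleton_iff.1 (hgen (Subgroup.centralizer {q (rO hv)}) ?_ h)).symm
    intro w hw
    rw [Subgroup.mem_centralizer_singleton_iff, show q (rO hv) = _ from mk_rO_eq hQ hn he hf hef hv,
      show q (rO hw) = _ from mk_rO_eq hQ hn he hf hef hw]
    exact hcr hw hv
  exact Subgroup.mem_centralizer_singleton_iff.1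
    (hgen (Subgroup.centralizer {q h}) (fun v hv => Subgroup.mem_centralizer_singleton_iff.2 (h1 v hv h)) g)

theorem eo_eq_commutator (hQ : (polarBilin Q).Nondegenerate) (hn : 3 ≤ finrank F V)
    (hex : Nat.card F ≠ 2 ∨ finrank F V ≠ 4) : eo Q = commutator (oG Q) := by
  refine le_antisymm ((Subgroup.closure_le _).2 ?_) (commutator_le_eo hQ hn)
  rintro _ ⟨p, w, hp, hpw, rfl⟩
  exact sO_mem_commutator hQ hex hp hpw

/-! ### Dimension at least five -/

/-- A singular vector orthogonal to a singular one and outside its line. -/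
theorem exists_second (hQ : (polarBilin Q).Nondegenerate) (hn : 5 ≤ finrank F V) {p : V} (hp0 : p ≠ 0)
    (hp : Q p = 0) : ∃ r, Q r = 0 ∧ polar Q p r = 0 ∧ r ∉ Submodule.span F {p} := by
  obtain ⟨f, hf, hpf⟩ := exists_hyp_pair hQ hp0 hp
  have h := finrank_perpPair hp hf hpf
  obtain ⟨r, hr0, hr⟩ := exists_singular (restrictPair Q p f) (by omega)
  refine ⟨r, hr, (mem_perpPair.1 r.2).1, fun hmem => ?_⟩
  obtain ⟨t, ht⟩ := Submodule.mem_span_singleton.1 hmem
  have := (mem_perpPair.1 r.2).2
  rw [← ht, polar_smul_right, polar_comm, hpf, smul_eq_mul, mul_one] at this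
  exact hr0 (Subtype.ext (by rw [← ht, this, zero_smul]; rfl))

omit [Finite F] in
/-- Singular vectors additively generate the perp of a singular vector. -/
theorem perp_induction (hQ : (polarBilin Q).Nondegenerate) {p r : V} (hr : Q r = 0) (hpr : polar Q p r = 0)
    (hmem : r ∉ Submodule.span F {p}) (P : V → Prop) (hadd : ∀ a b, polar Q p a = 0 → polar Q p b = 0 → P a → P b → P (a + b))
    (hsing : ∀ w, Q w = 0 → polar Q p w = 0 → P w) {w : V} (hw : polar Q p w = 0) : P w := by
  have good : ∀ y, polar Q p y = 0 → polar Q r y ≠ 0 → P y := fun y hy hry => by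
    set t := -Q y / polar Q r y
    have h1 : Q (y + t • r) = 0 := by
      rw [map_add_smul, hr, polar_comm Q y r]
      simp [t, div_mul_cancel₀ _ hry]
    have := hadd _ _ (polar_perp_add hy (polar_perp_smul hpr t)) (polar_perp_smul hpr (-t))
      (hsing _ h1 (polar_perp_add hy (polar_perp_smul hpr t)))
      (hsing _ (by rw [map_smul', hr, mul_zero]) (polar_perp_smul hpr (-t)))
    rwa [neg_smul, add_neg_cancel_right] at this
  by_cases h : polar Q r w = 0
  swap
  · exact good w hw h
  obtain ⟨z, hz, hrz⟩ := exists_perp hQ hmem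
  have hpz := hz p (Submodule.mem_span_singleton_self p)
  have := hadd _ _ (polar_perp_add hw hpz) (polar_perp_neg hpz)
    (good _ (polar_perp_add hw hpz) (by rw [polar_add_right, h, hrz, zero_add]; exact one_ne_zero))
    (good _ (polar_perp_neg hpz) (by rw [polar_neg_right, hrz]; exact neg_ne_zero.2 one_ne_zero))
  rwa [add_neg_cancel_right] at this

/-- A subgroup with the long root elements contains all Siegel transformations. -/
theorem sO_mem_of_singular (hQ : (polarBilin Q).Nondegenerate) (hn : 5 ≤ finrank F V) (H : Subgroup (oG Q))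
    (hH : ∀ (p w : V) (hp : Q p = 0) (hpw : polar Q p w = 0), Q w = 0 → sO hp hpw ∈ H) {p w : V} (hp : Q p = 0)
    (hpw : polar Q p w = 0) : sO hp hpw ∈ H := by
  by_cases hp0 : p = 0
  · have e : sO hp hpw = 1 := ext_oG fun x => by rw [sO_apply, oG_one_apply, hp0]; simp [polar]
    exact e ▸ one_mem _
  obtain ⟨r, hr, hpr, hmem⟩ := exists_second hQ hn hp0 hp
  refine perp_induction hQ hr hpr hmem (fun y => ∀ h : polar Q p y = 0, sO hp h ∈ H)
    (fun a b ha hb h1 h2 h => ?_) (fun y hy hpy _ => hH p y hp hpy hy) hpw hpw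
  rw [← sO_congr hp (polar_perp_add ha hb) h rfl, ← sO_mul hp ha hb]
  exact mul_mem (h1 ha) (h2 hb)

/-- In dimension at least five the group generated by Siegel transformations is perfect. -/
theorem eo_le_commutator_eo (hQ : (polarBilin Q).Nondegenerate) (hn : 5 ≤ finrank F V) :
    eo Q ≤ ⁅eo Q, eo Q⁆ := by
  refine (Subgroup.closure_le _).2 ?_
  rintro _ ⟨p, w, hp, hpw, rfl⟩
  refine sO_mem_of_singular hQ hn _ (fun p r hp hpr hr => ?_) hp hpw
  by_cases hp0 : p = 0
  · have e : sO hp hpr = 1 := ext_oG fun x => by rw [sO_apply, oG_one_apply, hp0]; simp [polar]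
    exact e ▸ one_mem _
  by_cases hmem : r ∈ Submodule.span F {p}
  · obtain ⟨t, rfl⟩ := Submodule.mem_span_singleton.1 hmem
    exact (sO_smul_self hp t hpr) ▸ one_mem _
  set S := Submodule.span F ({p, r} : Set V) with hS
  obtain ⟨x, hpx, hrx, hxS⟩ : ∃ x, polar Q p x = 0 ∧ polar Q r x = 0 ∧ x ∉ S := by
    by_contra hc
    push Not at hc
    have hle : LinearMap.ker ((polarBilin Q p).prod (polarBilin Q r)) ≤ S := fun x hx => by
      rw [LinearMap.mem_ker] at hx
      exact hc x (congrArg Prod.fst hx) (congrArg Prod.snd hx)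
    have h1 := Submodule.finrank_mono hle
    have h2 := LinearMap.finrank_range_add_finrank_ker ((polarBilin Q p).prod (polarBilin Q r))
    have h3 := Submodule.finrank_le (LinearMap.range ((polarBilin Q p).prod (polarBilin Q r)))
    rw [Module.finrank_prod, Module.finrank_self] at h3
    have h4 : finrank F S ≤ 2 := by
      classical
      have := finrank_span_le_card (R := F) ({p, r} : Set V)
      rw [Set.toFinset_insert, Set.toFinset_singleton] at this
      exact this.trans Finset.card_le_two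
    omega
  obtain ⟨y, hy, hxy⟩ := exists_perp hQ hxS
  have hyr : polar Q r y = 0 := hy r (Submodule.subset_span (by simp))
  have hyp : polar Q p y = 0 := hy p (Submodule.subset_span (by simp))
  have gp : (sO hr hyr).1 p = p := siegel_fix hr hyr hpr hyp
  have gx : (sO hr hyr).1 x = x + r := by
    rw [sO_apply, hxy, polar_comm Q x r, hrx]
    simp
  have e : sO hp hpr = ⁅sO hr hyr, sO hp hpx⁆ := by
    refine ext_oG fun z => ?_
    rw [commutatorElement_def, conj_sO, sO_inv, oG_mul_apply]
    simp only [sO_apply, gp, gx, polar_add_right, polar_add_left, polar_smul_left, polar_neg_right, polar_neg_left,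
      smul_eq_mul, polar_self', hp, hr, hpr, hpx, polar_comm Q r p, polar_comm Q x p, polar_comm Q x r, hrx,
      QuadraticMap.map_neg, map_add' x r]
    match_scalars <;> ring
  rw [e]
  exact Subgroup.commutator_mem_commutator (sO_mem_eo _ _) (sO_mem_eo _ _)

end Cfsg.Agent.Classical.Quad
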