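import Mathlib
import Cfsg.Agent.Classical.OrthEichler

/-!
The group generated by Siegel transformations on singular points: primitivity, centre, simplicity modulo the
centre (Iwasawa).
-/

set_option autoImplicit false

namespace Cfsg.Agent.Classical.Quad

open Module QuadraticMap Projectivization
open scoped LinearAlgebra.Projectivization Pointwise commutatorElement

variable {F V : Type*} [Field F] [AddCommGroup V] [Module F V] {Q : QuadraticForm F V}

theorem Q_rep {u : V} (hu : u ≠ 0) : Q (mk F u hu).rep = 0 ↔ Q u = 0 := by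
  obtain ⟨a, ha⟩ := exists_smul_eq_mk_rep F u hu
  rw [← ha, Units.smul_def, map_smul']
  simp [a.ne_zero]

/-- The singular points. -/
def SPt (Q : QuadraticForm F V) : Type _ := {p : ℙ F V // Q p.rep = 0}

theorem smul_mk_eo (g : eo Q) {u : V} (hu : u ≠ 0) : g • mk F u hu = mk F (g.1.1 u) (by simpa using hu) := rfl

theorem smul_spt (g : eo Q) (p : SPt Q) : Q (g • p.1).rep = 0 := by
  conv in g • p.1 => rw [← mk_rep p.1, smul_mk_eo]
  rw [Q_rep, g.1.2]
  exact p.2

instance : MulAction (eo Q) (SPt Q) where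
  smul g p := ⟨g • p.1, smul_spt g p⟩
  one_smul p := Subtype.ext (one_smul (eo Q) p.1)
  mul_smul g g' p := Subtype.ext (mul_smul g g' p.1)

/-- The point of a singular vector. -/
def spt (u : V) (hu : u ≠ 0) (h : Q u = 0) : SPt Q := ⟨mk F u hu, (Q_rep hu).2 h⟩

theorem exists_spt (p : SPt Q) : ∃ (u : V) (hu : u ≠ 0) (h : Q u = 0), spt u hu h = p :=
  ⟨p.1.rep, p.1.rep_nonzero, p.2, Subtype.ext (mk_rep p.1)⟩

theorem spt_eq_iff {u w : V} (hu : u ≠ 0) (h : Q u = 0) (hw : w ≠ 0) (h' : Q w = 0) :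
    spt u hu h = spt w hw h' ↔ ∃ a : F, a • w = u :=
  ⟨fun e => (mk_eq_mk_iff' F u w hu hw).1 (congrArg Subtype.val e),
    fun e => Subtype.ext ((mk_eq_mk_iff' F u w hu hw).2 e)⟩

theorem smul_spt_eq (g : eo Q) {u : V} (hu : u ≠ 0) (h : Q u = 0) :
    g • spt u hu h = spt (g.1.1 u) (by simpa using hu) (by rw [g.1.2, h]) := Subtype.ext (smul_mk_eo g hu)

/-- The Siegel transformations along a singular point. -/
def Ap (p : SPt Q) : Subgroup (eo Q) where
  carrier := {g | ∃ (w : V) (h : polar Q p.1.rep w = 0), g.1 = sO p.2 h}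
  mul_mem' := by
    rintro a b ⟨w, h, ha⟩ ⟨w', h', hb⟩
    exact ⟨_, polar_perp_add h h', by rw [Subgroup.coe_mul, ha, hb, sO_mul]⟩
  one_mem' := ⟨0, by simp [polar], by rw [sO_zero]; rfl⟩
  inv_mem' := by
    rintro a ⟨w, h, ha⟩
    exact ⟨_, polar_perp_neg h, by rw [Subgroup.coe_inv, ha, sO_inv]⟩

theorem sO_left_congr {p p' w : V} (hp : Q p = 0) (hw : polar Q p w = 0) (hp' : Q p' = 0)
    (hw' : polar Q p' w = 0) (e : p = p') : sO hp hw = sO hp' hw' := by subst e; rfl

theorem sO_mem_Ap {u w : V} (hu0 : u ≠ 0) (hu : Q u = 0) (huw : polar Q u w = 0) :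
    ∀ g : eo Q, g.1 = sO hu huw → g ∈ Ap (spt u hu0 hu) := fun g hg => by
  obtain ⟨a, ha⟩ := exists_smul_eq_mk_rep F u hu0
  rw [Units.smul_def] at ha
  have ha' : ((a : F))⁻¹ • (spt u hu0 hu).1.rep = u := by
    show ((a : F))⁻¹ • (mk F u hu0).rep = u
    rw [← ha, inv_smul_smul₀ a.ne_zero]
  have hw : polar Q (spt u hu0 hu).1.rep w = 0 := by
    show polar Q (mk F u hu0).rep w = 0
    rw [← ha, polar_smul_left, huw, smul_zero]
  refine ⟨_, polar_perp_smul hw ((a : F))⁻¹, ?_⟩
  rw [hg, ← sO_smul_left (spt u hu0 hu).2 hw (a : F)⁻¹ (by rw [ha', hu]) (by rw [ha', huw])]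
  exact sO_left_congr _ _ _ _ ha'.symm

theorem conj_mem_Ap {g t : eo Q} {p : SPt Q} (ht : t ∈ Ap p) : g * t * g⁻¹ ∈ Ap (g • p) := by
  obtain ⟨w, hw, ht⟩ := ht
  obtain ⟨u, hu0, hu, rfl⟩ := exists_spt p
  obtain ⟨a, ha⟩ := exists_smul_eq_mk_rep F u hu0
  rw [Units.smul_def] at ha
  rw [smul_spt_eq]
  have hgu : g.1.1 u ≠ 0 := by simpa using hu0
  have huw : polar Q u w = 0 := by
    have h : polar Q (mk F u hu0).rep w = 0 := hw
    rw [← ha, polar_smul_left, smul_eq_mul] at h
    exact (mul_eq_zero.1 h).resolve_left a.ne_zero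
  refine sO_mem_Ap hgu (by rw [g.1.2, hu]) (polar_perp_smul (by rw [polar_oG, huw]) (a : F)) _ ?_
  rw [Subgroup.coe_mul, Subgroup.coe_mul, Subgroup.coe_inv, ht, conj_sO]
  rw [← sO_smul_left (by rw [g.1.2, hu]) (by rw [polar_oG, huw]) (a : F)
    (by rw [map_smul', g.1.2, hu, mul_zero]) (by rw [polar_smul_left, polar_oG, huw, smul_zero])]
  exact sO_left_congr _ _ _ _ (by rw [← map_smul, ha]; rfl)

variable [FiniteDimensional F V] [Finite F] (hQ : (polarBilin Q).Nondegenerate) (hn : 5 ≤ finrank F V)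
include hQ hn

theorem isPretransitive_eo : MulAction.IsPretransitive (eo Q) (SPt Q) where
  exists_smul_eq p q := by
    obtain ⟨e, he0, he, rfl⟩ := exists_spt p
    obtain ⟨e', he0', he', rfl⟩ := exists_spt q
    obtain ⟨g, hg, t, ht, hge⟩ := exists_eo_point hQ (by omega) he0 he he0' he'
    exact ⟨⟨g, hg⟩, by rw [smul_spt_eq, spt_eq_iff]; exact ⟨t, hge.symm⟩⟩

omit [FiniteDimensional F V] [Finite F] hQ hn in
theorem stab_trans_spt {e f f' : V} (he0 : e ≠ 0) (he : Q e = 0) (hf0 : f ≠ 0) (hf : Q f = 0) (hf0' : f' ≠ 0)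
    (hf' : Q f' = 0) (h1 : polar Q e f ≠ 0) (h2 : polar Q e f' ≠ 0) :
    ∃ g : eo Q, g • spt e he0 he = spt e he0 he ∧ g • spt f hf0 hf = spt f' hf0' hf' := by
  obtain ⟨h, hg1, hg2⟩ := sO_partner he (f := (polar Q e f)⁻¹ • f) (f' := (polar Q e f')⁻¹ • f')
    (by rw [map_smul', hf, mul_zero]) (by rw [polar_smul_right, smul_eq_mul, inv_mul_cancel₀ h1])
    (by rw [map_smul', hf', mul_zero]) (by rw [polar_smul_right, smul_eq_mul, inv_mul_cancel₀ h2])
  refine ⟨⟨_, sO_mem_eo he h⟩, ?_, ?_⟩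
  · rw [smul_spt_eq, spt_eq_iff]
    exact ⟨1, by rw [one_smul, hg1]⟩
  · rw [smul_spt_eq, spt_eq_iff]
    rw [map_smul] at hg2
    refine ⟨polar Q e f * (polar Q e f')⁻¹, ?_⟩
    conv_lhs => rw [mul_smul, ← hg2, smul_inv_smul₀ h1]

theorem isPreprimitive_eo : MulAction.IsPreprimitive (eo Q) (SPt Q) := by
  have := isPretransitive_eo hQ hn
  refine { isTrivialBlock_of_isBlock := fun {S} hS => ?_ }
  by_cases hsub : S.Subsingleton
  · exact Or.inl hsub
  right
  obtain ⟨p, hp, q, hq, hpq⟩ := Set.not_subsingleton_iff.1 hsub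
  have hstab : ∀ (g : eo Q) (a : SPt Q), a ∈ S → g • a = a → ∀ b ∈ S, g • b ∈ S := fun g a ha hga b hb => by
    have h : g • S = S := MulAction.isBlock_iff_smul_eq_of_nonempty.1 hS ⟨a, ⟨a, ha, hga⟩, ha⟩
    rw [← h]
    exact Set.smul_mem_smul_set hb
  have step : ∀ (u w r : V) (hu0 : u ≠ 0) (hu : Q u = 0) (hw0 : w ≠ 0) (hw : Q w = 0) (hr0 : r ≠ 0)
      (hr : Q r = 0), spt u hu0 hu ∈ S → spt w hw0 hw ∈ S → polar Q u w ≠ 0 → polar Q u r ≠ 0 →
      spt r hr0 hr ∈ S :=
    fun u w r hu0 hu hw0 hw hr0 hr hu' hw' h1 h2 => by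
      obtain ⟨g, hg1, hg2⟩ := stab_trans_spt hu0 hu hw0 hw hr0 hr h1 h2
      exact hg2 ▸ hstab g _ hu' hg1 _ hw'
  have all_of_pair : ∀ (u w : V) (hu0 : u ≠ 0) (hu : Q u = 0) (hw0 : w ≠ 0) (hw : Q w = 0),
      spt u hu0 hu ∈ S → spt w hw0 hw ∈ S → polar Q u w ≠ 0 → S = Set.univ :=
    fun u w hu0 hu hw0 hw hu' hw' h1 => by
      refine Set.eq_univ_of_forall fun x => ?_
      obtain ⟨r, hr0, hr, rfl⟩ := exists_spt x
      obtain ⟨z, hzz, hzu, hzr⟩ := exists_common hQ (by omega) hu0 hu hr0 hr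
      have hz0 : z ≠ 0 := fun h0 => hzu (by simp [h0, polar])
      exact step z u r hz0 hzz hu0 hu hr0 hr
        (step u w z hu0 hu hw0 hw hz0 hzz hu' hw' h1 (by rwa [polar_comm])) hu' hzu hzr
  obtain ⟨u, hu0, hu, rfl⟩ := exists_spt p
  obtain ⟨w, hw0, hw, rfl⟩ := exists_spt q
  by_cases h1 : polar Q u w = 0
  swap
  · exact all_of_pair u w hu0 hu hw0 hw hp hq h1
  have hnm : w ∉ Submodule.span F {u} := fun h => by
    obtain ⟨a, ha⟩ := Submodule.mem_span_singleton.1 h
    exact hpq ((spt_eq_iff hw0 hw hu0 hu).2 ⟨a, ha⟩).symm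
  obtain ⟨y, hy, hwy⟩ := exists_perp hQ hnm
  set v := y + (-Q y) • w with hv
  have hvv : Q v = 0 := by rw [hv, map_add_smul, hw, polar_comm Q y w, hwy]; ring
  have hvu : polar Q u v = 0 := by
    rw [hv, polar_add_right, hy u (Submodule.mem_span_singleton_self u), polar_smul_right, h1]; simp
  have hvw : polar Q w v = 1 := by rw [hv, polar_add_right, hwy, polar_smul_right, polar_self', hw]; simp
  obtain ⟨b, hub, hvb, hb⟩ : ∃ b, polar Q u b = 0 ∧ polar Q v b = 0 ∧ Q b ≠ 0 := by
    by_contra hc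
    push Not at hc
    have hle := two_mul_finrank_le hQ (W := LinearMap.ker ((polarBilin Q u).prod (polarBilin Q v))) fun x hx => by
      rw [LinearMap.mem_ker] at hx
      exact hc x (congrArg Prod.fst hx) (congrArg Prod.snd hx)
    have h2 := LinearMap.finrank_range_add_finrank_ker ((polarBilin Q u).prod (polarBilin Q v))
    have h3 := Submodule.finrank_le (LinearMap.range ((polarBilin Q u).prod (polarBilin Q v)))
    rw [Module.finrank_prod, Module.finrank_self] at h3
    omega
  let g : eo Q := ⟨sO hvv hvb, sO_mem_eo _ _⟩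
  have hgu : g • spt u hu0 hu = spt u hu0 hu := by
    rw [smul_spt_eq, spt_eq_iff]
    exact ⟨1, by rw [one_smul]; exact (siegel_fix hvv hvb hvu hub).symm⟩
  have hgw := hstab g _ hp hgu _ hq
  rw [smul_spt_eq] at hgw
  refine all_of_pair w (g.1.1 w) hw0 hw _ _ hq hgw ?_
  show polar Q w ((sO hvv hvb).1 w) ≠ 0
  rw [sO_apply, polar_add_right, polar_add_right, polar_add_right, polar_smul_right, polar_smul_right,
    polar_smul_right, polar_self', hw, hvw]
  simp [hb]

/-- An element fixing every singular point is `1` or `-1`. -/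
theorem scalar_of_fix_spt {g : eo Q} (hg : ∀ p : SPt Q, g • p = p) :
    ∃ a : F, a * a = 1 ∧ ∀ x, g.1.1 x = a • x := by
  have key : ∀ u : V, u ≠ 0 → Q u = 0 → ∃ a : F, a • u = g.1.1 u := fun u hu0 hu => by
    have := hg (spt u hu0 hu)
    rwa [smul_spt_eq, spt_eq_iff] at this
  obtain ⟨e, he0, he⟩ := exists_singular Q (by omega)
  obtain ⟨f, hf, hef⟩ := exists_hyp_pair hQ he0 he
  obtain ⟨a, ha⟩ := key e he0 he
  obtain ⟨b, hb⟩ := key f (fun h => by simp [h, polar] at hef) hf
  have hab : a * b = 1 := by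
    have := polar_oG g.1 e f
    rwa [← ha, ← hb, polar_smul_left, polar_smul_right, hef, smul_eq_mul, smul_eq_mul, mul_one] at this
  have hU : ∀ u, polar Q e u = 0 → polar Q f u = 0 → g.1.1 u = a • u ∧ (Q u ≠ 0 → b = a) := fun u heu hfu => by
    have hz : Q (e + (-Q u) • f + u) = 0 := by
      rw [map_add', map_add_smul, he, hf, hef, polar_add_left, polar_smul_left, heu, hfu]; simp
    have hz0 : e + (-Q u) • f + u ≠ 0 := fun h => by
      have := congrArg (polar Q f) h
      rw [polar_add_right, polar_add_right, polar_smul_right, polar_self', hf, hfu, polar_comm Q f e, hef] at this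
      simp [polar] at this
    obtain ⟨c, hc⟩ := key _ hz0 hz
    simp only [map_add, map_smul, ← ha, ← hb] at hc
    have hgeu : polar Q e (g.1.1 u) = 0 ∧ polar Q f (g.1.1 u) = 0 := by
      have h1 := polar_oG g.1 e u
      have h2 := polar_oG g.1 f u
      rw [← ha, polar_smul_left, heu, smul_eq_mul] at h1
      rw [← hb, polar_smul_left, hfu, smul_eq_mul] at h2
      exact ⟨(mul_eq_zero.1 h1).resolve_left (left_ne_zero_of_mul_eq_one hab),
        (mul_eq_zero.1 h2).resolve_left (right_ne_zero_of_mul_eq_one hab)⟩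
    have e1 := congrArg (polar Q f) hc
    have e2 := congrArg (polar Q e) hc
    simp only [polar_add_right, polar_smul_right, smul_eq_mul, polar_self', he, hf, hef, heu, hfu, hgeu.1, hgeu.2,
      polar_comm Q f e, mul_one, mul_zero, add_zero, zero_add] at e1 e2
    refine ⟨?_, fun hu => ?_⟩
    · rw [e1] at hc
      by_cases hu : Q u = 0
      · simp only [hu, neg_zero, zero_smul, add_zero] at hc
        linear_combination (norm := module) -hc
      · have : b = a := mul_left_cancel₀ (neg_ne_zero.2 hu) (by linear_combination -e2 - Q u * e1)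
        rw [this] at hc
        linear_combination (norm := module) -hc
    · exact mul_left_cancel₀ (neg_ne_zero.2 hu) (by linear_combination -e2 - Q u * e1)
  obtain ⟨u₀, h1, h2, h3⟩ := exists_aniso_perp hQ (by omega) he hf hef
  have hba : b = a := (hU u₀ h1 h2).2 h3
  refine ⟨a, by rw [hba] at hab; exact hab, fun x => ?_⟩
  obtain ⟨⟨⟨s, t⟩, u⟩, rfl⟩ := (splitPair he hf hef).symm.surjective x
  have h := mem_perpPair.1 u.2
  show g.1.1 (s • e + t • f + (u : V)) = a • (s • e + t • f + (u : V))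
  rw [map_add, map_add, map_smul, map_smul, (hU _ h.1 h.2).1, ← ha, ← hb, hba]
  module

/-- Central elements fix every singular point. -/
theorem center_fix_spt {z : eo Q} (hz : z ∈ Subgroup.center (eo Q)) (p : SPt Q) : z • p = p := by
  obtain ⟨u, hu0, hu, rfl⟩ := exists_spt p
  have inspan : ∀ r, Q r = 0 → polar Q u r = 0 → r ∉ Submodule.span F {u} →
      ∃ a b : F, a • u + b • r = z.1.1 u := fun r hr hur hmem => by
    have e := congrArg Subtype.val (Subgroup.mem_center_iff.1 hz ⟨sO hu hur, sO_mem_eo hu hur⟩)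
    simp only [Subgroup.coe_mul] at e
    have h1 : z.1 * sO hu hur * z.1⁻¹ = sO hu hur := by rw [← e, mul_inv_cancel_right]
    rw [conj_sO] at h1
    have hS : z.1.1 r ∉ Submodule.span F {z.1.1 u} := fun h => by
      obtain ⟨a, ha⟩ := Submodule.mem_span_singleton.1 h
      rw [← map_smul] at ha
      exact hmem (Submodule.mem_span_singleton.2 ⟨a, z.1.1.injective ha⟩)
    obtain ⟨x, hx, hxr⟩ := exists_perp hQ hS
    have h2 := congrArg (fun g : oG Q => g.1 x) h1
    simp only [sO_apply, polar_comm Q x (z.1.1 u), hx _ (Submodule.mem_span_singleton_self _),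
      polar_comm Q x (z.1.1 r), hxr, mul_zero, neg_zero, zero_smul, one_smul, add_zero] at h2
    refine ⟨polar Q x r + -(Q r * polar Q x u), -polar Q x u, ?_⟩
    linear_combination (norm := module) -h2
  obtain ⟨r, hr, hur, hmem⟩ := exists_second hQ hn hu0 hu
  obtain ⟨a, b, hab⟩ := inspan r hr hur hmem
  rw [smul_spt_eq, spt_eq_iff]
  by_cases hb : b = 0
  · exact ⟨a, by rw [← hab, hb, zero_smul, add_zero]⟩
  obtain ⟨r', hr', hur', hmem'⟩ : ∃ r', Q r' = 0 ∧ polar Q u r' = 0 ∧ r' ∉ Submodule.span F ({u, r} : Set V) := by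
    by_contra hc
    push Not at hc
    have hle : LinearMap.ker (polarBilin Q u) ≤ Submodule.span F ({u, r} : Set V) := fun w hw =>
      perp_induction hQ hr hur hmem (fun w => w ∈ Submodule.span F ({u, r} : Set V))
        (fun a b _ _ ha hb => add_mem ha hb) hc hw
    have h1 := Submodule.finrank_mono hle
    have h2 := LinearMap.finrank_range_add_finrank_ker (polarBilin Q u)
    have h3 := Submodule.finrank_le (LinearMap.range (polarBilin Q u))
    rw [Module.finrank_self] at h3
    classical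
    have h4 := finrank_span_le_card (R := F) ({u, r} : Set V)
    rw [Set.toFinset_insert, Set.toFinset_singleton] at h4
    have := (Finset.card_le_two (a := u) (b := r))
    omega
  obtain ⟨a', b', hab'⟩ := inspan r' hr' hur' fun h =>
    hmem' (Submodule.span_mono (by simp) h)
  exfalso
  by_cases hb' : b' = 0
  · refine hmem (Submodule.mem_span_singleton.2 ⟨b⁻¹ * (a' - a), ?_⟩)
    rw [hb', zero_smul, add_zero, ← hab] at hab'
    rw [mul_smul, inv_smul_eq_iff₀ hb]
    linear_combination (norm := module) hab'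
  · refine hmem' (Submodule.mem_span_pair.2 ⟨b'⁻¹ * (a - a'), b'⁻¹ * b, ?_⟩)
    rw [← hab'] at hab
    rw [mul_smul, mul_smul, ← smul_add, inv_smul_eq_iff₀ hb']
    linear_combination (norm := module) hab

theorem isSimpleGroup_eo_quot : IsSimpleGroup (eo Q ⧸ Subgroup.center (eo Q)) := by
  have hker : Subgroup.center (eo Q) ≤ (MulAction.toPermHom (eo Q) (SPt Q)).ker := fun g hg => by
    rw [MonoidHom.mem_ker]
    ext p
    exact center_fix_spt hQ hn hg p
  let : MulAction (eo Q ⧸ Subgroup.center (eo Q)) (SPt Q) :=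
    MulAction.compHom _ (QuotientGroup.lift _ _ hker)
  have hsm : ∀ (g : eo Q) (p : SPt Q), (g : eo Q ⧸ Subgroup.center (eo Q)) • p = g • p := fun _ _ => rfl
  have hfaith : FaithfulSMul (eo Q ⧸ Subgroup.center (eo Q)) (SPt Q) := by
    refine faithfulSMul_iff.2 fun x hx => ?_
    obtain ⟨g, rfl⟩ := QuotientGroup.mk_surjective x
    obtain ⟨a, -, ha⟩ := scalar_of_fix_spt hQ hn (g := g) fun p => by rw [← hsm]; exact hx p
    refine (QuotientGroup.eq_one_iff _).2 (Subgroup.mem_center_iff.2 fun k => Subtype.ext (ext_oG fun v => ?_))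
    simp only [Subgroup.coe_mul, LinearEquiv.mul_apply, ha, map_smul]
  have := isPreprimitive_eo hQ hn
  have : MulAction.IsPreprimitive (eo Q ⧸ Subgroup.center (eo Q)) (SPt Q) :=
    MulAction.IsPreprimitive.of_surjective (φ := fun g : eo Q => (g : eo Q ⧸ Subgroup.center (eo Q)))
      (f := { toFun := id, map_smul' := fun _ _ => rfl }) Function.surjective_id
  have : Nontrivial (eo Q ⧸ Subgroup.center (eo Q)) := by
    obtain ⟨e, he0, he⟩ := exists_singular Q (by omega)
    obtain ⟨f, hf, hef⟩ := exists_hyp_pair hQ he0 he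
    have hf0 : f ≠ 0 := fun h0 => by simp [h0, polar] at hef
    obtain ⟨g, hg⟩ := MulAction.exists_smul_eq (eo Q) (spt e he0 he) (spt f hf0 hf)
    refine ⟨⟨g, 1, fun h1 => ?_⟩⟩
    rw [center_fix_spt hQ hn ((QuotientGroup.eq_one_iff _).1 h1), spt_eq_iff] at hg
    obtain ⟨a, rfl⟩ := hg
    rw [polar_smul_left, polar_self', hf] at hef
    simp at hef
  have hgen : ∀ H : Subgroup (eo Q),
      (∀ (p w : V) (hp : Q p = 0) (hpw : polar Q p w = 0), (⟨sO hp hpw, sO_mem_eo hp hpw⟩ : eo Q) ∈ H) →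
      H = ⊤ := fun H hH => by
    rw [eq_top_iff]
    rintro ⟨g, hg⟩ -
    suffices eo Q ≤ H.map (eo Q).subtype by
      obtain ⟨x, hx, hxg⟩ := this hg
      exact (Subtype.ext hxg : x = ⟨g, hg⟩) ▸ hx
    refine (Subgroup.closure_le _).2 ?_
    rintro _ ⟨p, w, hp, hpw, rfl⟩
    exact ⟨_, hH p w hp hpw, rfl⟩
  have hperf : commutator (eo Q) = ⊤ := by
    refine eq_top_iff.2 ?_
    rintro ⟨g, hg⟩ -
    have h := eo_le_commutator_eo hQ hn hg
    rw [← Subgroup.map_subtype_commutator] at h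
    obtain ⟨x, hx, hxg⟩ := h
    exact (Subtype.ext hxg : x = ⟨g, hg⟩) ▸ hx
  let S : MulAction.IwasawaStructure (eo Q ⧸ Subgroup.center (eo Q)) (SPt Q) :=
    { T := fun p => (Ap p).map (QuotientGroup.mk' _)
      is_comm := fun p => by
        refine ⟨⟨?_⟩⟩
        rintro ⟨_, a, ⟨w, hw, ha⟩, rfl⟩ ⟨_, b, ⟨w', hw', hb⟩, rfl⟩
        refine Subtype.ext ?_
        simp only [Subgroup.coe_mul]
        rw [← map_mul, ← map_mul]
        congr 1
        refine Subtype.ext ?_
        simp only [Subgroup.coe_mul, ha, hb, sO_mul]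
        exact sO_congr _ _ _ (add_comm w w')
      is_conj := fun x p => by
        obtain ⟨g, rfl⟩ := QuotientGroup.mk_surjective x
        rw [hsm]
        ext y
        rw [Subgroup.mem_pointwise_smul_iff_inv_smul_mem]
        simp only [Subgroup.mem_map, MulAut.smul_def, MulAut.inv_apply, MulAut.conj_symm_apply]
        constructor
        · rintro ⟨t, ht, rfl⟩
          refine ⟨g⁻¹ * t * g, ?_, by simp [map_mul]⟩
          have := conj_mem_Ap (g := g⁻¹) ht
          rwa [inv_inv, inv_smul_smul] at this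
        · rintro ⟨t, ht, hy⟩
          refine ⟨g * t * g⁻¹, conj_mem_Ap ht, ?_⟩
          rw [map_mul, map_mul, map_inv, hy]
          simp [mul_assoc]
      is_generator := by
        rw [← Subgroup.map_iSup]
        suffices hs : (⨆ p : SPt Q, Ap p) = ⊤ by
          rw [hs]; exact Subgroup.map_top_of_surjective _ (QuotientGroup.mk'_surjective _)
        refine hgen _ fun p w hp hpw => ?_
        by_cases hp0 : p = 0
        · have : (⟨sO hp hpw, sO_mem_eo hp hpw⟩ : eo Q) = 1 :=
            Subtype.ext (ext_oG fun x => by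
              show (sO hp hpw).1 x = x
              rw [sO_apply, hp0]; simp [polar])
          exact this ▸ one_mem _
        exact Subgroup.mem_iSup_of_mem (spt p hp0 hp) (sO_mem_Ap hp0 hp hpw _ rfl) }
  refine MulAction.IwasawaStructure.isSimpleGroup ?_ S hfaith
  rw [eq_top_iff, ← Subgroup.map_top_of_surjective (QuotientGroup.mk' (Subgroup.center (eo Q)))
    (QuotientGroup.mk'_surjective _), ← hperf, commutator_def, Subgroup.map_commutator]
  exact Subgroup.commutator_mono le_top le_top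

/-- The centre consists of the identity and, when it belongs to the group, minus the identity. -/
theorem card_center_eo :
    (((∃ g : eo Q, ∀ x, g.1.1 x = -x) ∧ (2 : F) ≠ 0) → Nat.card (Subgroup.center (eo Q)) = 2) ∧
    ((¬ (∃ g : eo Q, ∀ x, g.1.1 x = -x) ∨ (2 : F) = 0) → Nat.card (Subgroup.center (eo Q)) = 1) := by
  have hscal : ∀ z ∈ Subgroup.center (eo Q), z = 1 ∨ ∀ x, z.1.1 x = -x := fun z hz => by
    obtain ⟨a, ha, hax⟩ := scalar_of_fix_spt hQ hn (g := z) (center_fix_spt hQ hn hz)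
    rcases mul_self_eq_one_iff.1 ha with rfl | rfl
    · exact Or.inl (Subtype.ext (ext_oG fun x => by rw [hax, one_smul]; rfl))
    · exact Or.inr fun x => by rw [hax, neg_one_smul]
  have : Nontrivial V := Module.nontrivial_of_finrank_pos (R := F) (M := V) (by omega)
  obtain ⟨x₀, hx₀⟩ := exists_ne (0 : V)
  constructor
  · rintro ⟨⟨g, hg⟩, h2⟩
    have hgc : g ∈ Subgroup.center (eo Q) := Subgroup.mem_center_iff.2 fun k => Subtype.ext (ext_oG fun x => by
      simp only [Subgroup.coe_mul, LinearEquiv.mul_apply, hg, map_neg])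
    rw [Nat.card_eq_two_iff' (⟨1, one_mem _⟩ : Subgroup.center (eo Q))]
    refine ⟨⟨g, hgc⟩, fun h => ?_, ?_⟩
    · have h1 : g = 1 := congrArg Subtype.val h
      have := hg x₀
      rw [h1] at this
      have h0 : (2 : F) • x₀ = 0 := by
        rw [two_smul]
        exact eq_neg_iff_add_eq_zero.1 this
      exact hx₀ ((smul_eq_zero.1 h0).resolve_left h2)
    · rintro ⟨z, hz⟩ hne
      refine Subtype.ext (Subtype.ext (ext_oG fun x => ?_))
      rcases hscal z hz with rfl | h
      · exact absurd rfl hne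
      · rw [h, hg]
  · intro h
    rw [Nat.card_eq_one_iff_unique]
    refine ⟨⟨fun a b => ?_⟩, ⟨1⟩⟩
    suffices ∀ z : Subgroup.center (eo Q), z = 1 from (this a).trans (this b).symm
    rintro ⟨z, hz⟩
    refine Subtype.ext ?_
    rcases hscal z hz with h1 | h1
    · exact h1
    · refine Subtype.ext (ext_oG fun x => ?_)
      rcases h with h | h
      · exact absurd ⟨z, h1⟩ h
      · rw [h1]
        show -x = x
        rw [neg_eq_iff_add_eq_zero, ← two_smul F x, h, zero_smul]

end Cfsg.Agent.Classical.Quad
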