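import Mathlib
import Cfsg.Agent.Classical.OrthSimple
import Cfsg.Agent.Classical.OrthMat
import Cfsg.Agent.Classical.QuadStd

/-!
`Cfsg.POmega` in terms of the group generated by Siegel transformations: simplicity and order; root elements;
the subgroup generated by the reflections of one norm class.
-/

set_option autoImplicit false

namespace Cfsg.Agent.Classical.Quad

open Module QuadraticMap
open scoped commutatorElement

section matrix

variable {F : Type*} [Field F] [Finite F] {ι : Type} [Fintype ι] [DecidableEq ι] {Q : QuadraticForm F (ι → F)}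
  (hQ : (polarBilin Q).Nondegenerate) (hn : 5 ≤ finrank F (ι → F))
include hQ hn

theorem omega_map_eq : (Cfsg.Omega F ⇑Q).map (oEquiv Q).toMonoidHom = eo Q := by
  rw [eo_eq_commutator hQ (by omega) (Or.inr (by omega))]
  ext x
  constructor
  · rintro ⟨g, hg, rfl⟩
    exact (mem_omega_iff g).1 hg
  · intro hx
    exact ⟨(oEquiv Q).symm x, (mem_omega_iff _).2 (by rwa [MulEquiv.apply_symm_apply]),
      (oEquiv Q).apply_symm_apply x⟩

/-- The commutator subgroup as the group generated by Siegel transformations. -/
noncomputable def omegaEquiv : Cfsg.Omega F ⇑Q ≃* eo Q :=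
  ((oEquiv Q).subgroupMap (Cfsg.Omega F ⇑Q)).trans (MulEquiv.subgroupCongr (omega_map_eq hQ hn))

theorem omegaEquiv_apply (g : Cfsg.Omega F ⇑Q) (x : ι → F) :
    (omegaEquiv hQ hn g).1.1 x = (((g : Cfsg.isometryGroup F ⇑Q) : GL ι F) : Matrix ι ι F).mulVec x := rfl

theorem map_center_omega :
    (Subgroup.center (Cfsg.Omega F ⇑Q)).map (omegaEquiv hQ hn).toMonoidHom = Subgroup.center (eo Q) := by
  ext x
  constructor
  · rintro ⟨g, hg, rfl⟩
    refine Subgroup.mem_center_iff.2 fun k => ?_
    obtain ⟨k, rfl⟩ := (omegaEquiv hQ hn).surjective k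
    show omegaEquiv hQ hn k * omegaEquiv hQ hn g = omegaEquiv hQ hn g * omegaEquiv hQ hn k
    rw [← map_mul, ← map_mul, Subgroup.mem_center_iff.1 hg k]
  · intro hx
    refine ⟨(omegaEquiv hQ hn).symm x, Subgroup.mem_center_iff.2 fun k => (omegaEquiv hQ hn).injective ?_,
      (omegaEquiv hQ hn).apply_symm_apply x⟩
    rw [map_mul, map_mul, MulEquiv.apply_symm_apply]
    exact Subgroup.mem_center_iff.1 hx _

theorem isSimpleGroup_pomega : IsSimpleGroup (Cfsg.POmega F ⇑Q) := by
  have := isSimpleGroup_eo_quot hQ hn
  exact MulEquiv.isSimpleGroup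
    (QuotientGroup.congr _ _ (omegaEquiv hQ hn) (map_center_omega hQ hn))

theorem card_center_omega :
    (((∃ g : Cfsg.isometryGroup F ⇑Q, g ∈ Cfsg.Omega F ⇑Q ∧ ((g : GL ι F) : Matrix ι ι F) = -1) ∧ (2 : F) ≠ 0) →
      Nat.card (Subgroup.center (Cfsg.Omega F ⇑Q)) = 2) ∧
    ((¬ (∃ g : Cfsg.isometryGroup F ⇑Q, g ∈ Cfsg.Omega F ⇑Q ∧ ((g : GL ι F) : Matrix ι ι F) = -1) ∨ (2 : F) = 0) →
      Nat.card (Subgroup.center (Cfsg.Omega F ⇑Q)) = 1) := by
  have e : Nat.card (Subgroup.center (Cfsg.Omega F ⇑Q)) = Nat.card (Subgroup.center (eo Q)) := by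
    rw [← map_center_omega hQ hn]
    exact (Nat.card_congr ((omegaEquiv hQ hn).subgroupMap _).toEquiv)
  have iffneg : (∃ g : Cfsg.isometryGroup F ⇑Q, g ∈ Cfsg.Omega F ⇑Q ∧ ((g : GL ι F) : Matrix ι ι F) = -1) ↔
      ∃ g : eo Q, ∀ x, g.1.1 x = -x := by
    constructor
    · rintro ⟨g, hg, hg1⟩
      exact ⟨omegaEquiv hQ hn ⟨g, hg⟩, fun x => by
        rw [omegaEquiv_apply, hg1, Matrix.neg_mulVec, Matrix.one_mulVec]⟩
    · rintro ⟨g, hg⟩
      obtain ⟨h, rfl⟩ := (omegaEquiv hQ hn).surjective g
      refine ⟨h.1, h.2, Matrix.ext_of_mulVec_single fun i => ?_⟩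
      rw [← omegaEquiv_apply hQ hn h, hg, Matrix.neg_mulVec, Matrix.one_mulVec]
  rw [e, iffneg]
  exact card_center_eo hQ hn

omit hQ hn in
theorem card_pomega_mul :
    (Cfsg.Omega F ⇑Q).index * (Nat.card (Cfsg.POmega F ⇑Q) * Nat.card (Subgroup.center (Cfsg.Omega F ⇑Q))) =
      Nat.card (Cfsg.isometryGroup F ⇑Q) := by
  rw [← Subgroup.card_eq_card_quotient_mul_card_subgroup, Subgroup.index_mul_card]

end matrix

section abstract

variable {F V : Type*} [Field F] [AddCommGroup V] [Module F V] {Q : QuadraticForm F V}

/-- For odd characteristic a long root element is a commutator. -/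
theorem sO_singular_mem_commutatorSet (hQ : (polarBilin Q).Nondegenerate) [FiniteDimensional F V]
    (h2 : (2 : F) ≠ 0) {p w : V} (hp : Q p = 0) (hpw : polar Q p w = 0) (hw : Q w = 0) :
    sO hp hpw ∈ commutatorSet (oG Q) := by
  by_cases hmem : w ∈ Submodule.span F {p}
  · obtain ⟨t, rfl⟩ := Submodule.mem_span_singleton.1 hmem
    exact mem_commutatorSet_iff.2 ⟨1, 1, by rw [sO_smul_self]; simp⟩
  obtain ⟨y, hy, hwy⟩ := exists_perp hQ hmem
  have hpy := hy p (Submodule.mem_span_singleton_self p)
  have hg : Q (y + (-Q y) • w) = 0 := by rw [map_add_smul, hw, polar_comm Q y w, hwy]; ring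
  have hwg : polar Q w (y + (-Q y) • w) = 1 := by
    rw [polar_add_right, hwy, polar_smul_right, polar_self', hw]; simp
  have hpg : polar Q p (y + (-Q y) • w) = 0 := polar_perp_add hpy (polar_perp_smul hpw _)
  let h : oG Q := ⟨hypScale hw hg hwg h2, hypScale_mem hw hg hwg h2⟩
  have hhp : h.1 p = p := by
    show hypScale hw hg hwg h2 p = p
    rw [hypScale_apply, hpg, hpw]; simp
  have hhw : h.1 w = w + w := by
    show hypScale hw hg hwg h2 w = w + w
    rw [hypScale_apply, hwg, polar_self', hw]
    norm_num
  refine ⟨h, sO hp hpw, ?_⟩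
  rw [commutatorElement_def, conj_sO, sO_inv, sO_left_congr _ _ hp (by rw [hhw]; exact polar_perp_add hpw hpw) hhp,
    sO_mul]
  exact sO_congr _ _ _ (by rw [hhw, add_neg_cancel_right])

variable [FiniteDimensional F V] [Finite F]

/-- The commutator subgroup is generated by long root elements in dimension at least five. -/
theorem commutator_eq_closure_root (hQ : (polarBilin Q).Nondegenerate) (hn : 5 ≤ finrank F V) :
    commutator (oG Q) = Subgroup.closure
      {g | ∃ (p w : V) (hp : Q p = 0) (hpw : polar Q p w = 0), Q w = 0 ∧ g = sO hp hpw} := by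
  rw [← eo_eq_commutator hQ (by omega) (Or.inr (by omega))]
  refine le_antisymm ((Subgroup.closure_le _).2 ?_) (Subgroup.closure_mono ?_)
  · rintro _ ⟨p, w, hp, hpw, rfl⟩
    exact sO_mem_of_singular hQ hn _ (fun p w hp hpw hw => by exact Subgroup.subset_closure ⟨p, w, hp, hpw, hw, rfl⟩) hp hpw
  · rintro _ ⟨p, w, hp, hpw, -, rfl⟩
    exact ⟨p, w, hp, hpw, rfl⟩

/-- An isometry moving space along a line only is a reflection. -/
theorem exists_eq_rO {h : oG Q} (hQ : (polarBilin Q).Nondegenerate)
    (hk : finrank F (fixSub h) + 1 = finrank F V) : ∃ (v : V) (hv : Q v ≠ 0), h = rO hv := by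
  let T : V →ₗ[F] V := (h.1 : V →ₗ[F] V) - LinearMap.id
  have hker : LinearMap.ker T = fixSub h := by
    ext x
    rw [LinearMap.mem_ker, mem_fixSub]
    exact sub_eq_zero
  have hr := LinearMap.finrank_range_add_finrank_ker T
  rw [hker] at hr
  obtain ⟨⟨w, hwR⟩, hw0, hspan⟩ := finrank_eq_one_iff'.1 (show finrank F (LinearMap.range T) = 1 by omega)
  have key : ∀ y, ∃ c : F, h.1 y = y + c • w := fun y => by
    obtain ⟨c, hc⟩ := hspan ⟨T y, LinearMap.mem_range_self T y⟩
    refine ⟨c, ?_⟩
    have : c • w = h.1 y - y := congrArg Subtype.val hc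
    rw [this]; abel
  have hw : w ≠ 0 := fun h0 => hw0 (Subtype.ext h0)
  have eqn : ∀ y c, h.1 y = y + c • w → c = 0 ∨ polar Q y w + c * Q w = 0 := fun y c hc => by
    have h1 := h.2 y
    rw [hc, map_add_smul] at h1
    exact mul_eq_zero.1 (by linear_combination h1)
  obtain ⟨z, cz, hcz0, hcz⟩ : ∃ (z : V) (c : F), c ≠ 0 ∧ h.1 z = z + c • w := by
    obtain ⟨z, hz⟩ := hwR
    exact ⟨z, 1, one_ne_zero, by rw [one_smul, ← hz]; simp [T]⟩
  have hQw : Q w ≠ 0 := fun h0 => by
    have only : ∀ (y : V) (c : F), h.1 y = y + c • w → c = 0 ∨ polar Q y w = 0 := fun y c hc => by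
      have := eqn y c hc
      rwa [h0, mul_zero, add_zero] at this
    obtain ⟨y, hy⟩ : ∃ y, polar Q y w ≠ 0 := by
      by_contra hc
      push Not at hc
      exact hw (eq_zero_of_polar hQ fun y => by rw [polar_comm]; exact hc y)
    obtain ⟨c, hc⟩ := key y
    have hc0 := (only y c hc).resolve_right hy
    have hsum : h.1 (y + z) = (y + z) + cz • w := by rw [map_add, hc, hcz, hc0, zero_smul]; abel
    have h1 := (only _ _ hsum).resolve_left hcz0
    rw [polar_add_left, (only _ _ hcz).resolve_left hcz0, add_zero] at h1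
    exact hy h1
  refine ⟨w, hQw, ext_oG fun y => ?_⟩
  obtain ⟨c, hc⟩ := key y
  have val : polar Q y w + c * Q w = 0 := by
    rcases eqn y c hc with h0 | h0
    · -- a fixed vector is orthogonal to the line
      have h1 := polar_oG h z y
      rw [hcz, hc, h0, zero_smul, add_zero, polar_add_left, polar_smul_left, smul_eq_mul] at h1
      have h2 : cz * polar Q w y = 0 := by linear_combination h1
      rw [h0, polar_comm, (mul_eq_zero.1 h2).resolve_left hcz0]; ring
    · exact h0
  rw [hc, rO_apply, show polar Q y w / Q w = -c by rw [div_eq_iff hQw]; linear_combination val]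
  module

/-- The reflections of a fixed square class generate the kernel of one character. -/
theorem index_closure_class [Finite V] (hQ : (polarBilin Q).Nondegenerate) (h2 : (2 : F) ≠ 0)
    (hn : 2 ≤ finrank F V) (hev : Even (finrank F V)) (h43 : ¬ (finrank F V = 4 ∧ Nat.card F = 3)) {c : F}
    (hc : c ≠ 0) :
    (Subgroup.closure {g | ∃ (v : V) (hv : Q v ≠ 0), (∃ t : F, t ≠ 0 ∧ Q v = c * t ^ 2) ∧ g = rO hv}).index = 2 := by
  set N := Subgroup.closure {g | ∃ (v : V) (hv : Q v ≠ 0), (∃ t : F, t ≠ 0 ∧ Q v = c * t ^ 2) ∧ g = rO hv} with hN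
  have hgenN : ∀ (v : V) (hv : Q v ≠ 0), (∃ t : F, t ≠ 0 ∧ Q v = c * t ^ 2) → rO hv ∈ N :=
    fun v hv h => Subgroup.subset_closure ⟨v, hv, h, rfl⟩
  have : N.Normal := by
    refine ⟨fun x hx k => ?_⟩
    suffices N.map (MulAut.conj k).toMonoidHom ≤ N from this ⟨x, hx, rfl⟩
    rw [hN, MonoidHom.map_closure, Subgroup.closure_le]
    rintro _ ⟨_, ⟨v, hv, ht, rfl⟩, rfl⟩
    show k * rO hv * k⁻¹ ∈ N
    rw [conj_rO]
    exact hgenN _ _ (by rw [k.2]; exact ht)
  obtain ⟨v₁, hv₁⟩ := exists_value hQ h2 hn hc
  have hv₁' : Q v₁ ≠ 0 := by rwa [hv₁]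
  have hv₁N := hgenN v₁ hv₁' ⟨1, one_ne_zero, by rw [hv₁]; ring⟩
  have hex := hex_of_two h2 (finrank F V)
  have : NeZero (2 : F) := ⟨h2⟩
  -- the commutator subgroup lies inside
  have hcomm : commutator (oG Q) ≤ N := by
    by_cases h3 : 3 ≤ finrank F V
    · have h4 : 4 ≤ finrank F V := by obtain ⟨k, hk⟩ := hev; omega
      refine (commutator_le_eo hQ h3).trans ((Subgroup.closure_le _).2 ?_)
      rintro _ ⟨p, w, hp, hpw, rfl⟩
      by_cases hp0 : p = 0
      · have e : sO hp hpw = 1 := ext_oG fun x => by rw [sO_apply, oG_one_apply, hp0]; simp [polar]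
        exact e ▸ one_mem _
      -- the set of parameters inside
      let S : Submodule F V := Submodule.span F {v | polar Q p v = 0 ∧ ∃ t : F, t ≠ 0 ∧ Q v = c * t ^ 2}
      have hS : ∀ v ∈ S, ∀ (a : F), ∀ h : polar Q p (a • v) = 0, sO hp h ∈ N := by
        intro v hv
        induction hv using Submodule.span_induction with
        | mem v hv =>
          obtain ⟨hpv, t, ht, hQv⟩ := hv
          intro a h
          have hv' : Q v ≠ 0 := by rw [hQv]; exact mul_ne_zero hc (pow_ne_zero 2 ht)
          have hr := hgenN v hv' ⟨t, ht, hQv⟩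
          have hsv : polar Q p ((a / 2) • v) = 0 := polar_perp_smul hpv _
          have hmem : sO hp hsv * rO hv' * (sO hp hsv)⁻¹ * (rO hv')⁻¹ ∈ N :=
            mul_mem (Subgroup.Normal.conj_mem ‹_› _ hr _) (inv_mem hr)
          have e1 : rO hv' * (sO hp hsv)⁻¹ * (rO hv')⁻¹ = sO hp hsv := by
            have hrp : (rO hv').1 p = p := refl_fix hv' hpv
            have hrv : (rO hv').1 v = -v := refl_neg hv'
            rw [sO_inv, conj_sO, sO_left_congr _ _ hp (by rw [map_neg, map_smul, hrv, polar_neg_right, polar_smul_right, polar_neg_right, hpv]; simp) hrp]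
            exact sO_congr _ _ _ (by rw [map_neg, map_smul, hrv, smul_neg, neg_neg])
          rw [mul_assoc, mul_assoc, ← mul_assoc (rO hv'), e1, sO_mul] at hmem
          rwa [sO_congr _ _ h (by rw [← add_smul, add_halves])] at hmem
        | zero =>
          intro a h
          exact (sO_congr hp h (by simp [polar]) (smul_zero a)).trans (sO_zero hp _) ▸ one_mem _
        | add x y hx hy ihx ihy =>
          intro a h
          have hperp : ∀ z ∈ S, polar Q p z = 0 := fun z hz =>
            (Submodule.span_le (p := LinearMap.ker (polarBilin Q p))).2 (fun v hv => hv.1) hz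
          have h1 := polar_perp_smul (hperp x hx) a
          have h2 := polar_perp_smul (hperp y hy) a
          rw [sO_congr hp h (polar_perp_add h1 h2) (smul_add a x y), ← sO_mul hp h1 h2]
          exact mul_mem (ihx a h1) (ihy a h2)
        | smul b x hx ih =>
          intro a h
          rw [sO_congr hp h (by rwa [← smul_smul] ) (smul_smul a b x)]
          exact ih (a * b) _
      suffices w ∈ S by
        have hw1 : polar Q p ((1 : F) • w) = 0 := by rw [one_smul]; exact hpw
        have := hS w this 1 hw1
        rwa [sO_congr hp hw1 hpw (one_smul F w)] at this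
      -- the span is everything
      obtain ⟨f, hf, hpf⟩ := exists_hyp_pair hQ hp0 hp
      have hR := nondeg_restrictPair hQ hp hf hpf
      have hdim := finrank_perpPair hp hf hpf
      obtain ⟨u₁, hu₁⟩ := exists_value hR h2 (by omega) hc
      have hu₁' := mem_perpPair.1 u₁.2
      have hqu : Q (u₁ : V) = c := hu₁
      have hu₁S : (u₁ : V) ∈ S := Submodule.subset_span ⟨hu₁'.1, 1, one_ne_zero, by rw [hqu]; ring⟩
      have conic : ∀ y : V, polar Q p y = 0 →
          ((∀ k : F, k ≠ polar Q (u₁ : V) y / (2 * c) → Q y - polar Q (u₁ : V) y * k + c * k ^ 2 = 0) → False) →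
          y ∈ S := fun y hy hne => by
        have hex : ∃ k : F, k ≠ polar Q (u₁ : V) y / (2 * c) ∧ Q y - polar Q (u₁ : V) y * k + c * k ^ 2 ≠ 0 := by
          by_contra h
          push Not at h
          exact hne h
        obtain ⟨k, hk1, hk2⟩ := hex
        set B := polar Q (u₁ : V) y
        set s := B - 2 * c * k with hs
        have hs0 : s ≠ 0 := fun h0 => hk1 (by
          rw [eq_div_iff (mul_ne_zero h2 hc)]; linear_combination -h0)
        have hmem : (-(Q y - c * k ^ 2)) • (u₁ : V) + s • y ∈ S := Submodule.subset_span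
          ⟨polar_perp_add (polar_perp_smul hu₁'.1 _) (polar_perp_smul hy s),
            -(Q y - B * k + c * k ^ 2), neg_ne_zero.2 hk2, by
              rw [map_add', map_smul', map_smul', polar_smul_left, polar_smul_right, hqu, hs]
              simp only [smul_eq_mul]
              ring⟩
        have := S.smul_mem s⁻¹ (S.sub_mem hmem (S.smul_mem (-(Q y - c * k ^ 2)) hu₁S))
        rwa [add_sub_cancel_left, inv_smul_smul₀ hs0] at this
      by_cases hq : Nat.card F = 3
      swap
      · refine conic w hpw fun hall => ?_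
        classical
        have := Fintype.ofFinite F
        set k₀ := polar Q (u₁ : V) w / (2 * c)
        obtain ⟨k₁, hk₁⟩ : ∃ k₁ : F, k₁ ≠ k₀ := exists_ne k₀
        have hsum : ∀ k, k ≠ k₀ → k = k₁ ∨ k + k₁ = polar Q (u₁ : V) w / c := fun k hk => by
          have e : c * (k - k₁) * ((k + k₁) - polar Q (u₁ : V) w / c) = 0 := by
            have h1 := hall k hk
            have h2 := hall k₁ hk₁
            field_simp
            linear_combination h1 - h2
          rcases mul_eq_zero.1 e with e | e
          · exact Or.inl (sub_eq_zero.1 ((mul_eq_zero.1 e).resolve_left hc))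
          · exact Or.inr (sub_eq_zero.1 e)
        have hle : (Finset.univ : Finset F).card ≤ ({k₀, k₁, polar Q (u₁ : V) w / c - k₁} : Finset F).card :=
          Finset.card_le_card fun k _ => by
            by_cases hk : k = k₀
            · simp [hk]
            · rcases hsum k hk with h | h
              · simp [h]
              · simp [eq_sub_of_add_eq h]
        rw [Finset.card_univ, ← Nat.card_eq_fintype_card] at hle
        have h3' := hle.trans Finset.card_le_three
        have hodd : Nat.card F ≠ 2 := (hex_of_two h2 4).resolve_right (not_not.2 rfl)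
        have := Finite.one_lt_card (α := F)
        omega
      · -- three elements
        have h6 : 6 ≤ finrank F V := by
          obtain ⟨k, hk⟩ := hev
          have : finrank F V ≠ 4 := fun h => h43 ⟨h, hq⟩
          omega
        have h3eq : (3 : F) = 0 := by
          have := Fintype.ofFinite F
          rw [Nat.card_eq_fintype_card] at hq
          have := FiniteField.cast_card_eq_zero F
          rw [hq] at this
          exact_mod_cast this
        -- vectors orthogonal to the first one
        have good : ∀ y : V, polar Q p y = 0 → polar Q (u₁ : V) y = 0 → Q y ≠ -c → y ∈ S := fun y hy huy hne =>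
          conic y hy fun hall => hne (by
            have := hall 1 (by rw [huy, zero_div]; exact one_ne_zero)
            rw [huy] at this
            linear_combination this)
        have perp : ∀ y : V, polar Q p y = 0 → polar Q (u₁ : V) y = 0 → y ∈ S := fun y hy huy => by
          by_cases hne : Q y = -c
          swap
          · exact good y hy huy hne
          obtain ⟨z, hpz, huz, hyz, hz⟩ : ∃ z, polar Q p z = 0 ∧ polar Q (u₁ : V) z = 0 ∧ polar Q y z = 0 ∧
              Q z = -c := by
            have hyp : Q (y + (-polar Q f y) • p) = -c := by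
              rw [map_add_smul, hp, polar_comm Q y p, hy, hne]; ring
            let y₁ : perpPair Q p f := ⟨y + (-polar Q f y) • p, mem_perpPair.2
              ⟨polar_perp_add hy (by rw [polar_smul_right, polar_self', hp]; simp), by
                rw [polar_add_right, polar_smul_right, polar_comm Q f p, hpf]; simp⟩⟩
            let W : Submodule F (perpPair Q p f) := LinearMap.ker
              ((polarBilin (restrictPair Q p f) u₁).prod (polarBilin (restrictPair Q p f) y₁))
            have hW : ∀ x : perpPair Q p f, x ∈ W ↔ polar (restrictPair Q p f) u₁ x = 0 ∧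
                polar (restrictPair Q p f) y₁ x = 0 := fun x => by
              simp [W, LinearMap.mem_ker, Prod.ext_iff]
            have hqR : ∀ x, restrictPair Q p f x = Q (x : V) := fun _ => rfl
            have hpR : ∀ x x' : perpPair Q p f, polar (restrictPair Q p f) x x' = polar Q (x : V) x' := fun _ _ => rfl
            have huy₁ : polar (restrictPair Q p f) u₁ y₁ = 0 := by
              rw [hpR]
              show polar Q (u₁ : V) (y + (-polar Q f y) • p) = 0
              rw [polar_add_right, huy, polar_smul_right, polar_comm Q (u₁ : V) p, hu₁'.1]; simp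
            have hnd : (polarBilin ((restrictPair Q p f).comp W.subtype)).Nondegenerate := nondeg_of fun x hx =>
              Subtype.ext (eq_zero_of_polar hR fun z => by
                have hx' := (hW x).1 x.2
                set z' := z - (polar (restrictPair Q p f) u₁ z / (2 * c)) • u₁ -
                  (polar (restrictPair Q p f) y₁ z / (2 * -c)) • y₁
                have hu2 : polar (restrictPair Q p f) u₁ u₁ = 2 * c := by rw [polar_self', hu₁]
                have hy2 : polar (restrictPair Q p f) y₁ y₁ = 2 * -c := by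
                  rw [polar_self', hqR]; exact congrArg (2 * ·) hyp
                have hz' : z' ∈ W := (hW _).2 ⟨by
                  simp only [z', polar_sub_right, polar_smul_right, hu2, huy₁, smul_eq_mul, mul_zero, sub_zero]
                  rw [div_mul_cancel₀ _ (mul_ne_zero h2 hc), sub_self], by
                  simp only [z', polar_sub_right, polar_smul_right, hy2, polar_comm (restrictPair Q p f) y₁ u₁, huy₁,
                    smul_eq_mul, mul_zero, sub_zero]
                  rw [div_mul_cancel₀ _ (mul_ne_zero h2 (neg_ne_zero.2 hc)), sub_self]⟩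
                have h0 : polar (restrictPair Q p f) (x : perpPair Q p f) z' = 0 := hx ⟨z', hz'⟩
                simpa [z', polar_sub_right, polar_smul_right, polar_comm (restrictPair Q p f) (x : perpPair Q p f) u₁,
                  polar_comm (restrictPair Q p f) (x : perpPair Q p f) y₁, hx'.1, hx'.2] using h0)
            have hWd : 2 ≤ finrank F W := by
              have h2 := LinearMap.finrank_range_add_finrank_ker
                ((polarBilin (restrictPair Q p f) u₁).prod (polarBilin (restrictPair Q p f) y₁))
              have h3 := Submodule.finrank_le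
                (LinearMap.range ((polarBilin (restrictPair Q p f) u₁).prod (polarBilin (restrictPair Q p f) y₁)))
              rw [Module.finrank_prod, Module.finrank_self] at h3
              show 2 ≤ finrank F (LinearMap.ker _ : Submodule F (perpPair Q p f))
              omega
            obtain ⟨z, hz⟩ := exists_value hnd h2 hWd (neg_ne_zero.2 hc)
            have hzW := (hW z).1 z.2
            have hzp := (mem_perpPair.1 (z : perpPair Q p f).2).1
            refine ⟨((z : perpPair Q p f) : V), hzp, hzW.1, ?_, hz⟩
            have h := hzW.2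
            rw [hpR] at h
            change polar Q (y + (-polar Q f y) • p) _ = 0 at h
            rwa [polar_add_left, polar_smul_left, hzp, smul_zero, add_zero] at h
          have hpm : polar Q p (y + (-1 : F) • z) = 0 := polar_perp_add hy (polar_perp_smul hpz _)
          have hum : polar Q (u₁ : V) (y + (-1 : F) • z) = 0 := by
            rw [polar_add_right, huy, polar_smul_right, huz]; simp
          have hne1 : Q (y + z) ≠ -c := fun h => hc (by
            rw [map_add', hne, hz, hyz] at h; linear_combination -h)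
          have hne2 : Q (y + (-1 : F) • z) ≠ -c := fun h => hc (by
            rw [map_add_smul, hne, hz, hyz] at h; linear_combination -h)
          have h1 := good _ (polar_perp_add hy hpz) (by rw [polar_add_right, huy, huz, add_zero]) hne1
          have h2' := good _ hpm hum hne2
          have := S.smul_mem (2 : F)⁻¹ (S.add_mem h1 h2')
          rwa [show y + z + (y + (-1 : F) • z) = (2 : F) • y by module, inv_smul_smul₀ h2] at this
        set a := polar Q (u₁ : V) w / (2 * c)
        have hw' := perp (w + (-a) • (u₁ : V)) (polar_perp_add hpw (polar_perp_smul hu₁'.1 _)) (by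
          rw [polar_add_right, polar_smul_right, polar_self', hqu, smul_eq_mul]
          simp [a, div_mul_cancel₀ _ (mul_ne_zero h2 hc)])
        have := S.add_mem hw' (S.smul_mem a hu₁S)
        rwa [neg_smul, neg_add_cancel_right] at this
    · -- dimension two
      have hd2 : finrank F V = 2 := by omega
      refine (commutator_le_squares hQ hex).trans ((Subgroup.closure_le _).2 ?_)
      rintro _ ⟨g, hg, rfl⟩
      have hdg : dickson hQ hex (g * rO hv₁') = -1 := by rw [map_mul, hg, dickson_rO, one_mul]
      have hfix : finrank F (fixSub (g * rO hv₁')) + 1 = finrank F V := by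
        have hle := Submodule.finrank_le (fixSub (g * rO hv₁'))
        have hodd : Odd (finrank F V + finrank F (fixSub (g * rO hv₁'))) := by
          rw [← Nat.not_even_iff_odd]
          intro he
          have h' : dsign (g * rO hv₁') = 1 := he.neg_one_pow
          exact absurd (h'.symm.trans hdg) (by decide)
        obtain ⟨k, hk⟩ := hodd
        omega
      obtain ⟨z, hz, hzeq⟩ := exists_eq_rO hQ hfix
      have hsq : (g * rO hv₁') * (g * rO hv₁') = 1 := by rw [hzeq, rO_mul_self]
      have h1 : g * g = (g * rO hv₁' * g⁻¹) * rO hv₁' := by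
        have h2 : g * rO hv₁' * g⁻¹ = g * (rO hv₁' * g⁻¹) := mul_assoc _ _ _
        have h3 : rO hv₁' * g⁻¹ = g * rO hv₁' := by
          rw [← rO_inv hv₁', ← mul_inv_rev, rO_inv]
          exact (eq_inv_of_mul_eq_one_left hsq).symm
        rw [h2, h3, ← mul_assoc, mul_assoc (g * g), rO_mul_self, mul_one]
      rw [SetLike.mem_coe, h1]
      exact mul_mem (Subgroup.Normal.conj_mem ‹_› _ hv₁N _) hv₁N
  -- identify with the kernel
  classical
  let χ : oG Q →* ℤˣ := if IsSquare c then (dickson hQ hex) * spin Q else spin Q
  have hχv : ∀ (v : V) (hv : Q v ≠ 0), χ (rO hv) = 1 ↔ (IsSquare (Q v) ↔ IsSquare c) := fun v hv => by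
    by_cases hs : IsSquare c <;> by_cases hq : IsSquare (Q v) <;>
      simp [χ, hs, hq, dickson_rO, spin_rO h2 hv] <;> decide
  have hNle : N ≤ χ.ker := by
    rw [hN, Subgroup.closure_le]
    rintro _ ⟨v, hv, ⟨t, ht, hQv⟩, rfl⟩
    rw [SetLike.mem_coe, MonoidHom.mem_ker, hχv, hQv]
    constructor
    · rintro ⟨s, hs⟩
      exact ⟨s / t, by field_simp; linear_combination hs⟩
    · exact fun h => h.mul (IsSquare.sq t)
  obtain ⟨a, b, ha, hb, hsa, hsb⟩ := exists_rO_square hQ h2 hn
  obtain ⟨d, hd, hdc⟩ : ∃ (d : V) (hd : Q d ≠ 0), χ (rO hd) = -1 := by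
    by_cases hs : IsSquare c
    · exact ⟨b, hb, (Int.units_eq_one_or _).resolve_left fun h => hsb (((hχv b hb).1 h).2 hs)⟩
    · exact ⟨a, ha, (Int.units_eq_one_or _).resolve_left fun h => hs (((hχv a ha).1 h).1 hsa)⟩
  have hker : χ.ker ≤ N := fun g hg => by
    rw [MonoidHom.mem_ker] at hg
    let D := dickson hQ hex
    by_cases hgd : D g = 1
    · refine hcomm ((mem_commutator_iff hQ h2 hn g).2 ⟨hgd, ?_⟩)
      by_cases hs : IsSquare c <;> simp [χ, hs] at hg
      · rw [show dickson hQ hex g = 1 from hgd, one_mul] at hg; exact hg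
      · exact hg
    · have hgd' : D g = -1 := (Int.units_eq_one_or _).resolve_left hgd
      have hd1 : dickson hQ hex (g * rO hv₁') = 1 := by
        rw [map_mul, show dickson hQ hex g = -1 from hgd', dickson_rO]; rfl
      have h1 : g * rO hv₁' ∈ commutator (oG Q) := by
        refine (mem_commutator_iff hQ h2 hn _).2 ⟨hd1, ?_⟩
        have hχ1 : χ (g * rO hv₁') = 1 := by rw [map_mul, hg, one_mul, hχv, hv₁]
        by_cases hs : IsSquare c <;> simp only [χ, hs, if_true, if_false, MonoidHom.mul_apply] at hχ1
        · rwa [hd1, one_mul] at hχ1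
        · exact hχ1
      have := mul_mem (hcomm h1) (inv_mem hv₁N)
      rwa [mul_inv_cancel_right] at this
  rw [le_antisymm hNle hker, Subgroup.index_ker]
  have hsurj : Function.Surjective χ := fun x => by
    rcases Int.units_eq_one_or x with rfl | rfl
    · exact ⟨1, map_one _⟩
    · exact ⟨_, hdc⟩
  rw [MonoidHom.range_eq_top.2 hsurj, Subgroup.card_top]
  simp

end abstract

end Cfsg.Agent.Classical.Quad
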