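import Mathlib
import Cfsg.Agent.Classical.OrthPOmega

/-!
Working tools for the two characters of an orthogonal group: membership criterion in every dimension, products of
reflections, hyperbolic scalings, orthogonal sums, adjusting an isometry into the commutator subgroup, the two
families of maximal totally singular subspaces.
-/

set_option autoImplicit false

namespace Cfsg.Agent.Classical.Quad

open Module QuadraticMap

section qs

variable {F : Type*} [Field F]

open scoped _root_.Classical in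
/-- The quadratic character with values in the units of the integers. -/
noncomputable def qs (c : F) : ℤˣ := if IsSquare c then 1 else -1

theorem qs_eq_one {c : F} : qs c = 1 ↔ IsSquare c := by
  unfold qs; split_ifs with h <;> simp [h]

theorem qs_one : qs (1 : F) = 1 := qs_eq_one.2 IsSquare.one

variable [Finite F]

theorem qs_eq_one_of_two_eq_zero (h2 : (2 : F) = 0) (c : F) : qs c = 1 := by
  have : CharP F 2 := CharTwo.of_one_ne_zero_of_two_eq_zero one_ne_zero h2
  exact qs_eq_one.2 (FiniteField.isSquare_of_char_two (ringChar.eq F 2) c)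

theorem qs_mul {a b : F} (ha : a ≠ 0) (hb : b ≠ 0) : qs (a * b) = qs a * qs b := by
  classical
  have := Fintype.ofFinite F
  by_cases h2 : (2 : F) = 0
  · simp [qs_eq_one_of_two_eq_zero h2]
  have key : ∀ c : F, c ≠ 0 → ((qs c : ℤˣ) : ℤ) = quadraticChar F c := fun c hc => by
    by_cases hs : IsSquare c
    · rw [qs_eq_one.2 hs, (quadraticChar_one_iff_isSquare hc).2 hs]; rfl
    · rw [(Int.units_eq_one_or (qs c)).resolve_left (mt qs_eq_one.1 hs), quadraticChar_neg_one_iff_not_isSquare.2 hs]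
      rfl
  refine Units.ext ?_
  rw [Units.val_mul, key _ ha, key _ hb, key _ (mul_ne_zero ha hb), map_mul]

theorem qs_mul_self_mul {t c : F} (ht : t ≠ 0) (hc : c ≠ 0) : qs (t * t * c) = qs c := by
  rw [qs_mul (mul_ne_zero ht ht) hc, qs_eq_one.2 (IsSquare.mul_self t), one_mul]

theorem qs_prod {κ : Type*} [Fintype κ] (f : κ → F) (hf : ∀ i, f i ≠ 0) : qs (∏ i, f i) = ∏ i, qs (f i) := by
  classical
  suffices ∀ s : Finset κ, qs (∏ i ∈ s, f i) = ∏ i ∈ s, qs (f i) from this Finset.univ
  intro s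
  induction s using Finset.induction with
  | empty => simp [qs_one]
  | insert a s ha ih =>
    rw [Finset.prod_insert ha, Finset.prod_insert ha, qs_mul (hf a) (Finset.prod_ne_zero_iff.2 fun i _ => hf i), ih]

/-- An element with non-trivial quadratic character. -/
theorem exists_qs_neg (h2 : (2 : F) ≠ 0) : ∃ c : F, c ≠ 0 ∧ qs c = -1 := by
  obtain ⟨α, hα⟩ := FiniteField.exists_nonsquare (F := F) fun h => h2 (by
    have : CharP F 2 := h ▸ ringChar.charP F
    exact CharTwo.two_eq_zero)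
  exact ⟨α, fun h => hα (h ▸ IsSquare.zero), (Int.units_eq_one_or _).resolve_left (mt qs_eq_one.1 hα)⟩

end qs

variable {F V : Type*} [Field F] [AddCommGroup V] [Module F V] {Q : QuadraticForm F V} [Finite F] [Finite V]

theorem spin_rO_qs (h2 : (2 : F) ≠ 0) {v : V} (hv : Q v ≠ 0) : spin Q (rO hv) = -qs (Q v) := by
  classical
  rw [spin_rO h2 hv]
  unfold qs
  split_ifs <;> simp

variable [FiniteDimensional F V]

/-- An element is a commutator product if and only if both characters vanish on it. -/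
theorem mem_commutator_chars (hQ : (polarBilin Q).Nondegenerate) (hex : Nat.card F ≠ 2 ∨ finrank F V ≠ 4)
    (g : oG Q) : g ∈ commutator (oG Q) ↔ dickson hQ hex g = 1 ∧ ((2 : F) ≠ 0 → spin Q g = 1) := by
  by_cases hn : finrank F V ≤ 1
  · constructor
    · exact fun hg => ⟨Abelianization.commutator_subset_ker _ hg, fun _ => Abelianization.commutator_subset_ker _ hg⟩
    · rintro ⟨hd, -⟩
      have hev : Even (finrank F V + finrank F (fixSub g)) := by
        by_contra h
        rw [Nat.not_even_iff_odd] at h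
        exact absurd ((h.neg_one_pow : dsign g = -1).symm.trans hd) (by decide)
      have hle := Submodule.finrank_le (fixSub g)
      have htop : fixSub g = ⊤ := Submodule.eq_top_of_finrank_eq (by obtain ⟨r, hr⟩ := hev; omega)
      have : g = 1 := ext_oG fun x => by rw [oG_one_apply]; exact mem_fixSub.1 (htop ▸ Submodule.mem_top)
      exact this ▸ one_mem _
  by_cases h2 : (2 : F) = 0
  · have : CharP F 2 := CharTwo.of_one_ne_zero_of_two_eq_zero one_ne_zero h2
    rw [(commutator_eq_ker_dickson hQ hex (by omega)).1, MonoidHom.mem_ker]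
    simp [h2]
  · rw [mem_commutator_iff hQ h2 (by omega)]
    exact and_congr_right fun _ => ⟨fun h _ => h, fun h => h h2⟩

theorem exists_rO_prod {u v : V} (hQ : (polarBilin Q).Nondegenerate) (hex : Nat.card F ≠ 2 ∨ finrank F V ≠ 4)
    (hu : Q u ≠ 0) (hv : Q v ≠ 0) : dickson hQ hex (rO hu * rO hv) = 1 ∧
      ((2 : F) ≠ 0 → spin Q (rO hu * rO hv) = qs (Q u * Q v)) := by
  refine ⟨by rw [map_mul, dickson_rO, dickson_rO]; rfl, fun h2 => ?_⟩
  rw [map_mul, spin_rO_qs h2, spin_rO_qs h2, qs_mul hu hv, neg_mul_neg]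

/-- Characters of a list of reflections. -/
theorem chars_list (hQ : (polarBilin Q).Nondegenerate) (hex : Nat.card F ≠ 2 ∨ finrank F V ≠ 4) {κ : Type*}
    (b : κ → V) (hb : ∀ i, Q (b i) ≠ 0) (l : List κ) :
    dickson hQ hex (l.map fun i => rO (hb i)).prod = (-1) ^ l.length ∧ ((2 : F) ≠ 0 →
      spin Q (l.map fun i => rO (hb i)).prod = (-1) ^ l.length * qs (l.map fun i => Q (b i)).prod) := by
  induction l with
  | nil => simp [qs_one]
  | cons a l ih =>
    simp only [List.map_cons, List.prod_cons, List.length_cons, map_mul]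
    refine ⟨by rw [dickson_rO, ih.1, pow_succ, mul_comm], fun h2 => ?_⟩
    have hne : (l.map fun i => Q (b i)).prod ≠ 0 := List.prod_ne_zero (by simp [hb])
    rw [spin_rO_qs h2, ih.2 h2, qs_mul (hb a) hne, pow_succ, neg_mul, mul_neg_one]
    rw [neg_mul, mul_left_comm]

/-- Hyperbolic scalings. -/
theorem chars_hypScale (hQ : (polarBilin Q).Nondegenerate) (hex : Nat.card F ≠ 2 ∨ finrank F V ≠ 4) {p f : V}
    (hp : Q p = 0) (hf : Q f = 0) (hpf : polar Q p f = 1) {c : F} (hc : c ≠ 0) :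
    dickson hQ hex ⟨hypScale hp hf hpf hc, hypScale_mem hp hf hpf hc⟩ = 1 ∧ ((2 : F) ≠ 0 →
      spin Q ⟨hypScale hp hf hpf hc, hypScale_mem hp hf hpf hc⟩ = qs c) := by
  have h1 : Q (c • p + f) ≠ 0 := by rwa [Q_pair hp hf hpf]
  have h1' : Q ((1 : F) • p + f) ≠ 0 := by rw [Q_pair hp hf hpf]; exact one_ne_zero
  have e : (⟨hypScale hp hf hpf hc, hypScale_mem hp hf hpf hc⟩ : oG Q) = rO h1 * rO h1' := ext_oG fun x => by
    show hypScale hp hf hpf hc x = _
    simp only [oG_mul_apply, rO_apply, hypScale_apply, Q_pair hp hf hpf, polar_add_right, polar_add_left,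
      polar_smul_right, polar_smul_left, polar_sub_left, smul_eq_mul, polar_self', hp, hf, hpf, polar_comm Q f p]
    match_scalars <;> field_simp <;> ring
  rw [e]
  obtain ⟨hd, hs⟩ := exists_rO_prod hQ hex h1 h1'
  refine ⟨hd, fun h2 => ?_⟩
  rw [hs h2, Q_pair hp hf hpf, Q_pair hp hf hpf, mul_one]

/-- A homomorphism sending reflections to reflections of the same norm respects both characters. -/
theorem chars_of_refl_hom {W : Type*} [AddCommGroup W] [Module F W] [Finite W] [FiniteDimensional F W]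
    {R : QuadraticForm F W} (hR : (polarBilin R).Nondegenerate) (hexR : Nat.card F ≠ 2 ∨ finrank F W ≠ 4)
    (hQ : (polarBilin Q).Nondegenerate) (hex : Nat.card F ≠ 2 ∨ finrank F V ≠ 4) (φ : oG R →* oG Q)
    (hφ : ∀ (w : W) (hw : R w ≠ 0), ∃ (v : V) (hv : Q v ≠ 0), Q v = R w ∧ φ (rO hw) = rO hv) (g : oG R) :
    dickson hQ hex (φ g) = dickson hR hexR g ∧ ((2 : F) ≠ 0 → spin Q (φ g) = spin R g) := by
  constructor
  · refine DFunLike.congr_fun (MonoidHom.eq_of_eqOn_dense (f := (dickson hQ hex).comp φ)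
      (closure_reflSet hR hexR) ?_) g
    rintro _ ⟨w, hw, rfl⟩
    obtain ⟨v, hv, -, e⟩ := hφ w hw
    rw [MonoidHom.comp_apply, e, dickson_rO, dickson_rO]
  · intro h2
    refine DFunLike.congr_fun (MonoidHom.eq_of_eqOn_dense (f := (spin Q).comp φ)
      (closure_reflSet hR hexR) ?_) g
    rintro _ ⟨w, hw, rfl⟩
    obtain ⟨v, hv, hvw, e⟩ := hφ w hw
    rw [MonoidHom.comp_apply, e, spin_rO_qs h2, spin_rO_qs h2, hvw]

/-- Adjusting an isometry by elements stabilising the target into the commutator subgroup. -/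
theorem exists_commutator_map (hQ : (polarBilin Q).Nondegenerate) (hex : Nat.card F ≠ 2 ∨ finrank F V ≠ 4)
    {U W : Submodule F V} {g : oG Q} (hg : U.map (g.1 : V →ₗ[F] V) = W)
    (ha : dickson hQ hex g = 1 ∨ ∃ a : oG Q, W.map (a.1 : V →ₗ[F] V) = W ∧ dickson hQ hex a = -1)
    (hb : (2 : F) ≠ 0 → ∃ b : oG Q, W.map (b.1 : V →ₗ[F] V) = W ∧ dickson hQ hex b = 1 ∧ spin Q b = -1) :
    ∃ k ∈ commutator (oG Q), U.map (k.1 : V →ₗ[F] V) = W := by
  have comp : ∀ {x y : oG Q}, U.map (y.1 : V →ₗ[F] V) = W → W.map (x.1 : V →ₗ[F] V) = W →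
      U.map ((x * y).1 : V →ₗ[F] V) = W := fun {x y} hy hx => by
    rw [show ((x * y).1 : V →ₗ[F] V) = (x.1 : V →ₗ[F] V).comp (y.1 : V →ₗ[F] V) from rfl, Submodule.map_comp, hy, hx]
  obtain ⟨g₁, hg₁, hd⟩ : ∃ g₁ : oG Q, U.map (g₁.1 : V →ₗ[F] V) = W ∧ dickson hQ hex g₁ = 1 := by
    rcases Int.units_eq_one_or (dickson hQ hex g) with h | h
    · exact ⟨g, hg, h⟩
    · rcases ha with h' | ⟨a, haW, had⟩
      · exact absurd (h'.symm.trans h) (by decide)
      · exact ⟨a * g, comp hg haW, by rw [map_mul, had, h]; rfl⟩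
  by_cases hs : (2 : F) ≠ 0 → spin Q g₁ = 1
  · exact ⟨g₁, (mem_commutator_chars hQ hex g₁).2 ⟨hd, hs⟩, hg₁⟩
  · rw [Classical.not_imp] at hs
    obtain ⟨b, hbW, hbd, hbs⟩ := hb hs.1
    refine ⟨b * g₁, (mem_commutator_chars hQ hex _).2 ⟨by rw [map_mul, hbd, hd, one_mul], fun _ => ?_⟩, comp hg₁ hbW⟩
    rw [map_mul, hbs, (Int.units_eq_one_or _).resolve_left hs.2]
    rfl

omit [Finite F] [Finite V] in
/-- A reflection fixes every subspace containing its vector or orthogonal to it. -/
theorem map_rO_eq {W : Submodule F V} {v : V} (hv : Q v ≠ 0) (h : v ∈ W ∨ ∀ w ∈ W, polar Q w v = 0) :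
    W.map ((rO hv).1 : V →ₗ[F] V) = W := by
  refine Submodule.eq_of_le_of_finrank_eq ?_ (LinearEquiv.finrank_map_eq (rO hv).1 W)
  rintro _ ⟨w, hw, rfl⟩
  show (rO hv).1 w ∈ W
  rcases h with h | h
  · rw [rO_apply]; exact W.sub_mem hw (W.smul_mem _ h)
  · rw [show (rO hv).1 w = w from refl_fix hv (h w hw)]; exact hw

/-! ### Maximal totally singular subspaces -/

omit [Finite F] [Finite V] in
theorem polar_eq_zero_of_singular {U : Submodule F V} (hU : ∀ u ∈ U, Q u = 0) {a b : V} (ha : a ∈ U) (hb : b ∈ U) :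
    polar Q a b = 0 := by
  rw [polar, hU _ (U.add_mem ha hb), hU a ha, hU b hb]; ring

omit [Finite F] [Finite V] in
/-- The orthogonal of the intersection of two maximal totally singular subspaces is their sum. -/
theorem mem_sup_of_perp (hQ : (polarBilin Q).Nondegenerate) {m : ℕ} (hdim : finrank F V = 2 * m)
    {U U' : Submodule F V} (hU : ∀ u ∈ U, Q u = 0) (hUd : finrank F U = m) (hU' : ∀ u ∈ U', Q u = 0)
    (hU'd : finrank F U' = m) {v : V} (hv : ∀ x ∈ U ⊓ U', polar Q x v = 0) : v ∈ U ⊔ U' := by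
  let P : Submodule F V := LinearMap.ker ((polarBilin Q).domRestrict (U ⊓ U')).flip
  have hP : ∀ x, x ∈ P ↔ ∀ y ∈ U ⊓ U', polar Q y x = 0 := fun x => by
    rw [LinearMap.mem_ker]
    exact ⟨fun h y hy => LinearMap.congr_fun h ⟨y, hy⟩, fun h => LinearMap.ext fun y => h y y.2⟩
  have hle : U ⊔ U' ≤ P := sup_le (fun x hx => (hP x).2 fun y hy => polar_eq_zero_of_singular hU hy.1 hx)
    (fun x hx => (hP x).2 fun y hy => polar_eq_zero_of_singular hU' hy.2 hx)
  have hsurj : LinearMap.range ((polarBilin Q).domRestrict (U ⊓ U')).flip = ⊤ := by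
    refine eq_top_iff.2 fun φ _ => ?_
    obtain ⟨ψ, hψ⟩ := LinearMap.exists_extend φ
    refine ⟨(LinearMap.BilinForm.toDual (polarBilin Q) hQ).symm ψ, LinearMap.ext fun y => ?_⟩
    show polar Q (y : V) _ = φ y
    rw [polar_comm, ← hψ]
    exact LinearMap.BilinForm.apply_toDual_symm_apply (hB := hQ) (f := ψ) (y : V)
  have h1 := LinearMap.finrank_range_add_finrank_ker ((polarBilin Q).domRestrict (U ⊓ U')).flip
  rw [hsurj, finrank_top, Subspace.dual_finrank_eq] at h1
  have h2 := Submodule.finrank_sup_add_finrank_inf_eq U U'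
  have e := Submodule.eq_of_le_of_finrank_eq hle (show finrank F (U ⊔ U' : Submodule F V) = finrank F P by
    show _ = finrank F (LinearMap.ker ((polarBilin Q).domRestrict (U ⊓ U')).flip)
    omega)
  rw [e]
  exact (hP v).2 hv

omit [Finite F] [Finite V] in
/-- A reflection changes the dimension of the intersection with a maximal totally singular subspace by one. -/
theorem finrank_inf_map_rO (hQ : (polarBilin Q).Nondegenerate) {m : ℕ} (hdim : finrank F V = 2 * m)
    {U U' : Submodule F V} (hU : ∀ u ∈ U, Q u = 0) (hUd : finrank F U = m) (hU' : ∀ u ∈ U', Q u = 0)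
    (hU'd : finrank F U' = m) {v : V} (hv : Q v ≠ 0) :
    finrank F (U ⊓ U'.map ((rO hv).1 : V →ₗ[F] V) : Submodule F V) = finrank F (U ⊓ U' : Submodule F V) + 1 ∨
      finrank F (U ⊓ U'.map ((rO hv).1 : V →ₗ[F] V) : Submodule F V) + 1 = finrank F (U ⊓ U' : Submodule F V) := by
  set U'' := U'.map ((rO hv).1 : V →ₗ[F] V) with hU''
  let K := LinearMap.ker (polarBilin Q v)
  have hK : ∀ x, x ∈ K ↔ polar Q x v = 0 := fun x => by rw [polar_comm]; rfl
  have hrr : ∀ x, (rO hv).1 ((rO hv).1 x) = x := fun x => (refl hv).symm_apply_apply x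
  have hinf : U ⊓ U'' ⊓ K = U ⊓ U' ⊓ K := by
    ext x
    simp only [Submodule.mem_inf, hU'', hK]
    constructor
    · rintro ⟨⟨h1, y, hy, hyx⟩, h3⟩
      refine ⟨⟨h1, ?_⟩, h3⟩
      have : y = x := by rw [← hrr y, show (rO hv).1 y = x from hyx]; exact refl_fix hv h3
      rwa [← this]
    · rintro ⟨⟨h1, h2⟩, h3⟩
      exact ⟨⟨h1, x, h2, refl_fix hv h3⟩, h3⟩
  by_cases hle : U ⊓ U' ≤ K
  · left
    obtain ⟨u, hu, u', hu', huv⟩ := Submodule.mem_sup.1 (mem_sup_of_perp hQ hdim hU hUd hU' hU'd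
      fun x hx => (hK x).1 (hle hx))
    have hQv : Q v = polar Q u u' := by rw [← huv, map_add', hU u hu, hU' u' hu']; ring
    have hr : (rO hv).1 u' = -u := by
      rw [rO_apply, ← huv, polar_add_right, polar_eq_zero_of_singular hU' hu' hu', polar_comm Q u' u, add_zero,
        huv, ← hQv, div_self hv, one_smul, ← huv]
      abel
    have hmem : -u ∈ U ⊓ U'' := ⟨U.neg_mem hu, u', hu', hr⟩
    have hnot : -u ∉ K := fun h => by
      rw [hK, polar_neg_left, neg_eq_zero, ← huv, polar_add_right, polar_eq_zero_of_singular hU hu hu, zero_add,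
        ← hQv] at h
      exact hv h
    have := finrank_inf_ker_add_one (polarBilin Q v) (T := U ⊓ U'') fun h => hnot (h hmem)
    rw [show LinearMap.ker (polarBilin Q v) = K from rfl, hinf, inf_eq_left.2 hle] at this
    omega
  · right
    have hle' : U ⊓ U'' ≤ K := by
      rintro y ⟨hy, z, hz, hzy⟩
      obtain ⟨x, hx, hxv⟩ := SetLike.not_le_iff_exists.1 hle
      rw [hK] at hxv ⊢
      by_contra hyv
      have hzy' : (rO hv).1 y = z := by rw [← show (rO hv).1 z = y from hzy, hrr]
      have h0 := polar_eq_zero_of_singular hU' hx.2 hz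
      rw [← hzy', rO_apply, polar_sub_right, polar_smul_right, polar_eq_zero_of_singular hU hx.1 hy, smul_eq_mul,
        zero_sub, neg_eq_zero] at h0
      rcases mul_eq_zero.1 h0 with h | h
      · exact (div_ne_zero hyv hv) h
      · exact hxv h
    have := finrank_inf_ker_add_one (polarBilin Q v) hle
    rw [show LinearMap.ker (polarBilin Q v) = K from rfl, ← hinf, inf_eq_left.2 hle'] at this
    exact this

/-- The parity of the codimension of the intersection of a maximal totally singular subspace with its image. -/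
theorem even_codim_iff (hQ : (polarBilin Q).Nondegenerate) (hex : Nat.card F ≠ 2 ∨ finrank F V ≠ 4) {m : ℕ}
    (hdim : finrank F V = 2 * m) {U : Submodule F V} (hU : ∀ u ∈ U, Q u = 0) (hUd : finrank F U = m) (g : oG Q) :
    Even (m - finrank F (U ⊓ U.map (g.1 : V →ₗ[F] V) : Submodule F V)) ↔ dickson hQ hex g = 1 := by
  have himg : ∀ g : oG Q, (∀ x ∈ U.map (g.1 : V →ₗ[F] V), Q x = 0) ∧ finrank F (U.map (g.1 : V →ₗ[F] V)) = m :=
    fun g => ⟨by rintro _ ⟨x, hx, rfl⟩; exact (g.2 x).trans (hU x hx), by rw [LinearEquiv.finrank_map_eq, hUd]⟩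
  have hle : ∀ g : oG Q, finrank F (U ⊓ U.map (g.1 : V →ₗ[F] V) : Submodule F V) ≤ m := fun g =>
    hUd ▸ Submodule.finrank_mono inf_le_left
  suffices h : ∀ g : oG Q, (-1 : ℤˣ) ^ (m - finrank F (U ⊓ U.map (g.1 : V →ₗ[F] V) : Submodule F V)) =
      dickson hQ hex g by
    rw [← h g]
    refine ⟨fun he => he.neg_one_pow, fun he => ?_⟩
    by_contra hodd
    rw [(Nat.not_even_iff_odd.1 hodd).neg_one_pow] at he
    exact absurd he (by decide)
  intro g
  have hg : g ∈ Subgroup.closure (reflSet Q) := by rw [closure_reflSet hQ hex]; trivial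
  induction hg using Subgroup.closure_induction_left with
  | one =>
    rw [show ((1 : oG Q).1 : V →ₗ[F] V) = LinearMap.id from rfl, Submodule.map_id, inf_idem, hUd, Nat.sub_self,
      pow_zero, map_one]
  | mul_left y hy x _ ih =>
    obtain ⟨v, hv, rfl⟩ := hy
    rw [map_mul, dickson_rO, ← ih,
      show ((rO hv * x).1 : V →ₗ[F] V) = ((rO hv).1 : V →ₗ[F] V).comp (x.1 : V →ₗ[F] V) from rfl, Submodule.map_comp]
    have h1 := hle x
    have h2 := hle (rO hv * x)
    rw [show ((rO hv * x).1 : V →ₗ[F] V) = ((rO hv).1 : V →ₗ[F] V).comp (x.1 : V →ₗ[F] V) from rfl,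
      Submodule.map_comp] at h2
    rcases finrank_inf_map_rO hQ hdim hU hUd (himg x).1 (himg x).2 hv with h | h
    · rw [show m - finrank F (U ⊓ U.map (x.1 : V →ₗ[F] V) : Submodule F V) = m - finrank F (U ⊓
        (U.map (x.1 : V →ₗ[F] V)).map ((rO hv).1 : V →ₗ[F] V) : Submodule F V) + 1 by omega, pow_succ]
      simp
    · rw [show m - finrank F (U ⊓ (U.map (x.1 : V →ₗ[F] V)).map ((rO hv).1 : V →ₗ[F] V) : Submodule F V) =
        m - finrank F (U ⊓ U.map (x.1 : V →ₗ[F] V) : Submodule F V) + 1 by omega, pow_succ]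
      simp
  | inv_mul_cancel y hy x _ ih =>
    obtain ⟨v, hv, rfl⟩ := hy
    rw [rO_inv, map_mul, dickson_rO, ← ih,
      show ((rO hv * x).1 : V →ₗ[F] V) = ((rO hv).1 : V →ₗ[F] V).comp (x.1 : V →ₗ[F] V) from rfl, Submodule.map_comp]
    have h1 := hle x
    have h2 := hle (rO hv * x)
    rw [show ((rO hv * x).1 : V →ₗ[F] V) = ((rO hv).1 : V →ₗ[F] V).comp (x.1 : V →ₗ[F] V) from rfl,
      Submodule.map_comp] at h2
    rcases finrank_inf_map_rO hQ hdim hU hUd (himg x).1 (himg x).2 hv with h | h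
    · rw [show m - finrank F (U ⊓ U.map (x.1 : V →ₗ[F] V) : Submodule F V) = m - finrank F (U ⊓
        (U.map (x.1 : V →ₗ[F] V)).map ((rO hv).1 : V →ₗ[F] V) : Submodule F V) + 1 by omega, pow_succ]
      simp
    · rw [show m - finrank F (U ⊓ (U.map (x.1 : V →ₗ[F] V)).map ((rO hv).1 : V →ₗ[F] V) : Submodule F V) =
        m - finrank F (U ⊓ U.map (x.1 : V →ₗ[F] V) : Submodule F V) + 1 by omega, pow_succ]
      simp

end Cfsg.Agent.Classical.Quad
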