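import Mathlib
import Cfsg.Agent.Classical.OrthChar

/-!
Matrices in the commutator subgroup: matrix elements, hyperbolic scalings on families, Levi elements of the plus
type, the swap of two maximal totally singular subspaces, block sums.
-/

set_option autoImplicit false

namespace Cfsg.Agent.Classical.Quad

open Module QuadraticMap

section general

variable {F : Type*} [Field F] [Finite F] {ι : Type} [Fintype ι] [DecidableEq ι] {Q : QuadraticForm F (ι → F)}

omit [Finite F] in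
theorem exists_omega_matrix_iff (h : oG Q) (M : Matrix ι ι F) (hM : ∀ x, h.1 x = M.mulVec x) :
    (∃ g : Cfsg.isometryGroup F ⇑Q, g ∈ Cfsg.Omega F ⇑Q ∧ ((g : GL ι F) : Matrix ι ι F) = M) ↔
      h ∈ commutator (oG Q) := by
  constructor
  · rintro ⟨g, hg, hg'⟩
    have e : oEquiv Q g = h := ext_oG fun x => by rw [oEquiv_apply, hg', hM]
    exact e ▸ (mem_omega_iff g).1 hg
  · intro hh
    refine ⟨(oEquiv Q).symm h, by rwa [mem_omega_iff, MulEquiv.apply_symm_apply],
      Matrix.ext_of_mulVec_single fun i => ?_⟩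
    rw [← oEquiv_apply, MulEquiv.apply_symm_apply, hM]

omit [Finite F] in
theorem map_mulVecLin_eq (U : Submodule F (ι → F)) (g : Cfsg.isometryGroup F ⇑Q) :
    U.map (Matrix.mulVecLin ((g : GL ι F) : Matrix ι ι F)) = U.map ((oEquiv Q g).1 : (ι → F) →ₗ[F] (ι → F)) := rfl

omit [Finite F] in
theorem exists_omega_map_iff {U W : Submodule F (ι → F)} {k : oG Q} (hk : k ∈ commutator (oG Q))
    (h : U.map (k.1 : (ι → F) →ₗ[F] (ι → F)) = W) :
    ∃ g : Cfsg.isometryGroup F ⇑Q, g ∈ Cfsg.Omega F ⇑Q ∧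
      U.map (Matrix.mulVecLin ((g : GL ι F) : Matrix ι ι F)) = W :=
  ⟨(oEquiv Q).symm k, by rwa [mem_omega_iff, MulEquiv.apply_symm_apply],
    by rw [map_mulVecLin_eq, MulEquiv.apply_symm_apply, h]⟩

omit [Finite F] in
theorem mem_special_iff_det (g : Cfsg.isometryGroup F ⇑Q) :
    g ∈ Cfsg.specialIsometryGroup F ⇑Q ↔ ((g : GL ι F) : Matrix ι ι F).det = 1 := by
  rw [Cfsg.specialIsometryGroup, MonoidHom.mem_ker, Units.ext_iff, MonoidHom.comp_apply]
  simp

theorem pow_mod_four_iff [Fintype F] {q : ℕ} (hF : Fintype.card F = q) (hq : Odd q) (m : ℕ) :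
    IsSquare ((-1 : F) ^ m) ↔ q ^ m % 4 = 1 := by
  rw [isSquare_neg_one_pow_iff hF hq]
  obtain ⟨k, rfl⟩ := hq
  rw [show m * (2 * k + 1 - 1) / 2 = m * k by
    rw [Nat.add_sub_cancel, mul_left_comm, Nat.mul_div_cancel_left _ (by norm_num : 0 < 2)], Nat.even_mul]
  rcases Nat.even_or_odd k with ⟨j, rfl⟩ | ⟨j, rfl⟩
  · rw [iff_true_intro (Or.inr ⟨j, rfl⟩ : Even m ∨ Even (j + j)), true_iff, Nat.pow_mod,
      show (2 * (j + j) + 1) % 4 = 1 by omega, one_pow]
    try norm_num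
  · rcases Nat.even_or_odd m with ⟨i, rfl⟩ | ⟨i, rfl⟩
    · rw [iff_true_intro (Or.inl ⟨i, rfl⟩ : Even (i + i) ∨ Even (2 * j + 1)), true_iff, ← two_mul, pow_mul,
        Nat.pow_mod, Nat.pow_mod (2 * (2 * j + 1) + 1) 2, show (2 * (2 * j + 1) + 1) % 4 = 3 by omega]
      norm_num
    · rw [Nat.pow_mod, show (2 * (2 * j + 1) + 1) % 4 = 3 by omega, pow_succ, pow_mul, Nat.mul_mod,
        Nat.pow_mod]
      norm_num [Nat.even_add_one]

end general

section family

variable {F V : Type*} [Field F] [AddCommGroup V] [Module F V] {Q : QuadraticForm F V} [Finite F] [Finite V]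
  [FiniteDimensional F V]

/-- Simultaneous scalings of orthogonal hyperbolic pairs. -/
theorem exists_scale_family (hQ : (polarBilin Q).Nondegenerate) (hex : Nat.card F ≠ 2 ∨ finrank F V ≠ 4)
    {κ : Type*} [DecidableEq κ] (e f : κ → V) (he : ∀ i, Q (e i) = 0) (hf : ∀ i, Q (f i) = 0)
    (hef : ∀ i, polar Q (e i) (f i) = 1)
    (ho : ∀ i j, i ≠ j → polar Q (e i) (e j) = 0 ∧ polar Q (f i) (f j) = 0 ∧ polar Q (e i) (f j) = 0)
    (c : κ → F) (hc : ∀ i, c i ≠ 0) (s : Finset κ) :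
    ∃ h : oG Q, dickson hQ hex h = 1 ∧ ((2 : F) ≠ 0 → spin Q h = ∏ i ∈ s, qs (c i)) ∧
      (∀ x, (∀ i ∈ s, polar Q x (e i) = 0 ∧ polar Q x (f i) = 0) → h.1 x = x) ∧
      ∀ i ∈ s, h.1 (e i) = c i • e i ∧ h.1 (f i) = (c i)⁻¹ • f i := by
  induction s using Finset.induction with
  | empty => exact ⟨1, map_one _, fun _ => by simp, fun x _ => rfl, by simp⟩
  | insert a s ha ih =>
    obtain ⟨h, hd, hs, hfix, hact⟩ := ih
    obtain ⟨kd, ks⟩ := chars_hypScale hQ hex (he a) (hf a) (hef a) (hc a)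
    set k : oG Q := ⟨hypScale (he a) (hf a) (hef a) (hc a), hypScale_mem (he a) (hf a) (hef a) (hc a)⟩
    have kapp : ∀ x, k.1 x = x + ((c a - 1) * polar Q x (f a)) • e a + (((c a)⁻¹ - 1) * polar Q x (e a)) • f a :=
      fun x => rfl
    have kfix : ∀ x, polar Q x (e a) = 0 → polar Q x (f a) = 0 → k.1 x = x := fun x h1 h2 => by
      rw [kapp, h1, h2]; simp
    refine ⟨k * h, by rw [map_mul, kd, hd, one_mul], fun h2 => by
      rw [map_mul, ks h2, hs h2, Finset.prod_insert ha], fun x hx => ?_, fun i hi => ?_⟩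
    · rw [oG_mul_apply, hfix x fun i hi => hx i (Finset.mem_insert_of_mem hi)]
      exact kfix x (hx a (Finset.mem_insert_self a s)).1 (hx a (Finset.mem_insert_self a s)).2
    · rw [Finset.mem_insert] at hi
      rcases hi with rfl | hi
      · have he' : h.1 (e i) = e i := hfix _ fun j hj =>
          ⟨(ho i j fun h => ha (h ▸ hj)).1, (ho i j fun h => ha (h ▸ hj)).2.2⟩
        have hf' : h.1 (f i) = f i := hfix _ fun j hj =>
          ⟨by rw [polar_comm]; exact (ho j i fun h => ha (h.symm ▸ hj)).2.2, (ho i j fun h => ha (h ▸ hj)).2.1⟩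
        rw [oG_mul_apply, oG_mul_apply, he', hf', kapp, kapp, polar_self', polar_self', he, hf, hef,
          polar_comm Q (f i) (e i), hef]
        constructor <;> match_scalars <;> simp
      · have hia : i ≠ a := fun h => ha (h ▸ hi)
        obtain ⟨h1, h2⟩ := hact i hi
        rw [oG_mul_apply, oG_mul_apply, h1, h2, map_smul, map_smul, kfix _ (ho i a hia).1 (ho i a hia).2.2,
          kfix _ (by rw [polar_comm]; exact (ho a i hia.symm).2.2) (ho i a hia).2.1]
        exact ⟨rfl, rfl⟩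

end family

section plus

variable {F : Type*} [Field F] {m : ℕ}

/-- The plus form. -/
noncomputable def plusQ (F : Type*) [Field F] (m : ℕ) : QuadraticForm F (Fin m ⊕ Fin m → F) :=
  (hyp (zeroForm F) m).comp (plusCoord m).toLinearMap

theorem coe_plusQ : ⇑(plusQ F m) = Cfsg.quadFormPlus m F := funext fun x => plusCoord_map m x

theorem nondeg_plusQ : (polarBilin (plusQ F m)).Nondegenerate :=
  Iso.nondeg (Iso.symm ⟨plusCoord m, fun _ => rfl⟩) (nondeg_hyp nondeg_zeroForm m)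

theorem finrank_plus : finrank F (Fin m ⊕ Fin m → F) = 2 * m := by simp [two_mul]

theorem plusQ_apply (v : Fin m ⊕ Fin m → F) : plusQ F m v = ∑ i, v (.inl i) * v (.inr i) :=
  congrFun coe_plusQ v

theorem polar_plusQ (v w : Fin m ⊕ Fin m → F) :
    polar (plusQ F m) v w = ∑ i, (v (.inl i) * w (.inr i) + w (.inl i) * v (.inr i)) := by
  simp only [polar, plusQ_apply, Pi.add_apply, ← Finset.sum_sub_distrib]
  exact Finset.sum_congr rfl fun i _ => by ring

theorem exists_leviO (A B : Matrix (Fin m) (Fin m) F) (hAB : A * B = 1) :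
    ∃ h : oG (plusQ F m), ∀ x, h.1 x = (Matrix.fromBlocks A 0 0 B.transpose).mulVec x := by
  have hBA : B * A = 1 := mul_eq_one_comm.1 hAB
  let g : GL (Fin m ⊕ Fin m) F := ⟨Matrix.fromBlocks A 0 0 B.transpose, Matrix.fromBlocks B 0 0 A.transpose,
    by rw [Matrix.fromBlocks_multiply]; simp [hAB, ← Matrix.transpose_mul],
    by rw [Matrix.fromBlocks_multiply]; simp [hBA, ← Matrix.transpose_mul]⟩
  have hg : g ∈ Cfsg.isometryGroup F ⇑(plusQ F m) := mem_isometryGroup_iff.2 fun x => by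
    show plusQ F m ((Matrix.fromBlocks A 0 0 B.transpose).mulVec x) = _
    rw [plusQ_apply, plusQ_apply, Matrix.fromBlocks_mulVec]
    simp only [Sum.elim_inl, Sum.elim_inr, Matrix.zero_mulVec, add_zero, zero_add]
    show A.mulVec (x ∘ Sum.inl) ⬝ᵥ B.transpose.mulVec (x ∘ Sum.inr) = (x ∘ Sum.inl) ⬝ᵥ (x ∘ Sum.inr)
    rw [Matrix.mulVec_transpose, dotProduct_comm, ← Matrix.dotProduct_mulVec, Matrix.mulVec_mulVec, hBA,
      Matrix.one_mulVec, dotProduct_comm]
  exact ⟨oEquiv _ ⟨g, hg⟩, fun x => rfl⟩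

theorem polar_single_plus (i j : Fin m) :
    polar (plusQ F m) (Pi.single (.inl i) 1) (Pi.single (.inl j) 1) = 0 ∧
      polar (plusQ F m) (Pi.single (.inr i) 1) (Pi.single (.inr j) 1) = 0 ∧
      polar (plusQ F m) (Pi.single (.inl i) 1) (Pi.single (.inr j) 1) = if i = j then 1 else 0 := by
  refine ⟨by simp [polar_plusQ], by simp [polar_plusQ], ?_⟩
  simp [polar_plusQ, Pi.single_apply, eq_comm]

theorem plusQ_single (s : Fin m ⊕ Fin m) : plusQ F m (Pi.single s 1) = 0 := by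
  rcases s with i | i <;> simp [plusQ_apply]

variable [Finite F]

/-- A diagonal scaling of all coordinate pairs. -/
theorem exists_plus_scale (hex : Nat.card F ≠ 2 ∨ finrank F (Fin m ⊕ Fin m → F) ≠ 4) (c : Fin m → F)
    (hc : ∀ i, c i ≠ 0) :
    ∃ h : oG (plusQ F m), dickson nondeg_plusQ hex h = 1 ∧ ((2 : F) ≠ 0 → spin (plusQ F m) h = ∏ i, qs (c i)) ∧
      ∀ x, h.1 x = (Matrix.fromBlocks (Matrix.diagonal c) 0 0 (Matrix.diagonal fun i => (c i)⁻¹)).mulVec x := by
  obtain ⟨h, hd, hs, -, hact⟩ := exists_scale_family nondeg_plusQ hex (fun i : Fin m => Pi.single (Sum.inl i) (1 : F))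
    (fun i => Pi.single (Sum.inr i) 1) (fun i => plusQ_single _) (fun i => plusQ_single _)
    (fun i => by rw [(polar_single_plus i i).2.2, if_pos rfl])
    (fun i j hij => ⟨(polar_single_plus i j).1, (polar_single_plus i j).2.1, by
      rw [(polar_single_plus i j).2.2, if_neg hij]⟩) c hc Finset.univ
  refine ⟨h, hd, hs, fun x => ?_⟩
  rw [Matrix.fromBlocks_diagonal]
  have e : (h.1 : (Fin m ⊕ Fin m → F) →ₗ[F] (Fin m ⊕ Fin m → F)) =
      Matrix.mulVecLin (Matrix.diagonal (Sum.elim c fun i => (c i)⁻¹)) := by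
    refine (Pi.basisFun F (Fin m ⊕ Fin m)).ext fun s => ?_
    rw [Pi.basisFun_apply, Matrix.mulVecLin_apply, Matrix.diagonal_mulVec_single, mul_one]
    rcases s with i | i
    · show h.1 (Pi.single (Sum.inl i) 1) = _
      rw [(hact i (Finset.mem_univ i)).1, ← Pi.single_smul', smul_eq_mul, mul_one]; rfl
    · show h.1 (Pi.single (Sum.inr i) 1) = _
      rw [(hact i (Finset.mem_univ i)).2, ← Pi.single_smul', smul_eq_mul, mul_one]; rfl
  exact LinearMap.congr_fun e x

/-- Characters of a Levi element. -/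
theorem chars_levi (hex : Nat.card F ≠ 2 ∨ finrank F (Fin m ⊕ Fin m → F) ≠ 4) {A : Matrix (Fin m) (Fin m) F}
    (hA : A.det ≠ 0) (h : oG (plusQ F m))
    (hh : ∀ x, h.1 x = (Matrix.fromBlocks A 0 0 A⁻¹.transpose).mulVec x) :
    dickson nondeg_plusQ hex h = 1 ∧ ((2 : F) ≠ 0 → spin (plusQ F m) h = qs A.det) := by
  classical
  revert h
  refine Matrix.diagonal_transvection_induction_of_det_ne_zero (fun A => ∀ h : oG (plusQ F m),
    (∀ x, h.1 x = (Matrix.fromBlocks A 0 0 A⁻¹.transpose).mulVec x) →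
      dickson nondeg_plusQ hex h = 1 ∧ ((2 : F) ≠ 0 → spin (plusQ F m) h = qs A.det)) A hA ?_ ?_ ?_
  · intro D hD h hh
    rw [Matrix.det_diagonal] at hD
    have hD' : ∀ i, D i ≠ 0 := fun i => Finset.prod_ne_zero_iff.1 hD i (Finset.mem_univ i)
    obtain ⟨k, kd, ks, kapp⟩ := exists_plus_scale hex D hD'
    have hinv : (Matrix.diagonal D)⁻¹ = Matrix.diagonal fun i => (D i)⁻¹ :=
      Matrix.inv_eq_right_inv (by rw [Matrix.diagonal_mul_diagonal]; simp [hD'])
    have e : h = k := ext_oG fun x => by rw [hh, kapp, hinv, Matrix.diagonal_transpose]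
    rw [e, Matrix.det_diagonal, qs_prod D hD']
    exact ⟨kd, ks⟩
  · rintro ⟨i, j, hij, c⟩ h hh
    rw [Matrix.TransvectionStruct.toMatrix_mk] at hh ⊢
    have hinv : (Matrix.transvection i j c)⁻¹ = Matrix.transvection i j (-c) :=
      Matrix.inv_eq_right_inv (by rw [Matrix.transvection_mul_transvection_same _ _ hij, add_neg_cancel,
        Matrix.transvection_zero])
    have hp : plusQ F m (Pi.single (Sum.inl i) 1) = 0 := plusQ_single _
    have hw : polar (plusQ F m) (Pi.single (Sum.inl i) 1) (c • Pi.single (Sum.inr j) 1) = 0 := by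
      rw [polar_smul_right, (polar_single_plus i j).2.2, if_neg hij, smul_zero]
    have e : h = sO hp hw := ext_oG fun x => by
      rw [hh, hinv, sO_apply, Matrix.fromBlocks_mulVec]
      have q0 : plusQ F m (c • Pi.single (Sum.inr j) (1 : F)) = 0 := by rw [map_smul', plusQ_single, mul_zero]
      have pj : polar (plusQ F m) x (c • Pi.single (Sum.inr j) 1) = c * x (Sum.inl j) := by
        rw [polar_smul_right, smul_eq_mul]; simp [polar_plusQ, Pi.single_apply]
      have pi' : polar (plusQ F m) x (Pi.single (Sum.inl i) 1) = x (Sum.inr i) := by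
        simp [polar_plusQ, Pi.single_apply]
      rw [q0, pj, pi']
      funext s
      rcases s with a | a <;>
        simp [Matrix.transvection, Matrix.transpose_add, Matrix.transpose_single, Matrix.add_mulVec,
          Matrix.single_mulVec, Pi.single_apply, Function.update_apply, eq_comm] <;>
        split_ifs <;> simp_all [mul_comm]
    rw [e, Matrix.det_transvection_of_ne _ _ hij, qs_one]
    exact (mem_commutator_chars nondeg_plusQ hex _).1 (sO_mem_commutator nondeg_plusQ hex hp hw)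
  · intro A B hA hB ihA ihB h hh
    obtain ⟨a, ha⟩ := exists_leviO A A⁻¹ (Matrix.mul_nonsing_inv A hA.isUnit)
    obtain ⟨b, hb⟩ := exists_leviO B B⁻¹ (Matrix.mul_nonsing_inv B hB.isUnit)
    have e : h = a * b := ext_oG fun x => by
      rw [hh, oG_mul_apply, hb, ha, Matrix.mulVec_mulVec, Matrix.fromBlocks_multiply, Matrix.mul_inv_rev,
        Matrix.transpose_mul]
      simp
    obtain ⟨a1, a2⟩ := ihA a ha
    obtain ⟨b1, b2⟩ := ihB b hb
    rw [e]
    refine ⟨by rw [map_mul, a1, b1, one_mul], fun h2 => ?_⟩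
    rw [map_mul, a2 h2, b2 h2, Matrix.det_mul, qs_mul hA hB]

/-- The swap of the two coordinate subspaces. -/
theorem exists_swapO : ∃ h : oG (plusQ F m), ∀ x, h.1 x = x ∘ Sum.swap :=
  ⟨⟨LinearEquiv.funCongrLeft F F (Equiv.sumComm (Fin m) (Fin m)), fun x => by
    simp [plusQ_apply, LinearEquiv.funCongrLeft_apply, LinearMap.funLeft, mul_comm]⟩, fun x => rfl⟩

/-- The subspace of vanishing second coordinates. -/
def plusU (F : Type*) [Field F] (m : ℕ) : Submodule F (Fin m ⊕ Fin m → F) :=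
  LinearMap.ker (LinearMap.funLeft F F (Sum.inr : Fin m → Fin m ⊕ Fin m))

omit [Finite F] in
theorem mem_plusU {x : Fin m ⊕ Fin m → F} : x ∈ plusU F m ↔ ∀ i, x (.inr i) = 0 := by
  simp [plusU, funext_iff, LinearMap.funLeft]

omit [Finite F] in
theorem plusU_singular : ∀ u ∈ plusU F m, plusQ F m u = 0 := fun u hu => by
  simp [plusQ_apply, mem_plusU.1 hu]

omit [Finite F] in
theorem finrank_plusU : finrank F (plusU F m) = m := by
  have h := LinearMap.finrank_range_add_finrank_ker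
    (LinearMap.funLeft F F (Sum.inr : Fin m → Fin m ⊕ Fin m))
  rw [LinearMap.range_eq_top.2 (LinearMap.funLeft_surjective_of_injective F F _ Sum.inr_injective), finrank_top,
    finrank_plus] at h
  simp at h
  show finrank F (LinearMap.ker (LinearMap.funLeft F F (Sum.inr : Fin m → Fin m ⊕ Fin m))) = m
  omega

end plus

section sum

variable {F : Type*} [Field F] {k l : ℕ} (Q₁ : QuadraticForm F (Fin k → F)) (Q₂ : QuadraticForm F (Fin l → F))

/-- The orthogonal sum of two forms. -/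
noncomputable def sumQ : QuadraticForm F (Fin k ⊕ Fin l → F) :=
  Q₁.comp (LinearMap.funLeft F F Sum.inl) + Q₂.comp (LinearMap.funLeft F F Sum.inr)

theorem sumQ_apply (v : Fin k ⊕ Fin l → F) : sumQ Q₁ Q₂ v = Q₁ (v ∘ Sum.inl) + Q₂ (v ∘ Sum.inr) := rfl

theorem polar_sumQ (v w : Fin k ⊕ Fin l → F) :
    polar (sumQ Q₁ Q₂) v w = polar Q₁ (v ∘ Sum.inl) (w ∘ Sum.inl) + polar Q₂ (v ∘ Sum.inr) (w ∘ Sum.inr) := by
  simp only [polar, sumQ_apply, Pi.add_comp]
  ring

variable {Q₁ Q₂}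

theorem nondeg_sumQ (h₁ : (polarBilin Q₁).Nondegenerate) (h₂ : (polarBilin Q₂).Nondegenerate) :
    (polarBilin (sumQ Q₁ Q₂)).Nondegenerate := nondeg_of fun x hx => by
  have e1 : x ∘ Sum.inl = 0 := eq_zero_of_polar h₁ fun y => by
    have := hx (Sum.elim y 0)
    rw [polar_sumQ, Sum.elim_comp_inl, Sum.elim_comp_inr] at this
    simpa [polar] using this
  have e2 : x ∘ Sum.inr = 0 := eq_zero_of_polar h₂ fun y => by
    have := hx (Sum.elim 0 y)
    rw [polar_sumQ, Sum.elim_comp_inl, Sum.elim_comp_inr] at this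
    simpa [polar] using this
  funext s
  rcases s with i | i
  · exact congrFun e1 i
  · exact congrFun e2 i

variable (Q₁ Q₂)

theorem exists_blockO (g₁ : oG Q₁) (g₂ : oG Q₂) :
    ∃ h : oG (sumQ Q₁ Q₂), ∀ x, h.1 x = Sum.elim (g₁.1 (x ∘ Sum.inl)) (g₂.1 (x ∘ Sum.inr)) := by
  let e := LinearEquiv.sumArrowLequivProdArrow (Fin k) (Fin l) F F
  refine ⟨⟨(e.trans (g₁.1.prodCongr g₂.1)).trans e.symm, fun x => ?_⟩, fun x => ?_⟩
  · show sumQ Q₁ Q₂ (Sum.elim (g₁.1 (x ∘ Sum.inl)) (g₂.1 (x ∘ Sum.inr))) = _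
    rw [sumQ_apply, Sum.elim_comp_inl, Sum.elim_comp_inr, g₁.2, g₂.2, ← sumQ_apply]
  · rfl

/-- The orthogonal sum of isometries. -/
noncomputable def blockO : oG Q₁ × oG Q₂ →* oG (sumQ Q₁ Q₂) :=
  MonoidHom.mk' (fun g => (exists_blockO Q₁ Q₂ g.1 g.2).choose) fun g g' => ext_oG fun x => by
    rw [oG_mul_apply, (exists_blockO Q₁ Q₂ (g * g').1 (g * g').2).choose_spec,
      (exists_blockO Q₁ Q₂ g.1 g.2).choose_spec, (exists_blockO Q₁ Q₂ g'.1 g'.2).choose_spec,
      Sum.elim_comp_inl, Sum.elim_comp_inr]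
    rfl

theorem blockO_apply (g : oG Q₁ × oG Q₂) (x : Fin k ⊕ Fin l → F) :
    (blockO Q₁ Q₂ g).1 x = Sum.elim (g.1.1 (x ∘ Sum.inl)) (g.2.1 (x ∘ Sum.inr)) :=
  (exists_blockO Q₁ Q₂ g.1 g.2).choose_spec x

theorem blockO_rO_left {v : Fin k → F} (hv : Q₁ v ≠ 0) :
    ∃ (w : Fin k ⊕ Fin l → F) (hw : sumQ Q₁ Q₂ w ≠ 0), sumQ Q₁ Q₂ w = Q₁ v ∧
      blockO Q₁ Q₂ (rO hv, 1) = rO hw := by
  have e : sumQ Q₁ Q₂ (Sum.elim v 0) = Q₁ v := by
    rw [sumQ_apply, Sum.elim_comp_inl, Sum.elim_comp_inr, map_zero, add_zero]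
  refine ⟨Sum.elim v 0, by rwa [e], e, ext_oG fun x => ?_⟩
  rw [blockO_apply, rO_apply, rO_apply, e, polar_sumQ, Sum.elim_comp_inl, Sum.elim_comp_inr, oG_one_apply]
  funext s
  rcases s with i | i <;> simp [polar]

theorem blockO_rO_right {v : Fin l → F} (hv : Q₂ v ≠ 0) :
    ∃ (w : Fin k ⊕ Fin l → F) (hw : sumQ Q₁ Q₂ w ≠ 0), sumQ Q₁ Q₂ w = Q₂ v ∧
      blockO Q₁ Q₂ (1, rO hv) = rO hw := by
  have e : sumQ Q₁ Q₂ (Sum.elim 0 v) = Q₂ v := by
    rw [sumQ_apply, Sum.elim_comp_inl, Sum.elim_comp_inr, map_zero, zero_add]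
  refine ⟨Sum.elim 0 v, by rwa [e], e, ext_oG fun x => ?_⟩
  rw [blockO_apply, rO_apply, rO_apply, e, polar_sumQ, Sum.elim_comp_inl, Sum.elim_comp_inr, oG_one_apply]
  funext s
  rcases s with i | i <;> simp [polar]

end sum

end Cfsg.Agent.Classical.Quad
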