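import Mathlib
import Cfsg.Agent.Classical.OrthBlocks
import Cfsg.Agent.Classical.LinearBasic

/-!
The orthogonal group of plus type in dimension 4 through 2 by 2 matrices, and its shape over two elements.
-/

set_option autoImplicit false

namespace Cfsg.Agent.Classical.Quad

open Module QuadraticMap

/-- Coordinates by 2 by 2 matrices. -/
def toM (F : Type*) [Field F] : (Fin 2 ⊕ Fin 2 → F) ≃ₗ[F] Matrix (Fin 2) (Fin 2) F where
  toFun v := !![v (.inl 0), v (.inl 1); -v (.inr 1), v (.inr 0)]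
  map_add' v w := by ext i j; fin_cases i <;> fin_cases j <;> simp; ring
  map_smul' c v := by ext i j; fin_cases i <;> fin_cases j <;> simp
  invFun X := Sum.elim ![X 0 0, X 0 1] ![X 1 1, -X 1 0]
  left_inv v := by funext i; rcases i with i | i <;> fin_cases i <;> simp
  right_inv X := by ext i j; fin_cases i <;> fin_cases j <;> simp

variable {F : Type*} [Field F]

theorem det_toM (v : Fin 2 ⊕ Fin 2 → F) : (toM F v).det = plusQ F 2 v := by
  rw [Matrix.det_fin_two, plusQ_apply, Fin.sum_univ_two]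
  simp [toM]

/-- Multiplication on both sides. -/
noncomputable def twoSided :
    Matrix.SpecialLinearGroup (Fin 2) F × Matrix.SpecialLinearGroup (Fin 2) F →* oG (plusQ F 2) :=
  MonoidHom.mk' (fun p => ⟨(toM F).trans (({
      toFun := fun X => p.1.1 * X * (p.2⁻¹).1
      map_add' := fun X Y => by rw [Matrix.mul_add, Matrix.add_mul]
      map_smul' := fun c X => by simp
      invFun := fun X => (p.1⁻¹).1 * X * p.2.1
      left_inv := fun X => by
        simp only [← Matrix.mul_assoc, ← Matrix.SpecialLinearGroup.coe_mul, inv_mul_cancel]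
        simp only [Matrix.mul_assoc, ← Matrix.SpecialLinearGroup.coe_mul, inv_mul_cancel]
        simp
      right_inv := fun X => by
        simp only [← Matrix.mul_assoc, ← Matrix.SpecialLinearGroup.coe_mul, mul_inv_cancel]
        simp only [Matrix.mul_assoc, ← Matrix.SpecialLinearGroup.coe_mul, mul_inv_cancel]
        simp } : Matrix (Fin 2) (Fin 2) F ≃ₗ[F] Matrix (Fin 2) (Fin 2) F).trans (toM F).symm), fun v => by
      rw [← det_toM, ← det_toM]
      simp only [LinearEquiv.trans_apply, LinearEquiv.apply_symm_apply]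
      show Matrix.det (p.1.1 * toM F v * (p.2⁻¹).1) = _
      rw [Matrix.det_mul, Matrix.det_mul, p.1.2, (p.2⁻¹).2, one_mul, mul_one]⟩)
    fun p p' => Subtype.ext (LinearEquiv.ext fun v => by
      simp [LinearEquiv.mul_apply, Matrix.mul_assoc])

theorem toM_twoSided (p : Matrix.SpecialLinearGroup (Fin 2) F × Matrix.SpecialLinearGroup (Fin 2) F)
    (v : Fin 2 ⊕ Fin 2 → F) : toM F ((twoSided p).1 v) = p.1.1 * toM F v * (p.2⁻¹).1 :=
  (toM F).apply_symm_apply _

/-- Transposition. -/
def transposeO : oG (plusQ F 2) :=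
  ⟨(toM F).trans ((Matrix.transposeLinearEquiv (Fin 2) (Fin 2) F F).trans (toM F).symm), fun v => by
    rw [← det_toM, ← det_toM]
    simp [LinearEquiv.trans_apply, Matrix.det_transpose]⟩

theorem toM_transposeO (v : Fin 2 ⊕ Fin 2 → F) : toM F ((transposeO (F := F)).1 v) = (toM F v).transpose :=
  (toM F).apply_symm_apply _

theorem twoSided_eq_one {p : Matrix.SpecialLinearGroup (Fin 2) F × Matrix.SpecialLinearGroup (Fin 2) F}
    (h : twoSided p = 1) : p.1 = p.2 ∧ p.1 ∈ Subgroup.center (Matrix.SpecialLinearGroup (Fin 2) F) := by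
  have key : ∀ X : Matrix (Fin 2) (Fin 2) F, p.1.1 * X * (p.2⁻¹).1 = X := fun X => by
    have := congrArg (fun g : oG (plusQ F 2) => toM F (g.1 ((toM F).symm X))) h
    simpa [toM_twoSided] using this
  have h1 : p.1 * p.2⁻¹ = 1 := Subtype.ext (by
    have := key 1
    rwa [Matrix.mul_one] at this)
  have h2 : p.1 = p.2 := mul_inv_eq_one.1 h1
  refine ⟨h2, Subgroup.mem_center_iff.2 fun g => Subtype.ext ?_⟩
  have := key g.1
  rw [← h2] at this
  have h3 := congrArg (· * p.1.1) this
  simp only [Matrix.mul_assoc, ← Matrix.SpecialLinearGroup.coe_mul, inv_mul_cancel] at h3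
  simpa using h3.symm

theorem transpose_conj (g : Matrix.SpecialLinearGroup (Fin 2) F) :
    transposeO * twoSided (g, 1) * transposeO⁻¹ = twoSided (1, (g.transpose)⁻¹) := by
  rw [mul_inv_eq_iff_eq_mul]
  refine Subtype.ext (LinearEquiv.ext fun v => (toM F).injective ?_)
  show toM F ((transposeO (F := F)).1 ((twoSided (g, 1)).1 v)) =
    toM F ((twoSided (1, (g.transpose)⁻¹)).1 ((transposeO (F := F)).1 v))
  rw [toM_transposeO, toM_twoSided, toM_twoSided, toM_transposeO]
  simp [Matrix.SpecialLinearGroup.coe_transpose]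

theorem sl_two_two_equiv :
    Nonempty (Matrix.SpecialLinearGroup (Fin 2) (ZMod 2) ≃* Equiv.Perm (Fin 3)) := by
  let w : Fin 3 ≃ {v : Fin 2 → ZMod 2 // v ≠ 0} :=
    Equiv.ofBijective ![⟨![1, 0], by decide⟩, ⟨![0, 1], by decide⟩, ⟨![1, 1], by decide⟩] (by decide)
  let act : Matrix.SpecialLinearGroup (Fin 2) (ZMod 2) → Equiv.Perm {v : Fin 2 → ZMod 2 // v ≠ 0} := fun g =>
    Equiv.ofBijective (fun v => ⟨g.1.mulVec v.1, fun h => v.2 (by
      have := congrArg ((g⁻¹).1.mulVec) h
      rwa [Matrix.mulVec_mulVec, ← Matrix.SpecialLinearGroup.coe_mul, inv_mul_cancel,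
        Matrix.SpecialLinearGroup.coe_one, Matrix.one_mulVec, Matrix.mulVec_zero] at this)⟩)
      (Finite.injective_iff_bijective.1 fun v v' h => Subtype.ext
        (Matrix.mulVec_injective_of_isUnit ((Matrix.isUnit_iff_isUnit_det _).2 (by rw [g.2]; exact isUnit_one))
          (congrArg Subtype.val h)))
  let f : Matrix.SpecialLinearGroup (Fin 2) (ZMod 2) →* Equiv.Perm (Fin 3) :=
    MonoidHom.mk' (fun g => (w.trans (act g)).trans w.symm) fun g h => Equiv.ext fun i => by
      simp only [Equiv.trans_apply, Equiv.Perm.mul_apply, Equiv.apply_symm_apply]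
      refine congrArg w.symm (Subtype.ext ?_)
      show (g.1 * h.1).mulVec (w i).1 = g.1.mulVec (h.1.mulVec (w i).1)
      exact (Matrix.mulVec_mulVec _ _ _).symm
  have hf : Function.Injective f := fun g h e => by
    have key : ∀ i, g.1.mulVec (w i).1 = h.1.mulVec (w i).1 := fun i =>
      congrArg Subtype.val (w.symm.injective (congrArg (fun σ : Equiv.Perm (Fin 3) => σ i) e))
    refine Subtype.ext (Matrix.ext_of_mulVec_single fun j => ?_)
    fin_cases j
    · have e : (w 0).1 = Pi.single 0 1 := by funext i; fin_cases i <;> rfl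
      exact e ▸ key 0
    · have e : (w 1).1 = Pi.single 1 1 := by funext i; fin_cases i <;> rfl
      exact e ▸ key 1
  have hc : Nat.card (Equiv.Perm (Fin 3)) = Nat.card (Matrix.SpecialLinearGroup (Fin 2) (ZMod 2)) := by
    have := card_sl_mul (ZMod.card 2) 2 (by norm_num)
    simp [Fin.prod_univ_two] at this
    rw [Nat.card_perm, Nat.card_fin, Nat.card_eq_fintype_card (α := Matrix.SpecialLinearGroup (Fin 2) (ZMod 2)), this]
    rfl
  exact ⟨MulEquiv.ofBijective f ((Nat.bijective_iff_injective_and_card f).2 ⟨hf, hc.symm⟩)⟩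

theorem plus_four_two_shape :
    Nat.card (oG (plusQ (ZMod 2) 2)) = 72 ∧ ∃ A B : Subgroup (oG (plusQ (ZMod 2) 2)),
      Nonempty (↥A ≃* Equiv.Perm (Fin 3)) ∧ Nonempty (↥B ≃* Equiv.Perm (Fin 3)) ∧ A ⊓ B = ⊥ ∧
      (∀ a ∈ A, ∀ b ∈ B, a * b = b * a) ∧ (A ⊔ B).index = 2 ∧
      ∃ g : oG (plusQ (ZMod 2) 2), A.map (MulAut.conj g).toMonoidHom = B := by
  have hcard : Nat.card (oG (plusQ (ZMod 2) 2)) = 72 := by
    rw [Nat.card_congr (oCongr (Q₂ := hyp (zeroForm (ZMod 2)) 2) (plusCoord 2) fun x => rfl).toEquiv,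
      card_oG_plus (ZMod.card 2) 1]
    simp
  obtain ⟨σ⟩ := sl_two_two_equiv
  let T := twoSided (F := ZMod 2)
  have hinj : Function.Injective T := (injective_iff_map_eq_one _).2 fun p hp => by
    obtain ⟨h1, h2⟩ := twoSided_eq_one hp
    rw [Matrix.SpecialLinearGroup.mem_center_iff] at h2
    obtain ⟨r, hr, hr'⟩ := h2
    have hr1 : r = 1 := (show ∀ a : ZMod 2, a ^ Fintype.card (Fin 2) = 1 → a = 1 by decide) r hr
    have hp1 : p.1 = 1 := Subtype.ext (by rw [← hr', hr1, map_one]; rfl)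
    exact Prod.ext hp1 (h1 ▸ hp1)
  let a := T.comp (MonoidHom.inl _ _)
  let b := T.comp (MonoidHom.inr _ _)
  have ha : Function.Injective a := hinj.comp fun x y h => congrArg Prod.fst h
  have hb : Function.Injective b := hinj.comp fun x y h => congrArg Prod.snd h
  refine ⟨hcard, a.range, b.range, ⟨(MonoidHom.ofInjective ha).symm.trans σ⟩,
    ⟨(MonoidHom.ofInjective hb).symm.trans σ⟩, ?_, ?_, ?_, transposeO, ?_⟩
  · rw [Subgroup.eq_bot_iff_forall]
    rintro _ ⟨⟨x, rfl⟩, y, hy⟩
    have := congrArg Prod.fst (hinj hy)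
    simp at this
    rw [← this, map_one]
  · rintro _ ⟨x, rfl⟩ _ ⟨y, rfl⟩
    show T (x, 1) * T (1, y) = T (1, y) * T (x, 1)
    rw [← map_mul, ← map_mul]
    simp
  · have hsup : a.range ⊔ b.range = T.range := by
      refine le_antisymm (sup_le (by rintro _ ⟨x, rfl⟩; exact ⟨_, rfl⟩) (by rintro _ ⟨x, rfl⟩; exact ⟨_, rfl⟩)) ?_
      rintro _ ⟨⟨x, y⟩, rfl⟩
      rw [show T (x, y) = a x * b y by show _ = T (x, 1) * T (1, y); rw [← map_mul]; simp]
      exact Subgroup.mul_mem_sup ⟨x, rfl⟩ ⟨y, rfl⟩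
    have h := (a.range ⊔ b.range).index_mul_card
    rw [hcard, hsup, Nat.card_congr (MonoidHom.ofInjective hinj).symm.toEquiv, Nat.card_prod,
      Nat.card_congr σ.toEquiv, Nat.card_perm, Nat.card_fin] at h
    rw [hsup]
    simp [Nat.factorial] at h
    omega
  · refine le_antisymm ?_ ?_
    · rintro _ ⟨_, ⟨x, rfl⟩, rfl⟩
      exact ⟨(x.transpose)⁻¹, (transpose_conj x).symm⟩
    · rintro _ ⟨y, rfl⟩
      refine ⟨a (y⁻¹).transpose, ⟨_, rfl⟩, ?_⟩
      show transposeO * twoSided ((y⁻¹).transpose, 1) * transposeO⁻¹ = twoSided (1, y)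
      rw [transpose_conj]
      have e : ((y⁻¹).transpose).transpose = y⁻¹ := Subtype.ext (Matrix.transpose_transpose _)
      rw [e, inv_inv]

end Cfsg.Agent.Classical.Quad
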