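import Mathlib
import Cfsg.Agent.Classical.QuadTypes
import Cfsg.Agent.Classical.QuadStd
import Cfsg.Agent.Classical.SympGroup

/-!
The symmetric group of degree N acting on the sum-zero vectors modulo the constants over the field of two elements,
with the alternating form Σ uᵢvᵢ and, for N not 2 mod 4, the quadratic form half the weight.
-/

set_option autoImplicit false

namespace Cfsg.Agent.Classical.Symm2

open Module QuadraticMap

universe u

variable {F : Type u} [Field F] [Fintype F]

/-- The lift of an element of the two-element field to a natural number. -/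
noncomputable def val (a : F) : ℕ := by classical exact if a = 0 then 0 else 1

section basic

variable (hF : Fintype.card F = 2)
include hF

theorem two_cases (a : F) : a = 0 ∨ a = 1 := by
  classical
  have h : ({0, 1} : Finset F) = Finset.univ :=
    Finset.eq_univ_of_card _ (by rw [Finset.card_pair zero_ne_one, hF])
  have ha := Finset.mem_univ a
  rw [← h] at ha
  simpa using ha

theorem add_self (a : F) : a + a = 0 := by
  have h : (1 : F) + 1 = 0 := (two_cases hF (1 + 1)).resolve_right fun e => one_ne_zero (add_eq_left.1 e)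
  linear_combination a * h

theorem charTwo : CharP F 2 :=
  CharTwo.of_one_ne_zero_of_two_eq_zero one_ne_zero (by linear_combination add_self hF 1)

theorem neg_self (a : F) : -a = a := by linear_combination -add_self hF a

theorem val_add (a b : F) : val (a + b) + 2 * val (a * b) = val a + val b := by
  rcases two_cases hF a with rfl | rfl <;> rcases two_cases hF b with rfl | rfl <;> simp [val, add_self hF]

theorem cast_val (a : F) : (val a : F) = a := by
  rcases two_cases hF a with rfl | rfl <;> simp [val]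

end basic

variable (F) (N : ℕ)

/-- The sum of the coordinates. -/
def sumLin : (Fin N → F) →ₗ[F] F := ∑ i, LinearMap.proj i

/-- Sum-zero vectors. -/
def V0 : Submodule F (Fin N → F) := LinearMap.ker (sumLin F N)

/-- Constant vectors inside the sum-zero vectors. -/
def L0 : Submodule F (V0 F N) := (Submodule.span F {(fun _ => 1 : Fin N → F)}).comap (V0 F N).subtype

/-- The heart of the permutation module. -/
abbrev Heart : Type u := V0 F N ⧸ L0 F N

variable {F N}

omit [Fintype F] in
theorem mem_V0 {v : Fin N → F} : v ∈ V0 F N ↔ ∑ i, v i = 0 := by simp [V0, sumLin]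

omit [Fintype F] in
theorem mem_L0 {v : V0 F N} : v ∈ L0 F N ↔ ∃ c : F, ∀ i, v.1 i = c := by
  simp only [L0, Submodule.mem_comap, Submodule.subtype_apply, Submodule.mem_span_singleton]
  exact exists_congr fun c => ⟨fun h i => by simp [← h], fun h => funext fun i => by simp [h i]⟩

/-- The scalar product on sum-zero vectors. -/
def dotB : V0 F N →ₗ[F] V0 F N →ₗ[F] F :=
  LinearMap.mk₂ F (fun v w => ∑ i, v.1 i * w.1 i)
    (fun a b c => by simp [add_mul, Finset.sum_add_distrib])
    (fun c a b => by simp [Finset.mul_sum, mul_assoc])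
    (fun a b c => by simp [mul_add, Finset.sum_add_distrib])
    (fun c a b => by simp [Finset.mul_sum, mul_left_comm])

omit [Fintype F] in
theorem dotB_apply (v w : V0 F N) : dotB v w = ∑ i, v.1 i * w.1 i := rfl

omit [Fintype F] in
theorem dotB_comm (v w : V0 F N) : dotB v w = dotB w v := by simp [dotB_apply, mul_comm]

omit [Fintype F] in
theorem dotB_const {v : V0 F N} (hv : v ∈ L0 F N) (w : V0 F N) : dotB v w = 0 := by
  obtain ⟨c, hc⟩ := mem_L0.1 hv
  rw [dotB_apply, Finset.sum_congr rfl fun i _ => by rw [hc i], ← Finset.mul_sum, mem_V0.1 w.2, mul_zero]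

variable (F N) in
/-- The form on the heart. -/
noncomputable def heartB : LinearMap.BilinForm F (Heart F N) :=
  (L0 F N).liftQ ((L0 F N).liftQ (dotB (F := F) (N := N))
    (fun _ hv => LinearMap.mem_ker.2 (LinearMap.ext (dotB_const hv)))).flip
    fun v hv => LinearMap.mem_ker.2 (LinearMap.ext fun x => by
      obtain ⟨w, rfl⟩ := Submodule.Quotient.mk_surjective _ x
      show dotB w v = 0
      rw [dotB_comm]; exact dotB_const hv w)

omit [Fintype F] in
theorem heartB_mk (v w : V0 F N) :
    heartB F N (Submodule.Quotient.mk v : Heart F N) (Submodule.Quotient.mk w) = dotB v w :=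
  dotB_comm w v

omit [Fintype F] in
theorem heartB_comm (x y : Heart F N) : heartB F N x y = heartB F N y x := by
  obtain ⟨v, rfl⟩ := Submodule.Quotient.mk_surjective _ x
  obtain ⟨w, rfl⟩ := Submodule.Quotient.mk_surjective _ y
  rw [heartB_mk, heartB_mk, dotB_comm]

/-- Number of non-zero coordinates. -/
noncomputable def wt (v : Fin N → F) : ℕ := ∑ i, val (v i)

/-- Half the weight. -/
noncomputable def q0 (v : V0 F N) : F := ((wt v.1 / 2 : ℕ) : F)

/-- The action on sum-zero vectors. -/
def permV (σ : Equiv.Perm (Fin N)) : V0 F N ≃ₗ[F] V0 F N where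
  toFun v := ⟨fun i => v.1 (σ.symm i), mem_V0.2 ((Equiv.sum_comp σ.symm v.1).trans (mem_V0.1 v.2))⟩
  map_add' _ _ := rfl
  map_smul' _ _ := rfl
  invFun v := ⟨fun i => v.1 (σ i), mem_V0.2 ((Equiv.sum_comp σ v.1).trans (mem_V0.1 v.2))⟩
  left_inv v := Subtype.ext (funext fun i => by simp)
  right_inv v := Subtype.ext (funext fun i => by simp)

omit [Fintype F] in
theorem permV_apply (σ : Equiv.Perm (Fin N)) (v : V0 F N) (i : Fin N) :
    (permV σ v).1 i = v.1 (σ.symm i) := rfl

omit [Fintype F] in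
theorem permV_map (σ : Equiv.Perm (Fin N)) : (L0 F N).map (permV σ).toLinearMap = L0 F N := by
  ext v
  constructor
  · rintro ⟨w, hw, rfl⟩
    obtain ⟨c, hc⟩ := mem_L0.1 hw
    exact mem_L0.2 ⟨c, fun i => hc _⟩
  · intro hv
    obtain ⟨c, hc⟩ := mem_L0.1 hv
    exact ⟨v, hv, Subtype.ext (funext fun i => by simp [permV_apply, hc])⟩

variable (F N) in
/-- The action on the heart. -/
noncomputable def permH : Equiv.Perm (Fin N) →* (Heart F N ≃ₗ[F] Heart F N) :=
  MonoidHom.mk' (fun σ => Submodule.Quotient.equiv (L0 F N) (L0 F N) (permV σ) (permV_map σ)) fun σ τ =>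
    LinearEquiv.ext fun x => by
      obtain ⟨v, rfl⟩ := Submodule.Quotient.mk_surjective _ x
      rfl

omit [Fintype F] in
theorem permH_mk (σ : Equiv.Perm (Fin N)) (v : V0 F N) :
    permH F N σ (Submodule.Quotient.mk v : Heart F N) = Submodule.Quotient.mk (permV σ v) := rfl

omit [Fintype F] in
theorem dotB_perm (σ : Equiv.Perm (Fin N)) (v w : V0 F N) : dotB (permV σ v) (permV σ w) = dotB v w :=
  Equiv.sum_comp σ.symm fun i => v.1 i * w.1 i

section two

variable (hF : Fintype.card F = 2)
include hF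

theorem wt_add (v w : Fin N → F) : wt (v + w) + 2 * ∑ i, val (v i * w i) = wt v + wt w := by
  rw [wt, wt, wt, Finset.mul_sum, ← Finset.sum_add_distrib, ← Finset.sum_add_distrib]
  exact Finset.sum_congr rfl fun i _ => val_add hF _ _

theorem two_dvd_wt (v : V0 F N) : 2 ∣ wt v.1 := by
  have := charTwo hF
  rw [← CharP.cast_eq_zero_iff F 2, wt, Nat.cast_sum]
  simp only [cast_val hF]
  exact mem_V0.1 v.2

theorem q0_add (v w : V0 F N) : q0 (v + w) = q0 v + q0 w + dotB v w := by
  obtain ⟨a, ha⟩ := two_dvd_wt hF v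
  obtain ⟨b, hb⟩ := two_dvd_wt hF w
  obtain ⟨c, hc⟩ := two_dvd_wt hF (v + w)
  have hadd := wt_add hF v.1 w.1
  rw [← Submodule.coe_add, hc, ha, hb] at hadd
  have h : c + ∑ i, val (v.1 i * w.1 i) = a + b := by omega
  have h' := congrArg (Nat.cast : ℕ → F) h
  rw [Nat.cast_add, Nat.cast_add, Nat.cast_sum] at h'
  simp only [cast_val hF] at h'
  rw [← dotB_apply] at h'
  simp only [q0, ha, hb, hc, Nat.mul_div_cancel_left _ (by norm_num : 0 < 2)]
  linear_combination h' - add_self hF (dotB v w)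

theorem dotB_self (v : V0 F N) : dotB v v = 0 := by
  rw [dotB_apply, Finset.sum_congr rfl fun i _ => ?_, mem_V0.1 v.2]
  rcases two_cases hF (v.1 i) with h | h <;> simp [h]

theorem heartB_isAlt : (heartB F N).IsAlt := fun x => by
  obtain ⟨v, rfl⟩ := Submodule.Quotient.mk_surjective _ x
  rw [heartB_mk, dotB_self hF]

theorem q0_const (hN : N % 4 ≠ 2) {v : V0 F N} (hv : v ∈ L0 F N) : q0 v = 0 := by
  obtain ⟨c, hc⟩ := mem_L0.1 hv
  have := charTwo hF
  rcases two_cases hF c with rfl | rfl
  · simp [q0, wt, hc, val]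
  · have h0 := mem_V0.1 v.2
    simp only [hc, Finset.sum_const, Finset.card_univ, Fintype.card_fin, nsmul_one] at h0
    rw [CharP.cast_eq_zero_iff F 2] at h0
    simp only [q0, wt, hc, val, one_ne_zero, if_false, Finset.sum_const, Finset.card_univ, Fintype.card_fin,
      smul_eq_mul, mul_one]
    rw [CharP.cast_eq_zero_iff F 2]
    omega

/-- The value of half the weight on the heart. -/
noncomputable def hq (hN : N % 4 ≠ 2) (x : Heart F N) : F :=
  Quotient.liftOn' x q0 fun a b h => by
    rw [Submodule.quotientRel_def] at h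
    conv_lhs => rw [← sub_add_cancel a b]
    rw [q0_add hF, q0_const hF hN h, dotB_const h, zero_add, add_zero]

theorem hq_mk (hN : N % 4 ≠ 2) (v : V0 F N) : hq hF hN (Submodule.Quotient.mk v) = q0 v := rfl

theorem polar_hq (hN : N % 4 ≠ 2) (x y : Heart F N) : polar (hq hF hN) x y = heartB F N x y := by
  obtain ⟨v, rfl⟩ := Submodule.Quotient.mk_surjective _ x
  obtain ⟨w, rfl⟩ := Submodule.Quotient.mk_surjective _ y
  rw [polar, ← Submodule.Quotient.mk_add, hq_mk, hq_mk, hq_mk, heartB_mk, q0_add hF]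
  ring

theorem hq_smul (hN : N % 4 ≠ 2) (a : F) (x : Heart F N) : hq hF hN (a • x) = (a * a) • hq hF hN x := by
  rcases two_cases hF a with rfl | rfl
  · rw [zero_smul, mul_zero, zero_smul, ← Submodule.Quotient.mk_zero (L0 F N), hq_mk]
    exact q0_const hF hN (zero_mem _)
  · rw [one_smul, one_mul, one_smul]

/-- The quadratic form on the heart. -/
noncomputable def heartQ (hN : N % 4 ≠ 2) : QuadraticForm F (Heart F N) :=
  QuadraticMap.ofPolar (hq hF hN) (hq_smul hF hN)
    (fun x x' y => by simp only [polar_hq hF hN, map_add, LinearMap.add_apply])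
    fun a x y => by simp only [polar_hq hF hN, map_smul, LinearMap.smul_apply]

theorem heartQ_mk (hN : N % 4 ≠ 2) (v : V0 F N) : heartQ hF hN (Submodule.Quotient.mk v) = q0 v := rfl

theorem heartB_nondeg : (heartB F N).Nondegenerate := by
  classical
  have key : ∀ x : Heart F N, (∀ y, heartB F N x y = 0) → x = 0 := fun x hx => by
    obtain ⟨v, rfl⟩ := Submodule.Quotient.mk_surjective _ x
    rw [Submodule.Quotient.mk_eq_zero, mem_L0]
    by_cases hN : N = 0
    · subst hN
      exact ⟨0, fun i => i.elim0⟩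
    · refine ⟨v.1 ⟨0, by omega⟩, fun i => ?_⟩
      by_cases hi : i = ⟨0, by omega⟩
      · rw [hi]
      let u : Fin N → F := Pi.single i 1 + Pi.single ⟨0, by omega⟩ 1
      have hu : u ∈ V0 F N := mem_V0.2 (by simp [u, Finset.sum_add_distrib, add_self hF])
      have h := hx (Submodule.Quotient.mk ⟨u, hu⟩)
      rw [heartB_mk, dotB_apply] at h
      simp [u, mul_add, Finset.sum_add_distrib, Pi.single_apply] at h
      linear_combination h - add_self hF (v.1 ⟨0, by omega⟩)
  exact ⟨key, fun y hy => key y fun x => by rw [heartB_comm]; exact hy x⟩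

end two

section dims

variable (hF : Fintype.card F = 2)
include hF

omit hF [Fintype F] in
theorem finrank_V0 (hN : 1 ≤ N) : finrank F (V0 F N) + 1 = N := by
  classical
  have hs : Function.Surjective (sumLin F N) := fun c => ⟨Pi.single ⟨0, hN⟩ c, by simp [sumLin]⟩
  have h := (sumLin F N).finrank_range_add_finrank_ker
  rw [LinearMap.range_eq_top.2 hs, finrank_top, Module.finrank_self, Module.finrank_fin_fun] at h
  show finrank F (LinearMap.ker (sumLin F N)) + 1 = N
  omega

theorem finrank_heart_odd (hN : Odd N) : finrank F (Heart F N) + 1 = N := by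
  have hL : L0 F N = ⊥ := by
    rw [Submodule.eq_bot_iff]
    intro v hv
    obtain ⟨c, hc⟩ := mem_L0.1 hv
    have h0 := mem_V0.1 v.2
    have := charTwo hF
    have hN1 : (N : F) = 1 := by
      obtain ⟨k, rfl⟩ := hN
      rw [Nat.cast_add, Nat.cast_mul, Nat.cast_one, Nat.cast_ofNat, CharTwo.two_eq_zero, zero_mul, zero_add]
    simp only [hc, Finset.sum_const, Finset.card_univ, Fintype.card_fin, nsmul_eq_mul, hN1, one_mul] at h0
    exact Subtype.ext (funext fun i => by rw [hc i, h0]; rfl)
  rw [LinearEquiv.finrank_eq (Submodule.quotEquivOfEqBot _ hL)]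
  exact finrank_V0 (F := F) (by obtain ⟨k, rfl⟩ := hN; omega)

theorem finrank_L0_even (hN : Even N) (hN1 : 1 ≤ N) : finrank F (L0 F N) = 1 := by
  have hone : (fun _ => 1 : Fin N → F) ∈ V0 F N := by
    rw [mem_V0]
    obtain ⟨k, rfl⟩ := hN
    simp [add_self hF]
  rw [L0, LinearEquiv.finrank_eq (Submodule.comapSubtypeEquivOfLe
    ((Submodule.span_singleton_le_iff_mem _ _).2 hone))]
  exact finrank_span_singleton fun h => one_ne_zero (congrFun h ⟨0, hN1⟩)

theorem finrank_heart_even (hN : Even N) (hN1 : 1 ≤ N) : finrank F (Heart F N) + 2 = N := by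
  have h : finrank F (Heart F N) + finrank F (L0 F N) = finrank F (V0 F N) :=
    Submodule.finrank_quotient_add_finrank (L0 F N)
  have h1 := finrank_L0_even hF hN hN1
  have h2 := finrank_V0 (F := F) hN1
  omega

theorem permH_injective (hN : 5 ≤ N) : Function.Injective (permH F N) := by
  classical
  rw [injective_iff_map_eq_one]
  intro σ hσ
  have key : ∀ a b : Fin N, a ≠ b → σ a = a ∨ σ a = b := fun a b hab => by
    let u : Fin N → F := Pi.single a 1 + Pi.single b 1
    have hu : u ∈ V0 F N := mem_V0.2 (by simp [u, Finset.sum_add_distrib, add_self hF])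
    have h : permH F N σ (Submodule.Quotient.mk ⟨u, hu⟩) = Submodule.Quotient.mk ⟨u, hu⟩ := by
      rw [hσ]; rfl
    rw [permH_mk, Submodule.Quotient.eq, mem_L0] at h
    obtain ⟨c, hc⟩ := h
    obtain ⟨i, hi⟩ : ∃ i, i ∉ ({a, b, σ a, σ b} : Finset (Fin N)) := by
      refine by_contra fun hne => ?_
      push Not at hne
      have h4 := Finset.card_le_four (a := a) (b := b) (c := σ a) (d := σ b)
      rw [Finset.eq_univ_iff_forall.2 hne, Finset.card_univ, Fintype.card_fin] at h4
      omega
    simp only [Finset.mem_insert, Finset.mem_singleton, not_or] at hi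
    have hc0 : c = 0 := by
      rw [← hc i]
      show u (σ.symm i) - u i = 0
      have h1 : σ.symm i ≠ a := fun e => hi.2.2.1 (by rw [← e, σ.apply_symm_apply])
      have h2 : σ.symm i ≠ b := fun e => hi.2.2.2 (by rw [← e, σ.apply_symm_apply])
      simp [u, h1, h2, hi.1, hi.2.1]
    have h3 := hc (σ a)
    change u (σ.symm (σ a)) - u (σ a) = c at h3
    rw [σ.symm_apply_apply, hc0] at h3
    by_contra hne
    push Not at hne
    simp [u, hab, hne.1, hne.2] at h3
  ext a : 1
  obtain ⟨b, hb, c, hc, hbc⟩ : ∃ b, a ≠ b ∧ ∃ c, a ≠ c ∧ b ≠ c := by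
    have h2 : 1 < (Finset.univ.erase a).card := by simp; omega
    obtain ⟨b, hb, c, hc, hbc⟩ := Finset.one_lt_card.1 h2
    exact ⟨b, (Finset.ne_of_mem_erase hb).symm, c, (Finset.ne_of_mem_erase hc).symm, hbc⟩
  show σ a = a
  rcases key a b hb with h | h
  · exact h
  · rcases key a c hc with h' | h'
    · exact h'
    · exact absurd (h.symm.trans h') hbc

theorem permH_mem_oG (hN : N % 4 ≠ 2) (σ : Equiv.Perm (Fin N)) : permH F N σ ∈ Quad.oG (heartQ hF hN) := by
  intro x
  obtain ⟨v, rfl⟩ := Submodule.Quotient.mk_surjective _ x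
  rw [permH_mk, heartQ_mk, heartQ_mk, q0, q0, show wt (permV σ v).1 = wt v.1 from Equiv.sum_comp σ.symm fun i => val (v.1 i)]

theorem nondeg_heartQ (hN : N % 4 ≠ 2) : (polarBilin (heartQ hF hN)).Nondegenerate :=
  Quad.nondeg_of fun x hx => (heartB_nondeg hF).1 x fun y => by
    rw [← polar_hq hF hN]; exact hx y

end dims

section count

variable (hF : Fintype.card F = 2)
include hF

/-- The sign of a value. -/
noncomputable def sgn (a : F) : ℤ := by classical exact if a = 0 then 1 else -1

theorem sgn_cast (n : ℕ) : sgn (n : F) = (-1 : ℤ) ^ n := by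
  classical
  have := charTwo hF
  rw [neg_one_pow_eq_ite, sgn]
  exact if_congr (by rw [CharP.cast_eq_zero_iff F 2, even_iff_two_dvd]) rfl rfl

omit [Field F] [Fintype F] hF in
theorem re_pow_I (n : ℕ) :
    ((⟨0, 1⟩ : GaussianInt) ^ n).re = if Even n then (-1 : ℤ) ^ (n / 2) else 0 := by
  have h2 : (⟨0, 1⟩ : GaussianInt) ^ 2 = ((-1 : ℤ) : GaussianInt) := by decide
  rcases Nat.even_or_odd n with ⟨k, rfl⟩ | ⟨k, rfl⟩
  · rw [← two_mul, pow_mul, h2, ← Int.cast_pow, Zsqrtd.re_intCast, if_pos (even_two_mul k),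
      Nat.mul_div_cancel_left _ two_pos]
  · rw [pow_succ, pow_mul, h2, ← Int.cast_pow, if_neg (Nat.not_even_iff_odd.2 ⟨k, rfl⟩), Zsqrtd.re_mul,
      Zsqrtd.re_intCast, Zsqrtd.im_intCast]
    simp

theorem sum_sgn [Fintype (V0 F N)] :
    ∑ v : V0 F N, sgn (q0 v) = ((⟨1, 1⟩ : GaussianInt) ^ N).re := by
  classical
  have h1 : ∑ a : F, (⟨0, 1⟩ : GaussianInt) ^ val a = ⟨1, 1⟩ := by
    rw [← Finset.eq_univ_of_card ({0, 1} : Finset F) (by rw [Finset.card_pair zero_ne_one, hF]),
      Finset.sum_pair zero_ne_one, show val (0 : F) = 0 by simp [val], show val (1 : F) = 1 by simp [val]]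
    decide
  let re' : GaussianInt →+ ℤ := AddMonoidHom.mk' Zsqrtd.re fun _ _ => rfl
  have h2 : ((⟨1, 1⟩ : GaussianInt) ^ N) = ∑ v : Fin N → F, (⟨0, 1⟩ : GaussianInt) ^ wt v := by
    refine Eq.trans ?_ (Finset.sum_congr rfl fun v _ => Finset.prod_pow_eq_pow_sum Finset.univ
      (fun i => val (v i)) (⟨0, 1⟩ : GaussianInt))
    rw [← Fintype.prod_sum (fun (_ : Fin N) (a : F) => (⟨0, 1⟩ : GaussianInt) ^ val a), h1, Finset.prod_const,
      Finset.card_univ, Fintype.card_fin]
  rw [h2, show (∑ v : Fin N → F, (⟨0, 1⟩ : GaussianInt) ^ wt v).re = re' (∑ v, _) from rfl, map_sum]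
  have h3 : ∀ v : Fin N → F, Even (wt v) ↔ v ∈ V0 F N := fun v => by
    have := charTwo hF
    rw [even_iff_two_dvd, ← CharP.cast_eq_zero_iff F 2, wt, Nat.cast_sum, mem_V0]
    simp only [cast_val hF]
  refine (Finset.sum_congr rfl fun v _ => ?_).trans (Eq.trans (Finset.sum_subtype
    (Finset.univ.filter fun v => Even (wt v)) (p := fun v => v ∈ V0 F N) (fun v => by simp [h3])
    (fun v => (-1 : ℤ) ^ (wt v / 2))).symm ?_)
  · rw [q0, sgn_cast hF]
  · rw [Finset.sum_filter]
    exact Finset.sum_congr rfl fun v _ => (re_pow_I _).symm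

theorem card_mul_zcard (hN : N % 4 ≠ 2) :
    (Nat.card (L0 F N) : ℤ) * (2 * Quad.zcard (heartQ hF hN) - Nat.card (Heart F N)) =
      ((⟨1, 1⟩ : GaussianInt) ^ N).re := by
  classical
  have : Fintype (V0 F N) := Fintype.ofFinite _
  have : Fintype (L0 F N) := Fintype.ofFinite _
  have : Fintype (Heart F N) := Fintype.ofFinite _
  let s : Heart F N → V0 F N := Function.surjInv (Submodule.Quotient.mk_surjective (L0 F N))
  have hs : ∀ x : Heart F N, (Submodule.Quotient.mk (s x) : Heart F N) = x :=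
    Function.surjInv_eq (Submodule.Quotient.mk_surjective (L0 F N))
  have hmk : ∀ l : L0 F N, (Submodule.Quotient.mk (l : V0 F N) : Heart F N) = 0 := fun l =>
    (Submodule.Quotient.mk_eq_zero _).2 l.2
  let e : L0 F N × Heart F N ≃ V0 F N :=
    { toFun := fun p => p.1 + s p.2
      invFun := fun v => (⟨v - s (Submodule.Quotient.mk v), (Submodule.Quotient.eq _).1 (hs _).symm⟩,
        Submodule.Quotient.mk v)
      left_inv := fun p => by
        have h : (Submodule.Quotient.mk ((p.1 : V0 F N) + s p.2) : Heart F N) = p.2 := by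
          rw [Submodule.Quotient.mk_add, hmk, hs, zero_add]
        refine Prod.ext (Subtype.ext ?_) h
        simp [h]
      right_inv := fun v => by simp }
  rw [← sum_sgn hF, ← e.sum_comp, Fintype.sum_prod_type]
  have h : ∀ (l : L0 F N) (x : Heart F N), sgn (q0 (e (l, x))) = sgn (heartQ hF hN x) := fun l x => by
    show sgn (q0 ((l : V0 F N) + s x)) = _
    rw [q0_add hF, q0_const hF hN l.2, dotB_const l.2, zero_add, add_zero, ← heartQ_mk hF hN, hs]
  simp only [h]
  rw [Finset.sum_const, Finset.card_univ, nsmul_eq_mul, ← Nat.card_eq_fintype_card (α := L0 F N)]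
  congr 1
  simp only [sgn]
  rw [Finset.sum_ite, Finset.sum_const, Finset.sum_const, Quad.zcard, Nat.card_eq_fintype_card,
    Nat.card_eq_fintype_card, Fintype.card_subtype, ← Finset.card_univ,
    ← Finset.card_filter_add_card_filter_not (fun x : Heart F N => heartQ hF hN x = 0) (s := Finset.univ)]
  push_cast
  simp
  ring

theorem zcard_four (k : ℕ) (hN : (4 * k + 4) % 4 ≠ 2) :
    2 * (Quad.zcard (heartQ (F := F) hF hN) : ℤ) = 2 ^ (4 * k + 2) + (-1) ^ (k + 1) * 2 ^ (2 * k + 1) := by
  have h := card_mul_zcard hF hN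
  have hd := finrank_heart_even (N := 4 * k + 4) hF ⟨2 * k + 2, by omega⟩ (by omega)
  have hl := finrank_L0_even (N := 4 * k + 4) hF ⟨2 * k + 2, by omega⟩ (by omega)
  rw [Module.natCard_eq_pow_finrank (K := F) (V := Heart F (4 * k + 4)),
    Module.natCard_eq_pow_finrank (K := F) (V := L0 F (4 * k + 4)), hl, Nat.card_eq_fintype_card, hF,
    show finrank F (Heart F (4 * k + 4)) = 4 * k + 2 by omega,
    show ((⟨1, 1⟩ : GaussianInt) ^ (4 * k + 4)).re = (-4) ^ (k + 1) by
      rw [show 4 * k + 4 = 4 * (k + 1) by ring, pow_mul,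
        show (⟨1, 1⟩ : GaussianInt) ^ 4 = ((-4 : ℤ) : GaussianInt) by decide, ← Int.cast_pow,
        Zsqrtd.re_intCast]] at h
  push_cast at h
  rw [show (-4 : ℤ) ^ (k + 1) = 2 * ((-1) ^ (k + 1) * 2 ^ (2 * k + 1)) by
    rw [pow_succ (2 : ℤ), pow_mul, pow_succ, pow_succ, show (-4 : ℤ) = -1 * 2 ^ 2 by norm_num, mul_pow]
    ring] at h
  linarith

end count

section types

variable (hF : Fintype.card F = 2)
include hF

/-- x² + x + 1 has no root. -/
theorem aniso_one : ∀ z₁ z₂ : F, z₁ ^ 2 + 1 * z₁ * z₂ + 1 * z₂ ^ 2 = 0 → z₁ = 0 ∧ z₂ = 0 := fun z₁ z₂ h => by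
  rcases two_cases hF z₁ with rfl | rfl <;> rcases two_cases hF z₂ with rfl | rfl <;>
    simp_all [add_self hF]

theorem iso_odd {k : ℕ} (hk : Odd k) (hN : (4 * k + 4) % 4 ≠ 2) :
    Quad.Iso (Quad.hyp (Quad.zeroForm F) (2 * k + 1)) (heartQ hF hN) := by
  have hd := finrank_heart_even (N := 4 * k + 4) hF ⟨2 * k + 2, by omega⟩ (by omega)
  rcases Quad.even_cases (nondeg_heartQ hF hN) (m := 2 * k + 1) (by omega) with h | ⟨-, h⟩
  · exact h
  · exfalso
    have h1 := zcard_four hF k hN
    have h2 := Quad.zcard_minus (aniso_one hF) hF (2 * k)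
    rw [← (h _ _ (aniso_one hF)).zcard_eq, show 2 * k + 1 - 1 = 2 * k by omega] at h1
    rw [Even.neg_one_pow (by obtain ⟨j, rfl⟩ := hk; exact ⟨j + 1, by omega⟩), one_mul] at h1
    have h2' := congrArg (Nat.cast : ℕ → ℤ) h2
    push_cast at h2'
    have h3 : (0 : ℤ) < 2 ^ (2 * k) := by positivity
    rw [show 4 * k + 2 = 2 * (2 * k) + 1 + 1 by omega, pow_succ _ (2 * (2 * k) + 1), pow_succ _ (2 * k)] at h1
    rw [pow_succ _ (2 * k)] at h2'
    linarith

theorem iso_even {k : ℕ} (hk : Even k) (hN : (4 * k + 4) % 4 ≠ 2) :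
    Quad.Iso (Quad.hyp (Quad.binForm (1 : F) 1) (2 * k)) (heartQ hF hN) := by
  have hd := finrank_heart_even (N := 4 * k + 4) hF ⟨2 * k + 2, by omega⟩ (by omega)
  rcases Quad.even_cases (nondeg_heartQ hF hN) (m := 2 * k + 1) (by omega) with h | ⟨-, h⟩
  · exfalso
    have h1 := zcard_four hF k hN
    have h2 := Quad.zcard_plus hF (2 * k)
    rw [← h.zcard_eq, Odd.neg_one_pow (by obtain ⟨j, rfl⟩ := hk; exact ⟨j, by omega⟩)] at h1
    have h2' := congrArg (Nat.cast : ℕ → ℤ) h2
    push_cast at h2'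
    have h3 : (0 : ℤ) < 2 ^ (2 * k) := by positivity
    rw [show 4 * k + 2 = 2 * (2 * k) + 1 + 1 by omega, pow_succ _ (2 * (2 * k) + 1), pow_succ _ (2 * k)] at h1
    rw [pow_succ _ (2 * k)] at h2'
    linarith
  · have := h _ _ (aniso_one hF)
    rwa [show 2 * k + 1 - 1 = 2 * k by omega] at this

theorem iso_five (hN : 5 % 4 ≠ 2) : Quad.Iso (Quad.hyp (Quad.binForm (1 : F) 1) 1) (heartQ (N := 5) hF hN) := by
  have hd := finrank_heart_odd (N := 5) hF (by decide)
  have h := card_mul_zcard hF hN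
  rw [Module.natCard_eq_pow_finrank (K := F) (V := Heart F 5),
    Module.natCard_eq_pow_finrank (K := F) (V := L0 F 5), Nat.card_eq_fintype_card (α := F), hF,
    show (⟨1, 1⟩ : GaussianInt) ^ 5 = ⟨-4, -4⟩ by decide] at h
  have hl : finrank F (Heart F 5) + finrank F (L0 F 5) = finrank F (V0 F 5) :=
    Submodule.finrank_quotient_add_finrank (L0 F 5)
  have h0 := finrank_V0 (F := F) (N := 5) (by norm_num)
  rw [show finrank F (L0 F 5) = 0 by omega, show finrank F (Heart F 5) = 4 by omega] at h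
  push_cast at h
  simp at h
  rcases Quad.even_cases (nondeg_heartQ hF hN) (m := 2) (by omega) with hh | ⟨-, hh⟩
  · exfalso
    have h2 := Quad.zcard_plus hF 1
    rw [hh.zcard_eq] at h2
    omega
  · exact hh _ _ (aniso_one hF)

/-- The embedding into the isometry group of a form in coordinates. -/
theorem exists_embedding (hN : N % 4 ≠ 2) (h5 : 5 ≤ N) {ι : Type} [Fintype ι] [DecidableEq ι] {U : Type*}
    [AddCommGroup U] [Module F U] {Q : QuadraticForm F U} {Q' : (ι → F) → F}
    (hiso : Quad.Iso Q (heartQ hF hN)) (e : (ι → F) ≃ₗ[F] U) (he : ∀ x, Q (e x) = Q' x) :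
    ∃ φ : Equiv.Perm (Fin N) →* ↥(Cfsg.isometryGroup F Q'), Function.Injective φ := by
  obtain ⟨f, hf⟩ := hiso
  have hfun : Q' = ⇑(Q.comp e.toLinearMap) := funext fun x => (he x).symm
  subst hfun
  let ψ : Cfsg.isometryGroup F ⇑(Q.comp e.toLinearMap) ≃* Quad.oG (heartQ hF hN) :=
    (Quad.oEquiv _).trans (Quad.oCongr (e.trans f) fun x => hf (e x))
  let φ := (permH F N).codRestrict _ (permH_mem_oG hF hN)
  exact ⟨ψ.symm.toMonoidHom.comp φ,
    ψ.symm.injective.comp fun σ τ h => permH_injective hF h5 (congrArg Subtype.val h)⟩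

omit hF [Fintype F] in
theorem sympB_basis {U : Type*} [AddCommGroup U] [Module F U] {B : LinearMap.BilinForm F U} {m : ℕ}
    {e f : Fin m → U} (hA : B.IsAlt) (h : Alt.IsSympBasis B ⊤ e f) (x y : Fin m ⊕ Fin m → F) :
    B (∑ i, x i • Sum.elim f e i) (∑ i, y i • Sum.elim f e i) = sympB m F x y := by
  rw [sympB_eq_sum]
  have hfe : ∀ i j, B (f i) (e j) = -(if j = i then 1 else 0) := fun i j => by rw [Alt.neg' hA (e j) (f i), h.ef]
  simp [Fintype.sum_sum_type, map_sum, LinearMap.sum_apply, h.ef, h.ee, h.ff, hfe,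
    Finset.sum_add_distrib, mul_comm, sub_eq_add_neg, Finset.sum_neg_distrib]
  ring

omit hF [Fintype F] in
/-- A non-degenerate alternating form gives the symplectic group. -/
theorem exists_spEquiv {U : Type*} [AddCommGroup U] [Module F U] [FiniteDimensional F U]
    {B : LinearMap.BilinForm F U} (hA : B.IsAlt) (hB : B.Nondegenerate) {n : ℕ} (hd : finrank F U = 2 * n) :
    Nonempty (Alt.isoGroup B ≃* Matrix.symplecticGroup (Fin n) F) := by
  obtain ⟨m, e, f, hb, hm⟩ := Alt.exists_sympBasis hA ⊤ (Alt.ndon_top hB)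
  rw [finrank_top, hd] at hm
  obtain rfl : m = n := by omega
  have hli : LinearIndependent F (Sum.elim f e) := by
    have := (hb.linearIndependent hA).comp Sum.swap (Equiv.sumComm _ _).injective
    rwa [show Sum.elim e f ∘ Sum.swap = Sum.elim f e from funext fun i => by cases i <;> rfl] at this
  let b : Basis (Fin m ⊕ Fin m) F U := Basis.mk hli (by
    have : Set.range (Sum.elim f e) = Set.range (Sum.elim e f) := by
      simp [Set.Sum.elim_range, Set.union_comm]
    rw [this]; exact hb.span)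
  let ψ : (Fin m ⊕ Fin m → F) ≃ₗ[F] U := b.equivFun.symm
  have hψ : ∀ x y, B (ψ x) (ψ y) = sympB m F x y := fun x y => by
    simp only [ψ, Basis.equivFun_symm_apply, b, Basis.coe_mk]
    exact sympB_basis hA hb x y
  refine ⟨(MulEquiv.symm ?_).trans (spEquiv m F).symm⟩
  exact
    { toFun := fun g => ⟨ψ.symm.trans (g.1.trans ψ), fun x y => by
        simp only [LinearEquiv.trans_apply]
        rw [hψ, g.2, ← hψ, ψ.apply_symm_apply, ψ.apply_symm_apply]⟩
      invFun := fun g => ⟨ψ.trans (g.1.trans ψ.symm), fun x y => by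
        simp only [LinearEquiv.trans_apply]
        rw [← hψ, ψ.apply_symm_apply, ψ.apply_symm_apply, g.2, hψ]⟩
      left_inv := fun g => Subtype.ext (LinearEquiv.ext fun x => by simp)
      right_inv := fun g => Subtype.ext (LinearEquiv.ext fun x => by simp)
      map_mul' := fun g h => Subtype.ext (LinearEquiv.ext fun x => by simp [LinearEquiv.mul_apply]) }

/-- The symmetric group of degree 2n in the symplectic group. -/
theorem exists_symp_embedding {n : ℕ} (hn : 3 ≤ n) :
    ∃ f : Equiv.Perm (Fin (2 * n)) →* Matrix.symplecticGroup (Fin (n - 1)) F, Function.Injective f := by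
  have hd := finrank_heart_even (N := 2 * n) hF (even_two_mul n) (by omega)
  obtain ⟨ψ⟩ := exists_spEquiv (n := n - 1) (heartB_isAlt (N := 2 * n) hF) (heartB_nondeg hF) (by omega)
  have hmem : ∀ σ, permH F (2 * n) σ ∈ Alt.isoGroup (heartB F (2 * n)) := fun σ x y => by
    obtain ⟨v, rfl⟩ := Submodule.Quotient.mk_surjective _ x
    obtain ⟨w, rfl⟩ := Submodule.Quotient.mk_surjective _ y
    rw [permH_mk, permH_mk, heartB_mk, heartB_mk, dotB_perm]
  exact ⟨ψ.toMonoidHom.comp ((permH F (2 * n)).codRestrict _ hmem),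
    ψ.injective.comp fun σ τ h => permH_injective hF (by omega) (congrArg Subtype.val h)⟩

theorem equiv_six : Nonempty (Matrix.symplecticGroup (Fin 2) F ≃* Equiv.Perm (Fin 6)) := by
  obtain ⟨f, hf⟩ := exists_symp_embedding hF (n := 3) le_rfl
  have hc : Nat.card (Equiv.Perm (Fin 6)) = Nat.card (Matrix.symplecticGroup (Fin 2) F) := by
    rw [Nat.card_perm, Nat.card_fin, card_symplecticGroup hF]
    simp [Finset.prod_range_succ, Nat.factorial]
  exact ⟨(MulEquiv.ofBijective f ((Nat.bijective_iff_injective_and_card f).2 ⟨hf, hc⟩)).symm⟩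

theorem equiv_five :
    Nonempty (↥(Cfsg.isometryGroup F (Cfsg.quadFormMinus 1 F 1 1)) ≃* Equiv.Perm (Fin 5)) := by
  obtain ⟨f, hf⟩ := exists_embedding hF (N := 5) (by decide) le_rfl (iso_five hF (by decide))
    (Quad.minusCoord 1) (Quad.minusCoord_map _ _ _)
  have hc : Nat.card (Equiv.Perm (Fin 5)) = Nat.card ↥(Cfsg.isometryGroup F (Cfsg.quadFormMinus 1 F 1 1)) := by
    rw [Nat.card_perm, Nat.card_fin, Quad.card_isometryGroup_eq (Quad.minusCoord 1) (Quad.minusCoord_map _ _ _),
      Quad.card_oG_minus (aniso_one hF) hF 1]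
    simp [Nat.factorial]
  exact ⟨(MulEquiv.ofBijective f ((Nat.bijective_iff_injective_and_card f).2 ⟨hf, hc⟩)).symm⟩

theorem equiv_eight :
    Nonempty (↥(Cfsg.isometryGroup F (Cfsg.quadFormPlus 3 F)) ≃* Equiv.Perm (Fin 8)) := by
  obtain ⟨f, hf⟩ := exists_embedding hF (N := 4 * 1 + 4) (by decide) (by norm_num)
    (iso_odd hF odd_one (by decide)) (Quad.plusCoord 3) (Quad.plusCoord_map _)
  have hc : Nat.card (Equiv.Perm (Fin 8)) = Nat.card ↥(Cfsg.isometryGroup F (Cfsg.quadFormPlus 3 F)) := by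
    rw [Nat.card_perm, Nat.card_fin, Quad.card_isometryGroup_eq (Quad.plusCoord 3) (Quad.plusCoord_map _),
      Quad.card_oG_plus hF 2]
    simp [Finset.prod_range_succ, Nat.factorial]
  exact ⟨(MulEquiv.ofBijective f ((Nat.bijective_iff_injective_and_card f).2 ⟨hf, hc⟩)).symm⟩

end types

end Cfsg.Agent.Classical.Symm2
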