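import Mathlib
import Cfsg.Agent.Classical.ExcCore
import Cfsg.Agent.Classical.PlusFourTwo
import Cfsg.Agent.Classical.Embeddings
import Cfsg.Agent.Classical.SymmTwo

/-!
Orthogonal groups of dimensions three and four as groups of two by two matrices.
-/

set_option autoImplicit false

namespace Cfsg.Agent.Classical.Exc

open Module QuadraticMap Matrix

section sl2

variable {F : Type*} [Field F]

theorem sl2_center_sq {g : SpecialLinearGroup (Fin 2) F} (hg : g ∈ Subgroup.center (SpecialLinearGroup (Fin 2) F)) :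
    g * g = 1 := by
  obtain ⟨r, hr, hgr⟩ := Matrix.SpecialLinearGroup.mem_center_iff.1 hg
  refine Subtype.ext ?_
  rw [Matrix.SpecialLinearGroup.coe_mul, ← hgr, ← map_mul, ← pow_two, show r ^ 2 = 1 by simpa using hr, map_one]
  rfl

theorem inv_val_mul (g : SpecialLinearGroup (Fin 2) F) : (g⁻¹).1 * g.1 = 1 :=
  congrArg Subtype.val (inv_mul_cancel g)

theorem val_mul_inv (g : SpecialLinearGroup (Fin 2) F) : g.1 * (g⁻¹).1 = 1 :=
  congrArg Subtype.val (mul_inv_cancel g)

variable [Fintype F]

theorem sl2_odd_gen (h2 : (2 : F) ≠ 0) :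
    ∃ T : Set (SpecialLinearGroup (Fin 2) F), Subgroup.closure T = ⊤ ∧ ∀ t ∈ T, Odd (orderOf t) := by
  refine ⟨{t | ∃ (i j : Fin 2) (hij : i ≠ j) (c : F), Matrix.SpecialLinearGroup.transvection hij c = t},
    sl_eq_top_of_transvection _ fun i j hij c => Subgroup.subset_closure ⟨i, j, hij, c, rfl⟩, ?_⟩
  rintro _ ⟨i, j, hij, c, rfl⟩
  obtain ⟨p, hp⟩ := CharP.exists F
  have hpr : p.Prime := CharP.char_is_prime F p
  have hodd : Odd p := hpr.odd_of_ne_two fun e => h2 (by
    subst e
    exact CharTwo.two_eq_zero)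
  have key : ∀ k : ℕ, (Matrix.SpecialLinearGroup.transvection hij c : SpecialLinearGroup (Fin 2) F).1 ^ k =
      Matrix.transvection i j ((k : F) * c) := fun k => by
    induction k with
    | zero => simp
    | succ k ih =>
      rw [pow_succ, ih]
      show Matrix.transvection i j _ * Matrix.transvection i j c = _
      rw [Matrix.transvection_mul_transvection_same i j hij]
      congr 1
      push_cast
      ring
  refine Odd.of_dvd_nat hodd (orderOf_dvd_of_pow_eq_one (Subtype.ext ?_))
  show (Matrix.SpecialLinearGroup.transvection hij c : SpecialLinearGroup (Fin 2) F).1 ^ p = 1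
  rw [key, CharP.cast_eq_zero, zero_mul, Matrix.transvection_zero]

theorem sl2_perfect_or_three (h3 : 3 ≤ Fintype.card F) :
    commutator (SpecialLinearGroup (Fin 2) F) = ⊤ ∨ (2 : F) ≠ 0 := by
  by_cases h4 : 4 ≤ Fintype.card F
  · exact Or.inl (commutator_sl_eq_top (Or.inr (Small.exists_sq_ne_one h4)))
  · refine Or.inr fun h2 => ?_
    have : CharP F 2 := CharTwo.of_one_ne_zero_of_two_eq_zero one_ne_zero h2
    obtain ⟨n, -, hn⟩ := FiniteField.card F 2
    have h3' : Fintype.card F = 3 := by omega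
    rw [h3'] at hn
    rcases hn' : (n : ℕ) with _ | k <;> rw [hn'] at hn <;> omega

theorem card_center_sl2 :
    Nat.card (Subgroup.center (SpecialLinearGroup (Fin 2) F)) = Nat.gcd 2 (Fintype.card F - 1) := by
  classical
  rw [card_center_sl (ι := Fin 2) (F := F), Fintype.card_fin]

theorem card_center_sl2_le : Nat.card (Subgroup.center (SpecialLinearGroup (Fin 2) F)) ≤ 2 := by
  rw [card_center_sl2]
  exact Nat.gcd_le_left _ (by norm_num)

theorem card_center_sl2_two (h2 : (2 : F) = 0) :
    Nat.card (Subgroup.center (SpecialLinearGroup (Fin 2) F)) = 1 := by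
  have : CharP F 2 := CharTwo.of_one_ne_zero_of_two_eq_zero one_ne_zero h2
  obtain ⟨n, -, hn⟩ := FiniteField.card F 2
  rw [card_center_sl2, hn]
  obtain ⟨k, hk⟩ : ∃ k, (n : ℕ) = k + 1 := ⟨n - 1, by have := n.pos; omega⟩
  rw [hk, pow_succ, show 2 ^ k * 2 - 1 = 2 * (2 ^ k - 1) + 1 by
    have := Nat.one_le_two_pow (n := k); omega]
  simp

end sl2

section three

variable {F : Type*} [Field F]

/-- Trace-zero matrices as coordinates. -/
def toT (v : ((Fin 1 → F) × (Fin 1 → F)) × F) : Matrix (Fin 2) (Fin 2) F := !![v.2, v.1.1 0; v.1.2 0, -v.2]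

/-- The conjugation action on trace-zero matrices. -/
def conjT (g : SpecialLinearGroup (Fin 2) F) :
    (((Fin 1 → F) × (Fin 1 → F)) × F) →ₗ[F] (((Fin 1 → F) × (Fin 1 → F)) × F) where
  toFun v := ((fun _ => (g.1 * toT v * (g⁻¹).1) 0 1, fun _ => (g.1 * toT v * (g⁻¹).1) 1 0),
    (g.1 * toT v * (g⁻¹).1) 0 0)
  map_add' v w := by
    have e : toT (v + w) = toT v + toT w := by
      ext i j; fin_cases i <;> fin_cases j <;> simp [toT] <;> ring
    simp only [e, Matrix.mul_add, Matrix.add_mul]
    rfl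
  map_smul' c v := by
    have e : toT (c • v) = c • toT v := by
      ext i j; fin_cases i <;> fin_cases j <;> simp [toT]
    simp only [e, Matrix.mul_smul, Matrix.smul_mul]
    rfl

theorem toT_conjT (g : SpecialLinearGroup (Fin 2) F) (v : ((Fin 1 → F) × (Fin 1 → F)) × F) :
    toT (conjT g v) = g.1 * toT v * (g⁻¹).1 := by
  have htr : (g.1 * toT v * (g⁻¹).1).trace = 0 := by
    rw [Matrix.trace_mul_comm, ← Matrix.mul_assoc, inv_val_mul, Matrix.one_mul]
    simp [toT, Matrix.trace_fin_two]
  rw [Matrix.trace_fin_two] at htr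
  ext i j
  fin_cases i <;> fin_cases j
  · rfl
  · rfl
  · rfl
  · show -(g.1 * toT v * (g⁻¹).1) 0 0 = (g.1 * toT v * (g⁻¹).1) 1 1
    linear_combination -htr

theorem toT_injective : Function.Injective (toT (F := F)) := fun v w h => by
  have h1 := congrFun (congrFun h 0) 0
  have h2 := congrFun (congrFun h 0) 1
  have h3 := congrFun (congrFun h 1) 0
  exact Prod.ext (Prod.ext (funext fun i => by rw [Subsingleton.elim i 0]; exact h2)
    (funext fun i => by rw [Subsingleton.elim i 0]; exact h3)) h1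

theorem Q3_toT (v : ((Fin 1 → F) × (Fin 1 → F)) × F) :
    Quad.hyp (Quad.sqForm F) 1 v = -(toT v).det := by
  simp [Quad.hyp_apply, Quad.sqForm, toT, Matrix.det_fin_two]

/-- Two by two matrices acting on the orthogonal space of dimension three. -/
noncomputable def threeHom : SpecialLinearGroup (Fin 2) F →* Quad.oG (Quad.hyp (Quad.sqForm F) 1) :=
  MonoidHom.mk' (fun g => ⟨LinearEquiv.ofLinearMap (conjT g) (conjT g⁻¹)
    (LinearMap.ext fun v => toT_injective (by
      rw [LinearMap.comp_apply, toT_conjT, toT_conjT, inv_inv, ← Matrix.mul_assoc, ← Matrix.mul_assoc,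
        val_mul_inv, Matrix.mul_assoc, val_mul_inv]
      simp))
    (LinearMap.ext fun v => toT_injective (by
      rw [LinearMap.comp_apply, toT_conjT, toT_conjT, inv_inv, ← Matrix.mul_assoc, ← Matrix.mul_assoc,
        inv_val_mul, Matrix.mul_assoc, inv_val_mul]
      simp)), fun v => by
      show Quad.hyp (Quad.sqForm F) 1 (conjT g v) = _
      rw [Q3_toT, Q3_toT, toT_conjT, Matrix.det_mul, Matrix.det_mul, g.2, (g⁻¹).2, one_mul, mul_one]⟩)
    fun g h => Subtype.ext (LinearEquiv.ext fun v => toT_injective (by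
      show toT (conjT (g * h) v) = toT (conjT g (conjT h v))
      rw [toT_conjT, toT_conjT, toT_conjT, _root_.mul_inv_rev]
      show g.1 * h.1 * toT v * ((h⁻¹).1 * (g⁻¹).1) = _
      simp only [Matrix.mul_assoc]))

theorem threeHom_ker {g : SpecialLinearGroup (Fin 2) F} (hg : g ∈ (threeHom (F := F)).ker) :
    g ∈ Subgroup.center (SpecialLinearGroup (Fin 2) F) := by
  have key : ∀ v, g.1 * toT v = toT v * g.1 := fun v => by
    have h1 : toT (conjT g v) = toT v :=
      congrArg toT (congrArg (fun k : Quad.oG (Quad.hyp (Quad.sqForm F) 1) => k.1 v) hg)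
    rw [toT_conjT] at h1
    have h2 := congrArg (fun M => M * g.1) h1
    simp only [Matrix.mul_assoc, inv_val_mul, Matrix.mul_one] at h2
    exact h2
  have e1 := key ((fun _ => 1, 0), 0)
  have e2 := key ((0, fun _ => 1), 0)
  have a1 := congrFun (congrFun e1 0) 0
  have a2 := congrFun (congrFun e1 0) 1
  have b1 := congrFun (congrFun e2 0) 0
  have b2 := congrFun (congrFun e2 1) 0
  simp [toT, Matrix.mul_apply, Fin.sum_univ_two] at a1 a2 b1 b2
  have hg' : g.1 = Matrix.scalar (Fin 2) (g.1 0 0) := by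
    ext i j
    fin_cases i <;> fin_cases j <;> simp
    exacts [b1, a1.symm, by first | exact a2.symm | exact a2 | exact b2 | exact b2.symm]
  rw [Subgroup.mem_center_iff]
  intro y
  refine Subtype.ext ?_
  show y.1 * g.1 = g.1 * y.1
  rw [hg']
  exact ((Matrix.scalar_commute _ (fun _ => Commute.all _ _) _).symm).eq

theorem pomega_three [Fintype F] (hodd : Odd (Fintype.card F)) :
    Nonempty (Cfsg.POmega F (Cfsg.quadFormOdd 1 F) ≃* ProjectiveSpecialLinearGroup (Fin 2) F) := by
  classical
  have h2 : (2 : F) ≠ 0 := fun h => by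
    have : CharP F 2 := CharTwo.of_one_ne_zero_of_two_eq_zero one_ne_zero h
    obtain ⟨n, -, hn⟩ := FiniteField.card F 2
    rw [hn, Nat.odd_pow_iff n.pos.ne'] at hodd
    exact absurd hodd (by decide)
  have hQ : (polarBilin (Quad.hyp (Quad.sqForm F) 1)).Nondegenerate := Quad.nondeg_hyp (Quad.nondeg_sqForm h2) 1
  have hd : finrank F (((Fin 1 → F) × (Fin 1 → F)) × F) = 3 := by simp [Module.finrank_prod]
  have := oG_finite (Quad.hyp (Quad.sqForm F) 1)
  obtain ⟨e1⟩ := pomega_equiv (Q := Quad.hyp (Quad.sqForm F) 1) (Q' := Cfsg.quadFormOdd 1 F) (Quad.oddCoord 1)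
    (Quad.oddCoord_map 1)
  obtain ⟨e2⟩ := quot_equiv_of_good (threeHom (F := F)) (Or.inr (sl2_odd_gen h2))
    (Or.inr (sq_mem_commutator hQ h2 (by omega))) (fun g hg => threeHom_ker hg)
    (fun g hg => sl2_center_sq (threeHom_ker hg)) (by
      have h1 := card_commutator_odd hQ h2 (by omega)
      rw [Quad.card_oG_odd rfl h2 1] at h1
      have h3 := Subgroup.card_le_of_le (show (threeHom (F := F)).ker ≤ _ from fun g hg => threeHom_ker hg)
      have h4 := card_center_sl2_le (F := F)
      rw [Classical.card_sl2]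
      simp at h1 h3 h4 ⊢
      have h5 := Nat.mul_le_mul_left (Nat.card (commutator (Quad.oG (Quad.hyp (Quad.sqForm F) 1)))) (h3.trans h4)
      ring_nf at h1 h5 ⊢
      omega)
  exact ⟨e1.trans e2⟩

end three

section fourPlus

variable {F : Type*} [Field F]

theorem twoSided_ker {p : SpecialLinearGroup (Fin 2) F × SpecialLinearGroup (Fin 2) F}
    (hp : p ∈ (Quad.twoSided (F := F)).ker) :
    p.1 = p.2 ∧ p ∈ Subgroup.center (SpecialLinearGroup (Fin 2) F × SpecialLinearGroup (Fin 2) F) := by
  obtain ⟨h1, h2⟩ := Quad.twoSided_eq_one hp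
  refine ⟨h1, Subgroup.mem_center_iff.2 fun y => Prod.ext ?_ ?_⟩
  · exact Subgroup.mem_center_iff.1 h2 y.1
  · exact Subgroup.mem_center_iff.1 (h1 ▸ h2) y.2

theorem prod_center_equiv {A B : Type*} [Group A] [Group B] :
    Nonempty ((A × B) ⧸ Subgroup.center (A × B) ≃* (A ⧸ Subgroup.center A) × (B ⧸ Subgroup.center B)) := by
  let π := (QuotientGroup.mk' (Subgroup.center A)).prodMap (QuotientGroup.mk' (Subgroup.center B))
  have hπ : π.ker = Subgroup.center (A × B) := by
    ext p
    rw [MonoidHom.mem_ker]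
    show (QuotientGroup.mk p.1, QuotientGroup.mk p.2) = (1 : (A ⧸ Subgroup.center A) × (B ⧸ Subgroup.center B)) ↔ _
    rw [Prod.mk_eq_one, QuotientGroup.eq_one_iff, QuotientGroup.eq_one_iff, Subgroup.mem_center_iff,
      Subgroup.mem_center_iff, Subgroup.mem_center_iff]
    exact ⟨fun h y => Prod.ext (h.1 y.1) (h.2 y.2),
      fun h => ⟨fun a => congrArg Prod.fst (h (a, 1)), fun b => congrArg Prod.snd (h (1, b))⟩⟩
  have hs : Function.Surjective π := fun x => by
    obtain ⟨a, ha⟩ := QuotientGroup.mk'_surjective _ x.1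
    obtain ⟨b, hb⟩ := QuotientGroup.mk'_surjective _ x.2
    exact ⟨(a, b), Prod.ext ha hb⟩
  exact ⟨(QuotientGroup.quotientMulEquivOfEq hπ.symm).trans (QuotientGroup.quotientKerEquivOfSurjective π hs)⟩

theorem pomega_four_plus [Fintype F] (h3 : 3 ≤ Fintype.card F) :
    Nonempty (Cfsg.POmega F (Cfsg.quadFormPlus 2 F) ≃*
      ProjectiveSpecialLinearGroup (Fin 2) F × ProjectiveSpecialLinearGroup (Fin 2) F) := by
  classical
  have hex : Nat.card F ≠ 2 ∨ finrank F (Fin 2 ⊕ Fin 2 → F) ≠ 4 :=
    Or.inl (by rw [Nat.card_eq_fintype_card]; omega)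
  have hQ := Quad.nondeg_plusQ (F := F) (m := 2)
  have hd : finrank F (Fin 2 ⊕ Fin 2 → F) = 4 := Quad.finrank_plus
  have := oG_finite (Quad.plusQ F 2)
  have hcard : Nat.card (Quad.oG (Quad.plusQ F 2)) =
      2 * Fintype.card F ^ 2 * (Fintype.card F ^ 2 - 1) * (Fintype.card F ^ 2 - 1) := by
    rw [Nat.card_congr (Quad.oCongr (Q₂ := Quad.hyp (Quad.zeroForm F) 2) (Quad.plusCoord 2) fun x => rfl).toEquiv,
      Quad.card_oG_plus rfl 1]
    simp
  have hcomm : commutator (SpecialLinearGroup (Fin 2) F) = ⊤ ∨ (2 : F) ≠ 0 := sl2_perfect_or_three h3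
  have hgood : Good (SpecialLinearGroup (Fin 2) F × SpecialLinearGroup (Fin 2) F) := by
    rcases hcomm with h | h
    · exact good_prod (Or.inl ⟨h, h⟩)
    · exact good_prod (Or.inr ⟨sl2_odd_gen h, sl2_odd_gen h⟩)
  have hsq : commutator (SpecialLinearGroup (Fin 2) F × SpecialLinearGroup (Fin 2) F) = ⊤ ∨
      ∀ x : Quad.oG (Quad.plusQ F 2), x * x ∈ commutator (Quad.oG (Quad.plusQ F 2)) := by
    rcases hcomm with h | h
    · rcases good_prod (S₁ := SpecialLinearGroup (Fin 2) F) (S₂ := SpecialLinearGroup (Fin 2) F)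
        (Or.inl ⟨h, h⟩) with h' | h'
      · exact Or.inl h'
      · refine Or.inl (eq_top_iff.2 fun p _ => ?_)
        have e1 := Subgroup.mem_map_of_mem (MonoidHom.inl _ (SpecialLinearGroup (Fin 2) F))
          (h ▸ Subgroup.mem_top p.1 : p.1 ∈ commutator (SpecialLinearGroup (Fin 2) F))
        have e2 := Subgroup.mem_map_of_mem (MonoidHom.inr (SpecialLinearGroup (Fin 2) F) _)
          (h ▸ Subgroup.mem_top p.2 : p.2 ∈ commutator (SpecialLinearGroup (Fin 2) F))
        rw [commutator_def, Subgroup.map_commutator] at e1 e2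
        have := Subgroup.mul_mem _ (Subgroup.commutator_mono le_top le_top e1)
          (Subgroup.commutator_mono le_top le_top e2)
        simpa [commutator_def] using this
    · exact Or.inr (sq_mem_commutator hQ h (by omega))
  obtain ⟨e1⟩ := pomega_equiv (Q := Quad.plusQ F 2) (LinearEquiv.refl F _) fun x => congrFun Quad.coe_plusQ x
  obtain ⟨e2⟩ := quot_equiv_of_good (Quad.twoSided (F := F)) hgood hsq (fun p hp => (twoSided_ker hp).2)
    (fun p hp => by
      obtain ⟨h1, h2⟩ := Quad.twoSided_eq_one hp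
      exact Prod.ext (sl2_center_sq h2) (by rw [h1] at h2; exact sl2_center_sq h2)) (by
      have hk : Nat.card (Quad.twoSided (F := F)).ker ≤
          Nat.card (Subgroup.center (SpecialLinearGroup (Fin 2) F)) :=
        Nat.card_le_card_of_injective (fun p => ⟨p.1.1, (Quad.twoSided_eq_one p.2).2⟩) fun p p' h => by
          have e : p.1.1 = p'.1.1 := congrArg Subtype.val h
          exact Subtype.ext (Prod.ext e ((twoSided_ker p.2).1.symm.trans (e.trans (twoSided_ker p'.2).1)))
      rw [Nat.card_prod, Classical.card_sl2]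
      generalize Fintype.card F ^ 2 - 1 = r at hcard ⊢
      by_cases h2 : (2 : F) = 0
      · have h1 := card_commutator_two hQ h2 hex (by omega)
        have h4 := card_center_sl2_two h2
        rw [h4] at hk
        rw [hcard] at h1
        have h5 := Nat.mul_le_mul_left (Nat.card (commutator (Quad.oG (Quad.plusQ F 2)))) hk
        have h6 : Fintype.card F * r * (Fintype.card F * r) = Fintype.card F ^ 2 * r * r := by ring
        have h7 : 2 * Fintype.card F ^ 2 * r * r = 2 * (Fintype.card F ^ 2 * r * r) := by ring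
        rw [h7] at h1
        rw [h6]
        omega
      · have h1 := card_commutator_odd hQ h2 (by omega)
        have h4 := card_center_sl2_le (F := F)
        rw [hcard] at h1
        have h5 := Nat.mul_le_mul_left (Nat.card (commutator (Quad.oG (Quad.plusQ F 2)))) (hk.trans h4)
        have h6 : Fintype.card F * r * (Fintype.card F * r) = Fintype.card F ^ 2 * r * r := by ring
        have h7 : 2 * Fintype.card F ^ 2 * r * r = 2 * (Fintype.card F ^ 2 * r * r) := by ring
        rw [h7] at h1
        rw [h6]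
        omega)
  obtain ⟨e3⟩ := prod_center_equiv (A := SpecialLinearGroup (Fin 2) F) (B := SpecialLinearGroup (Fin 2) F)
  exact ⟨e1.trans (e2.trans e3)⟩

end fourPlus

section fourMinus

variable {F K : Type*} [Field F] [Fintype F] [Field K] [Fintype K]

variable [Algebra F K]

/-- A quadratic extension with its conjugation and a retraction. -/
structure MinusData (F K : Type*) [Field F] [Field K] [Algebra F K] where
  /-- the conjugation -/
  σ : K →+* K
  /-- the retraction -/
  π : K →ₗ[F] F
  inv : Herm.IsInvol σ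
  fix : ∀ c, σ (algebraMap F K c) = algebraMap F K c
  retr : ∀ c, π (algebraMap F K c) = c
  fixed : ∀ x, σ x = x → algebraMap F K (π x) = x

variable (D : MinusData F K)

/-- The norm as a quadratic form over the fixed field. -/
noncomputable def normR : QuadraticForm F K :=
  LinearMap.BilinMap.toQuadraticMap (LinearMap.mk₂ F (fun z w => D.π (z * D.σ w))
    (fun x y z => by simp [add_mul])
    (fun c x z => by rw [Algebra.smul_def, mul_assoc, ← Algebra.smul_def, map_smul])
    (fun x y z => by simp [mul_add])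
    (fun c x z => by rw [Algebra.smul_def, map_mul D.σ, D.fix, mul_left_comm, ← Algebra.smul_def, map_smul]))

omit [Fintype F] [Fintype K] in
theorem algebraMap_normR (z : K) : algebraMap F K (normR D z) = z * D.σ z :=
  D.fixed _ (by rw [map_mul, D.inv.invol, mul_comm])

omit [Fintype F] [Fintype K] in
theorem normR_aniso (z : K) (hz : normR D z = 0) : z = 0 := by
  have h := algebraMap_normR D z
  rw [hz, map_zero, eq_comm, mul_eq_zero, map_eq_zero] at h
  exact h.elim id id

omit [Fintype F] [Fintype K] in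
theorem nondeg_normR : (polarBilin (normR D)).Nondegenerate := Quad.nondeg_of fun z hz => by
  by_contra hz0
  obtain ⟨c, hc⟩ := Herm.exists_trace D.inv (map_one D.σ)
  have h1 : algebraMap F K (polar (normR D) z (D.σ (c / z))) = 1 := by
    rw [polar, map_sub, map_sub, algebraMap_normR, algebraMap_normR, algebraMap_normR, map_add, D.inv.invol, ← hc]
    have : D.σ z ≠ 0 := by simpa using hz0
    rw [map_div₀]
    field_simp
    ring
  rw [hz, map_zero] at h1
  exact zero_ne_one h1

/-- Hermitian matrices as coordinates. -/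
def toH (v : ((Fin 1 → F) × (Fin 1 → F)) × K) : Matrix (Fin 2) (Fin 2) K :=
  !![algebraMap F K (v.1.1 0), v.2; D.σ v.2, -algebraMap F K (v.1.2 0)]

omit [Fintype F] [Fintype K] in
theorem toH_det (v : ((Fin 1 → F) × (Fin 1 → F)) × K) :
    algebraMap F K (Quad.hyp (normR D) 1 v) = -(toH D v).det := by
  simp [toH, Quad.hyp_apply, Matrix.det_fin_two, algebraMap_normR]
  ring

omit [Fintype F] [Fintype K] in
theorem toH_injective : Function.Injective (toH D) := fun v w h => by
  have h1 := congrFun (congrFun h 0) 0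
  have h2 := congrFun (congrFun h 0) 1
  have h3 := congrFun (congrFun h 1) 1
  simp [toH] at h1 h2 h3
  exact Prod.ext (Prod.ext (funext fun i => by rw [Subsingleton.elim i 0]; exact h1)
    (funext fun i => by rw [Subsingleton.elim i 0]; exact h3)) h2

/-- Twisted congruence. -/
def actH (g : SpecialLinearGroup (Fin 2) K) (H : Matrix (Fin 2) (Fin 2) K) : Matrix (Fin 2) (Fin 2) K :=
  g.1 * H * (g.1.map D.σ)ᵀ

/-- The action on Hermitian matrices in coordinates. -/
def hermMap (g : SpecialLinearGroup (Fin 2) K) :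
    (((Fin 1 → F) × (Fin 1 → F)) × K) →ₗ[F] (((Fin 1 → F) × (Fin 1 → F)) × K) where
  toFun v := ((fun _ => D.π (actH D g (toH D v) 0 0), fun _ => -D.π (actH D g (toH D v) 1 1)),
    actH D g (toH D v) 0 1)
  map_add' v w := by
    have e : toH D (v + w) = toH D v + toH D w := by
      ext i j; fin_cases i <;> fin_cases j <;> simp [toH, map_add]; ring
    simp only [actH, e, Matrix.mul_add, Matrix.add_mul, Matrix.add_apply, map_add, neg_add]
    rfl
  map_smul' c v := by
    have e : toH D (c • v) = algebraMap F K c • toH D v := by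
      ext i j; fin_cases i <;> fin_cases j <;> simp [toH, Algebra.smul_def, D.fix]
    simp only [actH, e, Matrix.mul_smul, Matrix.smul_mul, Matrix.smul_apply, smul_eq_mul]
    refine Prod.ext (Prod.ext (funext fun _ => ?_) (funext fun _ => ?_)) ?_
    · show D.π (algebraMap F K c * _) = c • D.π _
      rw [← Algebra.smul_def, map_smul]
    · show -D.π (algebraMap F K c * _) = c • -D.π _
      rw [← Algebra.smul_def, map_smul, smul_neg]
    · exact (Algebra.smul_def _ _).symm

omit [Fintype F] [Fintype K] in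
theorem toH_hermMap (g : SpecialLinearGroup (Fin 2) K) (v : ((Fin 1 → F) × (Fin 1 → F)) × K) :
    toH D (hermMap D g v) = actH D g (toH D v) := by
  have hherm : ((toH D v).map D.σ)ᵀ = toH D v := by
    ext i j; fin_cases i <;> fin_cases j <;> simp [toH, D.fix, D.inv.invol]
  have h1 : ((actH D g (toH D v)).map D.σ)ᵀ = actH D g (toH D v) := by
    simp only [actH, Matrix.map_mul, Matrix.transpose_mul, hherm]
    rw [show ((g.1.map D.σ)ᵀ.map D.σ)ᵀ = g.1 by ext i j; simp [D.inv.invol], Matrix.mul_assoc]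
  have e00 := congrFun (congrFun h1 0) 0
  have e10 := congrFun (congrFun h1 1) 0
  have e11 := congrFun (congrFun h1 1) 1
  simp only [Matrix.transpose_apply, Matrix.map_apply] at e00 e10 e11
  ext i j
  fin_cases i <;> fin_cases j
  · exact D.fixed _ e00
  · rfl
  · exact e10
  · show -algebraMap F K (-D.π _) = _
    rw [map_neg, neg_neg, D.fixed _ e11]
    rfl

omit [Fintype F] [Fintype K] in
theorem hermMap_one (v : ((Fin 1 → F) × (Fin 1 → F)) × K) : hermMap D 1 v = v :=
  toH_injective D (by rw [toH_hermMap]; simp [actH])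

omit [Fintype F] [Fintype K] in
theorem hermMap_mul (g h : SpecialLinearGroup (Fin 2) K) (v : ((Fin 1 → F) × (Fin 1 → F)) × K) :
    hermMap D (g * h) v = hermMap D g (hermMap D h v) :=
  toH_injective D (by
    rw [toH_hermMap, toH_hermMap, toH_hermMap]
    simp [actH, Matrix.mul_assoc, Matrix.map_mul, Matrix.transpose_mul])

omit [Fintype F] [Fintype K] in
theorem hyp_hermMap (g : SpecialLinearGroup (Fin 2) K) (v : ((Fin 1 → F) × (Fin 1 → F)) × K) :
    Quad.hyp (normR D) 1 (hermMap D g v) = Quad.hyp (normR D) 1 v :=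
  (algebraMap F K).injective (by
    rw [toH_det, toH_det, toH_hermMap, actH, Matrix.det_mul, Matrix.det_mul, Matrix.det_transpose,
      show (g.1.map D.σ).det = 1 by rw [← RingHom.mapMatrix_apply, ← RingHom.map_det, g.2, map_one], g.2, one_mul,
      mul_one])

/-- The action as a linear automorphism. -/
def hermEquiv (g : SpecialLinearGroup (Fin 2) K) :
    (((Fin 1 → F) × (Fin 1 → F)) × K) ≃ₗ[F] (((Fin 1 → F) × (Fin 1 → F)) × K) :=
  LinearEquiv.ofLinearMap (hermMap D g) (hermMap D g⁻¹)
    (LinearMap.ext fun v => by rw [LinearMap.comp_apply, ← hermMap_mul, mul_inv_cancel, hermMap_one]; rfl)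
    (LinearMap.ext fun v => by rw [LinearMap.comp_apply, ← hermMap_mul, inv_mul_cancel, hermMap_one]; rfl)

omit [Fintype F] [Fintype K] in
theorem hermEquiv_apply (g : SpecialLinearGroup (Fin 2) K) (v : ((Fin 1 → F) × (Fin 1 → F)) × K) :
    hermEquiv D g v = hermMap D g v := rfl

omit [Fintype F] [Fintype K] in
theorem hermEquiv_mul (g h : SpecialLinearGroup (Fin 2) K) :
    hermEquiv D (g * h) = hermEquiv D g * hermEquiv D h :=
  LinearEquiv.ext fun v => by
    rw [LinearEquiv.mul_apply, hermEquiv_apply, hermEquiv_apply, hermEquiv_apply, hermMap_mul]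

omit [Fintype F] [Fintype K] in
theorem hermEquiv_mem (g : SpecialLinearGroup (Fin 2) K) :
    hermEquiv D g ∈ Quad.oG (Quad.hyp (normR D) 1) := fun v => by
  rw [hermEquiv_apply, hyp_hermMap]

/-- Two by two matrices over the extension acting on Hermitian matrices. -/
noncomputable def hermHom : SpecialLinearGroup (Fin 2) K →* Quad.oG (Quad.hyp (normR D) 1) :=
  (MonoidHom.mk' (hermEquiv D) (hermEquiv_mul D)).codRestrict _ (hermEquiv_mem D)

omit [Fintype F] [Fintype K] in
theorem hermHom_ker {g : SpecialLinearGroup (Fin 2) K} (hg : g ∈ (hermHom D).ker) :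
    g ∈ Subgroup.center (SpecialLinearGroup (Fin 2) K) := by
  have key : ∀ v, actH D g (toH D v) = toH D v := fun v => by
    rw [← toH_hermMap]
    exact congrArg (toH D) (congrArg (fun k : Quad.oG (Quad.hyp (normR D) 1) => k.1 v) hg)
  have k1 := key ((fun _ => 1, 0), 0)
  have k2 := key ((0, fun _ => 1), 0)
  have a00 := congrFun (congrFun k1 0) 0
  have a11 := congrFun (congrFun k1 1) 1
  have b00 := congrFun (congrFun k2 0) 0
  simp [actH, toH, Matrix.mul_apply, Fin.sum_univ_two] at a00 a11 b00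
  have hd := g.2
  rw [Matrix.det_fin_two, b00, a11, zero_mul, sub_zero] at hd
  have hσg : D.σ (g.1 0 0) = g.1 1 1 := by linear_combination (g.1 1 1) * a00 - D.σ (g.1 0 0) * hd
  have hsq : g.1 0 0 * g.1 0 0 = 1 := by
    have := congrFun (congrFun (key ((0, 0), 1)) 0) 1
    simp [actH, toH, Matrix.mul_apply, Fin.sum_univ_two, b00] at this
    rwa [← hσg, D.inv.invol] at this
  have hsc : g.1 1 1 = g.1 0 0 := mul_left_cancel₀ (left_ne_zero_of_mul (hsq ▸ one_ne_zero)) (hd.trans hsq.symm)
  refine Subgroup.mem_center_iff.2 fun y => Subtype.ext ?_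
  have hg'' : g.1 = Matrix.scalar (Fin 2) (g.1 0 0) := by
    ext i j
    fin_cases i <;> fin_cases j <;> simp [a11, b00, hsc]
  show y.1 * g.1 = g.1 * y.1
  rw [hg'']
  exact ((Matrix.scalar_commute _ (fun _ => Commute.all _ _) _).symm).eq

omit D in
omit [Algebra F K] in
/-- The homomorphism onto the orthogonal group of minus type in dimension four. -/
theorem exists_fourMinus {q : ℕ} (hF : Fintype.card F = q) (hK : Fintype.card K = q ^ 2) {a b : F}
    (hab : ∀ z₁ z₂ : F, z₁ ^ 2 + a * z₁ * z₂ + b * z₂ ^ 2 = 0 → z₁ = 0 ∧ z₂ = 0) :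
    ∃ f : SpecialLinearGroup (Fin 2) K →* Quad.oG (Quad.hyp (Quad.binForm a b) 1),
      ∀ g ∈ f.ker, g ∈ Subgroup.center (SpecialLinearGroup (Fin 2) K) := by
  obtain ⟨σ, ι, -, hσ, -, hσι, hιs⟩ := Embed.exists_subfield_hom hK hF
  letI : Algebra F K := ι.toAlgebra
  obtain ⟨π, hπ⟩ := Embed.exists_retraction (F := F) (K := K)
  let D : MinusData F K := ⟨σ, π, hσ, hσι, hπ, fun x hx => by
    obtain ⟨c, rfl⟩ := hιs x hx
    exact congrArg ι (hπ c)⟩
  obtain ⟨ζ, hζ⟩ := Quad.exists_rootfree (F := F)
  obtain ⟨e, he⟩ := Quad.iso_hyp ((Quad.iso_binForm hab hζ).symm.trans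
    (Quad.exists_binary_basis (nondeg_normR D) (normR_aniso D) (Embed.finrank_quadratic hK hF) hζ)) 1
  exact ⟨(Quad.oCongr e he).symm.toMonoidHom.comp (hermHom D), fun g hg =>
    hermHom_ker D ((Quad.oCongr e he).symm.injective (hg.trans (map_one _).symm))⟩

omit [Algebra F K] in
theorem card_commutator_minus_two (hF : Fintype.card F = 2) {a b : F}
    (hab : ∀ z₁ z₂ : F, z₁ ^ 2 + a * z₁ * z₂ + b * z₂ ^ 2 = 0 → z₁ = 0 ∧ z₂ = 0) :
    Nat.card (commutator (Quad.oG (Quad.hyp (Quad.binForm a b) 1))) * 2 ≤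
      Nat.card (Quad.oG (Quad.hyp (Quad.binForm a b) 1)) := by
  classical
  have ha : a = 1 ∧ b = 1 := by
    rcases Symm2.two_cases hF a with rfl | rfl <;> rcases Symm2.two_cases hF b with rfl | rfl
    · exact absurd (hab 0 1 (by simp)).2 one_ne_zero
    · exact absurd (hab 1 1 (by simp [Symm2.add_self hF])).2 one_ne_zero
    · exact absurd (hab 0 1 (by simp)).2 one_ne_zero
    · exact ⟨rfl, rfl⟩
  obtain ⟨rfl, rfl⟩ := ha
  obtain ⟨s⟩ := Symm2.equiv_five hF
  have hfun : Cfsg.quadFormMinus 1 F 1 1 = ⇑((Quad.hyp (Quad.binForm (1 : F) 1) 1).comp (Quad.minusCoord 1).toLinearMap) :=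
    funext fun x => (Quad.minusCoord_map _ _ _ x).symm
  rw [hfun] at s
  let ψ : Quad.oG (Quad.hyp (Quad.binForm (1 : F) 1) 1) ≃* Equiv.Perm (Fin 5) :=
    ((Quad.oEquiv _).trans (Quad.oCongr (Quad.minusCoord 1) fun x => rfl)).symm.trans s
  let χ := Equiv.Perm.sign.comp ψ.toMonoidHom
  have hs : Function.Surjective χ := (Equiv.Perm.sign_surjective (Fin 5)).comp ψ.surjective
  have hidx : χ.ker.index = 2 := by
    rw [Subgroup.index_ker, MonoidHom.range_eq_top.2 hs, Subgroup.card_top]
    simp
  have : Finite (Quad.oG (Quad.hyp (Quad.binForm (1 : F) 1) 1)) := oG_finite _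
  calc Nat.card (commutator _) * 2 ≤ Nat.card χ.ker * 2 :=
        Nat.mul_le_mul_right 2 (Subgroup.card_le_of_le (Abelianization.commutator_subset_ker χ))
    _ = _ := by rw [← hidx, Subgroup.card_mul_index]

omit [Algebra F K] in
theorem pomega_four_minus {q : ℕ} (hF : Fintype.card F = q) (hK : Fintype.card K = q ^ 2) (a b : F)
    (hab : ∀ z₁ z₂ : F, z₁ ^ 2 + a * z₁ * z₂ + b * z₂ ^ 2 = 0 → z₁ = 0 ∧ z₂ = 0) :
    Nonempty (Cfsg.POmega F (Cfsg.quadFormMinus 1 F a b) ≃* ProjectiveSpecialLinearGroup (Fin 2) K) := by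
  classical
  have hq : 2 ≤ q := hF ▸ Fintype.one_lt_card
  have hK4 : 4 ≤ Fintype.card K := by rw [hK]; nlinarith
  obtain ⟨f, hker⟩ := exists_fourMinus hF hK hab
  have hQ : (polarBilin (Quad.hyp (Quad.binForm a b) 1)).Nondegenerate :=
    Quad.nondeg_hyp (Quad.nondeg_binForm hab) 1
  have hd : finrank F (((Fin 1 → F) × (Fin 1 → F)) × (F × F)) = 4 := by simp [Module.finrank_prod]
  have := oG_finite (Quad.hyp (Quad.binForm a b) 1)
  obtain ⟨e1⟩ := pomega_equiv (Q := Quad.hyp (Quad.binForm a b) 1) (Q' := Cfsg.quadFormMinus 1 F a b) (Quad.minusCoord 1)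
    (Quad.minusCoord_map a b 1)
  have hp : commutator (SpecialLinearGroup (Fin 2) K) = ⊤ :=
    commutator_sl_eq_top (Or.inr (Small.exists_sq_ne_one hK4))
  obtain ⟨e2⟩ := quot_equiv_of_good f (Or.inl hp) (Or.inl hp) hker (fun g hg => sl2_center_sq (hker g hg)) (by
    have hk := Subgroup.card_le_of_le (show f.ker ≤ _ from hker)
    have ho := Quad.card_oG_minus hab hF 1
    simp at ho
    have hq1 : 1 ≤ q ^ 2 := Nat.one_le_pow _ _ (by omega)
    have hs : Nat.card (SpecialLinearGroup (Fin 2) K) = q ^ 2 * ((q ^ 2 + 1) * (q ^ 2 - 1)) := by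
      rw [Classical.card_sl2, hK, ← Quad.sq_pow_sub_one, show 2 * 2 = 4 from rfl]
      ring_nf
    rw [hs]
    by_cases h2 : (2 : F) = 0
    · have h2K : (2 : K) = 0 := by
        obtain ⟨-, ι, -, -, -, -, -⟩ := Embed.exists_subfield_hom hK hF
        rw [← map_ofNat ι 2, h2, map_zero]
      have h4 := card_center_sl2_two h2K
      rw [h4] at hk
      have hk1 : Nat.card f.ker = 1 := by
        have := Nat.card_pos (α := f.ker)
        omega
      rw [hk1, mul_one]
      rcases eq_or_lt_of_le hq with h | h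
      · have h1 := card_commutator_minus_two (by omega : Fintype.card F = 2) hab
        rw [ho] at h1
        nlinarith
      · have h1 := card_commutator_two hQ h2 (Or.inl (by rw [Nat.card_eq_fintype_card]; omega)) (by omega)
        rw [ho] at h1
        nlinarith
    · have h1 := card_commutator_odd hQ h2 (by omega)
      rw [ho] at h1
      have h4 := card_center_sl2_le (F := K)
      nlinarith)
  exact ⟨e1.trans e2⟩

end fourMinus

end Cfsg.Agent.Classical.Exc
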