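import Mathlib
import Cfsg.Agent.Classical.OrthBlocks

/-!
The Klein correspondence: four by four matrices acting on bivectors with the form x₀₁x₂₃ + x₀₂x₃₁ + x₀₃x₁₂.
-/

set_option autoImplicit false

namespace Cfsg.Agent.Classical.Klein

open Matrix QuadraticMap

/-- First index of a bivector coordinate. -/
def pa : Fin 3 ⊕ Fin 3 → Fin 4 := Sum.elim ![0, 0, 0] ![2, 3, 1]

/-- Second index of a bivector coordinate. -/
def pb : Fin 3 ⊕ Fin 3 → Fin 4 := Sum.elim ![1, 2, 3] ![3, 1, 2]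

variable {R : Type*} [CommRing R]

/-- The wedge of two vectors. -/
def wedge (u v : Fin 4 → R) (s : Fin 3 ⊕ Fin 3) : R := u (pa s) * v (pb s) - u (pb s) * v (pa s)

/-- The second compound of a matrix. -/
def comp2 (g : Matrix (Fin 4) (Fin 4) R) : Matrix (Fin 3 ⊕ Fin 3) (Fin 3 ⊕ Fin 3) R :=
  Matrix.of fun t s => wedge (g (pa t)) (g (pb t)) s

theorem binet (p q u v : Fin 4 → R) :
    ∑ s, wedge p q s * wedge u v s = (p ⬝ᵥ u) * (q ⬝ᵥ v) - (p ⬝ᵥ v) * (q ⬝ᵥ u) := by
  simp [wedge, pa, pb, Fintype.sum_sum_type, Fin.sum_univ_three, dotProduct, Fin.sum_univ_four]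
  ring

theorem comp2_mulVec (g : Matrix (Fin 4) (Fin 4) R) (u v : Fin 4 → R) :
    comp2 g *ᵥ wedge u v = wedge (g *ᵥ u) (g *ᵥ v) := by
  funext t
  show ∑ s, wedge (g (pa t)) (g (pb t)) s * wedge u v s = _
  rw [binet]
  simp only [wedge, Matrix.mulVec]
  ring

theorem wedge_single (s : Fin 3 ⊕ Fin 3) :
    wedge (Pi.single (pa s) (1 : R)) (Pi.single (pb s) 1) = Pi.single s 1 := by
  funext t
  rcases s with i | i <;> rcases t with j | j <;> fin_cases i <;> fin_cases j <;> simp [wedge, pa, pb]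

theorem comp2_single (g : Matrix (Fin 4) (Fin 4) R) (s : Fin 3 ⊕ Fin 3) :
    comp2 g *ᵥ Pi.single s 1 = wedge (g *ᵥ Pi.single (pa s) 1) (g *ᵥ Pi.single (pb s) 1) := by
  rw [← wedge_single, comp2_mulVec]

theorem comp2_mul (g h : Matrix (Fin 4) (Fin 4) R) : comp2 (g * h) = comp2 g * comp2 h := by
  refine Matrix.ext_of_mulVec_single fun s => ?_
  rw [← Matrix.mulVec_mulVec, comp2_single, comp2_single, comp2_mulVec, Matrix.mulVec_mulVec, Matrix.mulVec_mulVec]

theorem comp2_one : comp2 (1 : Matrix (Fin 4) (Fin 4) R) = 1 := by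
  refine Matrix.ext_of_mulVec_single fun s => ?_
  rw [comp2_single, Matrix.one_mulVec, Matrix.one_mulVec, Matrix.one_mulVec, wedge_single]

theorem comp2_transpose (g : Matrix (Fin 4) (Fin 4) R) : (comp2 g)ᵀ = comp2 gᵀ := by
  ext t s
  simp only [Matrix.transpose_apply, comp2, Matrix.of_apply, wedge]
  ring

theorem comp2_map {S : Type*} [CommRing S] (f : R →+* S) (g : Matrix (Fin 4) (Fin 4) R) :
    (comp2 g).map f = comp2 (g.map f) := by
  ext t s
  simp [comp2, wedge]

/-- The determinant pairing. -/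
theorem det_rows (u v u' v' : Fin 4 → R) :
    Matrix.det !![u 0, u 1, u 2, u 3; v 0, v 1, v 2, v 3; u' 0, u' 1, u' 2, u' 3; v' 0, v' 1, v' 2, v' 3] =
      ∑ i : Fin 3, (wedge u v (.inl i) * wedge u' v' (.inr i) + wedge u' v' (.inl i) * wedge u v (.inr i)) := by
  simp [Matrix.det_succ_row_zero, Fin.sum_univ_succ, wedge, pa, pb, Fin.succAbove]
  ring

theorem det_rows_mulVec (g : Matrix (Fin 4) (Fin 4) R) (u v u' v' : Fin 4 → R) :
    Matrix.det !![(g *ᵥ u) 0, (g *ᵥ u) 1, (g *ᵥ u) 2, (g *ᵥ u) 3; (g *ᵥ v) 0, (g *ᵥ v) 1, (g *ᵥ v) 2, (g *ᵥ v) 3;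
      (g *ᵥ u') 0, (g *ᵥ u') 1, (g *ᵥ u') 2, (g *ᵥ u') 3; (g *ᵥ v') 0, (g *ᵥ v') 1, (g *ᵥ v') 2, (g *ᵥ v') 3] =
      Matrix.det !![u 0, u 1, u 2, u 3; v 0, v 1, v 2, v 3; u' 0, u' 1, u' 2, u' 3; v' 0, v' 1, v' 2, v' 3] *
        g.det := by
  rw [← Matrix.det_transpose g, ← Matrix.det_mul]
  congr 1
  ext i j
  fin_cases i <;> fin_cases j <;> simp [Matrix.mul_apply, Matrix.mulVec, dotProduct, Fin.sum_univ_four] <;> ring

variable {F : Type*} [Field F]

theorem polar_wedge (u v u' v' : Fin 4 → F) :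
    polar (Quad.plusQ F 3) (wedge u v) (wedge u' v') =
      Matrix.det !![u 0, u 1, u 2, u 3; v 0, v 1, v 2, v 3; u' 0, u' 1, u' 2, u' 3; v' 0, v' 1, v' 2, v' 3] := by
  rw [Quad.polar_plusQ, det_rows]

theorem plusQ_wedge (u v : Fin 4 → F) : Quad.plusQ F 3 (wedge u v) = 0 := by
  rw [Quad.plusQ_apply]
  simp [wedge, pa, pb, Fin.sum_univ_three]
  ring

/-- A form is preserved once it is preserved on a basis together with its polar. -/
theorem map_eq_of_basis {ι : Type} [Fintype ι] [DecidableEq ι] (Q : QuadraticForm F (ι → F)) (M : Matrix ι ι F)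
    (h1 : ∀ s, Q (M *ᵥ Pi.single s 1) = Q (Pi.single s 1))
    (h2 : ∀ s t, polar Q (M *ᵥ Pi.single s 1) (M *ᵥ Pi.single t 1) = polar Q (Pi.single s 1) (Pi.single t 1))
    (x : ι → F) : Q (M *ᵥ x) = Q x := by
  let D : QuadraticForm F (ι → F) := Q.comp (Matrix.mulVecLin M) - Q
  have hD : ∀ y, D y = Q (M *ᵥ y) - Q y := fun y => rfl
  have hp : ∀ s t, polarBilin D (Pi.single s 1) (Pi.single t 1) = 0 := fun s t => by
    have := h2 s t
    simp only [polarBilin_apply_apply, polar, hD, Matrix.mulVec_add] at this ⊢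
    linear_combination this
  have hB : polarBilin D = 0 := LinearMap.ext_basis (Pi.basisFun F ι) (Pi.basisFun F ι) fun s t => by
    simpa using hp s t
  have hadd : ∀ a b, D (a + b) = D a + D b := fun a b => by
    have := congrArg (fun B : LinearMap.BilinForm F (ι → F) => B a b) hB
    simp only [polarBilin_apply_apply, LinearMap.zero_apply, polar] at this
    linear_combination this
  have key : D x = 0 := by
    rw [← Finset.univ_sum_single x]
    induction (Finset.univ : Finset ι) using Finset.induction with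
    | empty => simp
    | insert s T hs ih =>
      rw [Finset.sum_insert hs, hadd, ih, add_zero, show (Pi.single s (x s) : ι → F) = x s • Pi.single s 1 by
        rw [← Pi.single_smul, smul_eq_mul, mul_one], QuadraticMap.map_smul, hD, h1, sub_self, smul_zero]
  rw [hD] at key
  exact sub_eq_zero.1 key

theorem plusQ_comp2 {g : Matrix (Fin 4) (Fin 4) F} (hg : g.det = 1) (x : Fin 3 ⊕ Fin 3 → F) :
    Quad.plusQ F 3 (comp2 g *ᵥ x) = Quad.plusQ F 3 x := by
  refine map_eq_of_basis _ _ (fun s => ?_) (fun s t => ?_) x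
  · rw [comp2_single, plusQ_wedge, Quad.plusQ_single]
  · rw [comp2_single, comp2_single, ← wedge_single s, ← wedge_single t, polar_wedge, polar_wedge, det_rows_mulVec,
      hg, mul_one]

theorem minor_fix {a0 a1 a2 b0 b1 b2 : F} (h1 : a0 * b1 - a1 * b0 = 1) (h2 : a0 * b2 - a2 * b0 = 0)
    (h3 : a1 * b2 - a2 * b1 = 0) : a2 = 0 ∧ b2 = 0 :=
  ⟨by linear_combination -a2 * h1 + a1 * h2 - a0 * h3, by linear_combination -b2 * h1 + b1 * h2 - b0 * h3⟩

/-- The kernel of the compound consists of the scalars with square one. -/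
theorem comp2_eq_one {g : Matrix (Fin 4) (Fin 4) F} (h : comp2 g = 1) :
    g = Matrix.scalar (Fin 4) (g 0 0) ∧ g 0 0 * g 0 0 = 1 := by
  have e : ∀ t s, wedge (g (pa t)) (g (pb t)) s = if t = s then 1 else 0 := fun t s => by
    have := congrFun (congrFun h t) s
    rwa [comp2, Matrix.of_apply, Matrix.one_apply] at this
  have c00 := e (.inl 0) (.inl 0)
  have c01 := e (.inl 0) (.inl 1)
  have c02 := e (.inl 0) (.inl 2)
  have c03 := e (.inl 0) (.inr 2)
  have c05 := e (.inl 0) (.inr 1)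
  have c11 := e (.inl 1) (.inl 1)
  have c10 := e (.inl 1) (.inl 0)
  have c13 := e (.inl 1) (.inr 2)
  have c12 := e (.inl 1) (.inl 2)
  have c14 := e (.inl 1) (.inr 0)
  have c22 := e (.inl 2) (.inl 2)
  have c20 := e (.inl 2) (.inl 0)
  have c21 := e (.inl 2) (.inl 1)
  have c24 := e (.inl 2) (.inr 1)
  have c25 := e (.inl 2) (.inr 0)
  have c55 := e (.inr 2) (.inr 2)
  simp [wedge, pa, pb] at c00 c01 c02 c03 c05 c11 c10 c13 c12 c14 c22 c20 c21 c24 c25 c55
  obtain ⟨z02, z12⟩ := minor_fix (a0 := g 0 0) (a1 := g 0 1) (a2 := g 0 2) (b0 := g 1 0) (b1 := g 1 1) (b2 := g 1 2)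
    c00 (by linear_combination c01) (by linear_combination c03)
  obtain ⟨z03, z13⟩ := minor_fix (a0 := g 0 0) (a1 := g 0 1) (a2 := g 0 3) (b0 := g 1 0) (b1 := g 1 1) (b2 := g 1 3)
    c00 (by linear_combination c02) (by linear_combination -c05)
  obtain ⟨z01, z21⟩ := minor_fix (a0 := g 0 0) (a1 := g 0 2) (a2 := g 0 1) (b0 := g 2 0) (b1 := g 2 2) (b2 := g 2 1)
    c11 (by linear_combination c10) (by linear_combination -c13)
  obtain ⟨-, z23⟩ := minor_fix (a0 := g 0 0) (a1 := g 0 2) (a2 := g 0 3) (b0 := g 2 0) (b1 := g 2 2) (b2 := g 2 3)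
    c11 (by linear_combination c12) (by linear_combination c14)
  obtain ⟨-, z31⟩ := minor_fix (a0 := g 0 0) (a1 := g 0 3) (a2 := g 0 1) (b0 := g 3 0) (b1 := g 3 3) (b2 := g 3 1)
    c22 (by linear_combination c20) (by linear_combination c24)
  obtain ⟨-, z32⟩ := minor_fix (a0 := g 0 0) (a1 := g 0 3) (a2 := g 0 2) (b0 := g 3 0) (b1 := g 3 3) (b2 := g 3 2)
    c22 (by linear_combination c21) (by linear_combination -c25)
  rw [z01] at c00
  rw [z02] at c11
  rw [z03] at c22
  have a0 : g 0 0 ≠ 0 := fun h0 => by rw [h0] at c00; simp at c00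
  rw [z12, z21] at c55
  have e1 : g 1 1 = (g 0 0)⁻¹ := eq_inv_of_mul_eq_one_right (by linear_combination c00)
  have e2 : g 2 2 = (g 0 0)⁻¹ := eq_inv_of_mul_eq_one_right (by linear_combination c11)
  have e3 : g 3 3 = (g 0 0)⁻¹ := eq_inv_of_mul_eq_one_right (by linear_combination c22)
  rw [e1, e2] at c55
  have hsq : g 0 0 * g 0 0 = 1 := by field_simp at c55; linear_combination -c55
  have hinv : (g 0 0)⁻¹ = g 0 0 := inv_eq_of_mul_eq_one_right hsq
  have e10 := e (.inl 1) (.inr 2)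
  have e20 := e (.inl 0) (.inl 1)
  refine ⟨?_, hsq⟩
  have d10 : g 1 0 = 0 := by
    have h1 := e (.inr 2) (.inl 1)
    simp [wedge, pa, pb, z12, z21, e2] at h1
    exact h1.resolve_right a0
  have d20 : g 2 0 = 0 := by
    have h1 := e (.inr 2) (.inl 0)
    simp [wedge, pa, pb, z12, z21, e1] at h1
    exact h1.resolve_left a0
  have d30 : g 3 0 = 0 := by
    have h1 := e (.inr 1) (.inl 0)
    simp [wedge, pa, pb, z31, z13, e1] at h1
    exact h1.resolve_right a0
  ext i j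
  fin_cases i <;> fin_cases j <;>
    simp [z01, z02, z03, z12, z13, z21, z23, z31, z32, d10, d20, d30, e1, e2, e3, hinv]

/-- The homomorphism to the orthogonal group in dimension six. -/
noncomputable def kleinHom : Matrix.SpecialLinearGroup (Fin 4) F →* Quad.oG (Quad.plusQ F 3) :=
  (MonoidHom.mk' (fun g : Matrix.SpecialLinearGroup (Fin 4) F =>
    LinearEquiv.ofLinearMap (Matrix.mulVecLin (comp2 g.1)) (Matrix.mulVecLin (comp2 (g⁻¹).1))
      (LinearMap.ext fun x => by
        rw [LinearMap.comp_apply, Matrix.mulVecLin_apply, Matrix.mulVecLin_apply, Matrix.mulVec_mulVec, ← comp2_mul,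
          show g.1 * (g⁻¹).1 = 1 from congrArg Subtype.val (mul_inv_cancel g), comp2_one, Matrix.one_mulVec]
        rfl)
      (LinearMap.ext fun x => by
        rw [LinearMap.comp_apply, Matrix.mulVecLin_apply, Matrix.mulVecLin_apply, Matrix.mulVec_mulVec, ← comp2_mul,
          show (g⁻¹).1 * g.1 = 1 from congrArg Subtype.val (inv_mul_cancel g), comp2_one, Matrix.one_mulVec]
        rfl))
    fun g h => LinearEquiv.ext fun x => by
      show comp2 (g.1 * h.1) *ᵥ x = comp2 g.1 *ᵥ (comp2 h.1 *ᵥ x)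
      rw [comp2_mul, Matrix.mulVec_mulVec]).codRestrict _ fun g x => plusQ_comp2 g.2 x

theorem kleinHom_apply (g : Matrix.SpecialLinearGroup (Fin 4) F) (x : Fin 3 ⊕ Fin 3 → F) :
    (kleinHom g).1 x = comp2 g.1 *ᵥ x := rfl

theorem comp2_eq_one_of_fix {g : Matrix (Fin 4) (Fin 4) F} (h : ∀ x, comp2 g *ᵥ x = x) : comp2 g = 1 :=
  Matrix.ext_of_mulVec_single fun s => by rw [h, Matrix.one_mulVec]

end Cfsg.Agent.Classical.Klein
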