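import Mathlib
import Cfsg.Agent.Classical.HermForm

/-!
The special unitary group of a Hermitian form: transvections, Eichler elements, generation by transvections
(except in dimension 3 over the field with 4 elements), transvections as commutators.
-/

set_option autoImplicit false

namespace Cfsg.Agent.Classical.Herm

open Module
open scoped commutatorElement

variable {F V : Type*} [Field F] [AddCommGroup V] [Module F V] {σ : F →+* F} {B : V →ₛₗ[σ] V →ₗ[F] F}

/-- The special isometry group. -/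
def suG (B : V →ₛₗ[σ] V →ₗ[F] F) : Subgroup (V ≃ₗ[F] V) where
  carrier := {g | (∀ x y, B (g x) (g y) = B x y) ∧ LinearEquiv.det g = 1}
  mul_mem' {a b} ha hb := ⟨fun x y => by rw [LinearEquiv.mul_apply, LinearEquiv.mul_apply, ha.1, hb.1],
    by rw [map_mul, ha.2, hb.2, mul_one]⟩
  one_mem' := ⟨fun x y => rfl, map_one _⟩
  inv_mem' {a} ha := by
    refine ⟨fun x y => ?_, by rw [map_inv, ha.2, inv_one]⟩
    have := ha.1 (a⁻¹ x) (a⁻¹ y)
    rw [← LinearEquiv.mul_apply, ← LinearEquiv.mul_apply, mul_inv_cancel] at this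
    exact this.symm

theorem mem_suG {g : V ≃ₗ[F] V} :
    g ∈ suG B ↔ (∀ x y, B (g x) (g y) = B x y) ∧ LinearEquiv.det g = 1 := Iff.rfl

/-- Unipotent automorphisms have determinant one. -/
theorem det_eq_one_of_cube [Finite F] [FiniteDimensional F V] (g : V ≃ₗ[F] V)
    (hg : ((g : V →ₗ[F] V) - 1) ^ 3 = 0) : LinearEquiv.det g = 1 := by
  rcases subsingleton_or_nontrivial V with hV | hV
  · exact Units.ext (by rw [LinearEquiv.coe_det, LinearMap.det_eq_one_of_subsingleton]; rfl)
  obtain ⟨p, hp⟩ := CharP.exists F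
  have : Fact p.Prime := ⟨CharP.char_is_prime F p⟩
  have : CharP (Module.End F V) p := charP_of_injective_algebraMap (algebraMap F (Module.End F V)).injective p
  have h1 : (g : Module.End F V) = ((g : Module.End F V) - 1) + 1 := (sub_add_cancel _ _).symm
  have h2 : (g : Module.End F V) ^ p ^ 2 = 1 := by
    rw [h1, add_pow_char_pow_of_commute p 2 (h := Commute.one_right _), one_pow]
    have hle : 3 ≤ p ^ 2 := by
      have := (Fact.out : p.Prime).two_le
      nlinarith
    rw [← Nat.add_sub_cancel' hle, pow_add, show ((g : Module.End F V) - 1) ^ 3 = 0 from hg, zero_mul, zero_add]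
  have h3 : LinearMap.det (g : V →ₗ[F] V) ^ p ^ 2 = 1 := by
    rw [← map_pow, h2, map_one]
  refine Units.ext ?_
  rw [LinearEquiv.coe_det, Units.val_one]
  exact iterateFrobenius_inj F p 2 (by rw [iterateFrobenius_def, iterateFrobenius_def, h3, one_pow])

variable (h : IsHerm B)
include h

theorem det_unit_norm [FiniteDimensional F V] [Finite F] (g : V ≃ₗ[F] V) {k : ℕ} {a : Fin k → V} (ha : IsON B a)
    (hk : k = finrank F V) (δ : Fin k → F) (hg : ∀ i, g (a i) = δ i • a i) :
    (LinearEquiv.det g : F) = ∏ i, δ i := by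
  rcases Nat.eq_zero_or_pos k with h0 | h0
  · subst h0
    rw [LinearEquiv.coe_det, LinearMap.det_eq_one_of_finrank_eq_zero hk.symm]
    simp
  have : Nonempty (Fin k) := ⟨⟨0, h0⟩⟩
  let b := basisOfLinearIndependentOfCardEqFinrank (ha.linearIndependent h) (by simpa using hk)
  have hm : LinearMap.toMatrix b b (g : V →ₗ[F] V) = Matrix.diagonal δ := by
    ext i j
    rw [LinearMap.toMatrix_apply]
    have hbj : b j = a j := by simp [b]
    rw [hbj, LinearEquiv.coe_coe, hg, ← hbj, map_smul, Basis.repr_self]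
    by_cases hij : i = j
    · subst hij; simp
    · simp [hij, Ne.symm hij]
  rw [LinearEquiv.coe_det, ← LinearMap.det_toMatrix b, hm, Matrix.det_diagonal]

/-- The transvection `x ↦ x + c B(v,x) v`. -/
def tvU {v : V} (hv : B v v = 0) (c : F) : V ≃ₗ[F] V where
  toFun x := x + (c * B v x) • v
  map_add' x y := by simp [mul_add, add_smul]; abel
  map_smul' a x := by simp [smul_smul, mul_left_comm]
  invFun x := x + (-c * B v x) • v
  left_inv x := by simp [hv]
  right_inv x := by simp [hv]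

omit h in
theorem tvU_apply {v : V} (hv : B v v = 0) (c : F) (x : V) : tvU hv c x = x + (c * B v x) • v := rfl

theorem tvU_isometry {v : V} (hv : B v v = 0) {c : F} (hc : c + σ c = 0) (x y : V) :
    B (tvU hv c x) (tvU hv c y) = B x y := by
  simp only [tvU_apply, map_add, map_smulₛₗ, LinearMap.add_apply, LinearMap.smul_apply, smul_eq_mul, map_mul,
    RingHom.id_apply, h.symm, hv, mul_zero, add_zero]
  linear_combination B x v * B v y * hc

theorem tvU_mem [Finite F] [FiniteDimensional F V] {v : V} (hv : B v v = 0) {c : F} (hc : c + σ c = 0) :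
    tvU hv c ∈ suG B := by
  refine ⟨tvU_isometry h hv hc, det_eq_one_of_cube _ (LinearMap.ext fun x => ?_)⟩
  simp [pow_succ, Module.End.mul_apply, tvU_apply, hv]

omit h in
/-- The group generated by the transvections along vectors of P. -/
def TUon (B : V →ₛₗ[σ] V →ₗ[F] F) (P : Submodule F V) : Subgroup (V ≃ₗ[F] V) :=
  Subgroup.closure {t | ∃ v ∈ P, ∃ c : F, B v v = 0 ∧ c + σ c = 0 ∧ ∀ x, t x = x + (c * B v x) • v}

theorem tvU_mem_TUon {P : Submodule F V} {v : V} (hv : B v v = 0) (hvP : v ∈ P) {c : F} (hc : c + σ c = 0) :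
    tvU hv c ∈ TUon B P :=
  Subgroup.subset_closure ⟨v, hvP, c, hv, hc, fun _ => rfl⟩

omit h in
theorem TUon_mono {P Q : Submodule F V} (hPQ : P ≤ Q) : TUon B P ≤ TUon B Q :=
  Subgroup.closure_mono fun _ ⟨v, hv, r⟩ => ⟨v, hPQ hv, r⟩

theorem TUon_le_suG [Finite F] [FiniteDimensional F V] (P : Submodule F V) : TUon B P ≤ suG B := by
  refine (Subgroup.closure_le _).2 ?_
  rintro t ⟨v, -, c, hv, hc, ht⟩
  exact (LinearEquiv.ext fun x => ht x : t = tvU hv c) ▸ tvU_mem h hv hc

omit h in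
theorem TUon_fix {P : Submodule F V} {t : V ≃ₗ[F] V} (ht : t ∈ TUon B P) {x : V}
    (hx : ∀ w ∈ P, B w x = 0) : t x = x := by
  induction ht using Subgroup.closure_induction with
  | mem t h => obtain ⟨v, hv, c, -, -, h⟩ := h; simp [h, hx v hv]
  | one => rfl
  | mul a b _ _ ha hb => rw [LinearEquiv.mul_apply, hb, ha]
  | inv a _ ha =>
    conv_lhs => rw [← ha]
    rw [← LinearEquiv.mul_apply, inv_mul_cancel]
    rfl

omit h in
theorem inv_apply_self' (g : V ≃ₗ[F] V) (x : V) : g⁻¹ (g x) = x := by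
  rw [← LinearEquiv.mul_apply, inv_mul_cancel]; rfl

/-- Conjugation of a transvection by an isometry. -/
theorem conj_tvU {g : V ≃ₗ[F] V} (hg : ∀ x y, B (g x) (g y) = B x y) {v : V} (hv : B v v = 0) (c : F) :
    g * tvU hv c * g⁻¹ = tvU (show B (g v) (g v) = 0 by rw [hg, hv]) c := by
  ext x
  have e : B v (g⁻¹ x) = B (g v) x := by
    rw [← hg v (g⁻¹ x), ← LinearEquiv.mul_apply, mul_inv_cancel]; rfl
  rw [LinearEquiv.mul_apply, LinearEquiv.mul_apply, tvU_apply, tvU_apply, e, map_add, map_smul,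
    ← LinearEquiv.mul_apply g g⁻¹, mul_inv_cancel]
  rfl

/-! ### Transitivity inside a plane -/

theorem plane_move {P : Submodule F V} {e f : V} (he : e ∈ P) (hf : f ∈ P) (hee : B e e = 0) (hff : B f f = 0)
    (hef : B e f = 1) {x y x' y' : F} (hv : σ x * y + σ y * x = 1) (hv' : σ x' * y' + σ y' * x' = 1) :
    ∃ t ∈ TUon B P, t (x • e + y • f) = x' • e + y' • f := by
  have hfe : B f e = 1 := by rw [← h.symm, hef, map_one]
  have moveE : ∀ {x x' y : F}, σ x * y + σ y * x = 1 → σ x' * y + σ y * x' = 1 →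
      ∃ t ∈ TUon B P, t (x • e + y • f) = x' • e + y • f := by
    intro x x' y hv hv'
    have hy : y ≠ 0 := by rintro rfl; simp at hv
    have hc : (x' - x) / y + σ ((x' - x) / y) = 0 := by
      rw [map_div₀, map_sub, div_add_div _ _ hy ((map_ne_zero σ).2 hy), div_eq_zero_iff]
      left
      linear_combination hv' - hv
    refine ⟨tvU hee _, tvU_mem_TUon h hee he hc, ?_⟩
    simp [tvU_apply, hee, hef, div_mul_cancel₀ _ hy, sub_smul]
    abel
  have ratio : ∀ {x y x' y' : F}, σ x * y + σ y * x = 1 → σ x' * y' + σ y' * x' = 1 → σ (y' / y) ≠ y' / y →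
      ∃ t ∈ TUon B P, t (x • e + y • f) = x' • e + y' • f := by
    intro x y x' y' hv hv' hne
    have hy : y ≠ 0 := by rintro rfl; simp at hv
    set w := y' / y - 1 with hw
    have hw' : w - σ w ≠ 0 := by
      rw [hw, map_sub, map_one]
      intro h0
      exact hne (by linear_combination -h0)
    clear_value w
    set c := (w - σ w) * (y * σ y) with hcdef
    have hc0 : c ≠ 0 := mul_ne_zero hw' (mul_ne_zero hy ((map_ne_zero σ).2 hy))
    have hc : c + σ c = 0 := by
      rw [hcdef, map_mul, map_mul, map_sub, h.invol, h.invol]; ring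
    have hcσ : σ c = -c := by linear_combination hc
    set x0 := y * w / c with hx0
    have hv0 : σ x0 * y + σ y * x0 = 1 := by
      rw [hx0, map_div₀, map_mul, hcσ]
      field_simp
      rw [hcdef]
      ring
    have hy' : y + c * x0 = y' := by
      rw [hx0, mul_div_cancel₀ _ hc0, hw]
      field_simp
      ring
    obtain ⟨t₁, ht₁, h₁⟩ := moveE hv hv0
    have hv1 : σ x0 * y' + σ y' * x0 = 1 := by
      rw [← hy', map_add, map_mul, hcσ]
      linear_combination hv0
    obtain ⟨t₃, ht₃, h₃⟩ := moveE hv1 hv'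
    refine ⟨t₃ * tvU hff c * t₁, mul_mem (mul_mem ht₃ (tvU_mem_TUon h hff hf hc)) ht₁, ?_⟩
    rw [LinearEquiv.mul_apply, LinearEquiv.mul_apply, h₁, ← h₃]
    congr 1
    rw [← hy']
    simp [tvU_apply, hff, hfe, add_smul]
    abel
  by_cases hne : σ (y' / y) = y' / y
  · obtain ⟨b, hb⟩ := exists_moved h.toIsInvol
    have hy : y ≠ 0 := by rintro rfl; simp at hv
    have hy' : y' ≠ 0 := by rintro rfl; simp at hv'
    have hb0 : b ≠ 0 := by rintro rfl; simp at hb
    have hyb : y * b ≠ 0 := mul_ne_zero hy hb0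
    obtain ⟨z, hz⟩ := exists_trace h.toIsInvol (a := ((y * b) * σ (y * b))⁻¹) (by
      rw [map_inv₀, map_mul, h.invol, mul_comm])
    have hvm : σ (y * b * z) * (y * b) + σ (y * b) * (y * b * z) = 1 := by
      have hne0 : y * b * σ (y * b) ≠ 0 := mul_ne_zero hyb ((map_ne_zero σ).2 hyb)
      rw [map_mul]
      calc σ (y * b) * σ z * (y * b) + σ (y * b) * (y * b * z) = (y * b * σ (y * b)) * (z + σ z) := by ring
        _ = 1 := by rw [hz, mul_inv_cancel₀ hne0]
    obtain ⟨t₁, ht₁, h₁⟩ := ratio hv hvm (by rwa [mul_div_cancel_left₀ _ hy])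
    obtain ⟨t₂, ht₂, h₂⟩ := ratio hvm hv' (by
      rw [← div_div, map_div₀, hne]
      intro h0
      rw [div_eq_div_iff ((map_ne_zero σ).2 hb0) hb0] at h0
      exact hb (mul_left_cancel₀ (div_ne_zero hy' hy) h0).symm)
    exact ⟨t₂ * t₁, mul_mem ht₂ ht₁, by rw [LinearEquiv.mul_apply, h₁, h₂]⟩
  · exact ratio hv hv' hne

variable [Finite F]

theorem exists_neg_one_norm : ∃ γ : F, γ ≠ 0 ∧ γ * σ γ = -1 := by
  obtain ⟨γ, hγ⟩ := exists_norm h.toIsInvol (a := (-1 : F)) (by simp)
  exact ⟨γ, by rintro rfl; simp at hγ, hγ⟩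

omit [Finite F] in
theorem exists_norm_one_ne_one : ∃ ζ : F, ζ ≠ 1 ∧ ζ * σ ζ = 1 := by
  obtain ⟨b, hb⟩ := exists_moved h.toIsInvol
  have hb0 : b ≠ 0 := by rintro rfl; simp at hb
  have hσb : σ b ≠ 0 := (map_ne_zero σ).2 hb0
  refine ⟨b / σ b, fun h1 => hb ((div_eq_one_iff_eq hσb).1 h1).symm, ?_⟩
  rw [map_div₀, h.invol, div_mul_div_comm, mul_comm (σ b), div_self (mul_ne_zero hb0 hσb)]

/-- Inside the plane of an orthonormal pair u, a. -/
theorem plane_trans {P : Submodule F V} {u a : V} (hu : u ∈ P) (ha : a ∈ P) (huu : B u u = 1) (haa : B a a = 1)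
    (hua : B u a = 0) {α β : F} (hαβ : α * σ α + β * σ β = 1) : ∃ t ∈ TUon B P, t u = α • u + β • a := by
  obtain ⟨γ, hγ0, hγ⟩ := exists_neg_one_norm h
  obtain ⟨ζ, hζ1, hζ⟩ := exists_norm_one_ne_one h
  have hau : B a u = 0 := (eq_zero_comm h).1 hua
  have hs : (1 : F) - ζ ≠ 0 := sub_ne_zero.2 (Ne.symm hζ1)
  let e := u + γ • a
  let e' := u + (γ * ζ) • a
  have hee : B e e = 0 := by
    simp [e, huu, haa, hua, hau]
    linear_combination hγ
  have hee' : B e' e' = 0 := by
    simp [e', huu, haa, hua, hau]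
    linear_combination hγ + γ * σ γ * hζ
  have hcross : B e e' = 1 - ζ := by
    simp [e, e', huu, haa, hua, hau]
    linear_combination ζ * hγ
  let f := ((1 : F) - ζ)⁻¹ • e'
  have hff : B f f = 0 := by rw [smul_self h, hee', mul_zero]
  have hef : B e f = 1 := by rw [map_smul, hcross, smul_eq_mul, inv_mul_cancel₀ hs]
  have hd : γ - γ * ζ ≠ 0 := by rw [← mul_one_sub]; exact mul_ne_zero hγ0 hs
  have hcoord : ∀ α β : F, ∃ X Y : F, α • u + β • a = X • e + Y • f := fun α β => by
    refine ⟨(β - α * (γ * ζ)) / (γ - γ * ζ), (α * γ - β) / (γ - γ * ζ) * (1 - ζ), ?_⟩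
    simp only [e, e', f, smul_add, smul_smul]
    match_scalars <;> field_simp <;> ring
  have hnorm : ∀ X Y : F, B (X • e + Y • f) (X • e + Y • f) = σ X * Y + σ Y * X := fun X Y => by
    have hfe : B f e = 1 := by rw [← h.symm, hef, map_one]
    simp [hee, hff, hef, hfe]
  obtain ⟨x, y, hxy⟩ := hcoord 1 0
  obtain ⟨X, Y, hXY⟩ := hcoord α β
  rw [one_smul, zero_smul, add_zero] at hxy
  have h1 : σ x * y + σ y * x = 1 := by rw [← hnorm, ← hxy, huu]
  have h2 : σ X * Y + σ Y * X = 1 := by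
    rw [← hnorm, ← hXY]
    simp [huu, haa, hua, hau]
    linear_combination hαβ
  obtain ⟨t, ht, htx⟩ := plane_move h (P := P) (P.add_mem hu (P.smul_mem _ ha))
    (P.smul_mem _ (P.add_mem hu (P.smul_mem _ ha))) hee hff hef h1 h2
  refine ⟨t, ht, ?_⟩
  rw [hXY, ← htx]
  exact congrArg t hxy

omit [Finite F] h in
/-- The orthogonal of a family. -/
def perpOf (B : V →ₛₗ[σ] V →ₗ[F] F) {k : ℕ} (a : Fin k → V) : Submodule F V := ⨅ i, LinearMap.ker (B (a i))

omit [Finite F] h in
theorem mem_perpOf {k : ℕ} {a : Fin k → V} {x : V} : x ∈ perpOf B a ↔ ∀ i, B (a i) x = 0 := by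
  simp [perpOf]

omit [Finite F] h in
theorem perpOf_snoc_le {k : ℕ} (a : Fin k → V) (u : V) :
    perpOf B (Fin.snoc a u : Fin (k + 1) → V) ≤ perpOf B a := fun x hx =>
  mem_perpOf.2 fun i => by simpa using mem_perpOf.1 hx i.castSucc

variable [FiniteDimensional F V]

theorem exists_compl_frame {k d : ℕ} {a : Fin k → V} (ha : IsON B a) (hd : k + d = finrank F V) :
    ∃ b : Fin d → V, IsON B b ∧ (∀ i, b i ∈ perpOf B a) ∧
      ∀ x ∈ perpOf B a, x = ∑ i, B (b i) x • b i := by
  obtain ⟨e, he, hea⟩ := exists_extend h d hd ha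
  refine ⟨fun i => e (Fin.natAdd k i), fun i j => by rw [he]; simp, fun i => mem_perpOf.2 fun j => ?_,
    fun x hx => ?_⟩
  · rw [← hea j, he, if_neg]
    simp [Fin.ext_iff]
    omega
  · have hspan : Submodule.span F (Set.range e) = ⊤ :=
      (he.linearIndependent h).span_eq_top_of_card_eq_finrank' (by rw [Fintype.card_fin, hd])
    refine sub_eq_zero.1 (h.nondeg _ fun y => ?_)
    have hle : Submodule.span F (Set.range e) ≤
        LinearMap.ker (B (x - ∑ i, B (e (Fin.natAdd k i)) x • e (Fin.natAdd k i))) := by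
      refine Submodule.span_le.2 ?_
      rintro _ ⟨i, rfl⟩
      refine (eq_zero_comm h).1 ?_
      rw [map_sub, map_sum]
      refine Fin.addCases (fun i => ?_) (fun i => ?_) i
      · rw [hea, mem_perpOf.1 hx, zero_sub, neg_eq_zero]
        refine Finset.sum_eq_zero fun j _ => ?_
        rw [map_smul, ← hea i, he, if_neg, smul_zero]
        simp [Fin.ext_iff]
        omega
      · simp [he _ _]
    exact hle (hspan ▸ Submodule.mem_top)

theorem near {P : Submodule F V} {u w : V} (hu : u ∈ P) (hw : w ∈ P) (huu : B u u = 1) (hww : B w w = 1)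
    (hb : B u w * σ (B u w) ≠ 1) : ∃ t ∈ TUon B P, t u = w := by
  set z := w - B u w • u with hzdef
  have hz : B z z = 1 - B u w * σ (B u w) := by
    have hwu : B w u = σ (B u w) := (h.symm u w).symm
    simp [hzdef, huu, hww, hwu]
  obtain ⟨c, hc⟩ := exists_unit_of_ne_zero h (v := z) (by rw [hz]; exact sub_ne_zero.2 (Ne.symm hb))
  have huz : B u z = 0 := by simp [hzdef, huu]
  have hc0 : c ≠ 0 := by rintro rfl; simp at hc
  have hw' : w = B u w • u + c⁻¹ • (c • z) := by rw [inv_smul_smul₀ hc0, hzdef, add_sub_cancel]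
  have hnorm : B u w * σ (B u w) + c⁻¹ * σ c⁻¹ = 1 := by
    have := hww
    rw [hw'] at this
    simp only [map_add, LinearMap.add_apply] at this
    rw [smul_self h (B u w), smul_self h c⁻¹, huu, hc, mul_one, mul_one] at this
    simp [huz, (eq_zero_comm h).1 huz] at this
    rw [map_inv₀]
    linear_combination this
  obtain ⟨t, ht, htu⟩ := plane_trans h hu (P.smul_mem c (P.sub_mem hw (P.smul_mem _ hu))) huu hc
    (by rw [map_smul, huz, smul_zero]) hnorm
  exact ⟨t, ht, htu.trans hw'.symm⟩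

/-- An anisotropic vector orthogonal to a given one, in the span of three orthonormal vectors. -/
theorem exists_aniso_perp {P : Submodule F V} (c : Fin 3 → V) (hc : IsON B c) (hcP : ∀ i, c i ∈ P) (z : V) :
    ∃ s ∈ P, B z s = 0 ∧ B s s ≠ 0 ∧ ∀ u, (∀ i, B u (c i) = 0) → B u s = 0 := by
  set ζ : Fin 3 → F := fun i => B z (c i) with hζ
  have mk : ∀ t : Fin 3 → F, ∃ s ∈ P, B z s = ∑ i, t i * ζ i ∧ B s s = ∑ i, t i * σ (t i) ∧
      ∀ u, (∀ i, B u (c i) = 0) → B u s = 0 := fun t =>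
    ⟨∑ i, t i • c i, P.sum_mem fun i _ => P.smul_mem _ (hcP i), by simp [map_sum, hζ],
      by simp [map_sum, LinearMap.sum_apply, hc _ _, mul_comm],
      fun u hu => by simp [map_sum, hu]⟩
  by_cases h0 : ∃ i, ζ i = 0
  · obtain ⟨i, hi⟩ := h0
    obtain ⟨s, hs, h1, h2, h3⟩ := mk (Pi.single i 1)
    exact ⟨s, hs, by simp [h1, hi, Pi.single_apply], by simp [h2, Pi.single_apply], h3⟩
  push Not at h0
  by_cases hpair : ∃ i j, i ≠ j ∧ ζ i * σ (ζ i) + ζ j * σ (ζ j) ≠ 0
  · obtain ⟨i, j, hij, hne⟩ := hpair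
    obtain ⟨s, hs, h1, h2, h3⟩ := mk (Pi.single i (ζ j) + Pi.single j (-ζ i))
    refine ⟨s, hs, ?_, ?_, h3⟩
    · simp [h1, Pi.single_apply, add_mul, Finset.sum_add_distrib]
      ring
    · rw [h2, Finset.sum_eq_add i j hij (fun l _ hl => by simp [Pi.single_eq_of_ne hl.1, Pi.single_eq_of_ne hl.2])
        (fun hh => absurd (Finset.mem_univ _) hh) (fun hh => absurd (Finset.mem_univ _) hh)]
      simpa [hij, hij.symm, map_neg, add_comm] using hne
  · push Not at hpair
    have hn01 := hpair 0 1 (by decide)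
    have hn02 := hpair 0 2 (by decide)
    have hn12 := hpair 1 2 (by decide)
    have h2 : (2 : F) = 0 := by
      by_contra h2
      refine mul_ne_zero h2 (mul_ne_zero (h0 0) ((map_ne_zero σ).2 (h0 0))) ?_
      linear_combination hn01 + hn02 - hn12
    obtain ⟨μ, hμ⟩ := exists_trace h.toIsInvol (a := (1 : F)) (map_one σ)
    obtain ⟨s, hs, h1, h3, h4⟩ := mk ![(ζ 0)⁻¹, μ * (ζ 1)⁻¹, (1 + μ) * (ζ 2)⁻¹]
    refine ⟨s, hs, ?_, ?_, h4⟩
    · rw [h1, Fin.sum_univ_three]
      simp [mul_assoc, inv_mul_cancel₀ (h0 0), inv_mul_cancel₀ (h0 1), inv_mul_cancel₀ (h0 2)]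
      linear_combination (1 + μ) * h2
    · rw [h3, Fin.sum_univ_three]
      have hN : ∀ i, (ζ i)⁻¹ * σ (ζ i)⁻¹ = (ζ 0)⁻¹ * σ (ζ 0)⁻¹ := fun i => by
        rw [map_inv₀, map_inv₀, ← mul_inv, ← mul_inv]
        congr 1
        by_cases hi : i = 0
        · rw [hi]
        · linear_combination hpair 0 i (Ne.symm hi) - (ζ 0 * σ (ζ 0)) * h2
      simp only [Matrix.cons_val_zero, Matrix.cons_val_one, Matrix.cons_val_two, Matrix.head_cons,
        Matrix.tail_cons, map_mul, map_add, map_one]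
      have e : (ζ 0)⁻¹ * σ (ζ 0)⁻¹ + μ * (ζ 1)⁻¹ * (σ μ * σ (ζ 1)⁻¹) + (1 + μ) * (ζ 2)⁻¹ * ((1 + σ μ) * σ (ζ 2)⁻¹)
          = (ζ 0)⁻¹ * σ (ζ 0)⁻¹ := by
        linear_combination μ * σ μ * hN 1 + (1 + μ) * (1 + σ μ) * hN 2 + (ζ 0)⁻¹ * σ (ζ 0)⁻¹ * hμ
          + (ζ 0)⁻¹ * σ (ζ 0)⁻¹ * (1 + μ * σ μ) * h2 - 0
      rw [e]
      exact mul_ne_zero (inv_ne_zero (h0 0)) ((map_ne_zero σ).2 (inv_ne_zero (h0 0)))

/-- Over a field with more than four elements: a norm one vector of a plane pairing with norm ≠ 1. -/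
theorem exists_far_dim_three (hr : ∃ r : F, σ r = r ∧ r ≠ 0 ∧ r ≠ 1) {β γ : F}
    (hne : β * σ β + γ * σ γ = 0) :
    ∃ s t : F, s * σ s + t * σ t = 1 ∧ (σ β * s + σ γ * t) * σ (σ β * s + σ γ * t) ≠ 1 := by
  by_cases h1 : β * σ β = 1
  swap
  · refine ⟨1, 0, by simp, ?_⟩
    simpa [h.invol, mul_comm] using h1
  by_cases h2 : γ * σ γ = 1
  swap
  · refine ⟨0, 1, by simp, ?_⟩
    simpa [h.invol, mul_comm] using h2
  have htwo : (2 : F) = 0 := by linear_combination hne - h1 - h2
  obtain ⟨r, hr, hr0, hr1⟩ := hr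
  obtain ⟨ζ, hζ1, hζ⟩ := exists_norm_one_ne_one h
  have hσβ : σ β ≠ 0 := fun h0 => by rw [h0, mul_zero] at h1; exact zero_ne_one h1
  have hσγ : σ γ ≠ 0 := fun h0 => by rw [h0, mul_zero] at h2; exact zero_ne_one h2
  refine ⟨r * β, (1 + r) * ζ * γ, ?_, ?_⟩
  · simp only [map_mul, map_add, map_one, hr]
    linear_combination r * r * h1 + (1 + r) * (1 + r) * γ * σ γ * hζ + (1 + r) * (1 + r) * h2 + (r + r * r) * htwo
  · have e1 : σ β * (r * β) + σ γ * ((1 + r) * ζ * γ) = r + (1 + r) * ζ := by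
      linear_combination r * h1 + (1 + r) * ζ * h2
    rw [e1]
    simp only [map_mul, map_add, map_one, hr]
    intro hc
    have hz : (r * (1 + r)) * (ζ + σ ζ) = 0 := by
      linear_combination hc - (1 + r) * (1 + r) * hζ - (r + r * r) * htwo
    rcases mul_eq_zero.1 hz with h0 | h0
    · rcases mul_eq_zero.1 h0 with h0 | h0
      · exact hr0 h0
      · exact hr1 (by linear_combination h0 - htwo)
    · have hfix : σ ζ = ζ := by linear_combination h0 - ζ * htwo
      rw [hfix] at hζ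
      rcases mul_self_eq_one_iff.1 hζ with h3 | h3
      · exact hζ1 h3
      · exact hζ1 (by linear_combination h3 - htwo)

/-- Transvections are transitive on norm one vectors. -/
theorem trans_norm_one {k d : ℕ} {a : Fin k → V} (ha : IsON B a) (hd : k + d = finrank F V)
    (hyp : d = 2 ∨ 4 ≤ d ∨ (d = 3 ∧ ∃ r : F, σ r = r ∧ r ≠ 0 ∧ r ≠ 1)) {u w : V} (hu : u ∈ perpOf B a)
    (hw : w ∈ perpOf B a) (huu : B u u = 1) (hww : B w w = 1) : ∃ t ∈ TUon B (perpOf B a), t u = w := by
  have hau : IsON B (Fin.snoc a u : Fin (k + 1) → V) := fun i j => by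
    refine Fin.lastCases ?_ (fun i => ?_) i <;> refine Fin.lastCases ?_ (fun j => ?_) j
    · simpa using huu
    · rw [Fin.snoc_castSucc, Fin.snoc_last, if_neg (Fin.castSucc_lt_last j).ne',
        (eq_zero_comm h).1 (mem_perpOf.1 hu j)]
    · rw [Fin.snoc_castSucc, Fin.snoc_last, if_neg (Fin.castSucc_lt_last i).ne, mem_perpOf.1 hu i]
    · simpa using ha i j
  obtain ⟨d', rfl⟩ : ∃ d', d = d' + 1 := ⟨d - 1, by omega⟩
  obtain ⟨c, hc, hcP, hcs⟩ := exists_compl_frame h hau (d := d') (by omega)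
  by_cases hb : B u w * σ (B u w) ≠ 1
  · exact near h hu hw huu hww hb
  push Not at hb
  set z := w - B u w • u with hzdef
  have huz : B u z = 0 := by simp [hzdef, huu]
  have hzP' : z ∈ perpOf B (Fin.snoc a u : Fin (k + 1) → V) := mem_perpOf.2 fun i => by
    refine Fin.lastCases ?_ (fun i => ?_) i
    · simpa using huz
    · simp [hzdef, mem_perpOf.1 hw i, mem_perpOf.1 hu i]
  have huc : ∀ i, B u (c i) = 0 := fun i => by simpa using mem_perpOf.1 (hcP i) (Fin.last k)
  have hcPa : ∀ i, c i ∈ perpOf B a := fun i => perpOf_snoc_le a u (hcP i)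
  have hzz : B z z = 0 := by
    have hwu : B w u = σ (B u w) := (h.symm u w).symm
    simp [hzdef, huu, hww, hwu]
    linear_combination -hb
  have hw2 : w = B u w • u + z := by rw [hzdef, add_sub_cancel]
  by_cases hz0 : z = 0
  · obtain ⟨t, ht, htu⟩ := plane_trans h hu (hcPa ⟨0, by omega⟩) huu (by simpa using hc ⟨0, _⟩ ⟨0, _⟩)
      (huc _) (α := B u w) (β := 0) (by simpa using hb)
    refine ⟨t, ht, htu.trans ?_⟩
    conv_rhs => rw [hw2, hz0]
    simp
  obtain ⟨x, hxP, hxx, hux, hxw⟩ : ∃ x ∈ perpOf B a, B x x = 1 ∧ B u x = 0 ∧ B x w * σ (B x w) ≠ 1 := by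
    have fin : ∀ x ∈ perpOf B a, B x x = 1 → B u x = 0 → B x z * σ (B x z) ≠ 1 →
        ∃ x ∈ perpOf B a, B x x = 1 ∧ B u x = 0 ∧ B x w * σ (B x w) ≠ 1 := fun x hx hxx hux hne =>
      ⟨x, hx, hxx, hux, by rw [hw2]; simpa [(eq_zero_comm h).1 hux] using hne⟩
    rcases hyp with h2 | h4 | ⟨h3, hr⟩
    · exfalso
      obtain rfl : d' = 1 := by omega
      have := hcs z hzP'
      rw [Fin.sum_univ_one] at this
      rw [this, smul_self h, show B (c 0) (c 0) = 1 by simpa using hc 0 0, mul_one] at hzz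
      rcases mul_eq_zero.1 hzz with h0 | h0
      · exact hz0 (by rw [this, h0, zero_smul])
      · exact hz0 (by rw [this, (map_eq_zero σ).1 h0, zero_smul])
    · obtain ⟨s, hs, hzs, hss, hsu⟩ := exists_aniso_perp h (P := perpOf B a)
        (fun i : Fin 3 => c (Fin.castLE (by omega) i)) (fun i j => by rw [hc]; simp) (fun i => hcPa _) z
      obtain ⟨cc, hcc⟩ := exists_unit_of_ne_zero h hss
      refine fin _ ((perpOf B a).smul_mem cc hs) hcc ?_ ?_
      · rw [map_smul, hsu u (fun i => huc _), smul_zero]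
      · simp [(eq_zero_comm h).1 hzs]
    · obtain rfl : d' = 2 := by omega
      have hz2 := hcs z hzP'
      rw [Fin.sum_univ_two] at hz2
      set β := B (c 0) z
      set γ := B (c 1) z
      have hNz : β * σ β + γ * σ γ = 0 := by
        have := hzz
        rw [hz2] at this
        simp [hc _ _] at this
        linear_combination this
      obtain ⟨s, t, hst, hne⟩ := exists_far_dim_three h hr hNz
      refine fin (s • c 0 + t • c 1) ((perpOf B a).add_mem ((perpOf B a).smul_mem _ (hcPa _))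
        ((perpOf B a).smul_mem _ (hcPa _))) ?_ ?_ ?_
      · simp [hc _ _]
        linear_combination hst
      · simp [huc]
      · rw [hz2]
        simp [hc _ _]
        simp only [map_add, map_mul, h.invol] at hne
        intro h0
        rw [h.invol s, h.invol t] at h0
        exact hne (by linear_combination h0)
  obtain ⟨t₁, ht₁, h₁⟩ := near h hu hxP huu hxx (by rw [hux]; simp)
  obtain ⟨t₂, ht₂, h₂⟩ := near h hxP hw hxx hww hxw
  exact ⟨t₂ * t₁, mul_mem ht₂ ht₁, by rw [LinearEquiv.mul_apply, h₁, h₂]⟩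

omit [Finite F] [FiniteDimensional F V] in
theorem map_perpOf {k : ℕ} {a : Fin k → V} {g : V ≃ₗ[F] V} (hg : ∀ x y, B (g x) (g y) = B x y)
    (hfix : ∀ i, g (a i) = a i) {x : V} (hx : x ∈ perpOf B a) : g x ∈ perpOf B a :=
  mem_perpOf.2 fun i => by rw [← hfix i, hg]; exact mem_perpOf.1 hx i

theorem fix_TUon_perp {k : ℕ} {a : Fin k → V} {t : V ≃ₗ[F] V} (ht : t ∈ TUon B (perpOf B a)) (i : Fin k) :
    t (a i) = a i :=
  TUon_fix ht fun _ hw => (eq_zero_comm h).1 (mem_perpOf.1 hw i)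

theorem gen_two {k : ℕ} {a : Fin k → V} (ha : IsON B a) (hd : k + 2 = finrank F V) {g : V ≃ₗ[F] V}
    (hg : g ∈ suG B) (hfix : ∀ i, g (a i) = a i) : g ∈ TUon B (perpOf B a) := by
  obtain ⟨b, hb, hbP, hbs⟩ := exists_compl_frame h ha hd
  obtain ⟨t, ht, htb⟩ := trans_norm_one h ha hd (Or.inl rfl) (hbP 0) (map_perpOf h hg.1 hfix (hbP 0))
    (by simpa using hb 0 0) (by rw [hg.1]; simpa using hb 0 0)
  have hgt : t⁻¹ * g ∈ suG B := mul_mem (inv_mem (TUon_le_suG h _ ht)) hg
  set g' := t⁻¹ * g with hg'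
  have hg0 : g' (b 0) = b 0 := by rw [hg', LinearEquiv.mul_apply, ← htb, inv_apply_self']
  have hga : ∀ i, g' (a i) = a i := fun i => by
    rw [hg', LinearEquiv.mul_apply, hfix]
    exact fix_TUon_perp h (inv_mem ht) i
  suffices g' = 1 by
    rw [hg', inv_mul_eq_one] at this
    exact this ▸ ht
  obtain ⟨δ, hδ⟩ : ∃ δ : F, g' (b 1) = δ • b 1 := by
    refine ⟨B (b 1) (g' (b 1)), ?_⟩
    have h0 : B (b 0) (g' (b 1)) = 0 := by
      conv_lhs => rw [← hg0]
      rw [hgt.1]; simpa using hb 0 1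
    conv_lhs => rw [hbs _ (map_perpOf h hgt.1 hga (hbP 1))]
    rw [Fin.sum_univ_two, h0, zero_smul, zero_add]
  have hE : IsON B (Fin.append a b) := fun i j => by
    refine Fin.addCases (fun i => ?_) (fun i => ?_) i <;> refine Fin.addCases (fun j => ?_) (fun j => ?_) j
    · simpa using ha i j
    · rw [Fin.append_left, Fin.append_right, mem_perpOf.1 (hbP j) i, if_neg]
      simp [Fin.ext_iff]; omega
    · rw [Fin.append_left, Fin.append_right, (eq_zero_comm h).1 (mem_perpOf.1 (hbP i) j), if_neg]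
      simp [Fin.ext_iff]; omega
    · simpa using hb i j
  have hdet := det_unit_norm h g' hE hd (Fin.append (fun _ => 1) ![1, δ]) (fun i => by
    refine Fin.addCases (fun i => ?_) (fun i => ?_) i
    · simp [hga]
    · fin_cases i <;> simp [hg0, hδ])
  rw [hgt.2, Units.val_one, Fin.prod_univ_add] at hdet
  simp at hdet
  subst hdet
  rw [one_smul] at hδ
  refine LinearEquiv.toLinearMap_injective ?_
  have hspan : Submodule.span F (Set.range (Fin.append a b)) = ⊤ :=
    (hE.linearIndependent h).span_eq_top_of_card_eq_finrank' (by rw [Fintype.card_fin, hd])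
  refine LinearMap.ext_on_range hspan fun i => ?_
  refine Fin.addCases (fun i => ?_) (fun i => ?_) i
  · simpa using hga i
  · fin_cases i <;> simp [hg0, hδ] <;> rfl

omit [Finite F] [FiniteDimensional F V] in
theorem move_four {P : Submodule F V} {u c d v : V} (hu : u ∈ P) (hc : c ∈ P) (hd : d ∈ P) (hv : v ∈ P)
    (huu : B u u = 1) (hcc : B c c = 1) (hdd : B d d = 1) (hvv : B v v = 1)
    (huc : B u c = 0) (hud : B u d = 0) (huv : B u v = 0) (hcd : B c d = 0) (hcv : B c v = 0) (hdv : B d v = 0)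
    (h2 : (2 : F) = 0) {ω : F} (hω : ω * ω = ω + 1) (hσω : σ ω = ω + 1) :
    ∃ t ∈ TUon B P, t u = u + c + d ∧ t v = v := by
  have hcu := (eq_zero_comm h).1 huc
  have hdu := (eq_zero_comm h).1 hud
  have hvu := (eq_zero_comm h).1 huv
  have hdc := (eq_zero_comm h).1 hcd
  have hvc := (eq_zero_comm h).1 hcv
  have hvd := (eq_zero_comm h).1 hdv
  have hone : (1 : F) + σ 1 = 0 := by rw [map_one]; linear_combination h2
  have hσω' : σ (ω + 1) = ω := by rw [map_add, map_one, hσω]; linear_combination h2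
  have iso : ∀ x y z w : F, x * σ x + y * σ y + z * σ z + w * σ w = 0 →
      B (x • u + y • c + z • d + w • v) (x • u + y • c + z • d + w • v) = 0 := fun x y z w hn => by
    simp [huu, hcc, hdd, hvv, huc, hud, huv, hcd, hcv, hdv, hcu, hdu, hvu, hdc, hvc, hvd]
    linear_combination hn
  have mem : ∀ x y z w : F, x • u + y • c + z • d + w • v ∈ P := fun x y z w =>
    P.add_mem (P.add_mem (P.add_mem (P.smul_mem _ hu) (P.smul_mem _ hc)) (P.smul_mem _ hd)) (P.smul_mem _ hv)
  have h1 := iso 1 0 0 1 (by simp; linear_combination h2)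
  have h2' := iso 1 0 0 ω (by simp [hσω]; linear_combination hω + (ω + 1) * h2)
  have h3 := iso 1 (ω + 1) (ω + 1) 1 (by simp [hσω]; linear_combination (ω * ω + 3 * ω + 3) * h2)
  have h4 := iso 1 (ω + 1) (ω + 1) (ω + 1) (by
    simp only [map_one, hσω']
    linear_combination 3 * hω + (3 * ω + 2) * h2)
  refine ⟨tvU h4 1 * tvU h3 1 * tvU h2' 1 * tvU h1 1,
    mul_mem (mul_mem (mul_mem (tvU_mem_TUon h h4 (mem _ _ _ _) hone) (tvU_mem_TUon h h3 (mem _ _ _ _) hone))
      (tvU_mem_TUon h h2' (mem _ _ _ _) hone)) (tvU_mem_TUon h h1 (mem _ _ _ _) hone), ?_, ?_⟩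
  · simp [tvU_apply, huu, hcc, hdd, hvv, huc, hud, huv, hcd, hcv, hdv, hcu, hdu, hvu, hdc, hvc, hvd, hσω]
    match_scalars <;> grind
  · simp [tvU_apply, huu, hcc, hdd, hvv, huc, hud, huv, hcd, hcv, hdv, hcu, hdu, hvu, hdc, hvc, hvd, hσω]
    match_scalars <;> grind

theorem gen_four (hfix2 : ∀ r : F, σ r = r → r = 0 ∨ r = 1) {k : ℕ} {a : Fin k → V} (ha : IsON B a)
    (hd : k + 4 = finrank F V) {g : V ≃ₗ[F] V} (hg : g ∈ suG B) (hfix : ∀ i, g (a i) = a i) :
    g ∈ TUon B (perpOf B a) := by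
  set P := perpOf B a with hP
  obtain ⟨b, hb, hbP, -⟩ := exists_compl_frame h ha hd
  have h2 : (2 : F) = 0 := by
    rcases hfix2 2 (map_ofNat σ 2) with h2 | h2
    · exact h2
    · exact absurd (by linear_combination h2 : (1 : F) = 0) one_ne_zero
  have hN : ∀ x : F, x ≠ 0 → x * σ x = 1 := fun x hx =>
    ((hfix2 _ (by rw [map_mul, h.invol, mul_comm])).resolve_left (mul_ne_zero hx ((map_ne_zero σ).2 hx)))
  obtain ⟨t, ht, htb⟩ := trans_norm_one h ha hd (Or.inr (Or.inl le_rfl)) (hbP 3)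
    (map_perpOf h hg.1 hfix (hbP 3)) (by simpa using hb 3 3) (by rw [hg.1]; simpa using hb 3 3)
  have hga : ∀ i, (t⁻¹ * g) (a i) = a i := fun i => by
    rw [LinearEquiv.mul_apply, hfix]; exact fix_TUon_perp h (inv_mem ht) i
  have hg3 : (t⁻¹ * g) (b 3) = b 3 := by rw [LinearEquiv.mul_apply, ← htb, inv_apply_self']
  have hgt : t⁻¹ * g ∈ suG B := mul_mem (inv_mem (TUon_le_suG h _ ht)) hg
  suffices t⁻¹ * g ∈ TUon B P by simpa using mul_mem ht this
  set g' := t⁻¹ * g with hg'
  have hv : IsON B (Fin.snoc a (b 3) : Fin (k + 1) → V) := fun i j => by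
    refine Fin.lastCases ?_ (fun i => ?_) i <;> refine Fin.lastCases ?_ (fun j => ?_) j
    · simpa using hb 3 3
    · rw [Fin.snoc_castSucc, Fin.snoc_last, if_neg (Fin.castSucc_lt_last j).ne',
        (eq_zero_comm h).1 (mem_perpOf.1 (hbP 3) j)]
    · rw [Fin.snoc_castSucc, Fin.snoc_last, if_neg (Fin.castSucc_lt_last i).ne, mem_perpOf.1 (hbP 3) i]
    · simpa using ha i j
  have hfixv : ∀ i, g' ((Fin.snoc a (b 3) : Fin (k + 1) → V) i) = (Fin.snoc a (b 3) : Fin (k + 1) → V) i :=
    fun i => by refine Fin.lastCases (by simpa using hg3) (fun i => by simpa using hga i) i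
  set Q := perpOf B (Fin.snoc a (b 3) : Fin (k + 1) → V) with hQ
  have hQP : Q ≤ P := perpOf_snoc_le a (b 3)
  -- move u to its image, fixing a and b 3
  suffices hmove : ∀ u w, u ∈ Q → w ∈ Q → B u u = 1 → B w w = 1 → ∃ s ∈ TUon B P, s u = w ∧ s (b 3) = b 3 by
    have hb0Q : b 0 ∈ Q := mem_perpOf.2 fun i => by
      refine Fin.lastCases ?_ (fun i => ?_) i
      · simpa using hb 3 0
      · simpa using mem_perpOf.1 (hbP 0) i
    obtain ⟨s, hs, hs0, hs3⟩ := hmove (b 0) (g' (b 0)) hb0Q (map_perpOf h hgt.1 hfixv hb0Q)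
      (by simpa using hb 0 0) (by rw [hgt.1]; simpa using hb 0 0)
    have hv2 : IsON B (Fin.snoc (Fin.snoc a (b 3) : Fin (k + 1) → V) (b 0) : Fin (k + 2) → V) := fun i j => by
      refine Fin.lastCases ?_ (fun i => ?_) i <;> refine Fin.lastCases ?_ (fun j => ?_) j
      · simpa using hb 0 0
      · rw [Fin.snoc_castSucc, Fin.snoc_last, if_neg (Fin.castSucc_lt_last j).ne',
          (eq_zero_comm h).1 (mem_perpOf.1 hb0Q j)]
      · rw [Fin.snoc_castSucc, Fin.snoc_last, if_neg (Fin.castSucc_lt_last i).ne, mem_perpOf.1 hb0Q i]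
      · simpa using hv i j
    have hsg : s⁻¹ * g' ∈ suG B := mul_mem (inv_mem (TUon_le_suG h _ hs)) hgt
    have := gen_two h hv2 (by omega) hsg (fun i => by
      refine Fin.lastCases ?_ (fun i => ?_) i
      · rw [Fin.snoc_last, LinearEquiv.mul_apply, ← hs0, inv_apply_self']
      · rw [Fin.snoc_castSucc, LinearEquiv.mul_apply, hfixv]
        refine Fin.lastCases ?_ (fun i => ?_) i
        · rw [Fin.snoc_last]
          conv_lhs => rw [← hs3]
          exact inv_apply_self' _ _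
        · rw [Fin.snoc_castSucc]
          exact fix_TUon_perp h (inv_mem hs) i)
    have hmem := TUon_mono ((perpOf_snoc_le _ _).trans hQP) this
    simpa using mul_mem hs hmem
  intro u w hu hw huu hww
  have hv3 : ∀ x ∈ Q, B (b 3) x = 0 := fun x hx => by simpa using mem_perpOf.1 hx (Fin.last k)
  have hQfix : ∀ s ∈ TUon B Q, s (b 3) = b 3 := fun s hs =>
    TUon_fix hs fun x hx => (eq_zero_comm h).1 (hv3 x hx)
  by_cases hb' : B u w * σ (B u w) ≠ 1
  · obtain ⟨s, hs, hsu⟩ := near h hu hw huu hww hb'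
    exact ⟨s, TUon_mono hQP hs, hsu, hQfix s hs⟩
  push Not at hb'
  have huQ : IsON B (Fin.snoc (Fin.snoc a (b 3) : Fin (k + 1) → V) u : Fin (k + 2) → V) := fun i j => by
    refine Fin.lastCases ?_ (fun i => ?_) i <;> refine Fin.lastCases ?_ (fun j => ?_) j
    · simpa using huu
    · rw [Fin.snoc_castSucc, Fin.snoc_last, if_neg (Fin.castSucc_lt_last j).ne',
        (eq_zero_comm h).1 (mem_perpOf.1 hu j)]
    · rw [Fin.snoc_castSucc, Fin.snoc_last, if_neg (Fin.castSucc_lt_last i).ne, mem_perpOf.1 hu i]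
    · simpa using hv i j
  obtain ⟨c, hc, hcR, hcs⟩ := exists_compl_frame h huQ (d := 2) (by omega)
  have hcQ : ∀ i, c i ∈ Q := fun i => perpOf_snoc_le _ u (hcR i)
  have huc : ∀ i, B u (c i) = 0 := fun i => by simpa using mem_perpOf.1 (hcR i) (Fin.last (k + 1))
  obtain ⟨s₁, hs₁, hs₁u⟩ := plane_trans h hu (hcQ 0) huu (by simpa using hc 0 0) (huc 0) (α := B u w) (β := 0)
    (by simpa using hb')
  rw [zero_smul, add_zero] at hs₁u
  set z := w - B u w • u with hzdef
  have hzR : z ∈ perpOf B (Fin.snoc (Fin.snoc a (b 3) : Fin (k + 1) → V) u : Fin (k + 2) → V) :=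
    mem_perpOf.2 fun i => by
      refine Fin.lastCases ?_ (fun i => ?_) i
      · simp [hzdef, huu]
      · simp [hzdef, mem_perpOf.1 hw i, mem_perpOf.1 hu i]
  by_cases hz0 : z = 0
  · refine ⟨s₁, TUon_mono hQP hs₁, ?_, hQfix _ hs₁⟩
    rw [hs₁u]
    exact (sub_eq_zero.1 hz0).symm
  have hzz : B z z = 0 := by
    have hwu : B w u = σ (B u w) := (h.symm u w).symm
    simp [hzdef, huu, hww, hwu]
    linear_combination -hb'
  have hz2 := hcs z hzR
  rw [Fin.sum_univ_two] at hz2
  set β := B (c 0) z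
  set γ := B (c 1) z
  have hsum : β * σ β + γ * σ γ = 0 := by
    have := hzz
    rw [hz2] at this
    simp [hc _ _] at this
    linear_combination this
  have hβ : β ≠ 0 := fun h0 => by
    have hγ0 : γ = 0 := by
      by_contra hγ
      rw [h0, zero_mul, zero_add, hN γ hγ] at hsum
      exact one_ne_zero hsum
    exact hz0 (by rw [hz2, h0, hγ0]; simp)
  have hγ : γ ≠ 0 := fun h0 => by
    rw [h0, zero_mul, add_zero, hN β hβ] at hsum
    exact one_ne_zero hsum
  obtain ⟨ω, hω1, hωN⟩ := exists_norm_one_ne_one h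
  have hω0 : ω ≠ 0 := by rintro rfl; simp at hωN
  have hσω : σ ω ≠ ω := fun he => by
    rcases hfix2 ω he with h0 | h0
    · exact hω0 h0
    · exact hω1 h0
  have htr : ω + σ ω = 1 := by
    rcases hfix2 (ω + σ ω) (by rw [map_add, h.invol, add_comm]) with h0 | h0
    · exact absurd (by linear_combination h0 - ω * h2 : σ ω = ω) hσω
    · exact h0
  have hσω' : σ ω = ω + 1 := by linear_combination htr - ω * h2
  have hωω : ω * ω = ω + 1 := by
    rw [hσω'] at hωN
    linear_combination hωN - ω * h2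
  have hu' : B u w • u ∈ P := P.smul_mem _ (hQP hu)
  obtain ⟨s₂, hs₂, hs₂u, hs₂v⟩ := move_four h hu' (P.smul_mem β (hQP (hcQ 0))) (P.smul_mem γ (hQP (hcQ 1))) (hbP 3)
    (by rw [smul_self h, huu, mul_one, hb'])
    (by rw [smul_self h, show B (c 0) (c 0) = 1 by simpa using hc 0 0, hN β hβ, mul_one])
    (by rw [smul_self h, show B (c 1) (c 1) = 1 by simpa using hc 1 1, hN γ hγ, mul_one])
    (by simpa using hb 3 3) (by simp [huc 0]) (by simp [huc 1])
    (by simp [(eq_zero_comm h).1 (hv3 u hu)]) (by simp [hc 0 1])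
    (by simp [(eq_zero_comm h).1 (hv3 _ (hcQ 0))]) (by simp [(eq_zero_comm h).1 (hv3 _ (hcQ 1))]) h2 hωω hσω'
  refine ⟨s₂ * s₁, mul_mem hs₂ (TUon_mono hQP hs₁), ?_, by rw [LinearEquiv.mul_apply, hQfix _ hs₁, hs₂v]⟩
  rw [LinearEquiv.mul_apply, hs₁u, hs₂u, add_assoc, ← hz2, hzdef, add_sub_cancel]

theorem gen_step {d : ℕ} {k : ℕ} {a : Fin k → V} (ha : IsON B a) (hd : k + (d + 1) = finrank F V)
    (hyp : 4 ≤ d + 1 ∨ (d + 1 = 3 ∧ ∃ r : F, σ r = r ∧ r ≠ 0 ∧ r ≠ 1)) (g : V ≃ₗ[F] V) (hg : g ∈ suG B)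
    (hfix : ∀ i, g (a i) = a i)
    (ih : ∀ (k' : ℕ) (a' : Fin k' → V), IsON B a' → k' + d = finrank F V →
      ∀ g ∈ suG B, (∀ i, g (a' i) = a' i) → g ∈ TUon B (perpOf B a')) : g ∈ TUon B (perpOf B a) := by
  obtain ⟨u, hu⟩ := exists_snoc h ha (by omega)
  have huP : u ∈ perpOf B a := mem_perpOf.2 fun i => by
    simpa [(Fin.castSucc_lt_last i).ne] using hu i.castSucc (Fin.last k)
  have huu : B u u = 1 := by simpa using hu (Fin.last k) (Fin.last k)
  obtain ⟨t, ht, htu⟩ := trans_norm_one h ha hd (Or.inr hyp) huP (map_perpOf h hg.1 hfix huP) huu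
    (by rw [hg.1, huu])
  have := ih _ _ hu (by omega) (t⁻¹ * g) (mul_mem (inv_mem (TUon_le_suG h _ ht)) hg) (fun i => by
    refine Fin.lastCases ?_ (fun i => ?_) i
    · rw [Fin.snoc_last, LinearEquiv.mul_apply, ← htu, inv_apply_self']
    · rw [Fin.snoc_castSucc, LinearEquiv.mul_apply, hfix]
      exact fix_TUon_perp h (inv_mem ht) i)
  simpa using mul_mem ht (TUon_mono (perpOf_snoc_le a u) this)

/-- The special unitary group is generated by transvections. -/
theorem gen (d : ℕ) (h2 : 2 ≤ d) : ((∃ r : F, σ r = r ∧ r ≠ 0 ∧ r ≠ 1) ∨ d ≠ 3) →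
    ∀ (k : ℕ) (a : Fin k → V), IsON B a → k + d = finrank F V →
      ∀ g ∈ suG B, (∀ i, g (a i) = a i) → g ∈ TUon B (perpOf B a) := by
  induction d with
  | zero => omega
  | succ d ih =>
    intro hr k a ha hd g hg hfix
    rcases Nat.lt_or_ge d 2 with hd2 | hd2
    · obtain rfl : d = 1 := by omega
      exact gen_two h ha hd hg hfix
    by_cases hex : ∃ r : F, σ r = r ∧ r ≠ 0 ∧ r ≠ 1
    swap
    · have hf : ∀ r : F, σ r = r → r = 0 ∨ r = 1 := fun r hσr => by
        by_contra hc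
        push Not at hc
        exact hex ⟨r, hσr, hc.1, hc.2⟩
      rcases hr with hr | hr
      · exact absurd hr hex
      by_cases hd4 : d = 3
      · subst hd4
        exact gen_four h hf ha hd hg hfix
      exact gen_step h ha hd (Or.inl (by omega)) g hg hfix (ih hd2 (Or.inr hd4))
    · refine gen_step h ha hd ?_ g hg hfix (ih hd2 (Or.inl hex))
      rcases Nat.eq_or_lt_of_le hd2 with h3 | h3
      · exact Or.inr ⟨by omega, hex⟩
      · exact Or.inl (by omega)

theorem suG_eq_TUon (hn : 2 ≤ finrank F V) (hr : (∃ r : F, σ r = r ∧ r ≠ 0 ∧ r ≠ 1) ∨ finrank F V ≠ 3) :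
    TUon B ⊤ = suG B := by
  refine le_antisymm (TUon_le_suG h _) fun g hg => TUon_mono le_top
    (gen h (finrank F V) hn hr 0 Fin.elim0 (fun i => i.elim0) (zero_add _) g hg fun i => i.elim0)

/-! ### Eichler elements; transvections are commutators -/

omit [Finite F] [FiniteDimensional F V] in
/-- The unipotent element attached to an isotropic e, a vector a orthogonal to e and a scalar d. -/
def eichler {e a : V} (hee : B e e = 0) (hae : B a e = 0) (d : F) : V ≃ₗ[F] V where
  toFun x := x + B e x • a + (d * B e x - B a x) • e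
  map_add' x y := by
    simp only [map_add]
    match_scalars <;> ring
  map_smul' c x := by
    simp only [map_smul, RingHom.id_apply, smul_eq_mul]
    match_scalars <;> ring
  invFun x := x + (-B e x) • a + ((-d - B a a) * B e x + B a x) • e
  left_inv x := by
    have hea : B e a = 0 := (eq_zero_comm h).1 hae
    simp [hee, hea, hae]
    match_scalars <;> ring
  right_inv x := by
    have hea : B e a = 0 := (eq_zero_comm h).1 hae
    simp [hee, hea, hae]
    match_scalars <;> ring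

omit [Finite F] [FiniteDimensional F V] in
theorem eichler_apply {e a : V} (hee : B e e = 0) (hae : B a e = 0) (d : F) (x : V) :
    eichler h hee hae d x = x + B e x • a + (d * B e x - B a x) • e := rfl

theorem eichler_mem {e a : V} (hee : B e e = 0) (hae : B a e = 0) {d : F} (hd : d + σ d = -B a a) :
    eichler h hee hae d ∈ suG B := by
  have hea : B e a = 0 := (eq_zero_comm h).1 hae
  refine ⟨fun x y => ?_, det_eq_one_of_cube _ (LinearMap.ext fun x => ?_)⟩
  · simp only [eichler_apply, map_add, map_smulₛₗ, LinearMap.add_apply, LinearMap.smul_apply, smul_eq_mul,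
      map_mul, map_sub, RingHom.id_apply, h.symm, hee, hea, hae, mul_zero, add_zero]
    linear_combination B x e * B e y * hd
  · simp [pow_succ, Module.End.mul_apply, eichler_apply, hee, hea, hae]

/-- Every transvection is a commutator once the dimension is at least three. -/
theorem tvU_eq_comm (hn : 3 ≤ finrank F V) {e : V} (hee : B e e = 0) {c : F} (hc : c + σ c = 0) :
    ∃ p q : suG B, (⁅p, q⁆ : suG B).1 = tvU hee c := by
  rcases eq_or_ne e 0 with he0 | he0
  · refine ⟨1, 1, ?_⟩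
    ext x
    simp [tvU_apply, he0]
  obtain ⟨a, hae, haa⟩ : ∃ a, B a e = 0 ∧ B a a = 1 := by
    suffices ∃ v ∈ LinearMap.ker (B e), B v v ≠ 0 by
      obtain ⟨v, hv, hv'⟩ := this
      obtain ⟨k, hk⟩ := exists_unit_of_ne_zero h hv'
      exact ⟨k • v, (eq_zero_comm h).1 (by rw [map_smul, LinearMap.mem_ker.1 hv, smul_zero]), hk⟩
    refine exists_anisotropic h _ ?_
    by_contra hc
    push Not at hc
    obtain ⟨y₀, hy₀⟩ : ∃ y, B e y ≠ 0 := by
      by_contra hcc
      push Not at hcc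
      exact he0 (h.nondeg e hcc)
    have hne : B e ≠ 0 := fun h0 => hy₀ (by rw [h0]; rfl)
    have hk := Module.Dual.finrank_ker_add_one_of_ne_zero hne
    let M : LinearMap.ker (B e) →ₗ[F] F := (B y₀).comp (LinearMap.ker (B e)).subtype
    have hinj : Function.Injective M := LinearMap.ker_eq_bot.1 ((Submodule.eq_bot_iff _).2 fun x hx => by
      refine Subtype.ext (h.nondeg _ fun y => ?_)
      have hy : y - (B e y / B e y₀) • y₀ ∈ LinearMap.ker (B e) := by
        simp [div_mul_cancel₀ _ hy₀]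
      have := hc _ x.2 _ hy
      have hx0 : B (x : V) y₀ = 0 := (eq_zero_comm h).1 (LinearMap.mem_ker.1 hx)
      simpa [hx0] using this)
    have := LinearMap.finrank_le_finrank_of_injective hinj
    rw [Module.finrank_self] at this
    omega
  obtain ⟨μ, hμ⟩ := exists_antitrace h.toIsInvol (k := c) (by linear_combination hc)
  obtain ⟨d₁, hd₁⟩ := exists_trace h.toIsInvol (a := -B a a) (by rw [map_neg, fix_self h])
  obtain ⟨d₂, hd₂⟩ := exists_trace h.toIsInvol (a := -B (μ • a) (μ • a)) (by rw [map_neg, fix_self h])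
  have hbe : B (μ • a) e = 0 := by simp [hae]
  refine ⟨⟨_, eichler_mem h hee hae hd₁⟩, ⟨_, eichler_mem h hee hbe hd₂⟩, ?_⟩
  set p := eichler h hee hae d₁
  set q := eichler h hee hbe d₂
  have key : p * q = tvU hee c * (q * p) := by
    have hea : B e a = 0 := (eq_zero_comm h).1 hae
    ext x
    simp only [p, q, LinearEquiv.mul_apply, eichler_apply, tvU_apply, map_add, map_smulₛₗ, LinearMap.smul_apply,
      smul_eq_mul, RingHom.id_apply, hee, hea, hae, haa, mul_zero, add_zero, mul_one]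
    rw [← hμ]
    match_scalars <;> ring
  simp only [commutatorElement_def, Subgroup.coe_mul, Subgroup.coe_inv]
  rw [key]
  show tvU hee c * (q * p) * p⁻¹ * q⁻¹ = _
  rw [← mul_assoc, mul_inv_cancel_right, mul_inv_cancel_right]

end Cfsg.Agent.Classical.Herm
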