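import Mathlib
import Cfsg.Agent.Classical.UnitaryTrans

/-!
The special unitary group of a Hermitian form on the isotropic points: transitivity via Eichler elements,
primitivity, kernel of the action, simplicity modulo the centre (Iwasawa).
-/

set_option autoImplicit false

namespace Cfsg.Agent.Classical.Herm

open Module Projectivization
open scoped LinearAlgebra.Projectivization Pointwise commutatorElement

variable {F V : Type*} [Field F] [AddCommGroup V] [Module F V] {σ : F →+* F} {B : V →ₛₗ[σ] V →ₗ[F] F}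

theorem apply_self_rep {u : V} (hu : u ≠ 0) :
    B (mk F u hu).rep (mk F u hu).rep = 0 ↔ B u u = 0 := by
  obtain ⟨a, ha⟩ := exists_smul_eq_mk_rep F u hu
  rw [← ha]
  simp [Units.smul_def, a.ne_zero, (map_ne_zero σ).2 a.ne_zero]

/-- The isotropic points. -/
def Iso (B : V →ₛₗ[σ] V →ₗ[F] F) : Type _ := {p : ℙ F V // B p.rep p.rep = 0}

theorem smul_mk_su (g : suG B) {u : V} (hu : u ≠ 0) :
    g • mk F u hu = mk F (g.1 u) (by simpa using hu) := rfl

theorem smul_iso (g : suG B) (p : Iso B) : B (g • p.1).rep (g • p.1).rep = 0 := by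
  conv in g • p.1 => rw [← mk_rep p.1, smul_mk_su]
  conv in g • p.1 => rw [← mk_rep p.1, smul_mk_su]
  rw [apply_self_rep, g.2.1]
  exact p.2

instance : MulAction (suG B) (Iso B) where
  smul g p := ⟨g • p.1, smul_iso g p⟩
  one_smul p := Subtype.ext (one_smul (suG B) p.1)
  mul_smul g g' p := Subtype.ext (mul_smul g g' p.1)

theorem smul_iso_val (g : suG B) (p : Iso B) : (g • p).1 = g • p.1 := rfl

/-- The isotropic point of an isotropic vector. -/
def pt (u : V) (hu : u ≠ 0) (h : B u u = 0) : Iso B := ⟨mk F u hu, (apply_self_rep hu).2 h⟩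

theorem exists_pt (p : Iso B) : ∃ (u : V) (hu : u ≠ 0) (h : B u u = 0), pt u hu h = p :=
  ⟨p.1.rep, p.1.rep_nonzero, p.2, Subtype.ext (mk_rep p.1)⟩

theorem pt_eq_iff {u w : V} (hu : u ≠ 0) (h : B u u = 0) (hw : w ≠ 0) (h' : B w w = 0) :
    pt u hu h = pt w hw h' ↔ ∃ a : F, a • w = u :=
  ⟨fun e => (mk_eq_mk_iff' F u w hu hw).1 (congrArg Subtype.val e),
    fun e => Subtype.ext ((mk_eq_mk_iff' F u w hu hw).2 e)⟩

theorem smul_pt (g : suG B) {u : V} (hu : u ≠ 0) (h : B u u = 0) :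
    g • pt u hu h = pt (g.1 u) (by simpa using hu) (by rw [g.2.1, h]) := Subtype.ext (smul_mk_su g hu)

variable (h : IsHerm B)
include h

theorem exists_pairing {e : V} (he0 : e ≠ 0) : ∃ y, B e y = 1 := by
  obtain ⟨y, hy⟩ : ∃ y, B e y ≠ 0 := by
    by_contra hc
    push Not at hc
    exact he0 (h.nondeg e hc)
  exact ⟨(B e y)⁻¹ • y, by rw [map_smul, smul_eq_mul, inv_mul_cancel₀ hy]⟩

theorem exists_hyp_partner {e : V} (he0 : e ≠ 0) (hee : B e e = 0) : ∃ f, B f f = 0 ∧ B e f = 1 := by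
  obtain ⟨y, hy⟩ := exists_pairing h he0
  have hye : B y e = 1 := by rw [← h.symm, hy, map_one]
  obtain ⟨t, ht⟩ := exists_trace h.toIsInvol (a := -B y y) (by rw [map_neg, fix_self h])
  refine ⟨y + t • e, ?_, by simp [hee, hy]⟩
  simp [hee, hy, hye]
  linear_combination ht

/-- Two isotropic vectors have a common non-orthogonal isotropic vector. -/
theorem exists_common {e e' : V} (he0 : e ≠ 0) (hee : B e e = 0) (he0' : e' ≠ 0) (hee' : B e' e' = 0) :
    ∃ z, B z z = 0 ∧ B z e ≠ 0 ∧ B z e' ≠ 0 := by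
  obtain ⟨f, hff, hef⟩ := exists_hyp_partner h he0 hee
  obtain ⟨f', hff', hef'⟩ := exists_hyp_partner h he0' hee'
  have hfe : B f e = 1 := by rw [← h.symm, hef, map_one]
  have hfe' : B f' e' = 1 := by rw [← h.symm, hef', map_one]
  by_cases h1 : B f e' = 0
  swap
  · exact ⟨f, hff, by simp [hfe], h1⟩
  by_cases h2 : B f' e = 0
  swap
  · exact ⟨f', hff', h2, by simp [hfe']⟩
  obtain ⟨k, hk0, hk⟩ := exists_skew h.toIsInvol
  by_cases h3 : B e e' = 0
  · by_cases h4 : B f f' = 0
    · refine ⟨f + f', ?_, by simp [hfe, h2], by simp [hfe', h1]⟩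
      simp [hff, hff', h4, (eq_zero_comm h).1 h4]
    · refine ⟨f + (k / B f f') • f', ?_, by simp [hfe, h2], ?_⟩
      · simp [hff, hff', ← h.symm f f', div_mul_cancel₀ _ h4]
        rw [div_mul_cancel₀ _ ((map_ne_zero σ).2 h4), hk]
        ring
      · simp [hfe', h1, map_div₀, hk, hk0, h4]
  · refine ⟨e + (k / B e e') • e', ?_, ?_, ?_⟩
    · simp [hee, hee', ← h.symm e e', div_mul_cancel₀ _ h3]
      rw [div_mul_cancel₀ _ ((map_ne_zero σ).2 h3), hk]
      ring
    · simp [hee, map_div₀, hk, hk0, h3, ← h.symm e e']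
    · simp [hee', h3]

variable [Finite F] [FiniteDimensional F V]

omit [Finite F] [FiniteDimensional F V] in
theorem eichler_coe_apply {e f f' : V} (hee : B e e = 0) (hef : B e f = 1) (hff : B f f = 0) (hef' : B e f' = 1)
    (hae : B (f' - f - B f f' • e) e = 0) :
    eichler h hee hae (B f f') e = e ∧ eichler h hee hae (B f f') f = f' := by
  have hfe : B f e = 1 := by rw [← h.symm, hef, map_one]
  have ha : B e (f' - f - B f f' • e) = 0 := (eq_zero_comm h).1 hae
  constructor
  · rw [eichler_apply, hee, hae]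
    simp
  · have haf : B (f' - f - B f f' • e) f = 0 := by
      rw [eq_zero_comm h]
      simp [hff, hfe]
    rw [eichler_apply, hef, haf]
    simp
    abel

/-- The stabiliser of an isotropic vector is transitive on its hyperbolic partners. -/
theorem stab_trans {e f f' : V} (hee : B e e = 0) (hff : B f f = 0) (hef : B e f = 1) (hff' : B f' f' = 0)
    (hef' : B e f' = 1) : ∃ g : suG B, g.1 e = e ∧ g.1 f = f' := by
  have hfe : B f e = 1 := by rw [← h.symm, hef, map_one]
  have hfe' : B f' e = 1 := by rw [← h.symm, hef', map_one]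
  have hae : B (f' - f - B f f' • e) e = 0 := by simp [hee, hfe, hfe']
  have hd : B f f' + σ (B f f') = -B (f' - f - B f f' • e) (f' - f - B f f' • e) := by
    simp [hee, hff, hff', hef, hfe, hef', hfe', h.symm]
  exact ⟨⟨_, eichler_mem h hee hae hd⟩, eichler_coe_apply h hee hef hff hef' hae⟩

theorem stab_trans_pt {e f f' : V} (he0 : e ≠ 0) (hee : B e e = 0) (hf0 : f ≠ 0) (hff : B f f = 0)
    (hf0' : f' ≠ 0) (hff' : B f' f' = 0) (h1 : B e f ≠ 0) (h2 : B e f' ≠ 0) :
    ∃ g : suG B, g • pt e he0 hee = pt e he0 hee ∧ g • pt f hf0 hff = pt f' hf0' hff' := by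
  obtain ⟨g, hg1, hg2⟩ := stab_trans h hee (f := (B e f)⁻¹ • f) (f' := (B e f')⁻¹ • f')
    (by simp [hff]) (by simp [inv_mul_cancel₀ h1]) (by simp [hff']) (by simp [inv_mul_cancel₀ h2])
  refine ⟨g, ?_, ?_⟩
  · rw [smul_pt, pt_eq_iff]
    exact ⟨1, by rw [one_smul, hg1]⟩
  · rw [smul_pt, pt_eq_iff]
    rw [map_smul] at hg2
    exact ⟨B e f * (B e f')⁻¹, by rw [mul_smul, ← hg2, smul_inv_smul₀ h1]⟩

theorem isPretransitive_suG : MulAction.IsPretransitive (suG B) (Iso B) where
  exists_smul_eq p q := by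
    obtain ⟨e, he0, hee, rfl⟩ := exists_pt p
    obtain ⟨e', he0', hee', rfl⟩ := exists_pt q
    obtain ⟨z, hzz, hze, hze'⟩ := exists_common h he0 hee he0' hee'
    have hz0 : z ≠ 0 := fun h0 => hze (by simp [h0])
    obtain ⟨g, -, hg⟩ := stab_trans_pt h hz0 hzz he0 hee he0' hee' hze hze'
    exact ⟨g, hg⟩

theorem isPreprimitive_suG : MulAction.IsPreprimitive (suG B) (Iso B) := by
  have := isPretransitive_suG h
  refine { isTrivialBlock_of_isBlock := fun {S} hS => ?_ }
  by_cases hsub : S.Subsingleton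
  · exact Or.inl hsub
  right
  obtain ⟨p, hp, q, hq, hpq⟩ := Set.not_subsingleton_iff.1 hsub
  have hstab : ∀ (g : suG B) (a : Iso B), a ∈ S → g • a = a → ∀ b ∈ S, g • b ∈ S := fun g a ha hga b hb => by
    have h : g • S = S := MulAction.isBlock_iff_smul_eq_of_nonempty.1 hS ⟨a, ⟨a, ha, hga⟩, ha⟩
    rw [← h]
    exact Set.smul_mem_smul_set hb
  have step : ∀ (u w r : V) (hu0 : u ≠ 0) (hu : B u u = 0) (hw0 : w ≠ 0) (hw : B w w = 0) (hr0 : r ≠ 0)
      (hr : B r r = 0), pt u hu0 hu ∈ S → pt w hw0 hw ∈ S → B u w ≠ 0 → B u r ≠ 0 → pt r hr0 hr ∈ S :=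
    fun u w r hu0 hu hw0 hw hr0 hr hu' hw' h1 h2 => by
      obtain ⟨g, hg1, hg2⟩ := stab_trans_pt h hu0 hu hw0 hw hr0 hr h1 h2
      exact hg2 ▸ hstab g _ hu' hg1 _ hw'
  have all_of_pair : ∀ (u w : V) (hu0 : u ≠ 0) (hu : B u u = 0) (hw0 : w ≠ 0) (hw : B w w = 0),
      pt u hu0 hu ∈ S → pt w hw0 hw ∈ S → B u w ≠ 0 → S = Set.univ := fun u w hu0 hu hw0 hw hu' hw' h1 => by
    refine Set.eq_univ_of_forall fun x => ?_
    obtain ⟨r, hr0, hr, rfl⟩ := exists_pt x
    obtain ⟨z, hzz, hzu, hzr⟩ := exists_common h hu0 hu hr0 hr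
    have hz0 : z ≠ 0 := fun h0 => hzu (by simp [h0])
    exact step z u r hz0 hzz hu0 hu hr0 hr
      (step u w z hu0 hu hw0 hw hz0 hzz hu' hw' h1 (mt (eq_zero_comm h).1 hzu)) hu' hzu hzr
  obtain ⟨u, hu0, hu, rfl⟩ := exists_pt p
  obtain ⟨w, hw0, hw, rfl⟩ := exists_pt q
  by_cases h1 : B u w = 0
  swap
  · exact all_of_pair u w hu0 hu hw0 hw hp hq h1
  obtain ⟨y, hy1, hy2⟩ : ∃ y, B u y = 0 ∧ B w y ≠ 0 := by
    by_contra hc
    push Not at hc
    obtain ⟨f, hf⟩ := exists_pairing h hu0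
    have hwu : w = σ (B w f) • u := sub_eq_zero.1 (h.nondeg _ fun x => by
      have := hc (x - B u x • f) (by simp [hf])
      simp at this
      simp [h.invol]
      linear_combination this)
    exact hpq (((pt_eq_iff hw0 hw hu0 hu).2 ⟨_, hwu.symm⟩).symm)
  have hwy : B y w ≠ 0 := mt (eq_zero_comm h).1 hy2
  obtain ⟨t, ht⟩ := exists_trace h.toIsInvol (a := -B y y) (by rw [map_neg, fix_self h])
  set v := y + (t / B y w) • w with hv
  have hvv : B v v = 0 := by
    simp [hv, hw, ← h.symm y w, div_mul_cancel₀ _ hwy]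
    rw [div_mul_cancel₀ _ ((map_ne_zero σ).2 hwy)]
    linear_combination ht
  have hvu : B v u = 0 := by rw [eq_zero_comm h]; simp [hv, hy1, h1]
  have hvw : B v w ≠ 0 := by simp [hv, hw, hwy]
  obtain ⟨k, hk0, hk⟩ := exists_skew h.toIsInvol
  let g : suG B := ⟨tvU hvv k, tvU_mem h hvv (by rw [hk, add_neg_cancel])⟩
  have hgu : g • pt u hu0 hu = pt u hu0 hu := by
    rw [smul_pt, pt_eq_iff]
    exact ⟨1, by simp [g, tvU_apply, hvu]⟩
  have hgw := hstab g _ hp hgu _ hq
  rw [smul_pt] at hgw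
  refine all_of_pair w (g.1 w) hw0 hw _ _ hq hgw ?_
  have hwv : B w v ≠ 0 := mt (eq_zero_comm h).1 hvw
  simp [g, tvU_apply, hw, hk0, hvw, hwv]

theorem exists_isotropic (hn : 2 ≤ finrank F V) : ∃ e : V, e ≠ 0 ∧ B e e = 0 := by
  obtain ⟨b, hb⟩ := exists_orthonormal h
  obtain ⟨γ, hγ0, hγ⟩ := exists_neg_one_norm h
  refine ⟨b ⟨0, by omega⟩ + γ • b ⟨1, by omega⟩, fun h0 => ?_, ?_⟩
  · simpa [hb _ _, Fin.ext_iff] using congrArg (B (b ⟨0, by omega⟩)) h0
  · simp [hb _ _]
    linear_combination hγ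

omit [Finite F] [FiniteDimensional F V] in
/-- An element fixing every isotropic point is scalar. -/
theorem scalar_of_fix_iso [Finite F] [FiniteDimensional F V] (hn : 2 ≤ finrank F V) {g : suG B}
    (hg : ∀ p : Iso B, g • p = p) : ∃ a : F, ∀ x, g.1 x = a • x := by
  have key : ∀ u : V, u ≠ 0 → B u u = 0 → ∃ a : F, a • u = g.1 u := fun u hu0 hu => by
    have := hg (pt u hu0 hu)
    rwa [smul_pt, pt_eq_iff] at this
  have pair : ∀ u w : V, B u u = 0 → B w w = 0 → B u w ≠ 0 → ∀ a : F, g.1 u = a • u → g.1 w = a • w :=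
    fun u w hu hw huw a ha => by
      have hu0 : u ≠ 0 := fun h0 => huw (by simp [h0])
      have hw0 : w ≠ 0 := fun h0 => huw (by simp [h0])
      obtain ⟨b, hb⟩ := key w hw0 hw
      obtain ⟨k, hk0, hk⟩ := exists_skew h.toIsInvol
      set s := k / B u w with hs
      have hzz : B (u + s • w) (u + s • w) = 0 := by
        simp [hu, hw, hs, ← h.symm u w, div_mul_cancel₀ _ huw]
        rw [div_mul_cancel₀ _ ((map_ne_zero σ).2 huw), hk]
        ring
      have huz : B u (u + s • w) = k := by simp [hu, hs, div_mul_cancel₀ _ huw]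
      obtain ⟨c, hc⟩ := key (u + s • w) (fun h0 => hk0 (by rw [← huz, h0, map_zero])) hzz
      rw [map_add, map_smul, ha, ← hb] at hc
      have e1 := congrArg (B u) hc
      have e2 := congrArg (B w) hc
      have hs0 : s ≠ 0 := div_ne_zero hk0 huw
      have hwu : B w u ≠ 0 := mt (eq_zero_comm h).1 huw
      simp [hu, hw, hs0, huw, hwu] at e1 e2
      rw [← hb, ← e2, mul_right_cancel₀ (mul_ne_zero hs0 huw) (by linear_combination -e1 : b * (s * B u w) = c * (s * B u w))]
  obtain ⟨e, he0, hee⟩ := exists_isotropic h hn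
  obtain ⟨a, ha⟩ := key e he0 hee
  have all : ∀ r : V, B r r = 0 → g.1 r = a • r := fun r hr => by
    by_cases hr0 : r = 0
    · simp [hr0]
    obtain ⟨z, hzz, hze, hzr⟩ := exists_common h he0 hee hr0 hr
    exact pair z r hzz hr hzr a (pair e z hee hzz (mt (eq_zero_comm h).1 hze) a ha.symm)
  obtain ⟨f, hff, hef⟩ := exists_hyp_partner h he0 hee
  have hfe : B f e = 1 := by rw [← h.symm, hef, map_one]
  refine ⟨a, fun x => ?_⟩
  set y := x - B f x • e - B e x • f with hy
  obtain ⟨d, hd⟩ := exists_trace h.toIsInvol (a := -B y y) (by rw [map_neg, fix_self h])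
  have hye : B e y = 0 := by simp [hy, hee, hef]
  have hyf : B f y = 0 := by simp [hy, hff, hfe]
  have hr : B (f + y + d • e) (f + y + d • e) = 0 := by
    simp [hee, hff, hef, hfe, hye, hyf, (eq_zero_comm h).1 hye, (eq_zero_comm h).1 hyf]
    linear_combination hd
  have h3 := all _ hr
  simp only [map_add, map_smul, all f hff, ← ha] at h3
  have hgy : g.1 y = a • y := by linear_combination (norm := module) h3
  have hx : x = y + B f x • e + B e x • f := by rw [hy]; abel
  rw [hx, map_add, map_add, map_smul, map_smul, hgy, all f hff, ← ha]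
  module

omit [Finite F] [FiniteDimensional F V] in
theorem scalar_mem_center {g : suG B} {a : F} (ha : ∀ x, g.1 x = a • x) : g ∈ Subgroup.center (suG B) :=
  Subgroup.mem_center_iff.2 fun k => Subtype.ext (LinearEquiv.ext fun x => by simp [ha])

theorem center_fix_iso {g : suG B} (hg : g ∈ Subgroup.center (suG B)) (p : Iso B) : g • p = p := by
  obtain ⟨u, hu0, hu, rfl⟩ := exists_pt p
  obtain ⟨k, hk0, hk⟩ := exists_skew h.toIsInvol
  obtain ⟨f, hff, huf⟩ := exists_hyp_partner h hu0 hu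
  let t : suG B := ⟨tvU hu k, tvU_mem h hu (by rw [hk, add_neg_cancel])⟩
  have h1 : g.1 * tvU hu k * g.1⁻¹ = tvU hu k := by
    have e := congrArg Subtype.val (Subgroup.mem_center_iff.1 hg t)
    simp only [t, Subgroup.coe_mul] at e
    rw [← e, mul_inv_cancel_right]
  rw [conj_tvU h g.2.1] at h1
  have h2 := congrArg (fun t : V ≃ₗ[F] V => t f) h1
  simp only [tvU_apply, huf, mul_one, add_right_inj] at h2
  rw [smul_pt, pt_eq_iff]
  have hne : k * B (g.1 u) f ≠ 0 := fun h0 => by
    rw [h0, zero_smul] at h2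
    exact smul_ne_zero hk0 hu0 h2.symm
  exact ⟨(k * B (g.1 u) f)⁻¹ * k, by rw [mul_smul, ← h2, inv_smul_smul₀ hne]⟩

/-! ### Iwasawa -/

omit [Finite F] [FiniteDimensional F V] h in
/-- The transvections along an isotropic point. -/
def Tp (p : Iso B) : Subgroup (suG B) where
  carrier := {g | ∃ c : F, c + σ c = 0 ∧ ∀ x, g.1 x = x + (c * B p.1.rep x) • p.1.rep}
  mul_mem' := by
    rintro a b ⟨c, hc, ha⟩ ⟨d, hd, hb⟩
    refine ⟨c + d, by rw [map_add]; linear_combination hc + hd, fun x => ?_⟩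
    simp [ha, hb, p.2, add_mul, add_smul]
    abel
  one_mem' := ⟨0, by simp, fun x => by simp⟩
  inv_mem' := by
    rintro a ⟨c, hc, ha⟩
    refine ⟨-c, by rw [map_neg]; linear_combination -hc, fun x => ?_⟩
    apply a.1.injective
    rw [map_add, map_smul, Subgroup.coe_inv, ← LinearEquiv.mul_apply, mul_inv_cancel]
    simp [ha, p.2]

omit [Finite F] [FiniteDimensional F V] in
theorem conj_mem_Tp {g t : suG B} {p : Iso B} (ht : t ∈ Tp p) : g * t * g⁻¹ ∈ Tp (g • p) := by
  obtain ⟨c, hc, ht⟩ := ht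
  obtain ⟨u, hu, -⟩ : ∃ u : V, u = p.1.rep ∧ True := ⟨_, rfl, trivial⟩
  have hu0 : g.1 p.1.rep ≠ 0 := by simpa using p.1.rep_nonzero
  obtain ⟨a, ha⟩ := exists_smul_eq_mk_rep F (g.1 p.1.rep) hu0
  have e : (g • p).1 = mk F (g.1 p.1.rep) hu0 := by
    rw [smul_iso_val]
    conv_lhs => rw [← mk_rep p.1, smul_mk_su]
  set α : F := (a : F)
  have hα : α ≠ 0 := a.ne_zero
  refine ⟨c / (α * σ α), ?_, fun x => ?_⟩
  · rw [map_div₀, map_mul, h.invol, mul_comm (σ α) α, ← add_div, hc, zero_div]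
  · have e1 : t.1 = tvU p.2 c := LinearEquiv.ext fun y => ht y
    rw [Subgroup.coe_mul, Subgroup.coe_mul, Subgroup.coe_inv, e1, conj_tvU h g.2.1, tvU_apply, e, ← ha]
    have hσα : σ α ≠ 0 := (map_ne_zero σ).2 hα
    simp [Units.smul_def, smul_smul]
    congr 1
    field_simp
    simp only [α]
    ring

theorem isSimpleGroup_suG_quot (hn : 3 ≤ finrank F V)
    (hr : (∃ r : F, σ r = r ∧ r ≠ 0 ∧ r ≠ 1) ∨ finrank F V ≠ 3) :
    IsSimpleGroup (suG B ⧸ Subgroup.center (suG B)) := by
  have hker : Subgroup.center (suG B) ≤ (MulAction.toPermHom (suG B) (Iso B)).ker := fun g hg => by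
    rw [MonoidHom.mem_ker]
    ext p
    exact center_fix_iso h hg p
  let : MulAction (suG B ⧸ Subgroup.center (suG B)) (Iso B) :=
    MulAction.compHom _ (QuotientGroup.lift _ _ hker)
  have hsm : ∀ (g : suG B) (p : Iso B), (g : suG B ⧸ Subgroup.center (suG B)) • p = g • p := fun _ _ => rfl
  have hfaith : FaithfulSMul (suG B ⧸ Subgroup.center (suG B)) (Iso B) := by
    refine faithfulSMul_iff.2 fun x hx => ?_
    obtain ⟨g, rfl⟩ := QuotientGroup.mk_surjective x
    obtain ⟨a, ha⟩ := scalar_of_fix_iso h (by omega) (g := g) fun p => by rw [← hsm]; exact hx p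
    exact (QuotientGroup.eq_one_iff _).2 (scalar_mem_center h ha)
  have := isPreprimitive_suG h
  have : MulAction.IsPreprimitive (suG B ⧸ Subgroup.center (suG B)) (Iso B) :=
    MulAction.IsPreprimitive.of_surjective (φ := fun g : suG B => (g : suG B ⧸ Subgroup.center (suG B)))
      (f := { toFun := id, map_smul' := fun _ _ => rfl }) Function.surjective_id
  have : Nontrivial (suG B ⧸ Subgroup.center (suG B)) := by
    obtain ⟨e, he0, hee⟩ := exists_isotropic h (by omega : 2 ≤ finrank F V)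
    obtain ⟨f, hff, hef⟩ := exists_hyp_partner h he0 hee
    have hf0 : f ≠ 0 := fun h0 => by simp [h0] at hef
    obtain ⟨g, hg⟩ := MulAction.exists_smul_eq (suG B) (pt e he0 hee) (pt f hf0 hff)
    refine ⟨⟨g, 1, fun h1 => ?_⟩⟩
    rw [center_fix_iso h ((QuotientGroup.eq_one_iff _).1 h1), pt_eq_iff] at hg
    obtain ⟨a, rfl⟩ := hg
    simp [hff] at hef
  have hgen : ∀ H : Subgroup (suG B), (∀ (v : V) (hv : B v v = 0) (c : F) (hc : c + σ c = 0),
      (⟨tvU hv c, tvU_mem h hv hc⟩ : suG B) ∈ H) → H = ⊤ := fun H hH => by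
    rw [eq_top_iff]
    rintro ⟨g, hg⟩ -
    suffices TUon B ⊤ ≤ H.map (suG B).subtype by
      rw [← suG_eq_TUon h (by omega) hr] at hg
      obtain ⟨x, hx, hxg⟩ := this hg
      exact (Subtype.ext hxg : x = ⟨g, _⟩) ▸ hx
    refine (Subgroup.closure_le _).2 ?_
    rintro t ⟨v, -, c, hv, hc, ht⟩
    exact ⟨_, hH v hv c hc, LinearEquiv.ext fun x => (ht x).symm⟩
  have hperf : commutator (suG B) = ⊤ := hgen _ fun v hv c hc => by
    obtain ⟨p, q, hpq⟩ := tvU_eq_comm h hn hv hc
    rw [show (⟨tvU hv c, tvU_mem h hv hc⟩ : suG B) = ⁅p, q⁆ from Subtype.ext hpq.symm]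
    exact Subgroup.commutator_mem_commutator (Subgroup.mem_top _) (Subgroup.mem_top _)
  let S : MulAction.IwasawaStructure (suG B ⧸ Subgroup.center (suG B)) (Iso B) :=
    { T := fun p => (Tp p).map (QuotientGroup.mk' _)
      is_comm := fun p => by
        refine ⟨⟨?_⟩⟩
        rintro ⟨_, a, ⟨c, hc, ha⟩, rfl⟩ ⟨_, b, ⟨d, hd, hb⟩, rfl⟩
        refine Subtype.ext ?_
        simp only [Subgroup.coe_mul]
        rw [← map_mul, ← map_mul]
        congr 1
        refine Subtype.ext (LinearEquiv.ext fun x => ?_)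
        simp [ha, hb, p.2]
        abel
      is_conj := fun x p => by
        obtain ⟨g, rfl⟩ := QuotientGroup.mk_surjective x
        rw [hsm]
        ext y
        rw [Subgroup.mem_pointwise_smul_iff_inv_smul_mem]
        simp only [Subgroup.mem_map, MulAut.smul_def, MulAut.inv_apply, MulAut.conj_symm_apply]
        constructor
        · rintro ⟨t, ht, rfl⟩
          refine ⟨g⁻¹ * t * g, ?_, by simp [map_mul]⟩
          have := conj_mem_Tp h (g := g⁻¹) ht
          rwa [inv_inv, inv_smul_smul] at this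
        · rintro ⟨t, ht, hy⟩
          refine ⟨g * t * g⁻¹, conj_mem_Tp h ht, ?_⟩
          rw [map_mul, map_mul, map_inv, hy]
          simp [mul_assoc]
      is_generator := by
        rw [← Subgroup.map_iSup]
        suffices hs : (⨆ p : Iso B, Tp p) = ⊤ by
          rw [hs]; exact Subgroup.map_top_of_surjective _ (QuotientGroup.mk'_surjective _)
        refine hgen _ fun v hv c hc => ?_
        by_cases hv0 : v = 0
        · have : (⟨tvU hv c, tvU_mem h hv hc⟩ : suG B) = 1 :=
            Subtype.ext (LinearEquiv.ext fun x => by simp [tvU_apply, hv0])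
          exact this ▸ one_mem _
        refine Subgroup.mem_iSup_of_mem (pt v hv0 hv) ?_
        obtain ⟨a, ha⟩ := exists_smul_eq_mk_rep F v hv0
        set α : F := (a : F)
        have hα : α ≠ 0 := a.ne_zero
        have hσα : σ α ≠ 0 := (map_ne_zero σ).2 hα
        refine ⟨c / (α * σ α), ?_, fun x => ?_⟩
        · rw [map_div₀, map_mul, h.invol, mul_comm (σ α) α, ← add_div, hc, zero_div]
        · show tvU hv c x = x + (c / (α * σ α) * B (mk F v hv0).rep x) • (mk F v hv0).rep
          rw [← ha, tvU_apply]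
          simp [Units.smul_def, smul_smul]
          congr 1
          field_simp
          simp only [α]
          ring }
  refine MulAction.IwasawaStructure.isSimpleGroup ?_ S hfaith
  rw [eq_top_iff, ← Subgroup.map_top_of_surjective (QuotientGroup.mk' (Subgroup.center (suG B)))
    (QuotientGroup.mk'_surjective _), ← hperf, commutator_def, Subgroup.map_commutator]
  exact Subgroup.commutator_mono le_top le_top

end Cfsg.Agent.Classical.Herm
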