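import Mathlib
import Cfsg.Prelude.Def_ClassicalGeometry
import Cfsg.Agent.Classical.HermGroup
import Cfsg.Agent.Classical.HermSimple

/-!
`Cfsg.SU n F q` as the special isometry group of the standard Hermitian form: unitary transvections, generation,
commutators, simplicity of PSU.
-/

set_option autoImplicit false

namespace Cfsg.Agent.Classical

open Matrix Herm Module

variable {F : Type*} [Field F] {σ : F →+* F} {n q : ℕ}

/-- The linear equivalence given by a special linear matrix. -/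
noncomputable def slLin (A : Matrix.SpecialLinearGroup (Fin n) F) : (Fin n → F) ≃ₗ[F] (Fin n → F) :=
  LinearEquiv.ofLinear (Matrix.toLin' A.1) (Matrix.toLin' (A⁻¹).1)
    (by rw [← Matrix.toLin'_mul, ← Matrix.SpecialLinearGroup.coe_mul, mul_inv_cancel,
      Matrix.SpecialLinearGroup.coe_one, Matrix.toLin'_one])
    (by rw [← Matrix.toLin'_mul, ← Matrix.SpecialLinearGroup.coe_mul, inv_mul_cancel,
      Matrix.SpecialLinearGroup.coe_one, Matrix.toLin'_one])

theorem slLin_apply (A : Matrix.SpecialLinearGroup (Fin n) F) (v : Fin n → F) :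
    slLin A v = A.1 *ᵥ v := rfl

theorem det_slLin (A : Matrix.SpecialLinearGroup (Fin n) F) : LinearEquiv.det (slLin A) = 1 := by
  refine Units.ext ?_
  rw [LinearEquiv.coe_det, Units.val_one]
  have h : ((slLin A : (Fin n → F) ≃ₗ[F] (Fin n → F)) : (Fin n → F) →ₗ[F] (Fin n → F)) = Matrix.toLin' A.1 :=
    LinearMap.ext fun v => rfl
  rw [h, LinearMap.det_toLin']
  exact A.2

/-- SU_n(q) to the special isometry group of the standard Hermitian form. -/
noncomputable def suHom (n : ℕ) (hσq : ∀ x, σ x = x ^ q) : Cfsg.SU n F q →* suG (hermB n σ) :=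
  MonoidHom.mk' (fun A => ⟨slLin A.1, (mem_SU_iff hσq A.1).1 A.2, det_slLin A.1⟩) fun A B =>
    Subtype.ext (LinearEquiv.ext fun v => by
      simp [LinearEquiv.mul_apply, slLin_apply, Matrix.mulVec_mulVec])

theorem suHom_bijective (n : ℕ) (hσq : ∀ x, σ x = x ^ q) : Function.Bijective (suHom n hσq) := by
  refine ⟨fun A B h => ?_, fun g => ?_⟩
  · refine Subtype.ext (Subtype.ext (Matrix.ext_of_mulVec_single fun i => ?_))
    exact congrArg (fun g : suG (hermB n σ) => g.1 (Pi.single i 1)) h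
  · have hd : (LinearMap.toMatrix' g.1.toLinearMap).det = 1 := by
      rw [LinearMap.det_toMatrix']
      have := congrArg Units.val g.2.2
      rwa [LinearEquiv.coe_det, Units.val_one] at this
    refine ⟨⟨⟨_, hd⟩, (mem_SU_iff hσq _).2 fun u v => ?_⟩, ?_⟩
    · rw [LinearMap.toMatrix'_mulVec, LinearMap.toMatrix'_mulVec]
      exact g.2.1 u v
    · exact Subtype.ext (LinearEquiv.ext fun v => LinearMap.toMatrix'_mulVec g.1.toLinearMap v)

/-- SU_n(q) as the special isometry group of the standard Hermitian form. -/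
noncomputable def suEquiv (n : ℕ) (hσq : ∀ x, σ x = x ^ q) : Cfsg.SU n F q ≃* suG (hermB n σ) :=
  MulEquiv.ofBijective (suHom n hσq) (suHom_bijective n hσq)

theorem suEquiv_apply (hσq : ∀ x, σ x = x ^ q) (A : Cfsg.SU n F q) (v : Fin n → F) :
    (suEquiv n hσq A).1 v = (A.1 : Matrix (Fin n) (Fin n) F) *ᵥ v := rfl

theorem unitaryTransvection_mulVec (hσq : ∀ x, σ x = x ^ q) (v x : Fin n → F) (c : F) :
    Cfsg.unitaryTransvection n q v c *ᵥ x = x + (c * hermB n σ v x) • v := by
  rw [Cfsg.unitaryTransvection, Matrix.add_mulVec, Matrix.one_mulVec, Matrix.smul_mulVec,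
    Matrix.vecMulVec_mulVec, op_smul_eq_smul, smul_smul, hermB_apply]
  simp [dotProduct, hσq]

theorem neg_frob_iff (hσq : ∀ x, σ x = x ^ q) (hq : 1 < q) (c : F) :
    c + σ c = 0 ↔ c = 0 ∨ c ^ (q - 1) = -1 := by
  rw [hσq]
  by_cases hc : c = 0
  · simp [hc, zero_pow (by omega : q ≠ 0)]
  have e : c ^ q = c ^ (q - 1) * c := by rw [← pow_succ, Nat.sub_add_cancel hq.le]
  constructor
  · intro h
    exact Or.inr (mul_right_cancel₀ hc (by linear_combination h - e))
  · rintro (h | h)
    · exact absurd h hc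
    · rw [e, h]; ring

theorem isometry_transvection_iff [Finite F] (hσ : IsInvol σ) {v : Fin n → F} (hv : v ≠ 0)
    (hv0 : hermB n σ v v = 0) (c : F) :
    (∀ x y, hermB n σ (x + (c * hermB n σ v x) • v) (y + (c * hermB n σ v y) • v) = hermB n σ x y) ↔
      c + σ c = 0 := by
  have hB := hermB_isHerm hσ n
  constructor
  · intro h
    obtain ⟨y, hy⟩ := exists_pairing hB hv
    have hy' : hermB n σ y v = 1 := by rw [← hB.symm, hy, map_one]
    have := h y y
    simp [hv0, hy, hy'] at this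
    linear_combination this
  · exact fun hc x y => tvU_isometry hB hv0 hc x y

theorem transvection_mem_cases [Finite F] (hσ : IsInvol σ) (hσq : ∀ x, σ x = x ^ q) (A : Cfsg.SU n F q)
    {v : Fin n → F} {c : F} (hv0 : hermB n σ v v = 0)
    (hA : ((A : Matrix.SpecialLinearGroup (Fin n) F) : Matrix (Fin n) (Fin n) F) = Cfsg.unitaryTransvection n q v c) :
    ∃ c' : F, c' + σ c' = 0 ∧ (suEquiv n hσq A).1 = tvU hv0 c' := by
  have happ : ∀ x, (suEquiv n hσq A).1 x = x + (c * hermB n σ v x) • v := fun x => by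
    rw [suEquiv_apply, hA, unitaryTransvection_mulVec hσq]
  by_cases hv : v = 0
  · refine ⟨0, by simp, LinearEquiv.ext fun x => ?_⟩
    rw [happ, tvU_apply]
    simp [hv]
  · refine ⟨c, (isometry_transvection_iff hσ hv hv0 c).1 fun x y => ?_, LinearEquiv.ext happ⟩
    rw [← happ, ← happ]
    exact (suEquiv n hσq A).2.1 x y

variable [Fintype F]

theorem hr_of_not_three_two (hq : Nat.card (fixField σ) = q) (h32 : ¬(n = 3 ∧ q = 2)) (hq1 : 1 < q) :
    (∃ r : F, σ r = r ∧ r ≠ 0 ∧ r ≠ 1) ∨ finrank F (Fin n → F) ≠ 3 := by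
  rw [Module.finrank_fin_fun]
  by_cases hn : n = 3
  · left
    have h3 : 2 < Nat.card (fixField σ) := by
      have : q ≠ 2 := fun h2 => h32 ⟨hn, h2⟩
      omega
    by_contra hc
    push Not at hc
    classical
    have hle : Nat.card (fixField σ) ≤ Nat.card (Fin 2) := by
      refine Nat.card_le_card_of_injective (fun r : fixField σ => if (r : F) = 0 then (0 : Fin 2) else 1) ?_
      intro a b hab
      refine Subtype.ext ?_
      rcases eq_or_ne (a : F) 0 with ha | ha <;> rcases eq_or_ne (b : F) 0 with hb | hb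
      · rw [ha, hb]
      · simp [ha, hb] at hab
      · simp [ha, hb] at hab
      · rw [hc _ a.2 ha, hc _ b.2 hb]
    rw [Nat.card_fin] at hle
    omega
  · exact Or.inr hn

theorem closure_unitaryTransvection (hσ : IsInvol σ) (hσq : ∀ x, σ x = x ^ q)
    (hq : Nat.card (fixField σ) = q) (hn : 2 ≤ n) (h32 : ¬(n = 3 ∧ q = 2)) :
    Subgroup.closure {A : Cfsg.SU n F q | ∃ (v : Fin n → F) (c : F), hermB n σ v v = 0 ∧
      ((A : Matrix.SpecialLinearGroup (Fin n) F) : Matrix (Fin n) (Fin n) F) = Cfsg.unitaryTransvection n q v c} = ⊤ := by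
  have hB := hermB_isHerm hσ n
  have hq1 : 1 < q := hq ▸ Finite.one_lt_card
  set H := Subgroup.closure {A : Cfsg.SU n F q | ∃ (v : Fin n → F) (c : F), hermB n σ v v = 0 ∧
      ((A : Matrix.SpecialLinearGroup (Fin n) F) : Matrix (Fin n) (Fin n) F) = Cfsg.unitaryTransvection n q v c}
  rw [eq_top_iff]
  intro A _
  suffices TUon (hermB n σ) ⊤ ≤ (H.map (suEquiv n hσq).toMonoidHom).map (suG (hermB n σ)).subtype by
    obtain ⟨_, ⟨B, hB', rfl⟩, hAB⟩ := this ((suG_eq_TUon hB (by rw [Module.finrank_fin_fun]; exact hn)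
      (hr_of_not_three_two hq h32 hq1)).ge (suEquiv n hσq A).2)
    exact (suEquiv n hσq).injective (Subtype.ext hAB) ▸ hB'
  refine (Subgroup.closure_le _).2 ?_
  rintro t ⟨v, -, c, hv, hc, ht⟩
  obtain ⟨B, hB'⟩ := (suEquiv n hσq).surjective ⟨tvU hv c, tvU_mem hB hv hc⟩
  refine ⟨_, ⟨B, Subgroup.subset_closure ⟨v, c, hv, ?_⟩, rfl⟩, ?_⟩
  · refine Matrix.ext_of_mulVec_single fun i => ?_
    rw [← suEquiv_apply hσq B, hB', unitaryTransvection_mulVec hσq]
    rfl
  · rw [MulEquiv.coe_toMonoidHom, hB']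
    exact LinearEquiv.ext fun x => (ht x).symm

theorem isSimpleGroup_psu {q : ℕ} (hF : Fintype.card F = q ^ 2) (n : ℕ) (hn : 3 ≤ n) (h32 : ¬(n = 3 ∧ q = 2)) :
    IsSimpleGroup (Cfsg.PSU n F q) := by
  obtain ⟨τ, hτq, hτ, hq, hq1⟩ := exists_powHom hF
  have := isSimpleGroup_suG_quot (hermB_isHerm hτ n) (by rw [Module.finrank_fin_fun]; exact hn)
    (hr_of_not_three_two hq h32 hq1)
  have hmap : (Subgroup.center (Cfsg.SU n F q)).map (suEquiv n hτq).toMonoidHom
      = Subgroup.center (suG (hermB n τ)) := by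
    ext x
    simp only [Subgroup.mem_map, Subgroup.mem_center_iff]
    constructor
    · rintro ⟨y, hy, rfl⟩ g
      obtain ⟨g', rfl⟩ := (suEquiv n hτq).surjective g
      simp only [MulEquiv.coe_toMonoidHom, ← map_mul, hy g']
    · intro hx
      refine ⟨(suEquiv n hτq).symm x, fun g => (suEquiv n hτq).injective ?_, by simp⟩
      simp [hx]
  exact (QuotientGroup.congr _ _ (suEquiv n hτq) hmap).isSimpleGroup

end Cfsg.Agent.Classical
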