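import Mathlib
import Cfsg.Agent.Classical.HermGroup

/-!
SU₂(q) ≅ SL₂(q); GU modulo SU and scalars.
-/

set_option autoImplicit false

namespace Cfsg.Agent.Classical

open Matrix Herm

variable {F : Type*} [Field F] {σ : F →+* F} {n q : ℕ}

theorem preserves_iff_mul (M : Matrix (Fin n) (Fin n) F) :
    (∀ u v, hermB n σ (M *ᵥ u) (M *ᵥ v) = hermB n σ u v) ↔ (M.map σ)ᵀ * M = 1 := by
  rw [preserves_iff_cols, Herm.IsON, ← Matrix.ext_iff]
  refine forall₂_congr fun i j => ?_
  simp [hermB_apply, Matrix.mul_apply, Matrix.one_apply]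

/-- The skew form of a plane with coordinates. -/
def skewJ (k : F) : Matrix (Fin 2) (Fin 2) F := !![0, k; -k, 0]

theorem transpose_skewJ_mul (k : F) (M : Matrix (Fin 2) (Fin 2) F) : Mᵀ * skewJ k * M = M.det • skewJ k := by
  ext i j
  fin_cases i <;> fin_cases j <;> simp [skewJ, Matrix.mul_apply, Fin.sum_univ_two, Matrix.det_fin_two] <;> ring

theorem map_mul_hom (A B : Matrix (Fin n) (Fin n) F) : (A * B).map σ = A.map σ * B.map σ := Matrix.map_mul

variable [Fintype F]

theorem su_two_equiv {K : Type*} [Field K] [Fintype K] (hσ : IsInvol σ) (hσq : ∀ x, σ x = x ^ q)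
    (hq : Nat.card (fixField σ) = q) (hK : Fintype.card K = q) :
    Nonempty (Cfsg.SU 2 F q ≃* SpecialLinearGroup (Fin 2) K) := by
  classical
  obtain ⟨k, hk0, hk⟩ := exists_skew hσ
  -- an isotropic basis
  obtain ⟨γ, hγ⟩ := exists_norm hσ (a := (-1 : F)) (by rw [map_neg, map_one])
  obtain ⟨c, hc⟩ : ∃ c : F, c + σ c = 1 := exists_trace hσ (map_one σ)
  let e : Fin 2 → F := ![1, γ]
  let f : Fin 2 → F := ![k * σ c, -(k * γ * c)]
  let P : Matrix (Fin 2) (Fin 2) F := !![1, k * σ c; γ, -(k * γ * c)]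
  have hP : (P.map σ)ᵀ * P = skewJ k := by
    ext i j
    fin_cases i <;> fin_cases j <;>
      simp [P, skewJ, Matrix.mul_apply, Fin.sum_univ_two, map_mul, hσ.invol, hk]
    · linear_combination hγ
    · linear_combination k * hc - k * c * hγ
    · linear_combination -k * hc + k * σ c * hγ
    · linear_combination -k * k * c * σ c * hγ
  have hdetP : IsUnit P.det := by
    have h := congrArg Matrix.det hP
    rw [Matrix.det_mul] at h
    refine isUnit_iff_ne_zero.2 fun h0 => ?_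
    rw [h0, mul_zero] at h
    simp [skewJ, Matrix.det_fin_two, hk0] at h
  have hPi : P * P⁻¹ = 1 := Matrix.mul_nonsing_inv P hdetP
  have hiP : P⁻¹ * P = 1 := Matrix.nonsing_inv_mul P hdetP
  obtain ⟨φ⟩ : Nonempty (K ≃+* fixField σ) := by
    have : Fintype (fixField σ) := Fintype.ofFinite _
    exact ⟨FiniteField.ringEquivOfCardEq (by rw [hK, ← hq, Nat.card_eq_fintype_card])⟩
  let ι : K →+* F := (fixField σ).subtype.comp φ.toRingHom
  have hι : ∀ x, σ (ι x) = ι x := fun x => (φ x).2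
  have hιs : ∀ y, σ y = y → ∃ x, ι x = y := fun y hy => ⟨φ.symm ⟨y, hy⟩, by simp [ι]⟩
  have hmem : ∀ M : SpecialLinearGroup (Fin 2) K,
      ∀ u v, hermB 2 σ ((P * (M.1.map ι) * P⁻¹) *ᵥ u) ((P * (M.1.map ι) * P⁻¹) *ᵥ v) = hermB 2 σ u v := by
    intro M
    rw [preserves_iff_mul]
    have hMσ : (M.1.map ι).map σ = M.1.map ι := by ext i j; simp [hι]
    have hMd : (M.1.map ι).det = 1 := by
      rw [← RingHom.mapMatrix_apply, ← RingHom.map_det, M.2, map_one]
    rw [map_mul_hom, map_mul_hom, hMσ, Matrix.transpose_mul, Matrix.transpose_mul]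
    calc (P⁻¹.map σ)ᵀ * ((M.1.map ι)ᵀ * (P.map σ)ᵀ) * (P * M.1.map ι * P⁻¹)
        = (P⁻¹.map σ)ᵀ * ((M.1.map ι)ᵀ * ((P.map σ)ᵀ * P) * M.1.map ι) * P⁻¹ := by simp only [Matrix.mul_assoc]
      _ = (P⁻¹.map σ)ᵀ * (P.map σ)ᵀ * (P * P⁻¹) := by
        rw [hP, transpose_skewJ_mul, hMd, one_smul, ← hP]
        simp only [Matrix.mul_assoc]
      _ = 1 := by
        rw [hPi, mul_one, ← Matrix.transpose_mul, ← map_mul_hom, hPi,
          Matrix.map_one σ (map_zero σ) (map_one σ), Matrix.transpose_one]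
  let Φ : SpecialLinearGroup (Fin 2) K →* Cfsg.SU 2 F q :=
    { toFun := fun M => ⟨⟨P * (M.1.map ι) * P⁻¹, by
          rw [Matrix.det_conj ((Matrix.isUnit_iff_isUnit_det P).2 hdetP), ← RingHom.mapMatrix_apply,
            ← RingHom.map_det, M.2, map_one]⟩, (mem_SU_iff hσq _).2 (hmem M)⟩
      map_one' := Subtype.ext (Subtype.ext (by
        show P * ((1 : Matrix (Fin 2) (Fin 2) K).map ι) * P⁻¹ = 1
        rw [Matrix.map_one ι (map_zero ι) (map_one ι), mul_one, hPi]))
      map_mul' := fun M N => Subtype.ext (Subtype.ext (by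
        show P * ((M.1 * N.1).map ι) * P⁻¹ = (P * M.1.map ι * P⁻¹) * (P * N.1.map ι * P⁻¹)
        rw [Matrix.map_mul]
        calc P * (M.1.map ι * N.1.map ι) * P⁻¹ = P * M.1.map ι * (P⁻¹ * P) * N.1.map ι * P⁻¹ := by
              rw [hiP, mul_one]; simp only [Matrix.mul_assoc]
          _ = _ := by simp only [Matrix.mul_assoc])) }
  refine ⟨(MulEquiv.ofBijective Φ ⟨fun M N h => ?_, fun A => ?_⟩).symm⟩
  · have h1 : P * M.1.map ι * P⁻¹ = P * N.1.map ι * P⁻¹ :=
      congrArg (fun X : Cfsg.SU 2 F q => ((X : SpecialLinearGroup (Fin 2) F) : Matrix (Fin 2) (Fin 2) F)) h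
    have h2 := congrArg (fun X => P⁻¹ * X * P) h1
    simp only [Matrix.mul_assoc, hiP, mul_one] at h2
    simp only [← Matrix.mul_assoc, hiP, one_mul] at h2
    exact Subtype.ext (Matrix.map_injective ι.injective h2)
  · set X := P⁻¹ * A.1.1 * P with hX
    have hXd : X.det = 1 := by
      rw [hX, Matrix.det_conj' ((Matrix.isUnit_iff_isUnit_det P).2 hdetP)]; exact A.1.2
    have hA := (preserves_iff_mul A.1.1).1 ((mem_SU_iff hσq _).1 A.2)
    have h1 : (X.map σ)ᵀ * skewJ k * X = skewJ k := by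
      rw [hX, ← hP, map_mul_hom, map_mul_hom, Matrix.transpose_mul, Matrix.transpose_mul]
      calc (P.map σ)ᵀ * ((A.1.1.map σ)ᵀ * (P⁻¹.map σ)ᵀ) * ((P.map σ)ᵀ * P) * (P⁻¹ * A.1.1 * P)
          = (P.map σ)ᵀ * ((A.1.1.map σ)ᵀ * (((P⁻¹.map σ)ᵀ * (P.map σ)ᵀ) * (P * P⁻¹) * A.1.1)) * P := by
            simp only [Matrix.mul_assoc]
        _ = _ := by
          rw [hPi, ← Matrix.transpose_mul, ← map_mul_hom, hPi, Matrix.map_one σ (map_zero σ) (map_one σ),
            Matrix.transpose_one, one_mul, one_mul, hA, mul_one]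
    have h2 : Xᵀ * skewJ k * X = skewJ k := by rw [transpose_skewJ_mul, hXd, one_smul]
    have hJX : IsUnit (skewJ k * X).det := by
      rw [Matrix.det_mul, hXd, mul_one]
      simp [skewJ, Matrix.det_fin_two, hk0]
    have hfix : X.map σ = X := by
      refine Matrix.transpose_injective ?_
      have := h1.trans h2.symm
      rw [Matrix.mul_assoc, Matrix.mul_assoc] at this
      exact ((Matrix.isUnit_iff_isUnit_det _).2 hJX).mul_left_inj.1 this
    choose y hy using fun i j => hιs (X i j) (congrFun (congrFun hfix i) j)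
    have hyM : (Matrix.of y).map ι = X := by ext i j; simp [hy]
    have hyd : (Matrix.of y).det = 1 := by
      apply ι.injective
      rw [RingHom.map_det, RingHom.mapMatrix_apply, hyM, hXd, map_one]
    refine ⟨⟨Matrix.of y, hyd⟩, Subtype.ext (Subtype.ext ?_)⟩
    show P * (Matrix.of y).map ι * P⁻¹ = A.1.1
    rw [hyM, hX]
    calc P * (P⁻¹ * A.1.1 * P) * P⁻¹ = (P * P⁻¹) * A.1.1 * (P * P⁻¹) := by simp only [Matrix.mul_assoc]
      _ = _ := by rw [hPi, one_mul, mul_one]

theorem center_GU_scalar (hσ : IsInvol σ) (hσq : ∀ x, σ x = x ^ q) (hq : Nat.card (fixField σ) = q) (hn : 1 ≤ n)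
    {g : Cfsg.GU n F q} (hg : g ∈ Subgroup.center (Cfsg.GU n F q)) :
    ∃ a : F, g.1.1 = Matrix.scalar (Fin n) a := by
  classical
  have hcomm : ∀ x : GL (Fin n) F, x ∈ Cfsg.GU n F q → x.1 * g.1.1 = g.1.1 * x.1 := fun x hx =>
    congrArg (fun z : Cfsg.GU n F q => z.1.1) (Subgroup.mem_center_iff.1 hg ⟨x, hx⟩)
  obtain ⟨ζ, hζ1, hζ⟩ : ∃ ζ : Fˣ, ζ ≠ 1 ∧ (ζ : F) * σ ζ = 1 := by
    have : 1 < Nat.card (normHom σ).ker := by
      rw [card_ker_normHom hσ, hq]
      have : 1 < q := hq ▸ Finite.one_lt_card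
      omega
    have := Finite.one_lt_card_iff_nontrivial.1 this
    obtain ⟨z, hz⟩ := exists_ne (1 : (normHom σ).ker)
    exact ⟨z.1, fun h => hz (Subtype.ext h), congrArg Units.val z.2⟩
  have hdiag : ∀ i j, i ≠ j → g.1.1 i j = 0 := fun i j hij => by
    have h := congrFun (congrFun (hcomm _ (diag_mem hσq (fun l => if l = i then ζ else 1) (fun l => by
      by_cases hl : l = i <;> simp [hl, hζ]))) i) j
    rw [diagGL_coe, Matrix.diagonal_mul, Matrix.mul_diagonal] at h
    simp [hij.symm] at h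
    by_contra hne
    exact hζ1 (Units.ext (mul_right_cancel₀ hne (by rw [Units.val_one, one_mul]; linear_combination h)))
  refine ⟨g.1.1 ⟨0, hn⟩ ⟨0, hn⟩, ?_⟩
  ext i j
  by_cases hij : i = j
  swap
  · simpa [hij] using hdiag i j hij
  subst hij
  let s := Equiv.swap (⟨0, hn⟩ : Fin n) i
  have hu : IsUnit (s.permMatrix F).det := by
    rw [Matrix.det_permutation]
    rcases Int.units_eq_one_or (Equiv.Perm.sign s) with h | h <;> simp [h]
  have hs : Matrix.GeneralLinearGroup.mk'' (s.permMatrix F) hu ∈ Cfsg.GU n F q := by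
    rw [mem_GU_iff hσq]
    intro u v
    show hermB n σ (s.permMatrix F *ᵥ u) (s.permMatrix F *ᵥ v) = _
    rw [Matrix.permMatrix_mulVec, Matrix.permMatrix_mulVec, hermB_apply, hermB_apply]
    exact Equiv.sum_comp s fun l => σ (u l) * v l
  have h := congrFun (congrFun (hcomm _ hs) ⟨0, hn⟩) i
  change (s.permMatrix F * g.1.1) ⟨0, hn⟩ i = (g.1.1 * s.permMatrix F) ⟨0, hn⟩ i at h
  rw [Equiv.Perm.permMatrix, PEquiv.toMatrix_toPEquiv_mul, PEquiv.mul_toMatrix_toPEquiv] at h
  simp [s] at h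
  simpa using h

theorem gu_quotient_cyclic (hσ : IsInvol σ) (hσq : ∀ x, σ x = x ^ q) (hq : Nat.card (fixField σ) = q) (hn : 1 ≤ n) :
    ∃ φ : ↥(Cfsg.GU n F q) →* Multiplicative (ZMod (Nat.gcd n (q + 1))), Function.Surjective φ ∧
      φ.ker = (Matrix.GeneralLinearGroup.det : GL (Fin n) F →* Fˣ).ker.subgroupOf (Cfsg.GU n F q)
        ⊔ Subgroup.center ↥(Cfsg.GU n F q) := by
  classical
  set C := (normHom σ).ker
  have hC : Nat.card C = q + 1 := by rw [card_ker_normHom hσ, hq]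
  let δ : Cfsg.GU n F q →* C :=
    (Matrix.GeneralLinearGroup.det.comp (Cfsg.GU n F q).subtype).codRestrict _ fun g =>
      Units.ext (det_norm_GU hσq g.2)
  have hδ : ∀ g, ((δ g).1 : Fˣ) = Matrix.GeneralLinearGroup.det g.1 := fun g => rfl
  have hsurj : Function.Surjective δ := fun ζ => by
    refine ⟨⟨diagGL (Function.update 1 ⟨0, hn⟩ ζ.1), diag_mem hσq _ fun i => ?_⟩, Subtype.ext (Units.ext ?_)⟩
    · by_cases hi : i = ⟨0, hn⟩
      · subst hi
        rw [Function.update_self]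
        exact congrArg Units.val ζ.2
      · simp [hi]
    · change (diagGL (Function.update (1 : Fin n → Fˣ) (⟨0, hn⟩ : Fin n) ζ.1)).1.det = _
      rw [det_diagGL]
      simp [Function.update_apply, apply_ite Units.val, Finset.prod_ite_eq']
  let E : Multiplicative (ZMod (q + 1)) ≃* C := hC ▸ zmodCyclicMulEquiv (G := C) inferInstance
  let π : Multiplicative (ZMod (q + 1)) →* Multiplicative (ZMod (Nat.gcd n (q + 1))) :=
    AddMonoidHom.toMultiplicative (ZMod.castHom (Nat.gcd_dvd_right n (q + 1)) (ZMod (Nat.gcd n (q + 1)))).toAddMonoidHom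
  have hπ : Function.Surjective π := fun y => by
    obtain ⟨x, hx⟩ := ZMod.castHom_surjective (Nat.gcd_dvd_right n (q + 1)) y.toAdd
    exact ⟨Multiplicative.ofAdd x, congrArg Multiplicative.ofAdd hx⟩
  refine ⟨π.comp (E.symm.toMonoidHom.comp δ), hπ.comp (E.symm.surjective.comp hsurj), ?_⟩
  have hker : ∀ x : C, π (E.symm x) = 1 ↔ ∃ z : C, z ^ n = x := by
    intro x
    constructor
    · intro hx
      set a : ZMod (q + 1) := (E.symm x).toAdd
      have ha : ((a.val : ℕ) : ZMod (Nat.gcd n (q + 1))) = 0 := by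
        rw [ZMod.natCast_val]
        exact congrArg Multiplicative.toAdd hx
      obtain ⟨c, hc⟩ := (ZMod.natCast_eq_zero_iff _ _ |>.1 ha)
      refine ⟨E (Multiplicative.ofAdd ((Nat.gcdA n (q + 1) * c : ℤ) : ZMod (q + 1))), ?_⟩
      rw [← map_pow, ← E.apply_symm_apply x]
      congr 1
      rw [← ofAdd_nsmul, ← ofAdd_toAdd (E.symm x)]
      congr 1
      have hbz := Nat.gcd_eq_gcd_ab n (q + 1)
      have : (a.val : ℤ) = n * (Nat.gcdA n (q + 1) * c) + (q + 1 : ℕ) * (Nat.gcdB n (q + 1) * c) := by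
        rw [hc]; push_cast at hbz ⊢; linear_combination (c : ℤ) * hbz
      have h2 := congrArg (fun z : ℤ => (z : ZMod (q + 1))) this
      simp at h2
      rw [nsmul_eq_mul]
      push_cast
      linear_combination -h2
    · rintro ⟨z, rfl⟩
      rw [map_pow, map_pow]
      refine Multiplicative.toAdd.injective ?_
      rw [toAdd_pow, nsmul_eq_mul, (ZMod.natCast_eq_zero_iff _ _).2 (Nat.gcd_dvd_left n (q + 1)), zero_mul,
        toAdd_one]
  apply le_antisymm
  · intro g hg
    obtain ⟨z, hz⟩ := (hker (δ g)).1 hg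
    have hzn : ((z.1 : Fˣ) : F) * σ ((z.1 : Fˣ) : F) = 1 := congrArg Units.val z.2
    let S : Cfsg.GU n F q := ⟨diagGL fun _ => z.1, diag_mem hσq _ fun _ => hzn⟩
    have hS : S ∈ Subgroup.center (Cfsg.GU n F q) := Subgroup.mem_center_iff.2 fun y => by
      refine Subtype.ext (Units.ext ?_)
      show y.1.1 * (diagGL fun _ => z.1).1 = (diagGL fun _ => z.1).1 * y.1.1
      rw [diagGL_coe]
      ext i j
      rw [Matrix.mul_diagonal, Matrix.diagonal_mul, mul_comm]
    rw [← inv_mul_cancel_right g S]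
    refine Subgroup.mul_mem_sup ?_ hS
    rw [Subgroup.mem_subgroupOf, MonoidHom.mem_ker, Subgroup.coe_mul, Subgroup.coe_inv, map_mul, map_inv,
      mul_inv_eq_one, ← hδ g, ← hz]
    refine Units.ext ?_
    show ((z ^ n).1 : F) = (diagGL fun _ => z.1).1.det
    rw [det_diagGL, Finset.prod_const, Finset.card_univ, Fintype.card_fin, Subgroup.coe_pow, Units.val_pow_eq_pow_val]
  · refine sup_le ?_ ?_
    · intro g hg
      refine (hker (δ g)).2 ⟨1, ?_⟩
      rw [one_pow]
      exact Subtype.ext hg.symm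
    · intro g hg
      obtain ⟨a, ha⟩ := center_GU_scalar hσ hσq hq hn hg
      have ha0 : a ≠ 0 := fun h0 => by
        have := det_norm_GU hσq g.2
        rw [ha, h0] at this
        have : Nonempty (Fin n) := ⟨⟨0, hn⟩⟩
        simp_all [Matrix.det_zero]
      have hn1 : a * σ a = 1 := by
        have h1 := (preserves_iff_mul g.1.1).1 ((mem_GU_iff hσq _).1 g.2)
        have h2 := congrFun (congrFun h1 ⟨0, hn⟩) ⟨0, hn⟩
        simp [ha, Matrix.mul_apply, Matrix.diagonal_apply] at h2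
        linear_combination h2
      refine (hker (δ g)).2 ⟨⟨Units.mk0 a ha0, Units.ext hn1⟩, Subtype.ext (Units.ext ?_)⟩
      rw [hδ, Matrix.GeneralLinearGroup.val_det_apply, ha]
      simp

end Cfsg.Agent.Classical
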