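import Mathlib
import Cfsg.Agent.Classical.Klein
import Cfsg.Agent.Classical.ExcSmall
import Cfsg.Agent.Classical.SympGroup
import Cfsg.Agent.Classical.UnitarySmall
import Cfsg.Agent.Classical.UnitaryGroup

/-!
The exceptional isomorphisms in dimensions five and six from the Klein correspondence.
-/

set_option autoImplicit false

namespace Cfsg.Agent.Classical.Exc

open Module QuadraticMap Matrix Klein
open scoped commutatorElement

variable {F : Type*} [Field F]

theorem scalar_central4 {g : Matrix (Fin 4) (Fin 4) F} (h : g = Matrix.scalar (Fin 4) (g 0 0))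
    (y : Matrix (Fin 4) (Fin 4) F) : y * g = g * y := by
  rw [h]
  exact ((Matrix.scalar_commute _ (fun _ => Commute.all _ _) _).symm).eq

theorem scalar_sq4 {g : Matrix (Fin 4) (Fin 4) F} (h : g = Matrix.scalar (Fin 4) (g 0 0)) (h' : g 0 0 * g 0 0 = 1) :
    g * g = 1 := by
  rw [h, ← map_mul, h', map_one]

open scoped _root_.Classical in
/-- An upper bound for the derived group's order. -/
theorem comm_card_bound {V : Type*} [Finite F] [AddCommGroup V] [Module F V] [FiniteDimensional F V] [Finite V]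
    {Q : QuadraticForm F V} (hQ : (polarBilin Q).Nondegenerate) (hn : 5 ≤ finrank F V) {S k L : ℕ}
    (hk : k ≤ if (2 : F) = 0 then 1 else 2) (hO : Nat.card (Quad.oG Q) = 2 * L) (hS : L ≤ S) :
    Nat.card (commutator (Quad.oG Q)) * k ≤ S := by
  classical
  have h5 := Nat.mul_le_mul_left (Nat.card (commutator (Quad.oG Q))) hk
  split_ifs at h5 with h2
  · have h1 := card_commutator_two hQ h2 (Or.inr (by omega)) (by omega)
    omega
  · have h1 := card_commutator_odd hQ h2 (by omega)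
    omega

open scoped _root_.Classical in
theorem two_le_bound {S : Type*} [Group S] [Finite S] (K : Subgroup S) (v : S → F) (hv : Set.InjOn v K)
    (hsq : ∀ x ∈ K, v x * v x = 1) : Nat.card K ≤ if (2 : F) = 0 then 1 else 2 := by
  classical
  let f : K → ({1, -1} : Finset F) := fun x => ⟨v x.1, by
    rcases mul_self_eq_one_iff.1 (hsq x.1 x.2) with h | h <;> simp [h]⟩
  have h := Nat.card_le_card_of_injective f fun x y e => Subtype.ext (hv x.2 y.2 (congrArg Subtype.val e))
  refine h.trans ?_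
  rw [Nat.card_eq_finsetCard]
  split_ifs with h2
  · rw [show (-1 : F) = 1 by linear_combination -h2]; simp
  · exact Finset.card_le_two

section linear

theorem sl4_ker {g : SpecialLinearGroup (Fin 4) F} (hg : g ∈ (kleinHom (F := F)).ker) :
    g.1 = Matrix.scalar (Fin 4) (g.1 0 0) ∧ g.1 0 0 * g.1 0 0 = 1 :=
  comp2_eq_one (comp2_eq_one_of_fix fun x => by
    rw [← kleinHom_apply, MonoidHom.mem_ker.1 hg]; rfl)

variable [Fintype F]

theorem pomega_six_plus :
    Nonempty (Cfsg.POmega F (Cfsg.quadFormPlus 3 F) ≃* ProjectiveSpecialLinearGroup (Fin 4) F) := by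
  classical
  have hQ := Quad.nondeg_plusQ (F := F) (m := 3)
  have hd : finrank F (Fin 3 ⊕ Fin 3 → F) = 6 := Quad.finrank_plus
  have := oG_finite (Quad.plusQ F 3)
  have hp : commutator (SpecialLinearGroup (Fin 4) F) = ⊤ := commutator_sl_eq_top (Or.inl (by simp))
  obtain ⟨e1⟩ := pomega_equiv (Q := Quad.plusQ F 3) (Q' := Cfsg.quadFormPlus 3 F) (LinearEquiv.refl F _)
    fun x => congrFun Quad.coe_plusQ x
  obtain ⟨e2⟩ := quot_equiv_of_good (kleinHom (F := F)) (Or.inl hp) (Or.inl hp)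
    (fun g hg => Subgroup.mem_center_iff.2 fun y => Subtype.ext (scalar_central4 (sl4_ker hg).1 y.1))
    (fun g hg => Subtype.ext (scalar_sq4 (sl4_ker hg).1 (sl4_ker hg).2)) (by
      refine comm_card_bound hQ (by omega) (two_le_bound _ (fun g => g.1 0 0) (fun x hx y hy e => Subtype.ext ?_)
        fun x hx => (sl4_ker hx).2) (L := Nat.card (SpecialLinearGroup (Fin 4) F)) ?_ le_rfl
      · rw [(sl4_ker hx).1, (sl4_ker hy).1]; exact congrArg _ e
      rw [Nat.card_congr (Quad.oCongr (Q₂ := Quad.hyp (Quad.zeroForm F) 3) (Quad.plusCoord 3) fun x => rfl).toEquiv,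
        Quad.card_oG_plus rfl 2]
      have h1 := card_sl_mul (F := F) rfl 4 (by norm_num)
      have hq : 2 ≤ Fintype.card F := Fintype.one_lt_card
      generalize Fintype.card F = q at h1 hq ⊢
      generalize Nat.card (SpecialLinearGroup (Fin 4) F) = L at h1 ⊢
      simp [Fin.prod_univ_four, Finset.prod_range_succ] at h1 ⊢
      obtain ⟨r, rfl⟩ : ∃ r, q = r + 1 := ⟨q - 1, by omega⟩
      have f1 : (r + 1) ^ 4 - (r + 1) = (r + 1) * ((r + 1) ^ 3 - 1) := by rw [Nat.mul_sub_one]; ring_nf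
      have f2 : (r + 1) ^ 4 - (r + 1) ^ 2 = (r + 1) ^ 2 * ((r + 1) ^ 2 - 1) := by rw [Nat.mul_sub_one]; ring_nf
      have f3 : (r + 1) ^ 4 - (r + 1) ^ 3 = (r + 1) ^ 3 * r := by
        rw [show (r + 1) ^ 4 = (r + 1) ^ 3 + (r + 1) ^ 3 * r by ring, Nat.add_sub_cancel_left]
      rw [f1, f2, f3, Nat.add_sub_cancel] at h1
      have hL : L = ((r + 1) ^ 4 - 1) * ((r + 1) * ((r + 1) ^ 3 - 1)) * ((r + 1) ^ 2 * ((r + 1) ^ 2 - 1)) * (r + 1) ^ 3 :=
        Nat.eq_of_mul_eq_mul_left (by omega : 0 < r) (h1.trans (by ring))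
      rw [hL]
      ring)
  exact ⟨e1.trans e2⟩

end linear

section symplectic

/-- Four by four matrices from symplectic ones. -/
def spToFour : Matrix (Fin 2 ⊕ Fin 2) (Fin 2 ⊕ Fin 2) F ≃ₐ[F] Matrix (Fin 4) (Fin 4) F :=
  Matrix.reindexAlgEquiv F F (finSumFinEquiv (m := 2) (n := 2))

/-- The symplectic form as a bivector. -/
def omegaVec (F : Type*) [Field F] : Fin 3 ⊕ Fin 3 → F := Sum.elim ![0, 1, 0] ![0, -1, 0]

/-- The symplectic form in the four coordinates. -/
def omegaMat (F : Type*) [Field F] : Matrix (Fin 4) (Fin 4) F := !![0, 0, 1, 0; 0, 0, 0, 1; -1, 0, 0, 0; 0, -1, 0, 0]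

theorem spToFour_J : spToFour (Matrix.J (Fin 2) F) = -omegaMat F := by
  ext i j
  show (Matrix.J (Fin 2) F) (finSumFinEquiv.symm i) (finSumFinEquiv.symm j) = _
  fin_cases i <;> fin_cases j <;> simp [Matrix.J, omegaMat, finSumFinEquiv, Fin.addCases]

theorem spToFour_transpose (A : Matrix (Fin 2 ⊕ Fin 2) (Fin 2 ⊕ Fin 2) F) : spToFour Aᵀ = (spToFour A)ᵀ := rfl

theorem spToFour_omega {A : Matrix (Fin 2 ⊕ Fin 2) (Fin 2 ⊕ Fin 2) F} (hA : A ∈ symplecticGroup (Fin 2) F) :
    spToFour A * omegaMat F * (spToFour A)ᵀ = omegaMat F := by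
  have h := congrArg spToFour (SymplecticGroup.mem_iff.1 hA)
  rw [map_mul, map_mul, spToFour_transpose, spToFour_J, Matrix.mul_neg, Matrix.neg_mul, neg_inj] at h
  exact h

theorem comp2_omega {g : Matrix (Fin 4) (Fin 4) F} (h : g * omegaMat F * gᵀ = omegaMat F) :
    comp2 g *ᵥ omegaVec F = omegaVec F := by
  funext t
  have e := congrFun (congrFun h (pa t)) (pb t)
  have e' : omegaMat F (pa t) (pb t) = omegaVec F t := by
    rcases t with i | i <;> fin_cases i <;> simp [omegaMat, omegaVec, pa, pb]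
  rw [e'] at e
  refine Eq.trans ?_ e
  show ∑ s, comp2 g t s * omegaVec F s = _
  simp [comp2, wedge, pa, pb, omegaVec, omegaMat, Fintype.sum_sum_type, Fin.sum_univ_three, Matrix.mul_apply,
    Fin.sum_univ_four]
  ring

/-- Coordinates on the perpendicular of the symplectic bivector. -/
def perpEmb (F : Type*) [Field F] : (((Fin 2 → F) × (Fin 2 → F)) × F) →ₗ[F] (Fin 3 ⊕ Fin 3 → F) where
  toFun v := Sum.elim ![v.1.1 0, v.2, v.1.1 1] ![v.1.2 0, v.2, v.1.2 1]
  map_add' v w := by funext i; rcases i with i | i <;> fin_cases i <;> simp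
  map_smul' c v := by funext i; rcases i with i | i <;> fin_cases i <;> simp

/-- Reading off the coordinates. -/
def perpProj (F : Type*) [Field F] : (Fin 3 ⊕ Fin 3 → F) →ₗ[F] (((Fin 2 → F) × (Fin 2 → F)) × F) where
  toFun x := ((![x (.inl 0), x (.inl 2)], ![x (.inr 0), x (.inr 2)]), x (.inl 1))
  map_add' v w := by refine Prod.ext (Prod.ext ?_ ?_) rfl <;> (funext i; fin_cases i <;> simp)
  map_smul' c v := by refine Prod.ext (Prod.ext ?_ ?_) rfl <;> (funext i; fin_cases i <;> simp)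

theorem perpProj_emb (v : ((Fin 2 → F) × (Fin 2 → F)) × F) : perpProj F (perpEmb F v) = v := by
  refine Prod.ext (Prod.ext ?_ ?_) rfl <;> (funext i; fin_cases i <;> simp [perpProj, perpEmb])

theorem emb_perpProj {x : Fin 3 ⊕ Fin 3 → F} (hx : x (.inr 1) = x (.inl 1)) : perpEmb F (perpProj F x) = x := by
  funext i
  rcases i with i | i <;> fin_cases i <;> simp [perpProj, perpEmb, hx]

theorem plusQ_perpEmb (v : ((Fin 2 → F) × (Fin 2 → F)) × F) :
    Quad.plusQ F 3 (perpEmb F v) = Quad.hyp (Quad.sqForm F) 2 v := by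
  simp [Quad.plusQ_apply, Quad.hyp_apply, Quad.sqForm, perpEmb, Fin.sum_univ_three, Fin.sum_univ_two]
  ring

theorem polar_omega (x : Fin 3 ⊕ Fin 3 → F) :
    polar (Quad.plusQ F 3) x (omegaVec F) = x (.inr 1) - x (.inl 1) := by
  simp [Quad.polar_plusQ, omegaVec, Fin.sum_univ_three]
  ring

/-- The determinant one matrix of a symplectic one. -/
noncomputable def spToSL : symplecticGroup (Fin 2) F →* SpecialLinearGroup (Fin 4) F :=
  MonoidHom.mk' (fun A => ⟨spToFour A.1, by
    show (Matrix.reindex _ _ A.1).det = 1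
    rw [Matrix.det_reindex_self]
    exact SymplecticGroup.det_eq_one A.2⟩)
    fun A B => Subtype.ext (map_mul (spToFour (F := F)) A.1 B.1)

theorem klein_sp_mem (A : symplecticGroup (Fin 2) F) (v : ((Fin 2 → F) × (Fin 2 → F)) × F) :
    ((kleinHom (spToSL A)).1 (perpEmb F v)) (.inr 1) = ((kleinHom (spToSL A)).1 (perpEmb F v)) (.inl 1) := by
  have h1 := Quad.polar_eq_of_mem (kleinHom (spToSL A)).2 (perpEmb F v) (omegaVec F)
  have h2 : (kleinHom (spToSL A)).1 (omegaVec F) = omegaVec F := by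
    rw [kleinHom_apply]
    exact comp2_omega (spToFour_omega A.2)
  rw [h2, polar_omega, polar_omega] at h1
  rw [show perpEmb F v (.inr 1) - perpEmb F v (.inl 1) = 0 by simp [perpEmb], sub_eq_zero] at h1
  exact h1

/-- The action of a symplectic matrix on the perpendicular. -/
noncomputable def fiveMap (A : symplecticGroup (Fin 2) F) :
    (((Fin 2 → F) × (Fin 2 → F)) × F) →ₗ[F] (((Fin 2 → F) × (Fin 2 → F)) × F) :=
  (perpProj F).comp (((kleinHom (spToSL A)).1 : (Fin 3 ⊕ Fin 3 → F) →ₗ[F] (Fin 3 ⊕ Fin 3 → F)).comp (perpEmb F))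

theorem perpEmb_fiveMap (A : symplecticGroup (Fin 2) F) (v : ((Fin 2 → F) × (Fin 2 → F)) × F) :
    perpEmb F (fiveMap A v) = (kleinHom (spToSL A)).1 (perpEmb F v) :=
  emb_perpProj (klein_sp_mem A v)

theorem perpEmb_injective : Function.Injective (perpEmb F) := Function.LeftInverse.injective perpProj_emb

theorem fiveMap_one (v : ((Fin 2 → F) × (Fin 2 → F)) × F) : fiveMap 1 v = v :=
  perpEmb_injective (by rw [perpEmb_fiveMap, map_one, map_one]; rfl)

theorem fiveMap_mul (A B : symplecticGroup (Fin 2) F) (v : ((Fin 2 → F) × (Fin 2 → F)) × F) :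
    fiveMap (A * B) v = fiveMap A (fiveMap B v) :=
  perpEmb_injective (by rw [perpEmb_fiveMap, perpEmb_fiveMap, perpEmb_fiveMap, map_mul, map_mul]; rfl)

/-- The action as linear automorphisms. -/
noncomputable def fiveEquiv (A : symplecticGroup (Fin 2) F) :
    (((Fin 2 → F) × (Fin 2 → F)) × F) ≃ₗ[F] (((Fin 2 → F) × (Fin 2 → F)) × F) :=
  LinearEquiv.ofLinearMap (fiveMap A) (fiveMap A⁻¹)
    (LinearMap.ext fun v => by rw [LinearMap.comp_apply, ← fiveMap_mul, mul_inv_cancel, fiveMap_one]; rfl)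
    (LinearMap.ext fun v => by rw [LinearMap.comp_apply, ← fiveMap_mul, inv_mul_cancel, fiveMap_one]; rfl)

theorem fiveEquiv_apply (A : symplecticGroup (Fin 2) F) (v : ((Fin 2 → F) × (Fin 2 → F)) × F) :
    fiveEquiv A v = fiveMap A v := rfl

theorem fiveEquiv_mul (A B : symplecticGroup (Fin 2) F) : fiveEquiv (A * B) = fiveEquiv A * fiveEquiv B :=
  LinearEquiv.ext fun v => by
    rw [LinearEquiv.mul_apply, fiveEquiv_apply, fiveEquiv_apply, fiveEquiv_apply, fiveMap_mul]

theorem fiveEquiv_mem (A : symplecticGroup (Fin 2) F) : fiveEquiv A ∈ Quad.oG (Quad.hyp (Quad.sqForm F) 2) :=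
  fun v => by
    rw [fiveEquiv_apply, ← plusQ_perpEmb, ← plusQ_perpEmb, perpEmb_fiveMap]
    exact (kleinHom (spToSL A)).2 _

/-- Symplectic four by four matrices on the orthogonal space of dimension five. -/
noncomputable def fiveHom : symplecticGroup (Fin 2) F →* Quad.oG (Quad.hyp (Quad.sqForm F) 2) :=
  (MonoidHom.mk' fiveEquiv fiveEquiv_mul).codRestrict _ fiveEquiv_mem

theorem fiveHom_ker (h2 : (2 : F) ≠ 0) {A : symplecticGroup (Fin 2) F} (hA : A ∈ (fiveHom (F := F)).ker) :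
    spToFour A.1 = Matrix.scalar (Fin 4) (spToFour A.1 0 0) ∧ spToFour A.1 0 0 * spToFour A.1 0 0 = 1 := by
  refine comp2_eq_one (comp2_eq_one_of_fix fun x => ?_)
  have hv : ∀ v, fiveMap A v = v := fun v =>
    congrArg (fun k : Quad.oG (Quad.hyp (Quad.sqForm F) 2) => k.1 v) hA
  have hw : comp2 (spToFour A.1) *ᵥ omegaVec F = omegaVec F := comp2_omega (spToFour_omega A.2)
  let c : F := (x (.inl 1) - x (.inr 1)) / 2
  have hx : x = perpEmb F (perpProj F (x - c • omegaVec F)) + c • omegaVec F := by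
    rw [emb_perpProj, sub_add_cancel]
    simp [omegaVec, c]
    field_simp
    ring
  rw [hx, Matrix.mulVec_add, Matrix.mulVec_smul, hw]
  congr 1
  have := congrArg (perpEmb F) (hv (perpProj F (x - c • omegaVec F)))
  rwa [perpEmb_fiveMap] at this

variable [Fintype F]

theorem pomega_five (hodd : Odd (Fintype.card F)) :
    Nonempty (Cfsg.POmega F (Cfsg.quadFormOdd 2 F) ≃* Cfsg.PSp 2 F) := by
  classical
  have h2 : (2 : F) ≠ 0 := fun h => by
    have : CharP F 2 := CharTwo.of_one_ne_zero_of_two_eq_zero one_ne_zero h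
    obtain ⟨n, -, hn⟩ := FiniteField.card F 2
    rw [hn, Nat.odd_pow_iff n.pos.ne'] at hodd
    exact absurd hodd (by decide)
  have hq3 : 3 ≤ Fintype.card F := by
    have := Fintype.one_lt_card (α := F)
    obtain ⟨k, hk⟩ := hodd
    omega
  have hQ : (polarBilin (Quad.hyp (Quad.sqForm F) 2)).Nondegenerate := Quad.nondeg_hyp (Quad.nondeg_sqForm h2) 2
  have hd : finrank F (((Fin 2 → F) × (Fin 2 → F)) × F) = 5 := by simp [Module.finrank_prod]
  have := oG_finite (Quad.hyp (Quad.sqForm F) 2)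
  have hp : commutator (symplecticGroup (Fin 2) F) = ⊤ := commutator_symplectic (Or.inr (Or.inl ⟨rfl, hq3⟩))
  obtain ⟨e1⟩ := pomega_equiv (Q := Quad.hyp (Quad.sqForm F) 2) (Q' := Cfsg.quadFormOdd 2 F) (Quad.oddCoord 2)
    (Quad.oddCoord_map 2)
  obtain ⟨e2⟩ := quot_equiv_of_good (fiveHom (F := F)) (Or.inl hp) (Or.inl hp)
    (fun g hg => Subgroup.mem_center_iff.2 fun y => Subtype.ext (spToFour.injective (by
      show spToFour (y.1 * g.1) = spToFour (g.1 * y.1)
      rw [map_mul, map_mul]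
      exact scalar_central4 (fiveHom_ker h2 hg).1 _)))
    (fun g hg => Subtype.ext (spToFour.injective (by
      show spToFour (g.1 * g.1) = spToFour 1
      rw [map_mul, map_one]
      exact scalar_sq4 (fiveHom_ker h2 hg).1 (fiveHom_ker h2 hg).2))) (by
      refine comm_card_bound hQ (by omega) (two_le_bound _ (fun g => spToFour g.1 0 0)
        (fun x hx y hy e => Subtype.ext (spToFour.injective ?_)) fun x hx => (fiveHom_ker h2 hx).2)
        (L := Nat.card (symplecticGroup (Fin 2) F)) ?_ le_rfl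
      · rw [(fiveHom_ker h2 hx).1, (fiveHom_ker h2 hy).1]; exact congrArg _ e
      rw [Quad.card_oG_odd rfl h2 2, card_symplecticGroup rfl 2]
      ring)
  exact ⟨e1.trans e2⟩

end symplectic

section unitary

variable {K : Type*} [Field K] [Fintype K] {σ : K →+* K}

theorem commutator_su_four {q : ℕ} (hσ : Herm.IsInvol σ) (hσq : ∀ x, σ x = x ^ q)
    (hq : Nat.card (Herm.fixField σ) = q) : commutator (Cfsg.SU 4 K q) = ⊤ := by
  have hB := hermB_isHerm hσ 4
  rw [eq_top_iff, ← closure_unitaryTransvection hσ hσq hq (by norm_num) (by omega : ¬((4 : ℕ) = 3 ∧ q = 2)),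
    Subgroup.closure_le]
  rintro A ⟨v, c, hv, hA⟩
  obtain ⟨c', hc', hA'⟩ := transvection_mem_cases hσ hσq A hv hA
  obtain ⟨x, y, hxy⟩ := Herm.tvU_eq_comm hB (by rw [Module.finrank_fin_fun]; norm_num) hv hc'
  obtain ⟨x, rfl⟩ := (suEquiv 4 hσq).surjective x
  obtain ⟨y, rfl⟩ := (suEquiv 4 hσq).surjective y
  have e : A = ⁅x, y⁆ := (suEquiv 4 hσq).injective (Subtype.ext (by rw [hA', map_commutatorElement, hxy]))
  rw [SetLike.mem_coe, e]
  exact Subgroup.commutator_mem_commutator (Subgroup.mem_top _) (Subgroup.mem_top _)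

theorem su_four_mul {q : ℕ} (hσq : ∀ x, σ x = x ^ q) (A : Cfsg.SU 4 K q) : (A.1.1.map σ)ᵀ * A.1.1 = 1 :=
  (preserves_iff_mul _).1 fun u v => by
    rw [← suEquiv_apply hσq A u, ← suEquiv_apply hσq A v]
    exact (suEquiv 4 hσq A).2.1 u v

variable (hσ : Herm.IsInvol σ)

/-- The semilinear involution on bivectors. -/
def starJ (σ : K →+* K) (x : Fin 3 ⊕ Fin 3 → K) : Fin 3 ⊕ Fin 3 → K := fun s => σ (x s.swap)

omit [Fintype K] in
theorem polar_starJ (x y : Fin 3 ⊕ Fin 3 → K) :
    polar (Quad.plusQ K 3) (starJ σ x) y = ∑ s, σ (x s) * y s := by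
  simp only [Quad.polar_plusQ, starJ, Fintype.sum_sum_type, Finset.sum_add_distrib, Sum.swap_inl, Sum.swap_inr]
  rw [add_comm]
  simp only [mul_comm]

omit [Fintype K] in
theorem comp2_starJ {g : SpecialLinearGroup (Fin 4) K} (hg : (g.1.map σ)ᵀ * g.1 = 1) (x : Fin 3 ⊕ Fin 3 → K) :
    comp2 g.1 *ᵥ starJ σ x = starJ σ (comp2 g.1 *ᵥ x) := by
  have hN : ((comp2 g.1).map σ)ᵀ * comp2 g.1 = 1 := by
    rw [comp2_map, comp2_transpose, ← comp2_mul, hg, comp2_one]
  refine sub_eq_zero.1 (Quad.eq_zero_of_polar Quad.nondeg_plusQ fun w => ?_)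
  obtain ⟨y, rfl⟩ : ∃ y, comp2 g.1 *ᵥ y = w :=
    ⟨((comp2 g.1).map σ)ᵀ *ᵥ w, by rw [Matrix.mulVec_mulVec, mul_eq_one_comm.1 hN, Matrix.one_mulVec]⟩
  have h1 := Quad.polar_eq_of_mem (kleinHom g).2 (starJ σ x) y
  rw [kleinHom_apply, kleinHom_apply] at h1
  rw [sub_eq_add_neg, polar_add_left, polar_neg_left, h1, polar_starJ, polar_starJ, ← sub_eq_add_neg, sub_eq_zero]
  have e : (σ ∘ (comp2 g.1 *ᵥ x)) ⬝ᵥ (comp2 g.1 *ᵥ y) = (σ ∘ x) ⬝ᵥ y := by
    rw [show σ ∘ (comp2 g.1 *ᵥ x) = (comp2 g.1).map σ *ᵥ (σ ∘ x) from funext fun i => RingHom.map_mulVec σ _ _ i,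
      Matrix.dotProduct_mulVec, ← Matrix.mulVec_transpose, Matrix.mulVec_mulVec,
      show (comp2 g.1)ᵀ * (comp2 g.1).map σ = 1 by
        rw [← Matrix.transpose_transpose ((comp2 g.1).map σ), ← Matrix.transpose_mul, hN, Matrix.transpose_one],
      Matrix.one_mulVec]
  exact e.symm

end unitary

section unitaryIso

variable {K : Type*} [Field K] [Fintype K] [Algebra F K] (D : MinusData F K)

/-- Fixed bivectors. -/
def starEmb : (Fin 3 → K) →ₗ[F] (Fin 3 ⊕ Fin 3 → K) where
  toFun z := Sum.elim z (fun i => D.σ (z i))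
  map_add' v w := by funext i; rcases i with i | i <;> simp
  map_smul' c v := by funext i; rcases i with i | i <;> simp [Algebra.smul_def, D.fix]

theorem starJ_starEmb (z : Fin 3 → K) : starJ D.σ (starEmb D z) = starEmb D z := by
  funext i; rcases i with i | i <;> simp [starJ, starEmb, D.inv.invol]

theorem starEmb_inl {x : Fin 3 ⊕ Fin 3 → K} (hx : starJ D.σ x = x) : starEmb D (x ∘ Sum.inl) = x := by
  funext i
  rcases i with i | i
  · rfl
  · rw [← congrFun hx (Sum.inr i)]; rfl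

/-- Reading off a fixed bivector. -/
def starProj (F K : Type*) [Field F] [Field K] [Algebra F K] : (Fin 3 ⊕ Fin 3 → K) →ₗ[F] (Fin 3 → K) where
  toFun x := x ∘ Sum.inl
  map_add' _ _ := rfl
  map_smul' _ _ := rfl

/-- The quadratic form on fixed bivectors. -/
noncomputable def bivQ : QuadraticForm F (Fin 3 → K) :=
  LinearMap.BilinMap.toQuadraticMap ((Embed.hermF (F := F) (σ := D.σ) D.fix 3).compr₂ D.π)

theorem algebraMap_bivQ (z : Fin 3 → K) : algebraMap F K (bivQ D z) = Quad.plusQ K 3 (starEmb D z) := by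
  rw [show bivQ D z = D.π (hermB 3 D.σ z z) from rfl, D.fixed _ (Embed.hermB_symm D.inv 3 z z), hermB_apply,
    Quad.plusQ_apply]
  simp [starEmb, mul_comm]

variable {q : ℕ} (hσq : ∀ x, D.σ x = x ^ q)

/-- A unitary matrix as an element of the special linear group acting on bivectors. -/
noncomputable def suKlein : Cfsg.SU 4 K q →* Quad.oG (Quad.plusQ K 3) :=
  kleinHom.comp (Cfsg.SU 4 K q).subtype

theorem suKlein_apply (A : Cfsg.SU 4 K q) (x : Fin 3 ⊕ Fin 3 → K) :
    (suKlein A).1 x = comp2 A.1.1 *ᵥ x := rfl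

/-- The action on fixed bivectors. -/
noncomputable def sixMinusMap (A : Cfsg.SU 4 K q) : (Fin 3 → K) →ₗ[F] (Fin 3 → K) :=
  (starProj F K).comp ((((suKlein A).1 : (Fin 3 ⊕ Fin 3 → K) →ₗ[K] (Fin 3 ⊕ Fin 3 → K)).restrictScalars F).comp
    (starEmb D))

include hσq in
theorem starEmb_sixMinusMap (A : Cfsg.SU 4 K q) (z : Fin 3 → K) :
    starEmb D (sixMinusMap D A z) = (suKlein A).1 (starEmb D z) :=
  show starEmb D (((suKlein A).1 (starEmb D z)) ∘ Sum.inl) = _ from
    starEmb_inl D (by rw [suKlein_apply, ← comp2_starJ (su_four_mul hσq A), starJ_starEmb])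

theorem starEmb_injective : Function.Injective (starEmb D) := fun z z' h =>
  funext fun i => congrFun h (Sum.inl i)

include hσq in
theorem sixMinusMap_one (z : Fin 3 → K) : sixMinusMap D (1 : Cfsg.SU 4 K q) z = z :=
  starEmb_injective D (by rw [starEmb_sixMinusMap D hσq, map_one]; rfl)

include hσq in
theorem sixMinusMap_mul (A B : Cfsg.SU 4 K q) (z : Fin 3 → K) :
    sixMinusMap D (A * B) z = sixMinusMap D A (sixMinusMap D B z) :=
  starEmb_injective D (by
    rw [starEmb_sixMinusMap D hσq, starEmb_sixMinusMap D hσq, starEmb_sixMinusMap D hσq, map_mul]; rfl)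

/-- The action as linear automorphisms. -/
noncomputable def sixMinusEquiv (A : Cfsg.SU 4 K q) : (Fin 3 → K) ≃ₗ[F] (Fin 3 → K) :=
  LinearEquiv.ofLinearMap (sixMinusMap D A) (sixMinusMap D A⁻¹)
    (LinearMap.ext fun v => by
      rw [LinearMap.comp_apply, ← sixMinusMap_mul D hσq, mul_inv_cancel, sixMinusMap_one D hσq]; rfl)
    (LinearMap.ext fun v => by
      rw [LinearMap.comp_apply, ← sixMinusMap_mul D hσq, inv_mul_cancel, sixMinusMap_one D hσq]; rfl)

theorem sixMinusEquiv_apply (A : Cfsg.SU 4 K q) (z : Fin 3 → K) :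
    sixMinusEquiv D hσq A z = sixMinusMap D A z := rfl

theorem sixMinusEquiv_mul (A B : Cfsg.SU 4 K q) :
    sixMinusEquiv D hσq (A * B) = sixMinusEquiv D hσq A * sixMinusEquiv D hσq B :=
  LinearEquiv.ext fun v => by
    rw [LinearEquiv.mul_apply, sixMinusEquiv_apply, sixMinusEquiv_apply, sixMinusEquiv_apply,
      sixMinusMap_mul D hσq]

theorem sixMinusEquiv_mem (A : Cfsg.SU 4 K q) : sixMinusEquiv D hσq A ∈ Quad.oG (bivQ D) := fun z =>
  (algebraMap F K).injective (by
    rw [sixMinusEquiv_apply, algebraMap_bivQ, algebraMap_bivQ, starEmb_sixMinusMap D hσq]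
    exact (suKlein A).2 _)

/-- Unitary four by four matrices on the orthogonal space of minus type in dimension six. -/
noncomputable def sixMinusHom : Cfsg.SU 4 K q →* Quad.oG (bivQ D) :=
  (MonoidHom.mk' (sixMinusEquiv D hσq) (sixMinusEquiv_mul D hσq)).codRestrict _ (sixMinusEquiv_mem D hσq)

theorem sixMinusHom_ker {A : Cfsg.SU 4 K q} (hA : A ∈ (sixMinusHom D hσq).ker) :
    A.1.1 = Matrix.scalar (Fin 4) (A.1.1 0 0) ∧ A.1.1 0 0 * A.1.1 0 0 = 1 := by
  obtain ⟨c, hc⟩ := Herm.exists_moved D.inv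
  have hfix : ∀ x, starJ D.σ x = x → comp2 A.1.1 *ᵥ x = x := fun x hx => by
    have h1 : sixMinusMap D A (x ∘ Sum.inl) = x ∘ Sum.inl :=
      congrArg (fun k : Quad.oG (bivQ D) => k.1 (x ∘ Sum.inl)) hA
    have h2 := congrArg (starEmb D) h1
    rwa [starEmb_sixMinusMap D hσq, starEmb_inl D hx, suKlein_apply] at h2
  refine comp2_eq_one (comp2_eq_one_of_fix fun x => ?_)
  have hJ : ∀ y, starJ D.σ (y + starJ D.σ y) = y + starJ D.σ y := fun y => by
    funext s; simp [starJ, D.inv.invol, add_comm]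
  have h1 := hfix _ (hJ x)
  have h2 := hfix _ (hJ (c • x))
  have e : starJ D.σ (c • x) = D.σ c • starJ D.σ x := by funext s; simp [starJ]
  rw [e, Matrix.mulVec_add, Matrix.mulVec_smul, Matrix.mulVec_smul] at h2
  rw [Matrix.mulVec_add] at h1
  have h3 : (c - D.σ c) • (comp2 A.1.1 *ᵥ x - x) = 0 := by
    funext s
    have a := congrFun h1 s
    have b := congrFun h2 s
    simp only [Pi.add_apply, Pi.smul_apply, smul_eq_mul, Pi.sub_apply, Pi.zero_apply] at a b ⊢
    linear_combination b - D.σ c * a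
  rcases smul_eq_zero.1 h3 with h | h
  · exact absurd (sub_eq_zero.1 h).symm hc
  · exact sub_eq_zero.1 h

variable [Fintype F]

omit [Algebra F K] in
theorem pomega_six_minus (hF : Fintype.card F = q) (hK : Fintype.card K = q ^ 2) (a b : F)
    (hab : ∀ z₁ z₂ : F, z₁ ^ 2 + a * z₁ * z₂ + b * z₂ ^ 2 = 0 → z₁ = 0 ∧ z₂ = 0) :
    Nonempty (Cfsg.POmega F (Cfsg.quadFormMinus 2 F a b) ≃* Cfsg.PSU 4 K q) := by
  classical
  obtain ⟨σ, ι, hσq, hσ, hfix, hσι, hιs⟩ := Embed.exists_subfield_hom hK hF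
  letI : Algebra F K := ι.toAlgebra
  obtain ⟨π, hπ⟩ := Embed.exists_retraction (F := F) (K := K)
  let D : MinusData F K := ⟨σ, π, hσ, hσι, hπ, fun x hx => by
    obtain ⟨c, rfl⟩ := hιs x hx
    exact congrArg ι (hπ c)⟩
  have hfz : ∀ x, D.π x = 0 → σ x = x → x = 0 := fun x h0 hx => by rw [← D.fixed x hx, h0, map_zero]
  have hd : finrank F (Fin 3 → K) = 2 * 3 := by
    rw [Module.finrank_pi_fintype]; simp [Embed.finrank_quadratic hK hF, mul_comm]
  have hnd : (polarBilin (bivQ D)).Nondegenerate := Quad.nondeg_of fun u hu => (hermB_isHerm hσ 3).nondeg u fun v => by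
    obtain ⟨c, hc⟩ := Herm.exists_moved hσ
    have key : ∀ v, hermB 3 σ u v + hermB 3 σ v u = 0 := fun v => by
      refine hfz _ ?_ (by rw [map_add, Embed.hermB_symm hσ, Embed.hermB_symm hσ, add_comm])
      have h := hu v
      rw [show polar (bivQ D) u v = π (hermB 3 σ u v) + π (hermB 3 σ v u) from
        LinearMap.BilinMap.polar_toQuadraticMap u v] at h
      rw [map_add]
      exact h
    have h1 := key (c • v)
    rw [map_smul, LinearMap.map_smulₛₗ, LinearMap.smul_apply, smul_eq_mul, smul_eq_mul,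
      eq_neg_of_add_eq_zero_right (key v)] at h1
    by_contra hne
    exact hc (mul_right_cancel₀ hne (by linear_combination h1)).symm
  have hz : Quad.zcard (bivQ D) = Nat.card {v : Fin 3 → K // hermB 3 σ v v = 0} :=
    Nat.card_congr (Equiv.subtypeEquivRight fun v => ⟨fun h => hfz _ h (Embed.hermB_symm hσ 3 v v),
      fun h => show π (hermB 3 σ v v) = 0 by rw [h, map_zero]⟩)
  obtain ⟨e, he⟩ : Quad.Iso (Quad.hyp (Quad.binForm a b) 2) (bivQ D) := by
    rcases Quad.even_cases hnd (m := 3) hd with h | ⟨-, h⟩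
    · exfalso
      have hh := card_herm_zero hσ hfix 3
      have hp := congrArg (Nat.cast : ℕ → ℤ) (Quad.zcard_plus hF 2)
      rw [← hz, ← h.zcard_eq] at hh
      push_cast at hp
      have hq1 : (1 : ℤ) < q := by exact_mod_cast hF ▸ Fintype.one_lt_card
      have : (2 : ℤ) * (q : ℤ) ^ 3 * ((q : ℤ) - 1) = 0 := by linear_combination hh - (q : ℤ) * hp
      rcases mul_eq_zero.1 this with h0 | h0
      · exact absurd h0 (by positivity)
      · omega
    · exact h a b hab
  have := oG_finite (bivQ D)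
  have hp : commutator (Cfsg.SU 4 K q) = ⊤ := commutator_su_four hσ hσq hfix
  obtain ⟨e1⟩ := pomega_equiv (Q := bivQ D) (Q' := Cfsg.quadFormMinus 2 F a b) ((Quad.minusCoord 2).trans e)
    fun x => (he _).trans (Quad.minusCoord_map a b 2 x)
  obtain ⟨e2⟩ := quot_equiv_of_good (sixMinusHom D hσq) (Or.inl hp) (Or.inl hp)
    (fun g hg => Subgroup.mem_center_iff.2 fun y => Subtype.ext (Subtype.ext
      (scalar_central4 (sixMinusHom_ker D hσq hg).1 _)))
    (fun g hg => Subtype.ext (Subtype.ext (scalar_sq4 (sixMinusHom_ker D hσq hg).1 (sixMinusHom_ker D hσq hg).2))) (by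
      refine comm_card_bound hnd (by omega) ((two_le_bound _ (fun g : Cfsg.SU 4 K q => g.1.1 0 0)
        (fun x hx y hy e => Subtype.ext (Subtype.ext ?_)) fun x hx => (sixMinusHom_ker D hσq hx).2).trans_eq ?_)
        (L := Nat.card (Cfsg.SU 4 K q)) ?_ le_rfl
      · rw [(sixMinusHom_ker D hσq hx).1, (sixMinusHom_ker D hσq hy).1]; exact congrArg _ e
      · have e0 : (2 : K) = 0 ↔ (2 : F) = 0 := by
          rw [← map_ofNat ι 2, map_eq_zero]
        exact if_congr e0 rfl rfl
      rw [← Nat.card_congr (Quad.oCongr e he).toEquiv, Quad.card_oG_minus hab hF 2]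
      have h1 := card_SU_mul_eq_GU (n := 4) hσ hσq hfix (by norm_num)
      have h2 := card_GU_formula (n := 4) hσ hσq hfix
      rw [h2] at h1
      simp [Finset.prod_range_succ, show ¬ Even 1 by decide, show ¬ Even 3 by decide,
        show Even 2 by decide] at h1 ⊢
      have hL : Nat.card (Cfsg.SU 4 K q) = q ^ 6 * ((q ^ 2 - 1) * (q ^ 3 + 1) * (q ^ 4 - 1)) :=
        Nat.eq_of_mul_eq_mul_left (Nat.succ_pos q) (by rw [Nat.card_eq_fintype_card, Nat.succ_eq_add_one]; linarith [h1])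
      simp only [Nat.card_eq_fintype_card] at hL ⊢
      rw [hL]
      ring)
  exact ⟨e1.trans e2⟩

end unitaryIso

end Cfsg.Agent.Classical.Exc
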