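import Mathlib
import Cfsg.Agent.Classical.KleinIso
import Cfsg.Agent.Classical.OrthGen

/-!
The exceptional isomorphism between PSU(4,2) and PSp(4,3): both act on the 36 positive roots of type E6.
-/

set_option autoImplicit false

namespace Cfsg.Agent.Classical.U42

open Module QuadraticMap Quad
open scoped commutatorElement

/-- The six-dimensional space over two elements. -/
abbrev V2 := ((Fin 2 → ZMod 2) × (Fin 2 → ZMod 2)) × (ZMod 2 × ZMod 2)

/-- The five-dimensional space over three elements. -/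
abbrev V3 := ((Fin 2 → ZMod 3) × (Fin 2 → ZMod 3)) × ZMod 3

/-- The minus form. -/
noncomputable abbrev Q2 : QuadraticForm (ZMod 2) V2 := hyp (binForm 1 1) 2

/-- The odd form. -/
noncomputable abbrev Q3 : QuadraticForm (ZMod 3) V3 := hyp (sqForm (ZMod 3)) 2

/-- The minus form as a function. -/
def q2 (x : V2) : ZMod 2 := x.1.1 0 * x.1.2 0 + x.1.1 1 * x.1.2 1 + (x.2.1 * x.2.1 + x.2.1 * x.2.2 + x.2.2 * x.2.2)

/-- The odd form as a function. -/
def q3 (x : V3) : ZMod 3 := x.1.1 0 * x.1.2 0 + x.1.1 1 * x.1.2 1 + x.2 * x.2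

theorem q2_eq (x : V2) : Q2 x = q2 x := by
  rw [hyp_apply, binForm_apply, Fin.sum_univ_two, q2]
  ring

theorem q3_eq (x : V3) : Q3 x = q3 x := by simp [hyp_apply, sqForm, q3, Fin.sum_univ_two]

/-- The roots modulo two. -/
def v2 : Fin 36 → V2 := ![
    ((![0, 0], ![0, 0]), (0, 1)),
    ((![0, 0], ![0, 0]), (1, 0)),
    ((![0, 0], ![0, 0]), (1, 1)),
    ((![0, 0], ![0, 1]), (0, 1)),
    ((![0, 0], ![0, 1]), (1, 0)),
    ((![0, 0], ![0, 1]), (1, 1)),
    ((![0, 0], ![1, 0]), (0, 1)),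
    ((![0, 0], ![1, 0]), (1, 0)),
    ((![0, 0], ![1, 0]), (1, 1)),
    ((![0, 0], ![1, 1]), (0, 1)),
    ((![0, 0], ![1, 1]), (1, 0)),
    ((![0, 0], ![1, 1]), (1, 1)),
    ((![0, 1], ![0, 0]), (0, 1)),
    ((![0, 1], ![0, 0]), (1, 0)),
    ((![0, 1], ![0, 0]), (1, 1)),
    ((![0, 1], ![0, 1]), (0, 0)),
    ((![0, 1], ![1, 0]), (0, 1)),
    ((![0, 1], ![1, 0]), (1, 0)),
    ((![0, 1], ![1, 0]), (1, 1)),
    ((![0, 1], ![1, 1]), (0, 0)),
    ((![1, 0], ![0, 0]), (0, 1)),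
    ((![1, 0], ![0, 0]), (1, 0)),
    ((![1, 0], ![0, 0]), (1, 1)),
    ((![1, 0], ![0, 1]), (0, 1)),
    ((![1, 0], ![0, 1]), (1, 0)),
    ((![1, 0], ![0, 1]), (1, 1)),
    ((![1, 0], ![1, 0]), (0, 0)),
    ((![1, 0], ![1, 1]), (0, 0)),
    ((![1, 1], ![0, 0]), (0, 1)),
    ((![1, 1], ![0, 0]), (1, 0)),
    ((![1, 1], ![0, 0]), (1, 1)),
    ((![1, 1], ![0, 1]), (0, 0)),
    ((![1, 1], ![1, 0]), (0, 0)),
    ((![1, 1], ![1, 1]), (0, 1)),
    ((![1, 1], ![1, 1]), (1, 0)),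
    ((![1, 1], ![1, 1]), (1, 1))]

/-- The roots modulo three. -/
def v3 : Fin 36 → V3 := ![
    ((![0, 1], ![0, 1]), 1),
    ((![0, 1], ![1, 1]), 1),
    ((![0, 1], ![2, 1]), 1),
    ((![1, 0], ![1, 1]), 1),
    ((![1, 2], ![2, 0]), 0),
    ((![1, 1], ![2, 2]), 2),
    ((![1, 1], ![0, 1]), 2),
    ((![1, 0], ![1, 0]), 1),
    ((![1, 2], ![1, 2]), 0),
    ((![1, 2], ![0, 1]), 0),
    ((![1, 1], ![1, 0]), 2),
    ((![1, 0], ![1, 2]), 1),
    ((![1, 1], ![1, 0]), 1),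
    ((![1, 0], ![2, 2]), 0),
    ((![1, 2], ![2, 1]), 2),
    ((![0, 1], ![0, 2]), 0),
    ((![1, 1], ![0, 2]), 0),
    ((![1, 0], ![1, 1]), 2),
    ((![1, 2], ![1, 0]), 1),
    ((![0, 1], ![2, 1]), 2),
    ((![1, 0], ![2, 0]), 0),
    ((![1, 2], ![0, 2]), 2),
    ((![1, 1], ![0, 1]), 1),
    ((![1, 0], ![1, 2]), 2),
    ((![1, 2], ![2, 1]), 1),
    ((![1, 1], ![2, 0]), 0),
    ((![0, 1], ![1, 1]), 2),
    ((![0, 1], ![2, 2]), 0),
    ((![1, 2], ![1, 0]), 2),
    ((![1, 1], ![2, 2]), 1),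
    ((![1, 0], ![2, 1]), 0),
    ((![0, 1], ![0, 1]), 2),
    ((![0, 1], ![1, 2]), 0),
    ((![1, 2], ![0, 2]), 1),
    ((![1, 1], ![1, 1]), 0),
    ((![1, 0], ![1, 0]), 2)]

/-- The reflection modulo two as a function. -/
def r2 (v x : V2) : V2 := x + (q2 (x + v) + q2 x + q2 v) • v

/-- The reflection modulo three as a function. -/
def r3 (v x : V3) : V3 := x + (q3 (x + v) - q3 x - q3 v) • v

theorem v2_ne : ∀ i, q2 (v2 i) ≠ 0 := by decide +kernel

theorem v3_val : ∀ i, q3 (v3 i) = 2 := by decide +kernel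

theorem v2_surj : ∀ x : V2, q2 x ≠ 0 → ∃ i, x = v2 i := by decide +kernel

theorem v2_inj : ∀ i j, v2 i = v2 j → i = j := by decide +kernel

theorem v3_inj : ∀ i j, (v3 i = v3 j ∨ v3 i = -v3 j) → i = j := by decide +kernel

theorem v2_span : ∀ x : V2, ∃ i j, x = v2 i + v2 j := by decide +kernel

theorem table : ∀ i j, ∃ k, r2 (v2 i) (v2 j) = v2 k ∧ (r3 (v3 i) (v3 j) = v3 k ∨ r3 (v3 i) (v3 j) = -v3 k) := by
  decide +kernel

theorem q2_refl {v : V2} (hv : Q2 v ≠ 0) (x : V2) : (rO hv).1 x = r2 v x := by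
  rw [rO_apply, r2]
  have e : Q2 v = 1 := by
    rw [q2_eq] at hv ⊢
    generalize q2 v = t at hv
    revert t; decide
  rw [e, div_one, sub_eq_add_neg, ← neg_smul]
  congr 2
  show -(Q2 (x + v) - Q2 x - Q2 v) = _
  rw [q2_eq, q2_eq, q2_eq, CharTwo.neg_eq, CharTwo.sub_eq_add, CharTwo.sub_eq_add]

theorem q3_refl {v : V3} (hv : Q3 v ≠ 0) (h2 : q3 v = 2) (x : V3) : (rO hv).1 x = r3 v x := by
  rw [rO_apply, r3, q3_eq, h2, sub_eq_add_neg, ← neg_smul]
  congr 2
  show -((Q3 (x + v) - Q3 x - Q3 v) / 2) = _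
  rw [q3_eq, q3_eq, q3_eq, h2]
  generalize q3 (x + v) - q3 x - 2 = t
  rw [div_eq_mul_inv, show (2 : ZMod 3)⁻¹ = -1 from inv_eq_of_mul_eq_one_right (by decide), mul_neg_one, neg_neg]

/-- The action on the roots modulo two. -/
noncomputable def φ2 : oG Q2 →* Equiv.Perm (Fin 36) :=
  let f : oG Q2 → Fin 36 → Fin 36 := fun g i =>
    (v2_surj (g.1 (v2 i)) (by rw [← q2_eq, g.2, q2_eq]; exact v2_ne i)).choose
  have hf : ∀ g i, g.1 (v2 i) = v2 (f g i) := fun g i =>
    (v2_surj (g.1 (v2 i)) (by rw [← q2_eq, g.2, q2_eq]; exact v2_ne i)).choose_spec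
  MonoidHom.toHomPerm
    { toFun := f
      map_one' := funext fun i => v2_inj _ _ (by rw [← hf]; rfl)
      map_mul' := fun g h => funext fun i => v2_inj _ _ (by
        show _ = v2 (f g (f h i))
        rw [← hf, ← hf, ← hf]; rfl) }

theorem φ2_spec (g : oG Q2) (i : Fin 36) : g.1 (v2 i) = v2 (φ2 g i) :=
  (v2_surj (g.1 (v2 i)) (by rw [← q2_eq, g.2, q2_eq]; exact v2_ne i)).choose_spec

theorem φ2_inj : Function.Injective φ2 := by
  intro g h e
  refine ext_oG fun x => ?_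
  obtain ⟨i, j, rfl⟩ := v2_span x
  rw [map_add, map_add, φ2_spec, φ2_spec, φ2_spec, φ2_spec, e]

/-- The isometries permuting the roots modulo three up to sign. -/
def S3m : Submonoid (oG Q3) where
  carrier := {g | ∀ i, ∃ k, g.1 (v3 i) = v3 k ∨ g.1 (v3 i) = -v3 k}
  one_mem' i := ⟨i, Or.inl rfl⟩
  mul_mem' {g h} hg hh i := by
    obtain ⟨k, hk⟩ := hh i
    obtain ⟨l, hl⟩ := hg k
    refine ⟨l, ?_⟩
    rw [oG_mul_apply]
    rcases hk with e | e <;> rw [e] <;> rcases hl with e' | e' <;> simp [e']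

/-- The subgroup of isometries permuting the roots modulo three up to sign. -/
def S3 : Subgroup (oG Q3) where
  toSubmonoid := S3m
  inv_mem' {g} hg := by
    haveI := Exc.oG_finite Q3
    exact Submonoid.powers_le.2 hg (mem_powers_iff_mem_zpowers.2 (inv_mem (Subgroup.mem_zpowers g)))

/-- The action on the roots modulo three. -/
noncomputable def φ3 : S3 →* Equiv.Perm (Fin 36) :=
  let f : S3 → Fin 36 → Fin 36 := fun g i => (g.2 i).choose
  have hf : ∀ (g : S3) i, g.1.1 (v3 i) = v3 (f g i) ∨ g.1.1 (v3 i) = -v3 (f g i) := fun g i => (g.2 i).choose_spec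
  MonoidHom.toHomPerm
    { toFun := f
      map_one' := funext fun i => by
        refine (v3_inj i (f 1 i) ?_).symm
        rcases hf 1 i with e | e
        · exact Or.inl e
        · exact Or.inr e
      map_mul' := fun g h => funext fun i => by
        show f (g * h) i = f g (f h i)
        have e : (g * h).1.1 (v3 i) = v3 (f g (f h i)) ∨ (g * h).1.1 (v3 i) = -v3 (f g (f h i)) := by
          show g.1.1 (h.1.1 (v3 i)) = _ ∨ g.1.1 (h.1.1 (v3 i)) = _
          rcases hf h i with e | e <;> rw [e] <;> rcases hf g (f h i) with e' | e' <;> simp [e']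
        refine v3_inj _ _ ?_
        rcases hf (g * h) i with a | a <;> rcases e with b | b <;> rw [a] at b
        · exact Or.inl b
        · exact Or.inr b
        · exact Or.inr (neg_eq_iff_eq_neg.1 b)
        · exact Or.inl (neg_inj.1 b) }

theorem φ3_spec (g : S3) (i : Fin 36) : g.1.1 (v3 i) = v3 (φ3 g i) ∨ g.1.1 (v3 i) = -v3 (φ3 g i) :=
  (g.2 i).choose_spec

theorem ne2 (i : Fin 36) : Q2 (v2 i) ≠ 0 := by rw [q2_eq]; exact v2_ne i

theorem ne3 (i : Fin 36) : Q3 (v3 i) ≠ 0 := by rw [q3_eq, v3_val]; decide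

theorem mem_S3 (i : Fin 36) : rO (ne3 i) ∈ S3 := fun j => by
  obtain ⟨k, -, hk⟩ := table i j
  exact ⟨k, by rwa [q3_refl (ne3 i) (v3_val i)]⟩

theorem same_perm (i : Fin 36) : φ3 ⟨rO (ne3 i), mem_S3 i⟩ = φ2 (rO (ne2 i)) := by
  ext j
  obtain ⟨k, h2, h3⟩ := table i j
  have e2 : φ2 (rO (ne2 i)) j = k := v2_inj _ _ (by rw [← φ2_spec, q2_refl]; exact h2)
  have e3 : φ3 ⟨rO (ne3 i), mem_S3 i⟩ j = k := by
    refine v3_inj _ _ ?_
    have := φ3_spec ⟨rO (ne3 i), mem_S3 i⟩ j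
    rw [q3_refl (ne3 i) (v3_val i)] at this
    rcases h3 with a | a <;> rcases this with b | b <;> rw [a] at b
    · exact Or.inl b.symm
    · exact Or.inr (neg_eq_iff_eq_neg.1 b.symm)
    · exact Or.inr b.symm
    · exact Or.inl (neg_inj.1 b.symm)
  rw [e2, e3]

/-- The group generated by the root reflections modulo three. -/
noncomputable def G3 : Subgroup (oG Q3) := Subgroup.closure (Set.range fun i => rO (ne3 i))

theorem G3_le : ∀ g ∈ G3, g ∈ S3 := fun g hg => by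
  induction hg using Subgroup.closure_induction'' with
  | mem x hx => obtain ⟨i, rfl⟩ := hx; exact mem_S3 i
  | inv_mem x hx => obtain ⟨i, rfl⟩ := hx; rw [rO_inv]; exact mem_S3 i
  | one => exact S3.one_mem
  | mul x y _ _ hx hy => exact S3.mul_mem hx hy

/-- The action of the reflection group. -/
noncomputable def f3 : G3 →* Equiv.Perm (Fin 36) := φ3.comp (Subgroup.inclusion G3_le)

theorem aniso : ∀ z₁ z₂ : ZMod 2, z₁ ^ 2 + 1 * z₁ * z₂ + 1 * z₂ ^ 2 = 0 → z₁ = 0 ∧ z₂ = 0 := by decide +kernel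

theorem nd2 : (polarBilin Q2).Nondegenerate := nondeg_hyp (nondeg_binForm (by decide)) 2

theorem nd3 : (polarBilin Q3).Nondegenerate := nondeg_hyp (nondeg_sqForm (by decide)) 2

theorem range_le : φ2.range ≤ f3.range := by
  haveI : Fact (Nat.Prime 2) := ⟨Nat.prime_two⟩
  rw [MonoidHom.range_eq_map, ← closure_reflSet nd2 (Or.inr (by simp [Module.finrank_prod])), MonoidHom.map_closure,
    Subgroup.closure_le]
  rintro _ ⟨_, ⟨v, hv, rfl⟩, rfl⟩
  obtain ⟨i, rfl⟩ := v2_surj v (by rwa [← q2_eq])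
  exact ⟨⟨rO (ne3 i), Subgroup.subset_closure ⟨i, rfl⟩⟩, (same_perm i)⟩

theorem commutator_le : (commutator (oG Q2)).map φ2 ≤ (⁅G3, G3⁆.subgroupOf G3).map f3 := by
  rw [commutator_def, Subgroup.map_commutator, Subgroup.commutator_le]
  intro x hx y hy
  obtain ⟨a, ha⟩ := range_le (by rw [MonoidHom.range_eq_map]; exact hx)
  obtain ⟨b, hb⟩ := range_le (by rw [MonoidHom.range_eq_map]; exact hy)
  exact ⟨⁅a, b⁆, Subgroup.commutator_mem_commutator a.2 b.2, by rw [map_commutatorElement, ha, hb]⟩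

theorem card_two : Nat.card (commutator (oG Q2)) = 25920 := by
  haveI := Exc.oG_finite Q2
  have h := Exc.card_commutator_two nd2 (by decide) (Or.inr (by simp [Module.finrank_prod]))
    (by simp [Module.finrank_prod])
  rw [card_oG_minus (a := (1 : ZMod 2)) (b := 1) (q := 2) (by decide) (by simp) 2] at h
  simp [Finset.prod_range_succ] at h ⊢
  omega

theorem card_three : Nat.card (commutator (oG Q3)) = 25920 := by
  haveI := Exc.oG_finite Q3
  have h := Exc.card_commutator_odd nd3 (by decide) (by simp [Module.finrank_prod])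
  rw [card_oG_odd (q := 3) (by simp) (by decide) 2] at h
  simp [Finset.prod_range_succ] at h ⊢
  omega

theorem omega_equiv : Nonempty (commutator (oG Q2) ≃* commutator (oG Q3)) := by
  haveI := Exc.oG_finite Q2
  haveI := Exc.oG_finite Q3
  have hle : ⁅G3, G3⁆ ≤ commutator (oG Q3) := Subgroup.commutator_mono le_top le_top
  have hlt : ⁅G3, G3⁆ ≤ G3 := G3.commutator_le_self
  have c1 : Nat.card ((commutator (oG Q2)).map φ2) = 25920 := by
    rw [Subgroup.card_map_of_injective φ2_inj, card_two]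
  have c2 := Subgroup.card_le_of_le commutator_le
  have c3 : Nat.card ((⁅G3, G3⁆.subgroupOf G3).map f3) ≤ Nat.card (⁅G3, G3⁆.subgroupOf G3) :=
    Nat.card_le_card_of_surjective _ (f3.subgroupMap_surjective _)
  have c4 : Nat.card (⁅G3, G3⁆.subgroupOf G3) = Nat.card (⁅G3, G3⁆ : Subgroup (oG Q3)) :=
    Nat.card_congr (Subgroup.subgroupOfEquivOfLe hlt).toEquiv
  have c5 := Subgroup.card_le_of_le hle
  rw [card_three] at c5
  have heq : ⁅G3, G3⁆ = commutator (oG Q3) :=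
    Subgroup.eq_of_le_of_card_ge hle (by rw [card_three]; omega)
  have hmap : (commutator (oG Q2)).map φ2 = (⁅G3, G3⁆.subgroupOf G3).map f3 :=
    Subgroup.eq_of_le_of_card_ge commutator_le (by omega)
  have hbij : Function.Bijective (f3.subgroupMap (⁅G3, G3⁆.subgroupOf G3)) := by
    refine (Nat.bijective_iff_surjective_and_card _).2 ⟨f3.subgroupMap_surjective _, ?_⟩
    omega
  exact ⟨(((commutator (oG Q2)).equivMapOfInjective φ2 φ2_inj).trans (MulEquiv.subgroupCongr hmap)).trans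
    ((MulEquiv.ofBijective _ hbij).symm.trans ((Subgroup.subgroupOfEquivOfLe hlt).trans (MulEquiv.subgroupCongr heq)))⟩

/-- Symplectic matrices over isomorphic fields. -/
def spMap {R S : Type*} [Field R] [Field S] (σ : R ≃+* S) :
    Matrix.symplecticGroup (Fin 2) R ≃* Matrix.symplecticGroup (Fin 2) S where
  toFun A := ⟨A.1.map σ, by
    have h := congrArg (fun M : Matrix _ _ R => M.map σ) (SymplecticGroup.mem_iff.1 A.2)
    rw [SymplecticGroup.mem_iff]
    simpa [Matrix.map_mul, Matrix.transpose_map, Matrix.J, Matrix.fromBlocks_map, Matrix.map_neg] using h⟩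
  invFun A := ⟨A.1.map σ.symm, by
    have h := congrArg (fun M : Matrix _ _ S => M.map σ.symm) (SymplecticGroup.mem_iff.1 A.2)
    rw [SymplecticGroup.mem_iff]
    simpa [Matrix.map_mul, Matrix.transpose_map, Matrix.J, Matrix.fromBlocks_map, Matrix.map_neg] using h⟩
  left_inv A := Subtype.ext (by ext i j; simp)
  right_inv A := Subtype.ext (by ext i j; simp)
  map_mul' A B := Subtype.ext (Matrix.map_mul)

theorem psu_four_two {F K : Type*} [Field F] [Fintype F] [Field K] [Fintype K] (hF : Fintype.card F = 4)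
    (hK : Fintype.card K = 3) : Nonempty (Cfsg.PSU 4 F 2 ≃* Cfsg.PSp 2 K) := by
  haveI : Fact (Nat.Prime 2) := ⟨Nat.prime_two⟩
  haveI : Fact (Nat.Prime 3) := ⟨Nat.prime_three⟩
  obtain ⟨ea⟩ := Exc.pomega_six_minus (F := ZMod 2) (K := F) (q := 2) (by simp) (by rw [hF]; rfl) 1 1 aniso
  obtain ⟨eb⟩ := Exc.pomega_five (F := ZMod 3) (by simpa using Nat.odd_iff.2 (by norm_num : 3 % 2 = 1))
  obtain ⟨e1⟩ := Exc.pomega_equiv (Q := Q2) (Q' := Cfsg.quadFormMinus 2 (ZMod 2) 1 1) (minusCoord 2)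
    (minusCoord_map 1 1 2)
  obtain ⟨e2⟩ := Exc.pomega_equiv (Q := Q3) (Q' := Cfsg.quadFormOdd 2 (ZMod 3)) (oddCoord 2) (oddCoord_map 2)
  obtain ⟨e⟩ := omega_equiv
  let σ : ZMod 3 ≃+* K := ZMod.ringEquivOfPrime K Nat.prime_three hK
  let e3 : Cfsg.PSp 2 (ZMod 3) ≃* Cfsg.PSp 2 K := QuotientGroup.congr _ _ (spMap σ) (Exc.center_map_eq (spMap σ))
  exact ⟨ea.symm.trans (e1.trans ((QuotientGroup.congr _ _ e (Exc.center_map_eq e)).trans (e2.symm.trans (eb.trans e3))))⟩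

end Cfsg.Agent.Classical.U42
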