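import Mathlib
import Cfsg.Agent.Classical.SmallPSL
import Cfsg.Agent.Classical.Linear2
import Cfsg.Agent.FPF25.IcosPresentation
import Cfsg.Agent.RootSub.Dickson.Common

/-!
When PSL(2,q) has a subgroup isomorphic to the alternating group of degree five.
-/

set_option autoImplicit false

namespace Cfsg.Agent.Classical.A5InPSL

open Matrix
open Cfsg.Agent.RootSub.Dickson
open scoped MatrixGroups

local notation "K5" => SL(2, ZMod 5)

/-- The element of order three. -/
def x₁ : K5 := ⟨!![0, -1; 1, -1], by decide⟩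

/-- The element of order five. -/
def y₁ : K5 := ⟨!![1, 1; 0, 1], by decide⟩

theorem rels : x₁ ^ 3 = 1 ∧ y₁ ^ 5 = 1 ∧ (x₁ * y₁) ^ 2 = -1 ∧ (x₁ * y₁) 0 0 = 0 := by decide +kernel

theorem gen_top (S : Subgroup K5) (hx : x₁ ∈ S) (hy : y₁ ∈ S) : S = ⊤ := by
  haveI : Fact (Nat.Prime 5) := ⟨Nat.prime_five⟩
  refine eq_top_of_weyl (fun r => ?_) (mul_mem hx hy) rels.2.2.2
  have h : ∀ n : ℕ, upR ((n : ZMod 5)) = y₁ ^ n := by
    intro n
    induction n with
    | zero => simp [upR_zero]
    | succ n ih => rw [Nat.cast_succ, upR_add, ih, pow_succ]; rfl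
  rw [← ZMod.natCast_zmod_val r, h]
  exact pow_mem hy _

/-- A group with icosahedral elements receives a homomorphism from SL(2,5). -/
theorem exists_hom {G : Type*} [Group G] {x y : G} (hx : x ^ 3 = 1) (hy : y ^ 5 = 1) (hxy : (x * y) ^ 2 = 1) :
    ∃ φ : K5 →* G, φ x₁ = x ∧ φ y₁ = y ∧ φ (-1) = 1 := by
  classical
  haveI : Fact (Nat.Prime 5) := ⟨Nat.prime_five⟩
  let P : Subgroup (K5 × G) := Subgroup.closure {(x₁, x), (y₁, y)}
  let X : P := ⟨(x₁, x), Subgroup.subset_closure (Set.mem_insert _ _)⟩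
  let Y : P := ⟨(y₁, y), Subgroup.subset_closure (Set.mem_insert_of_mem _ (Set.mem_singleton _))⟩
  have hz : (X * Y) ^ 2 = ⟨(-1, 1), by
      have : ((X * Y) ^ 2 : P).1 ∈ P := ((X * Y) ^ 2).2
      rwa [show ((X * Y) ^ 2 : P).1 = ((-1 : K5), (1 : G)) from Prod.ext rels.2.2.1 hxy] at this⟩ :=
    Subtype.ext (Prod.ext rels.2.2.1 hxy)
  have htop : Subgroup.closure ({X, Y} : Set P) = ⊤ := by
    refine Subgroup.map_injective P.subtype_injective ?_
    rw [MonoidHom.map_closure, ← MonoidHom.range_eq_map, Subgroup.range_subtype, Set.image_pair]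
    rfl
  obtain ⟨hfin, hcard⟩ := Cfsg.Agent.FPF25.IcosPres.card_closure_le (x := X) (y := Y) (z := (X * Y) ^ 2)
    (fun g => by
      rw [hz]
      refine Subtype.ext (Prod.ext ?_ ?_)
      · show g.1.1 * (-1 : K5) = -1 * g.1.1
        exact Subtype.ext (by simp [Matrix.SpecialLinearGroup.coe_mul])
      · show g.1.2 * 1 = 1 * g.1.2
        rw [mul_one, one_mul])
    (by rw [hz]; exact Subtype.ext (Prod.ext (show (-1 : K5) ^ 2 = 1 by decide +kernel) (one_pow 2)))
    (Subtype.ext (Prod.ext rels.1 hx)) (Subtype.ext (Prod.ext rels.2.1 hy)) rfl htop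
  let π : P →* K5 := (MonoidHom.fst K5 G).comp P.subtype
  have hsurj : Function.Surjective π :=
    MonoidHom.range_eq_top.1 (gen_top _ ⟨X, rfl⟩ ⟨Y, rfl⟩)
  have h120 : Nat.card K5 = 120 := by rw [Classical.card_sl2, ZMod.card]; rfl
  have hb : Function.Bijective π :=
    (Nat.bijective_iff_surjective_and_card _).2 ⟨hsurj, le_antisymm (hcard.trans h120.ge)
      (Nat.card_le_card_of_surjective π hsurj)⟩
  let e := MulEquiv.ofBijective π hb
  refine ⟨((MonoidHom.snd K5 G).comp P.subtype).comp e.symm.toMonoidHom, ?_, ?_, ?_⟩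
  · show (e.symm (π X)).1.2 = x
    rw [show e.symm (π X) = X from e.symm_apply_apply X]
  · show (e.symm (π Y)).1.2 = y
    rw [show e.symm (π Y) = Y from e.symm_apply_apply Y]
  · show (e.symm (-1 : K5)).1.2 = 1
    have : (-1 : K5) = π ((X * Y) ^ 2) := by rw [hz]; rfl
    rw [this, show e.symm (π ((X * Y) ^ 2)) = (X * Y) ^ 2 from e.symm_apply_eq.2 rfl, hz]

variable {F : Type*} [Field F]

/-- Elements of SL(2,F) with icosahedral relations. -/
theorem exists_elements [Fintype F] (h5 : 5 ∣ Nat.card SL(2, F)) :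
    ∃ X Y : SL(2, F), X ^ 3 = 1 ∧ Y ^ 5 = 1 ∧ (X * Y) ^ 2 = -1 ∧ (Y 0 1 ≠ 0 ∨ Y 1 0 ≠ 0) := by
  classical
  haveI : Fact (Nat.Prime 5) := ⟨Nat.prime_five⟩
  haveI : Finite SL(2, F) := inferInstance
  obtain ⟨g, hg⟩ := exists_prime_orderOf_dvd_card' 5 h5
  have hch : ∀ A : Matrix (Fin 2) (Fin 2) F, A * A = A.trace • A - A.det • 1 := fun A => by
    ext i j
    fin_cases i <;> fin_cases j <;>
      simp [Matrix.mul_apply, Fin.sum_univ_two, Matrix.trace_fin_two, Matrix.det_fin_two] <;> ring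
  have hpow : ∀ (A : Matrix (Fin 2) (Fin 2) F) (t : F), A.trace = t → A.det = 1 →
      A ^ 5 = (t ^ 4 - 3 * t ^ 2 + 1) • A - (t ^ 3 - 2 * t) • 1 := fun A t ht hd => by
    have h2 : A * A = t • A - 1 := by rw [hch A, ht, hd, one_smul]
    simp only [pow_succ, pow_zero, one_mul, h2, sub_mul, smul_mul_assoc, mul_assoc, smul_sub, smul_smul, mul_sub,
      mul_smul_comm, mul_one, smul_add]
    module
  obtain ⟨t, ht⟩ : ∃ t : F, t * t + t - 1 = 0 := by
    refine ⟨g.1.trace, ?_⟩
    have hg5 : g.1 ^ 5 = 1 := by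
      rw [← Matrix.SpecialLinearGroup.coe_pow, show g ^ 5 = 1 by rw [← hg]; exact pow_orderOf_eq_one g]
      rfl
    rw [hpow g.1 g.1.trace rfl g.2] at hg5
    set t := g.1.trace
    by_cases hc : t ^ 4 - 3 * t ^ 2 + 1 = 0
    · rw [hc, zero_smul, zero_sub] at hg5
      have h0 := congrFun (congrFun hg5 0) 0
      simp at h0
      have : (t - 1) * (t * t + t - 1) = 0 := by linear_combination -h0
      rcases mul_eq_zero.1 this with h | h
      · exfalso
        rw [sub_eq_zero.1 h] at hc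
        exact one_ne_zero (α := F) (by linear_combination -hc)
      · exact h
    · exfalso
      have h01 := congrFun (congrFun hg5 0) 1
      have h10 := congrFun (congrFun hg5 1) 0
      simp [hc] at h01 h10
      have h00 := congrFun (congrFun hg5 0) 0
      have h11 := congrFun (congrFun hg5 1) 1
      simp at h00 h11
      have hd := g.2
      rw [Matrix.det_fin_two, h01, zero_mul, sub_zero] at hd
      have heq : g.1 0 0 = g.1 1 1 := mul_left_cancel₀ hc (by linear_combination h00 - h11)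
      have hsq : g * g = 1 := Subtype.ext (by
        rw [Matrix.SpecialLinearGroup.coe_mul, Matrix.SpecialLinearGroup.coe_one]
        ext i j
        fin_cases i <;> fin_cases j <;> simp [Matrix.mul_apply, Fin.sum_univ_two, h01, h10, ← heq]
        · rw [← heq] at hd; exact hd
        · rw [← heq] at hd; exact hd)
      have := orderOf_le_of_pow_eq_one (x := g) (n := 2) (by norm_num) (by rw [sq, hsq])
      omega
  obtain ⟨x, y, hxy⟩ : ∃ x y : F, x * x + x + 1 + y * (y + t) = 0 := by
    by_cases h2 : (2 : F) = 0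
    · have ht1 : t + 1 ≠ 0 := fun h => one_ne_zero (α := F) (by linear_combination -ht + t * h)
      obtain ⟨y, hy⟩ : ∃ y : F, y * (t + 1) = -1 := ⟨-(t + 1)⁻¹, by rw [neg_mul, inv_mul_cancel₀ ht1]⟩
      exact ⟨y, y, by linear_combination hy + y * y * h2⟩
    · have hodd : Fintype.card F % 2 = 1 :=
        FiniteField.odd_card_of_char_ne_two fun h => h2 (by
          have := ringChar.Nat.cast_ringChar (R := F)
          rw [h] at this; exact_mod_cast this)
      open Polynomial in
        obtain ⟨a, b, hab⟩ := FiniteField.exists_root_sum_quadratic (f := X ^ 2 + X + 1)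
          (g := X ^ 2 + C t * X) (by compute_degree!) (by compute_degree!) hodd
      refine ⟨a, b, ?_⟩
      simp at hab
      linear_combination hab
  let X : SL(2, F) := ⟨!![x, y; y + t, -1 - x], by rw [Matrix.det_fin_two_of]; linear_combination -hxy⟩
  let Y : SL(2, F) := ⟨!![-y, 1 + x; x, y + t], by rw [Matrix.det_fin_two_of]; linear_combination -hxy⟩
  have hXY : (X * Y : SL(2, F)).1 = !![0, -1; 1, 0] := by
    rw [Matrix.SpecialLinearGroup.coe_mul]
    ext i j
    fin_cases i <;> fin_cases j <;> simp [X, Y, Matrix.mul_apply, Fin.sum_univ_two]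
    all_goals first | ring1 | linear_combination hxy | linear_combination -hxy
  refine ⟨X, Y, ?_, ?_, ?_, ?_⟩
  · refine Subtype.ext ?_
    have h := hch X.1
    rw [X.2, show X.1.trace = -1 by simp [X, Matrix.trace_fin_two]] at h
    rw [Matrix.SpecialLinearGroup.coe_pow, Matrix.SpecialLinearGroup.coe_one, pow_succ, sq, h]
    simp only [neg_smul, one_smul, sub_mul, neg_mul, h, one_mul]
    abel
  · refine Subtype.ext ?_
    have hc : t ^ 4 - 3 * t ^ 2 + 1 = 0 := by linear_combination (t * t - t - 1) * ht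
    have hd : t ^ 3 - 2 * t = -1 := by linear_combination (t - 1) * ht
    rw [Matrix.SpecialLinearGroup.coe_pow, Matrix.SpecialLinearGroup.coe_one,
      hpow Y.1 t (by simp [Y, Matrix.trace_fin_two]) Y.2, hc, hd]
    simp
  · refine Subtype.ext ?_
    rw [Matrix.SpecialLinearGroup.coe_pow, hXY, Matrix.SpecialLinearGroup.coe_neg, Matrix.SpecialLinearGroup.coe_one, sq]
    ext i j
    fin_cases i <;> fin_cases j <;> simp [Matrix.mul_apply, Fin.sum_univ_two]
  · by_cases hx0 : x = 0
    · left; simp [Y, hx0]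
    · right; simp [Y, hx0]

theorem card_psl [Fintype F] :
    Nat.gcd 2 (Fintype.card F - 1) * Nat.card (ProjectiveSpecialLinearGroup (Fin 2) F) =
      Fintype.card F * (Fintype.card F ^ 2 - 1) := by
  classical
  have h := card_psl_mul (ι := Fin 2) (F := F)
  rw [Classical.card_sl2, Fintype.card_fin] at h
  linarith

theorem main [Fintype F] {q : ℕ} (hF : Fintype.card F = q) :
    (∃ H : Subgroup (ProjectiveSpecialLinearGroup (Fin 2) F), Nonempty (H ≃* alternatingGroup (Fin 5))) ↔
      5 ∣ q * (q ^ 2 - 1) := by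
  classical
  constructor
  · rintro ⟨H, ⟨e⟩⟩
    have h1 : Nat.card H ∣ Nat.card (ProjectiveSpecialLinearGroup (Fin 2) F) := H.card_subgroup_dvd_card
    rw [Nat.card_congr e.toEquiv, nat_card_alternatingGroup] at h1
    have h2 := card_psl (F := F)
    rw [hF] at h2
    rw [← h2]
    exact dvd_mul_of_dvd_right ((show 5 ∣ Nat.factorial (Nat.card (Fin 5)) / 2 by norm_num).trans h1) _
  · intro h5
    haveI : Fact (Nat.Prime 5) := ⟨Nat.prime_five⟩
    obtain ⟨X, Y, hX, hY, hXY, hne⟩ := exists_elements (F := F) (by rw [Classical.card_sl2, hF]; exact h5)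
    let pr := QuotientGroup.mk' (Subgroup.center SL(2, F))
    have hneg : pr (-1) = 1 := (QuotientGroup.eq_one_iff _).2 (Subgroup.mem_center_iff.2 fun g =>
      Subtype.ext (by simp [Matrix.SpecialLinearGroup.coe_mul]))
    obtain ⟨φ, hφx, hφy, hφz⟩ := exists_hom (x := pr X) (y := pr Y) (by rw [← map_pow, hX, map_one])
      (by rw [← map_pow, hY, map_one]) (by rw [← map_mul, ← map_pow, hXY, hneg])
    have hle : Subgroup.center K5 ≤ φ.ker := fun c hc => by
      obtain ⟨r, hr, hrc⟩ := Matrix.SpecialLinearGroup.mem_center_iff.1 hc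
      simp only [Fintype.card_fin] at hr
      rcases sq_eq_one_iff.1 hr with rfl | rfl
      · have : c = 1 := Subtype.ext (by rw [← hrc, map_one]; rfl)
        rw [this]; exact φ.map_one
      · have : c = -1 := Subtype.ext (by
          rw [← hrc, map_neg, map_one, Matrix.SpecialLinearGroup.coe_neg, Matrix.SpecialLinearGroup.coe_one])
        rw [this]; exact hφz
    obtain ⟨ψ, hψ⟩ : ∃ ψ : ProjectiveSpecialLinearGroup (Fin 2) (ZMod 5) →* ProjectiveSpecialLinearGroup (Fin 2) F,
        ∀ g : K5, ψ (QuotientGroup.mk' (Subgroup.center K5) g) = φ g :=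
      ⟨QuotientGroup.lift (Subgroup.center K5) φ hle, fun g => rfl⟩
    obtain ⟨e⟩ := Small.psl_two_sixty (F := ZMod 5) (Or.inr (ZMod.card 5))
    haveI : IsSimpleGroup (ProjectiveSpecialLinearGroup (Fin 2) (ZMod 5)) :=
      isSimpleGroup_psl (ι := Fin 2) (F := ZMod 5) (Or.inr ⟨by simp, Small.exists_sq_ne_one (by rw [ZMod.card]; norm_num)⟩)
    rcases (MonoidHom.normal_ker ψ).eq_bot_or_eq_top with hk | hk
    · exact ⟨ψ.range, ⟨(MonoidHom.ofInjective ((MonoidHom.ker_eq_bot_iff ψ).1 hk)).symm.trans e⟩⟩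
    · exfalso
      have h1 : ψ (QuotientGroup.mk' _ y₁) = 1 := MonoidHom.mem_ker.1 (hk ▸ Subgroup.mem_top _)
      rw [hψ, hφy] at h1
      have hc := Matrix.SpecialLinearGroup.mem_center_iff.1 ((QuotientGroup.eq_one_iff _).1 h1)
      obtain ⟨r, -, hr⟩ := hc
      rcases hne with h | h <;> exact h (by rw [← hr]; simp)

end Cfsg.Agent.Classical.A5InPSL
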