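import Mathlib

/-!
Klein four subgroups that are their own centralisers.
-/

set_option autoImplicit false

namespace Cfsg.Agent.Classical.KleinN

variable {G : Type*} [Group G]

/-- The Klein four group of two commuting involutions. -/
def ofPair (x y : G) (hx : x * x = 1) (hy : y * y = 1) (hc : x * y = y * x) : Subgroup G where
  carrier := {1, x, y, x * y}
  mul_mem' := by
    have h1 : y * x = x * y := hc.symm
    have h2 : x * (x * y) = y := by rw [← mul_assoc, hx, one_mul]
    have h3 : y * (x * y) = x := by rw [hc, ← mul_assoc, hy, one_mul]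
    have h4 : x * y * x = y := by rw [hc, mul_assoc, hx, mul_one]
    have h5 : x * y * y = x := by rw [mul_assoc, hy, mul_one]
    have h6 : x * y * (x * y) = 1 := by rw [← mul_assoc, h4, hy]
    intro a b ha hb
    simp only [Set.mem_insert_iff, Set.mem_singleton_iff] at ha hb ⊢
    rcases ha with rfl | rfl | rfl | rfl <;> rcases hb with rfl | rfl | rfl | rfl <;>
      simp only [one_mul, mul_one, hx, hy, h1, h2, h3, h4, h5, h6, true_or, or_true]
  one_mem' := by simp
  inv_mem' := by
    intro a ha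
    have e1 : x⁻¹ = x := inv_eq_of_mul_eq_one_right hx
    have e2 : y⁻¹ = y := inv_eq_of_mul_eq_one_right hy
    simp only [Set.mem_insert_iff, Set.mem_singleton_iff] at ha ⊢
    rcases ha with rfl | rfl | rfl | rfl <;> simp [e1, e2, mul_inv_rev, ← hc]

theorem mem_ofPair {x y : G} {hx : x * x = 1} {hy : y * y = 1} {hc : x * y = y * x} {z : G} :
    z ∈ ofPair x y hx hy hc ↔ z = 1 ∨ z = x ∨ z = y ∨ z = x * y := Iff.rfl

theorem isKleinFour_ofPair {x y : G} (hx : x * x = 1) (hy : y * y = 1) (hc : x * y = y * x) (x1 : x ≠ 1)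
    (y1 : y ≠ 1) (hxy : x ≠ y) : IsKleinFour (ofPair x y hx hy hc) := by
  have hxy1 : x * y ≠ 1 := fun h => hxy (by
    calc x = x * (y * y) := by rw [hy, mul_one]
      _ = y := by rw [← mul_assoc, h, one_mul])
  have hxyx : x * y ≠ x := fun h => y1 (mul_eq_left.1 h)
  have hxyy : x * y ≠ y := fun h => x1 (mul_eq_right.1 h)
  constructor
  · show Nat.card ({1, x, y, x * y} : Set G) = 4
    rw [Nat.card_coe_set_eq, Set.ncard_insert_of_notMem (by simp [x1.symm, y1.symm, hxy1.symm]),
      Set.ncard_insert_of_notMem (by simp [hxy, hxyx.symm]), Set.ncard_pair hxyy.symm]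
  · have sq : ∀ z : ofPair x y hx hy hc, z ^ 2 = 1 := fun z => by
      refine Subtype.ext ?_
      rw [pow_two]
      show z.1 * z.1 = 1
      rcases mem_ofPair.1 z.2 with h | h | h | h <;> rw [h]
      · exact one_mul 1
      · exact hx
      · exact hy
      · rw [mul_assoc, ← mul_assoc y, ← hc, ← mul_assoc x, ← mul_assoc x, hx, one_mul, hy]
    refine (Nat.prime_two.eq_one_or_self_of_dvd _ (Monoid.exponent_dvd_of_forall_pow_eq_one sq)).resolve_left ?_
    intro h
    rw [Monoid.exp_eq_one_iff] at h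
    exact x1 (congrArg Subtype.val (h.elim ⟨x, by simp [mem_ofPair]⟩ 1))

variable [Finite G]

theorem mem_cases (V : Subgroup G) [IsKleinFour V] {x y z : G} (hxV : x ∈ V) (hyV : y ∈ V) (x1 : x ≠ 1)
    (y1 : y ≠ 1) (hxy : x ≠ y) (hz : z ∈ V) : z = 1 ∨ z = x ∨ z = y ∨ z = x * y := by
  by_cases h1 : z = 1
  · exact Or.inl h1
  by_cases h2 : z = x
  · exact Or.inr (Or.inl h2)
  by_cases h3 : z = y
  · exact Or.inr (Or.inr (Or.inl h3))
  have := IsKleinFour.eq_mul_of_ne_all (x := (⟨x, hxV⟩ : V)) (y := ⟨y, hyV⟩) (z := ⟨z, hz⟩)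
    (fun h => x1 (congrArg Subtype.val h)) (fun h => y1 (congrArg Subtype.val h))
    (fun h => hxy (congrArg Subtype.val h)) (fun h => h1 (congrArg Subtype.val h))
    (fun h => h2 (congrArg Subtype.val h)) (fun h => h3 (congrArg Subtype.val h))
  exact Or.inr (Or.inr (Or.inr (congrArg Subtype.val this)))

theorem exists_basis (V : Subgroup G) [IsKleinFour V] :
    ∃ x y : G, x ∈ V ∧ y ∈ V ∧ x ≠ 1 ∧ y ≠ 1 ∧ x ≠ y := by
  classical
  have : Fintype V := Fintype.ofFinite V
  have h3 : ((Finset.univ : Finset V).erase 1).card = 3 := by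
    rw [Finset.card_erase_of_mem (Finset.mem_univ _), Finset.card_univ, IsKleinFour.card_four']
  obtain ⟨a, ha, b, hb, hab⟩ := Finset.one_lt_card.1 (by rw [h3]; norm_num : 1 < ((Finset.univ : Finset V).erase 1).card)
  exact ⟨a, b, a.2, b.2, fun h => (Finset.mem_erase.1 ha).1 (Subtype.ext h),
    fun h => (Finset.mem_erase.1 hb).1 (Subtype.ext h), fun h => hab (Subtype.ext h)⟩

theorem eq_of_mem {V W : Subgroup G} [IsKleinFour V] [IsKleinFour W] {x y : G} (hxV : x ∈ V) (hyV : y ∈ V)
    (hxW : x ∈ W) (hyW : y ∈ W) (x1 : x ≠ 1) (y1 : y ≠ 1) (hxy : x ≠ y) : V = W := by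
  have aux : ∀ {A B : Subgroup G} [IsKleinFour A], x ∈ A → y ∈ A → x ∈ B → y ∈ B → A ≤ B := by
    intro A B _ a1 a2 b1 b2 z hz
    rcases mem_cases A a1 a2 x1 y1 hxy hz with rfl | rfl | rfl | rfl
    exacts [B.one_mem, b1, b2, B.mul_mem b1 b2]
  exact le_antisymm (aux hxV hyV hxW hyW) (aux hxW hyW hxV hyV)

/-- Ordered pairs of distinct involutions of V. -/
abbrev PairsIn (V : Subgroup G) : Type _ := {p : V × V // p.1 ≠ 1 ∧ p.2 ≠ 1 ∧ p.1 ≠ p.2}

theorem card_pairsIn (V : Subgroup G) [IsKleinFour V] : Nat.card (PairsIn V) = 6 := by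
  classical
  have : Fintype V := Fintype.ofFinite V
  have h : (((Finset.univ : Finset V).erase 1).offDiag).card = 6 := by
    rw [Finset.offDiag_card, Finset.card_erase_of_mem (Finset.mem_univ _), Finset.card_univ, IsKleinFour.card_four']
  rw [← h, ← Nat.card_eq_finsetCard]
  exact Nat.card_congr (Equiv.subtypeEquivRight fun p => by simp [Finset.mem_offDiag]) 

theorem normalizer_cap (V : Subgroup G) [IsKleinFour V] (hC : Subgroup.centralizer (V : Set G) ≤ V) :
    Nat.card (Subgroup.normalizer (V : Set G)) ≤ 24 ∧ 4 ∣ Nat.card (Subgroup.normalizer (V : Set G)) := by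
  classical
  set N := Subgroup.normalizer (V : Set G)
  have h4 : 4 ∣ Nat.card N := by
    have := Subgroup.card_dvd_of_le (Subgroup.le_normalizer : V ≤ N)
    rwa [IsKleinFour.card_four (G := V)] at this
  refine ⟨?_, h4⟩
  let φ := V.normalizerMonoidHom
  obtain ⟨x, y, hxV, hyV, x1, y1, hxy⟩ := exists_basis V
  have hrange : Nat.card φ.range ≤ 6 := by
    rw [← card_pairsIn V]
    let f : φ.range → PairsIn V := fun e => ⟨(e.1 ⟨x, hxV⟩, e.1 ⟨y, hyV⟩),
      fun h => x1 (congrArg Subtype.val (e.1.injective (h.trans (map_one _).symm))),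
      fun h => y1 (congrArg Subtype.val (e.1.injective (h.trans (map_one _).symm))),
      fun h => hxy (congrArg Subtype.val (e.1.injective h))⟩
    refine Nat.card_le_card_of_injective f fun e e' h => Subtype.ext (MulEquiv.ext fun z => ?_)
    have h1 : e.1 ⟨x, hxV⟩ = e'.1 ⟨x, hxV⟩ := congrArg (fun p : PairsIn V => p.1.1) h
    have h2 : e.1 ⟨y, hyV⟩ = e'.1 ⟨y, hyV⟩ := congrArg (fun p : PairsIn V => p.1.2) h
    rcases mem_cases V hxV hyV x1 y1 hxy z.2 with hz | hz | hz | hz
    · rw [show z = 1 from Subtype.ext hz, map_one, map_one]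
    · rw [show z = ⟨x, hxV⟩ from Subtype.ext hz, h1]
    · rw [show z = ⟨y, hyV⟩ from Subtype.ext hz, h2]
    · rw [show z = ⟨x, hxV⟩ * ⟨y, hyV⟩ from Subtype.ext hz, map_mul, map_mul, h1, h2]
  have hker : Nat.card φ.ker ≤ 4 := by
    rw [V.normalizerMonoidHom_ker, ← IsKleinFour.card_four (G := V)]
    let f : (Subgroup.centralizer (V : Set G)).subgroupOf N → V := fun z => ⟨z.1.1, hC z.2⟩
    exact Nat.card_le_card_of_injective f fun a b h =>
      Subtype.ext (Subtype.ext (show a.1.1 = b.1.1 from congrArg (fun z : V => z.1) h))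
  have h := φ.ker.card_eq_card_quotient_mul_card_subgroup
  rw [Nat.card_congr (QuotientGroup.quotientKerEquivRange φ).toEquiv] at h
  exact h.trans_le (Nat.mul_le_mul hrange hker)

/-- A group with a self-centralising normal Klein four group and an element of order three embeds into the
symmetric group of degree four. -/
theorem embeds_perm_four {H : Type*} [Group H] [Finite H] (V : Subgroup H) [V.Normal] [IsKleinFour V]
    (hC : Subgroup.centralizer (V : Set H) ≤ V) (hcard : Nat.card H = 12 ∨ Nat.card H = 24) :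
    ∃ f : H →* Equiv.Perm (Fin 4), Function.Injective f := by
  classical
  have : Fact (Nat.Prime 3) := ⟨Nat.prime_three⟩
  let P : Sylow 3 H := default
  have hP : Nat.card (P : Subgroup H) = 3 := by
    rw [P.card_eq_multiplicity]
    have e : ∀ n, n = 12 ∨ n = 24 → 3 ^ n.factorization 3 = 3 := by
      rintro n (rfl | rfl)
      · rw [show (12 : ℕ) = 3 ^ 1 * 4 from rfl, Nat.factorization_mul (by norm_num) (by norm_num), Finsupp.add_apply,
          Nat.prime_three.factorization_pow, Finsupp.single_eq_same,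
          Nat.factorization_eq_zero_of_not_dvd (by norm_num : ¬ 3 ∣ 4)]; rfl
      · rw [show (24 : ℕ) = 3 ^ 1 * 8 from rfl, Nat.factorization_mul (by norm_num) (by norm_num), Finsupp.add_apply,
          Nat.prime_three.factorization_pow, Finsupp.single_eq_same,
          Nat.factorization_eq_zero_of_not_dvd (by norm_num : ¬ 3 ∣ 8)]; rfl
    exact e _ hcard
  have disj : ∀ z, z ∈ V → ∀ Q : Sylow 3 H, z ∈ (Q : Subgroup H) → z = 1 := by
    intro z hz Q hQ
    have h1 : orderOf z ∣ 4 := by
      have := Subgroup.orderOf_dvd_natCard _ hz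
      rwa [IsKleinFour.card_four (G := V)] at this
    have h2 : orderOf z ∣ 3 := by
      have := Subgroup.orderOf_dvd_natCard _ hQ
      rwa [Nat.card_congr (Q.equiv P).toEquiv, hP] at this
    exact orderOf_eq_one_iff.1 (Nat.dvd_one.1 (Nat.dvd_gcd h1 h2))
  -- an element of V normalising P is trivial
  have hfix : ∀ v ∈ V, v ∈ Subgroup.normalizer ((P : Subgroup H) : Set H) → v = 1 := by
    intro v hv hvP
    by_contra hv1
    obtain ⟨⟨p, hp⟩, hp1'⟩ := (P : Subgroup H).ne_bot_iff_exists_ne_one.1 (fun hb => by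
      rw [hb, Subgroup.card_bot] at hP; omega)
    have hp1 : p ≠ 1 := fun e => hp1' (Subtype.ext e)
    have hcomm : v * p * v⁻¹ * p⁻¹ = 1 := disj _ (by
        rw [show v * p * v⁻¹ * p⁻¹ = v * (p * v⁻¹ * p⁻¹) by group]
        exact V.mul_mem hv (Subgroup.Normal.conj_mem inferInstance _ (V.inv_mem hv) _)) P
      ((P : Subgroup H).mul_mem ((Subgroup.mem_normalizer_iff.1 hvP _).1 hp) ((P : Subgroup H).inv_mem hp))
    have hvp : v * p = p * v := by
      rwa [mul_inv_eq_one, mul_inv_eq_iff_eq_mul] at hcomm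
    -- p centralises V
    have hp3 : p ^ 3 = 1 := by
      rw [← hP]
      exact congrArg Subtype.val (pow_card_eq_one' (x := (⟨p, hp⟩ : (P : Subgroup H))))
    have hpC : p ∈ Subgroup.centralizer (V : Set H) := by
      rw [Subgroup.mem_centralizer_iff]
      intro w hw
      by_cases hw1 : w = 1
      · subst hw1; simp
      by_cases hwv : w = v
      · subst hwv; exact hvp
      have hconj : p * w * p⁻¹ ∈ V := Subgroup.Normal.conj_mem inferInstance _ hw _
      have hv' : p * v * p⁻¹ = v := by rw [← hvp, mul_inv_cancel_right]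
      rcases mem_cases V hv hw hv1 hw1 (Ne.symm hwv) hconj with e | e | e | e
      · exact absurd (conj_eq_one_iff.1 e) hw1
      · exact absurd ((mul_left_cancel (mul_right_cancel (e.trans hv'.symm)))) hwv
      · rw [mul_inv_eq_iff_eq_mul] at e; exact e.symm
      · exfalso
        have e2 : p * (p * w * p⁻¹) * p⁻¹ = w := by
          rw [e, show p * (v * w) * p⁻¹ = (p * v * p⁻¹) * (p * w * p⁻¹) by group, hv', e, ← mul_assoc]
          rw [show v * v = 1 from congrArg Subtype.val (IsKleinFour.mul_self (⟨v, hv⟩ : V)), one_mul]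
        have e3 : p ^ 3 * w * (p ^ 3)⁻¹ = p * w * p⁻¹ := by
          calc p ^ 3 * w * (p ^ 3)⁻¹ = p * (p * (p * w * p⁻¹) * p⁻¹) * p⁻¹ := by
                simp [pow_succ, mul_assoc]
            _ = p * w * p⁻¹ := by rw [e2]
        rw [hp3, one_mul, inv_one, mul_one, e] at e3
        exact hv1 (mul_eq_right.1 e3.symm)
    have : p = 1 := disj p (hC hpC) P hp
    exact hp1 this
  -- four Sylow subgroups
  have hn : Nat.card (Sylow 3 H) = 4 := by
    have hge : 4 ≤ Nat.card (Sylow 3 H) := by
      rw [← IsKleinFour.card_four (G := V)]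
      let f : V → Sylow 3 H := fun v => v.1 • P
      refine Nat.card_le_card_of_injective f fun a b h => ?_
      have hst : (b.1⁻¹ * a.1) • P = P := by
        rw [mul_smul, show a.1 • P = b.1 • P from h, inv_smul_smul]
      rw [Sylow.smul_eq_iff_mem_normalizer] at hst
      have := hfix _ (V.mul_mem (V.inv_mem b.2) a.2) hst
      exact Subtype.ext (inv_mul_eq_one.1 this).symm
    have hdvd := P.card_dvd_index
    have hidx := (P : Subgroup H).card_mul_index
    rw [hP] at hidx
    have hmod := card_sylow_modEq_one 3 H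
    rcases hcard with h | h <;> rw [h] at hidx
    · have hi : (P : Subgroup H).index = 4 := by omega
      rw [hi] at hdvd
      have := Nat.le_of_dvd (by norm_num) hdvd
      omega
    · have hi : (P : Subgroup H).index = 8 := by omega
      rw [hi] at hdvd
      have hle := Nat.le_of_dvd (by norm_num) hdvd
      unfold Nat.ModEq at hmod
      rcases (show Nat.card (Sylow 3 H) = 4 ∨ Nat.card (Sylow 3 H) = 5 ∨ Nat.card (Sylow 3 H) = 6 ∨
        Nat.card (Sylow 3 H) = 7 ∨ Nat.card (Sylow 3 H) = 8 by omega) with e | e | e | e | e <;>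
        rw [e] at hdvd hmod ⊢ <;> omega
  have : Fintype (Sylow 3 H) := Fintype.ofFinite _
  let e : Sylow 3 H ≃ Fin 4 := Fintype.equivFinOfCardEq (by rw [← Nat.card_eq_fintype_card, hn])
  refine ⟨e.permCongrHom.toMonoidHom.comp (MulAction.toPermHom H (Sylow 3 H)), ?_⟩
  refine e.permCongrHom.injective.comp ((injective_iff_map_eq_one _).2 fun k hk => ?_)
  have hk' : ∀ Q : Sylow 3 H, k • Q = Q := fun Q => Equiv.congr_fun hk Q
  have hkV : k ∈ V := hC (Subgroup.mem_centralizer_iff.2 fun v hv => by
    have hc : k * v * k⁻¹ * v⁻¹ ∈ V :=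
      V.mul_mem (Subgroup.Normal.conj_mem inferInstance _ hv _) (V.inv_mem hv)
    have hfixP : (k * v * k⁻¹ * v⁻¹) • P = P := by
      rw [mul_smul, mul_smul, mul_smul]
      have h1 : k⁻¹ • (v⁻¹ • P) = v⁻¹ • P := by
        conv_lhs => rw [← hk' (v⁻¹ • P)]
        rw [inv_smul_smul]
      rw [h1, smul_inv_smul, hk']
    have := hfix _ hc (Sylow.smul_eq_iff_mem_normalizer.1 hfixP)
    rw [mul_inv_eq_one, mul_inv_eq_iff_eq_mul] at this
    exact this.symm)
  exact hfix k hkV (Sylow.smul_eq_iff_mem_normalizer.1 (hk' P))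

theorem equiv_sym_four {H : Type*} [Group H] [Finite H] (V : Subgroup H) [V.Normal] [IsKleinFour V]
    (hC : Subgroup.centralizer (V : Set H) ≤ V) (hcard : Nat.card H = 24) :
    Nonempty (H ≃* Equiv.Perm (Fin 4)) := by
  obtain ⟨f, hf⟩ := embeds_perm_four V hC (Or.inr hcard)
  exact ⟨MulEquiv.ofBijective f ((Nat.bijective_iff_injective_and_card f).2
    ⟨hf, by rw [hcard, Nat.card_perm, Nat.card_fin]; rfl⟩)⟩

theorem equiv_alt_four {H : Type*} [Group H] [Finite H] (V : Subgroup H) [V.Normal] [IsKleinFour V]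
    (hC : Subgroup.centralizer (V : Set H) ≤ V) (hcard : Nat.card H = 12) :
    Nonempty (H ≃* alternatingGroup (Fin 4)) := by
  obtain ⟨f, hf⟩ := embeds_perm_four V hC (Or.inl hcard)
  have h := f.range.card_mul_index
  rw [← Nat.card_congr (MonoidHom.ofInjective hf).toEquiv, hcard, Nat.card_perm, Nat.card_fin] at h
  have hidx : f.range.index = 2 := by simp [Nat.factorial] at h; omega
  exact ⟨(MonoidHom.ofInjective hf).trans (MulEquiv.subgroupCongr
    (Equiv.Perm.eq_alternatingGroup_of_index_eq_two hidx))⟩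

/-- The normaliser of a self-centralising Klein four group inside the whole group. -/
theorem normalizer_equiv (V : Subgroup G) [IsKleinFour V] (hC : Subgroup.centralizer (V : Set G) ≤ V) :
    (Nat.card (Subgroup.normalizer (V : Set G)) = 24 →
        Nonempty (Subgroup.normalizer (V : Set G) ≃* Equiv.Perm (Fin 4))) ∧
      (Nat.card (Subgroup.normalizer (V : Set G)) = 12 →
        Nonempty (Subgroup.normalizer (V : Set G) ≃* alternatingGroup (Fin 4))) := by
  set N := Subgroup.normalizer (V : Set G)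
  let e := Subgroup.subgroupOfEquivOfLe (Subgroup.le_normalizer : V ≤ N)
  have : IsKleinFour (V.subgroupOf N) :=
    ⟨(Nat.card_congr e.toEquiv).trans IsKleinFour.card_four,
      (Monoid.exponent_eq_of_mulEquiv e).trans IsKleinFour.exponent_two⟩
  have : (V.subgroupOf N).Normal := Subgroup.normal_in_normalizer
  have hC' : Subgroup.centralizer ((V.subgroupOf N : Subgroup N) : Set N) ≤ V.subgroupOf N := fun z hz =>
    hC (Subgroup.mem_centralizer_iff.2 fun v hv =>
      congrArg Subtype.val (Subgroup.mem_centralizer_iff.1 hz ⟨v, Subgroup.le_normalizer hv⟩ hv))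
  exact ⟨fun h => equiv_sym_four _ hC' h, fun h => equiv_alt_four _ hC' h⟩

theorem eight_dvd_normalizer (V : Subgroup G) [IsKleinFour V] (h8 : 8 ∣ Nat.card G) :
    8 ∣ Nat.card (Subgroup.normalizer (V : Set G)) := by
  have : Fact (Nat.Prime 2) := ⟨Nat.prime_two⟩
  obtain ⟨K, hK, hVK⟩ := Sylow.exists_subgroup_card_pow_succ (p := 2) (n := 2) (show 2 ^ (2 + 1) ∣ Nat.card G from h8)
    (H := V) IsKleinFour.card_four
  have hidx : (V.subgroupOf K).index = 2 := by
    have h := (V.subgroupOf K).card_mul_index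
    rw [Nat.card_congr (Subgroup.subgroupOfEquivOfLe hVK).toEquiv, IsKleinFour.card_four (G := V), hK] at h
    omega
  have hn : (V.subgroupOf K).Normal := Subgroup.normal_of_index_eq_two hidx
  have hle : K ≤ Subgroup.normalizer (V : Set G) := (Subgroup.normal_subgroupOf_iff_le_normalizer hVK).1 hn
  have := Subgroup.card_dvd_of_le hle
  rwa [hK] at this

/-- The number of conjugates. -/
theorem card_orbit (V : Subgroup G) :
    Nat.card {W : Subgroup G // ∃ g : G, W = V.map (MulAut.conj g).toMonoidHom} *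
      Nat.card (Subgroup.normalizer (V : Set G)) = Nat.card G := by
  classical
  have key : ∀ g, V.map (MulAut.conj g).toMonoidHom = V ↔ g ∈ Subgroup.normalizer (V : Set G) := by
    intro g
    rw [Subgroup.mem_normalizer_iff]
    constructor
    · intro h x
      constructor
      · intro hx; rw [← h]; exact ⟨x, hx, rfl⟩
      · intro hx
        rw [← h] at hx
        obtain ⟨y, hy, e⟩ := hx
        have : y = x := mul_left_cancel (mul_right_cancel (show g * y * g⁻¹ = g * x * g⁻¹ from e))
        exact this ▸ hy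
    · intro h
      ext x
      constructor
      · rintro ⟨y, hy, rfl⟩; exact (h y).1 hy
      · intro hx
        exact ⟨g⁻¹ * x * g, (h _).2 (by simpa [mul_assoc] using hx), by simp [mul_assoc]⟩
  have comp : ∀ a b : G, (V.map (MulAut.conj b).toMonoidHom).map (MulAut.conj a).toMonoidHom =
      V.map (MulAut.conj (a * b)).toMonoidHom := fun a b => by
    rw [Subgroup.map_map]; congr 1; ext x; simp [mul_assoc]
  let f : G ⧸ Subgroup.normalizer (V : Set G) →
      {W : Subgroup G // ∃ g : G, W = V.map (MulAut.conj g).toMonoidHom} :=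
    Quotient.lift (fun g => ⟨V.map (MulAut.conj g).toMonoidHom, g, rfl⟩) fun a b h => Subtype.ext (by
      have h' := (key _).2 (QuotientGroup.leftRel_apply.1 h)
      show V.map _ = V.map _
      conv_rhs => rw [show b = a * (a⁻¹ * b) by group, ← comp, h'])
  have hf : Function.Bijective f := by
    constructor
    · intro a b
      refine Quotient.inductionOn₂ a b fun a b h => Quotient.sound (QuotientGroup.leftRel_apply.2 ((key _).1 ?_))
      have h' : V.map (MulAut.conj a).toMonoidHom = V.map (MulAut.conj b).toMonoidHom := congrArg Subtype.val h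
      rw [← comp, ← h', comp, inv_mul_cancel]
      ext x; simp
    · rintro ⟨W, g, rfl⟩; exact ⟨Quotient.mk _ g, rfl⟩
  rw [← Nat.card_eq_of_bijective f hf]
  exact (Subgroup.normalizer (V : Set G)).card_eq_card_quotient_mul_card_subgroup.symm

end Cfsg.Agent.Classical.KleinN
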