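import Mathlib
import Cfsg.Agent.Classical.QuadBasis
import Cfsg.Agent.Classical.OrthMat
import Cfsg.Agent.Classical.OrthBlocks

/-!
The two families of maximal totally singular subspaces of a quadratic space of plus type.
-/

set_option autoImplicit false

namespace Cfsg.Agent.Classical.Quad

open Module QuadraticMap

variable {F V : Type*} [Field F] [AddCommGroup V] [Module F V] [FiniteDimensional F V] {Q : QuadraticForm F V}

omit [FiniteDimensional F V] in
theorem polar_zero_of_singular {W : Submodule F V} (hW : ∀ w ∈ W, Q w = 0) {x y : V} (hx : x ∈ W) (hy : y ∈ W) :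
    polar Q x y = 0 := by
  rw [polar, hW _ (W.add_mem hx hy), hW _ hx, hW _ hy]; ring

omit [FiniteDimensional F V] in
theorem mem_perp {W : Submodule F V} {x : V} :
    x ∈ LinearMap.BilinForm.orthogonal (polarBilin Q) W ↔ ∀ w ∈ W, polar Q w x = 0 := Iff.rfl

theorem finrank_perp (hQ : (polarBilin Q).Nondegenerate) (W : Submodule F V) :
    finrank F (LinearMap.BilinForm.orthogonal (polarBilin Q) W) = finrank F V - finrank F W :=
  LinearMap.BilinForm.finrank_orthogonal hQ W

/-- Plus type: singular subspaces of half the dimension exist. -/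
structure PlusSpace (Q : QuadraticForm F V) (m : ℕ) : Prop where
  nd : (polarBilin Q).Nondegenerate
  dim : finrank F V = 2 * m
  max : ∃ W : Submodule F V, finrank F W = m ∧ ∀ w ∈ W, Q w = 0

theorem PlusSpace.perp_eq {m : ℕ} (h : PlusSpace Q m) {W : Submodule F V} (hd : finrank F W = m)
    (hW : ∀ w ∈ W, Q w = 0) : LinearMap.BilinForm.orthogonal (polarBilin Q) W = W :=
  (Submodule.eq_of_le_of_finrank_eq (fun x hx => mem_perp.2 fun w hw => polar_zero_of_singular hW hw hx)
    (by rw [finrank_perp h.nd, h.dim, hd]; omega)).symm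

theorem PlusSpace.extend {m : ℕ} (h : PlusSpace Q m) {U : Submodule F V} (hU : ∀ u ∈ U, Q u = 0) :
    ∃ W, U ≤ W ∧ finrank F W = m ∧ ∀ w ∈ W, Q w = 0 := by
  classical
  obtain ⟨W0, hd0, hW0⟩ := h.max
  let S : Set ℕ := {k | ∃ W, U ≤ W ∧ finrank F W = k ∧ ∀ w ∈ W, Q w = 0}
  have hb : BddAbove S := ⟨m, fun k ⟨W, _, hk, hW⟩ => by
    have := two_mul_finrank_le h.nd hW
    rw [h.dim] at this; omega⟩
  obtain ⟨W, hUW, hk, hW⟩ := Nat.sSup_mem (s := S) ⟨finrank F U, U, le_rfl, rfl, hU⟩ hb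
  have hle := two_mul_finrank_le h.nd hW
  rw [h.dim] at hle
  refine ⟨W, hUW, ?_, hW⟩
  rw [← hd0]
  refine finrank_eq_of_maximal h.nd hW hW0 (fun W' hWW' hW' => ?_) (by omega)
  refine (Submodule.eq_of_le_of_finrank_le hWW' ?_).symm
  rw [hk]
  exact le_csSup hb ⟨W', hUW.trans hWW', rfl, hW'⟩

/-- Over a singular subspace of codimension one there are two maximal singular subspaces. -/
theorem PlusSpace.two_above {m : ℕ} (h : PlusSpace Q m) {U : Submodule F V} (hUd : finrank F U + 1 = m)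
    (hU : ∀ u ∈ U, Q u = 0) :
    ∃ A B : Submodule F V, A ≠ B ∧ (U ≤ A ∧ finrank F A = m ∧ ∀ w ∈ A, Q w = 0) ∧
      (U ≤ B ∧ finrank F B = m ∧ ∀ w ∈ B, Q w = 0) ∧
      ∀ z, Q z = 0 → (∀ u ∈ U, polar Q u z = 0) → z ∈ A ∨ z ∈ B := by
  classical
  obtain ⟨A, hUA, hdA, hA⟩ := h.extend hU
  set P := LinearMap.BilinForm.orthogonal (polarBilin Q) U with hP
  have hdP : finrank F P = m + 1 := by rw [hP, finrank_perp h.nd, h.dim]; omega
  have hAP : A ≤ P := fun x hx => mem_perp.2 fun u hu => polar_zero_of_singular hA (hUA hu) hx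
  obtain ⟨a, haA, haU⟩ := SetLike.exists_of_lt (lt_of_le_of_ne hUA (fun e => by rw [e] at hUd; omega))
  have hsupA : U ⊔ Submodule.span F {a} = A := by
    refine Submodule.eq_of_le_of_finrank_eq (sup_le hUA ((Submodule.span_singleton_le_iff_mem _ _).2 haA)) ?_
    rw [Submodule.finrank_sup_span_singleton haU, hUd, hdA]
  obtain ⟨w, hwP, hwA⟩ := SetLike.exists_of_lt (lt_of_le_of_ne hAP (fun e => by rw [e] at hdA; omega))
  have hpol : polar Q a w ≠ 0 := fun h0 => hwA (by
    rw [← h.perp_eq hdA hA]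
    refine mem_perp.2 fun x hx => ?_
    rw [← hsupA, Submodule.mem_sup] at hx
    obtain ⟨u, hu, y, hy, rfl⟩ := hx
    obtain ⟨c, rfl⟩ := Submodule.mem_span_singleton.1 hy
    rw [polar_add_left, polar_smul_left, (mem_perp.1 hwP) u hu, h0, smul_zero, add_zero])
  set b : V := (polar Q a w)⁻¹ • w - ((polar Q a w)⁻¹ * (polar Q a w)⁻¹ * Q w) • a with hb
  have qa : Q a = 0 := hA a haA
  have hab : polar Q a b = 1 := by
    rw [hb, sub_eq_add_neg, polar_add_right, ← neg_smul, polar_smul_right, polar_smul_right,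
      polar_self', qa, smul_eq_mul, smul_eq_mul, inv_mul_cancel₀ hpol]
    ring
  have qb : Q b = 0 := by
    rw [hb, sub_eq_add_neg, ← neg_smul, map_add_smul, map_smul', polar_smul_left, polar_comm (Q : V → F) w a, qa,
      smul_eq_mul]
    field_simp
    ring
  have hbP : ∀ u ∈ U, polar Q u b = 0 := fun u hu => by
    rw [hb, sub_eq_add_neg, polar_add_right, ← neg_smul, polar_smul_right, polar_smul_right,
      (mem_perp.1 hwP) u hu, polar_zero_of_singular hA (hUA hu) haA]
    simp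
  have hbU : b ∉ U := fun hh => one_ne_zero (hab.symm.trans (polar_zero_of_singular hA haA (hUA hh)))
  have haP : ∀ u ∈ U, polar Q u a = 0 := fun u hu => polar_zero_of_singular hA (hUA hu) haA
  set B := U ⊔ Submodule.span F {b} with hB
  have hdB : finrank F B = m := by rw [hB, Submodule.finrank_sup_span_singleton hbU, hUd]
  have hBs : ∀ x ∈ B, Q x = 0 := fun x hx => by
    rw [hB, Submodule.mem_sup] at hx
    obtain ⟨u, hu, y, hy, rfl⟩ := hx
    obtain ⟨c, rfl⟩ := Submodule.mem_span_singleton.1 hy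
    rw [map_add_smul, hU u hu, hbP u hu, qb]; ring
  have hbB : b ∈ B := Submodule.mem_sup_right (Submodule.mem_span_singleton_self b)
  refine ⟨A, B, fun e => one_ne_zero (hab.symm.trans (polar_zero_of_singular hA haA (e ▸ hbB))),
    ⟨hUA, hdA, hA⟩, ⟨le_sup_left, hdB, hBs⟩, fun z qz hz => ?_⟩
  have hspan : (A ⊔ Submodule.span F {b}) = P := by
    refine Submodule.eq_of_le_of_finrank_eq
      (sup_le hAP ((Submodule.span_singleton_le_iff_mem _ _).2 (mem_perp.2 hbP))) ?_
    rw [Submodule.finrank_sup_span_singleton (fun hh => one_ne_zero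
      (hab.symm.trans (polar_zero_of_singular hA haA hh))), hdA, hdP]
  have hz' : z ∈ A ⊔ Submodule.span F {b} := by rw [hspan]; exact mem_perp.2 hz
  rw [Submodule.mem_sup] at hz'
  obtain ⟨x, hx, y, hy, rfl⟩ := hz'
  obtain ⟨c, rfl⟩ := Submodule.mem_span_singleton.1 hy
  rw [← hsupA, Submodule.mem_sup] at hx
  obtain ⟨u, hu, y', hy', rfl⟩ := hx
  obtain ⟨d, rfl⟩ := Submodule.mem_span_singleton.1 hy'
  rw [map_add_smul, hA _ (A.add_mem (hUA hu) (A.smul_mem _ haA)), qb, polar_add_left, polar_smul_left, hbP u hu,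
    hab, smul_eq_mul] at qz
  have : c * d = 0 := by linear_combination qz
  rcases mul_eq_zero.1 this with rfl | rfl
  · left; rw [zero_smul, add_zero]; exact A.add_mem (hUA hu) (A.smul_mem _ haA)
  · right; rw [zero_smul, add_zero]
    exact B.add_mem (Submodule.mem_sup_left hu) (B.smul_mem _ hbB)

theorem PlusSpace.card_above {m : ℕ} (h : PlusSpace Q m) {U : Submodule F V} (hUd : finrank F U + 1 = m)
    (hU : ∀ u ∈ U, Q u = 0) :
    Nat.card {W : Submodule F V // finrank F W = m ∧ (∀ w ∈ W, Q w = 0) ∧ U ≤ W} = 2 := by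
  classical
  obtain ⟨A, B, hne, ⟨hUA, hdA, hA⟩, ⟨hUB, hdB, hB⟩, hall⟩ := h.two_above hUd hU
  have hset : {W : Submodule F V | finrank F W = m ∧ (∀ w ∈ W, Q w = 0) ∧ U ≤ W} = {A, B} := by
    ext W
    refine ⟨fun ⟨hd, hW, hUW⟩ => ?_, ?_⟩
    · obtain ⟨z, hzW, hzU⟩ := SetLike.exists_of_lt (lt_of_le_of_ne hUW (fun e => by rw [e] at hUd; omega))
      have hsup : U ⊔ Submodule.span F {z} = W :=
        Submodule.eq_of_le_of_finrank_eq (sup_le hUW ((Submodule.span_singleton_le_iff_mem _ _).2 hzW))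
          (by rw [Submodule.finrank_sup_span_singleton hzU, hUd, hd])
      rw [← hsup]
      rcases hall z (hW z hzW) (fun u hu => polar_zero_of_singular hW (hUW hu) hzW) with hz | hz
      · exact Or.inl (Submodule.eq_of_le_of_finrank_eq (sup_le hUA ((Submodule.span_singleton_le_iff_mem _ _).2 hz))
          (by rw [Submodule.finrank_sup_span_singleton hzU, hUd, hdA]))
      · exact Or.inr (Submodule.eq_of_le_of_finrank_eq (sup_le hUB ((Submodule.span_singleton_le_iff_mem _ _).2 hz))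
          (by rw [Submodule.finrank_sup_span_singleton hzU, hUd, hdB]))
    · rintro (rfl | rfl)
      exacts [⟨hdA, hA, hUA⟩, ⟨hdB, hB, hUB⟩]
  exact (congrArg (fun s : Set (Submodule F V) => Nat.card s) hset).trans
    ((Nat.card_coe_set_eq _).trans (Set.ncard_pair hne))

/-- Adjacent maximal singular subspaces change the parity of the intersection with any third one. -/
theorem PlusSpace.adjacent {m : ℕ} (h : PlusSpace Q m) {X X' W : Submodule F V}
    (hX : finrank F X = m ∧ ∀ x ∈ X, Q x = 0) (hX' : finrank F X' = m ∧ ∀ x ∈ X', Q x = 0)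
    (hW : finrank F W = m ∧ ∀ x ∈ W, Q x = 0) (hXX : finrank F ↥(X ⊓ X') + 1 = m) :
    finrank F ↥(W ⊓ X) = finrank F ↥(W ⊓ X') + 1 ∨ finrank F ↥(W ⊓ X') = finrank F ↥(W ⊓ X) + 1 := by
  classical
  set Y := X ⊓ X' with hY
  have hYs : ∀ y ∈ Y, Q y = 0 := fun y hy => hX.2 y hy.1
  obtain ⟨A, B, hne, ⟨hYA, hdA, hA⟩, ⟨hYB, hdB, hB⟩, hall⟩ := h.two_above hXX hYs
  have hne' : X ≠ X' := fun e => by rw [← e] at hY; rw [hY, inf_idem, hX.1] at hXX; omega
  have hXY : ∀ z, Q z = 0 → (∀ y ∈ Y, polar Q y z = 0) → z ∈ X ∨ z ∈ X' := by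
    have key : ∀ Z : Submodule F V, Y ≤ Z → finrank F Z = m → (∀ z ∈ Z, Q z = 0) → Z = A ∨ Z = B := by
      intro Z hYZ hdZ hZ
      obtain ⟨z, hzZ, hzY⟩ := SetLike.exists_of_lt (lt_of_le_of_ne hYZ (fun e => by rw [e] at hXX; omega))
      have hsup : Y ⊔ Submodule.span F {z} = Z :=
        Submodule.eq_of_le_of_finrank_eq (sup_le hYZ ((Submodule.span_singleton_le_iff_mem _ _).2 hzZ))
          (by rw [Submodule.finrank_sup_span_singleton hzY, hXX, hdZ])
      rcases hall z (hZ z hzZ) (fun u hu => polar_zero_of_singular hZ (hYZ hu) hzZ) with hz | hz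
      · exact Or.inl (hsup ▸ Submodule.eq_of_le_of_finrank_eq
          (sup_le hYA ((Submodule.span_singleton_le_iff_mem _ _).2 hz))
          (by rw [Submodule.finrank_sup_span_singleton hzY, hXX, hdA]))
      · exact Or.inr (hsup ▸ Submodule.eq_of_le_of_finrank_eq
          (sup_le hYB ((Submodule.span_singleton_le_iff_mem _ _).2 hz))
          (by rw [Submodule.finrank_sup_span_singleton hzY, hXX, hdB]))
    intro z qz hz
    rcases key X inf_le_left hX.1 hX.2 with e | e <;> rcases key X' inf_le_right hX'.1 hX'.2 with e' | e'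
    · exact absurd (e.trans e'.symm) hne'
    · rw [e, e']; exact hall z qz hz
    · rw [e, e']; exact (hall z qz hz).symm
    · exact absurd (e.trans e'.symm) hne'
  set P := LinearMap.BilinForm.orthogonal (polarBilin Q) Y with hP
  have hdP : finrank F P = m + 1 := by rw [hP, finrank_perp h.nd, h.dim]; omega
  -- a vector of W orthogonal to Y outside Y
  obtain ⟨z, ⟨hzW, hzP⟩, hzY⟩ : ∃ z, z ∈ W ⊓ P ∧ z ∉ Y := by
    by_contra hcon
    push_neg at hcon
    have hsub : W ⊓ P ≤ W ⊓ Y := fun x hx => ⟨hx.1, hcon x hx⟩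
    have h1 := Submodule.finrank_mono hsub
    have h2 := Submodule.finrank_sup_add_finrank_inf_eq W P
    have hle : W ⊔ P ≤ LinearMap.BilinForm.orthogonal (polarBilin Q) (W ⊓ Y) := sup_le
      (fun x hx => mem_perp.2 fun w hw => polar_zero_of_singular hW.2 hw.1 hx)
      (LinearMap.BilinForm.orthogonal_le inf_le_right)
    have h3 := Submodule.finrank_mono hle
    rw [finrank_perp h.nd, h.dim] at h3
    have h4 := Submodule.finrank_mono (inf_le_left : W ⊓ Y ≤ W)
    rw [hW.1, hdP] at h2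
    rw [hW.1] at h4
    omega
  have main : ∀ X X' : Submodule F V, finrank F X = m → Y = X ⊓ X' →
      (∀ z, Q z = 0 → (∀ y ∈ Y, polar Q y z = 0) → z ∈ X ∨ z ∈ X') → (∀ x ∈ X', Q x = 0) → z ∈ X →
      finrank F ↥(W ⊓ X) = finrank F ↥(W ⊓ X') + 1 := by
    intro X X' hdX hY' hor hX's hzX
    have e : W ⊓ X' = W ⊓ Y := by
      refine le_antisymm (fun x hx => ⟨hx.1, ?_⟩) (inf_le_inf_left _ (by rw [hY']; exact inf_le_right))
      rcases hor (z + x) (hW.2 _ (W.add_mem hzW hx.1)) (fun y hy => by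
          rw [polar_add_right, (mem_perp.1 hzP) y hy,
            polar_zero_of_singular hX's (show y ∈ X' by rw [hY'] at hy; exact hy.2) hx.2, add_zero]) with hh | hh
      · rw [hY']; exact ⟨by simpa using X.sub_mem hh hzX, hx.2⟩
      · exfalso; apply hzY; rw [hY']; exact ⟨hzX, by simpa using X'.sub_mem hh hx.2⟩
    rw [e]
    have hlt : W ⊓ Y < W ⊓ X := lt_of_le_of_ne (inf_le_inf_left _ (by rw [hY']; exact inf_le_left))
      fun hh => hzY (show z ∈ W ⊓ Y by rw [hh]; exact ⟨hzW, hzX⟩).2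
    have h1 := Submodule.finrank_lt_finrank_of_lt hlt
    have h2 := Submodule.finrank_sup_add_finrank_inf_eq (W ⊓ X) Y
    have h3 : (W ⊓ X) ⊓ Y = W ⊓ Y := by
      rw [inf_assoc, inf_eq_right.2 (show Y ≤ X by rw [hY']; exact inf_le_left)]
    have h4 := Submodule.finrank_mono (sup_le (inf_le_right : W ⊓ X ≤ X) (show Y ≤ X by rw [hY']; exact inf_le_left))
    rw [h3] at h2
    omega
  rcases hXY z (hW.2 z hzW) (mem_perp.1 hzP) with hz | hz
  · exact Or.inl (main X X' hX.1 hY hXY hX'.2 hz)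
  · exact Or.inr (main X' X hX'.1 (hY.trans (inf_comm _ _)) (fun z a b => (hXY z a b).symm) hX.2 hz)

theorem PlusSpace.parity {m : ℕ} (h : PlusSpace Q m) {U W : Submodule F V}
    (hU : finrank F U = m ∧ ∀ x ∈ U, Q x = 0) (hW : finrank F W = m ∧ ∀ x ∈ W, Q x = 0) :
    ∀ (d : ℕ) (X : Submodule F V), (finrank F X = m ∧ ∀ x ∈ X, Q x = 0) → m - finrank F ↥(U ⊓ X) = d →
      Even ((m - finrank F ↥(U ⊓ W)) + (m - finrank F ↥(W ⊓ X)) + (m - finrank F ↥(U ⊓ X))) := by
  have le_m : ∀ A B : Submodule F V, finrank F A = m → finrank F ↥(A ⊓ B) ≤ m := fun A B hA =>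
    hA ▸ Submodule.finrank_mono inf_le_left
  intro d
  induction d with
  | zero =>
    intro X hX hd
    have h1 := le_m U X hU.1
    have e : U ⊓ X = U := Submodule.eq_of_le_of_finrank_eq inf_le_left (by omega)
    have e2 : U = X := Submodule.eq_of_le_of_finrank_eq (inf_eq_left.1 e) (hU.1.trans hX.1.symm)
    subst e2
    rw [inf_idem, hU.1, inf_comm W U]
    exact ⟨m - finrank F ↥(U ⊓ W), by omega⟩
  | succ d ih =>
    intro X hX hd
    obtain ⟨Y, hUY, hYX, hdY⟩ : ∃ Y, U ⊓ X ≤ Y ∧ Y ≤ X ∧ finrank F Y + 1 = m := by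
      obtain ⟨Y', hc, hle⟩ := (eq_top_or_exists_le_coatom ((U ⊓ X).comap X.subtype)).resolve_left (fun htop => by
        have : U ⊓ X = X := le_antisymm inf_le_right fun x hx => by
          have : (⟨x, hx⟩ : X) ∈ (U ⊓ X).comap X.subtype := htop ▸ Submodule.mem_top
          exact this
        rw [this, hX.1] at hd; omega)
      refine ⟨Y'.map X.subtype, fun x hx => ⟨⟨x, hx.2⟩, hle (show (⟨x, hx.2⟩ : X) ∈ _ from hx), rfl⟩,
        Submodule.map_subtype_le _ _, ?_⟩
      rw [Submodule.finrank_map_subtype_eq]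
      obtain ⟨x, -, hx⟩ := SetLike.exists_of_lt (lt_top_iff_ne_top.2 hc.1)
      have := hc.2 _ (lt_of_le_of_ne le_sup_left fun e => hx (e ▸ Submodule.mem_sup_right
        (Submodule.mem_span_singleton_self x)))
      have h5 := Submodule.finrank_sup_span_singleton hx
      rw [this, finrank_top, hX.1] at h5
      omega
    obtain ⟨A, B, hne, hA, hB, -⟩ := h.two_above hdY fun y hy => hX.2 y (hYX hy)
    obtain ⟨X', hYX', hX'd, hX's, hne'⟩ : ∃ X', Y ≤ X' ∧ finrank F X' = m ∧ (∀ x ∈ X', Q x = 0) ∧ X' ≠ X := by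
      by_cases e : A = X
      · exact ⟨B, hB.1, hB.2.1, hB.2.2, fun e' => hne (e.trans e'.symm)⟩
      · exact ⟨A, hA.1, hA.2.1, hA.2.2, e⟩
    have hYe : X ⊓ X' = Y := by
      refine (Submodule.eq_of_le_of_finrank_le (le_inf hYX hYX') ?_).symm
      have : X ⊓ X' < X := lt_of_le_of_ne inf_le_left fun e => hne'
        (Submodule.eq_of_le_of_finrank_eq (inf_eq_left.1 e) (hX.1.trans hX'd.symm)).symm
      have := Submodule.finrank_lt_finrank_of_lt this
      omega
    have hadjW := h.adjacent hX ⟨hX'd, hX's⟩ hW (by rw [hYe, hdY])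
    have hadjU := h.adjacent hX ⟨hX'd, hX's⟩ hU (by rw [hYe, hdY])
    have hge : finrank F ↥(U ⊓ X) ≤ finrank F ↥(U ⊓ X') :=
      Submodule.finrank_mono (le_inf inf_le_left (hUY.trans hYX'))
    have b1 := le_m U X' hU.1
    have b2 := le_m W X' hW.1
    have b3 := le_m U W hU.1
    have b4 := le_m W X hW.1
    obtain ⟨k, hk⟩ := ih X' ⟨hX'd, hX's⟩ (by omega)
    rcases hadjW with hh | hh <;> rw [Nat.even_iff] <;> omega

theorem plusSpace_plus (m : ℕ) : PlusSpace (Quad.plusQ F m) m where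
  nd := nondeg_plusQ
  dim := by simp; omega
  max := by
    obtain ⟨⟨U, hU, hUd⟩, -⟩ := plus_index (F := F) m
    exact ⟨U, hUd, fun w hw => (congrFun coe_plusQ w).trans (hU w hw)⟩

end Cfsg.Agent.Classical.Quad
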