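import Mathlib
import Cfsg.Agent.Classical.OrthBlocks

/-!
Diagonal involutions negating hyperbolic coordinate pairs.
-/

set_option autoImplicit false

namespace Cfsg.Agent.Classical.Quad

open Module QuadraticMap

variable {F : Type*} [Field F] [Finite F] {ι : Type} [Fintype ι] [DecidableEq ι] {Q : QuadraticForm F (ι → F)}

/-- A diagonal sign change on some coordinate pairs lies in the commutator subgroup by the square class of minus one. -/
theorem diag_neg_pairs_iff (hQ : (polarBilin Q).Nondegenerate) (h2 : (2 : F) ≠ 0) {m : ℕ} (el er : Fin m → ι)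
    (hl : ∀ j, Q (Pi.single (el j) 1) = 0) (hr : ∀ j, Q (Pi.single (er j) 1) = 0)
    (hlr : ∀ j, polar Q (Pi.single (el j) 1) (Pi.single (er j) 1) = 1)
    (ho : ∀ j t, t ≠ el j → t ≠ er j →
      polar Q (Pi.single t 1) (Pi.single (el j) 1) = 0 ∧ polar Q (Pi.single t 1) (Pi.single (er j) 1) = 0)
    (hd : ∀ i j, i ≠ j → el i ≠ el j ∧ er i ≠ er j) (hlr' : ∀ i j, el i ≠ er j) (d : ι → F) (s : Finset (Fin m))
    (hds : ∀ j ∈ s, d (el j) = -1 ∧ d (er j) = -1) (hd1 : ∀ t, (∀ j ∈ s, t ≠ el j ∧ t ≠ er j) → d t = 1) :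
    (∃ g : Cfsg.isometryGroup F ⇑Q, g ∈ Cfsg.Omega F ⇑Q ∧ ((g : GL ι F) : Matrix ι ι F) = Matrix.diagonal d) ↔
      IsSquare ((-1 : F) ^ s.card) := by
  classical
  have hex := hex_of_two h2 (finrank F (ι → F))
  obtain ⟨h, hdk, hs, hfix, hact⟩ := exists_scale_family hQ hex (fun j => Pi.single (el j) (1 : F))
    (fun j => Pi.single (er j) 1) hl hr hlr
    (fun i j hij => ⟨(ho j (el i) (hd i j hij).1 (hlr' i j)).1,
      (ho j (er i) (Ne.symm (hlr' j i)) (hd i j hij).2).2, (ho j (el i) (hd i j hij).1 (hlr' i j)).2⟩)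
    (fun _ => (-1 : F)) (fun _ => neg_ne_zero.2 one_ne_zero) s
  have hM : ∀ x, h.1 x = (Matrix.diagonal d).mulVec x := by
    have e : (h.1 : (ι → F) →ₗ[F] (ι → F)) = Matrix.mulVecLin (Matrix.diagonal d) := by
      refine (Pi.basisFun F ι).ext fun t => ?_
      rw [Pi.basisFun_apply, Matrix.mulVecLin_apply, Matrix.diagonal_mulVec_single, mul_one]
      show h.1 (Pi.single t 1) = _
      by_cases ht : ∀ j ∈ s, t ≠ el j ∧ t ≠ er j
      · rw [hfix _ fun j hj => ho j t (ht j hj).1 (ht j hj).2, hd1 t ht]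
      · push Not at ht
        obtain ⟨j, hj, hjt⟩ := ht
        by_cases htl : t = el j
        · subst htl
          rw [(hact j hj).1, (hds j hj).1, ← Pi.single_smul', smul_eq_mul, mul_one]
        · obtain rfl := hjt htl
          rw [(hact j hj).2, (hds j hj).2, ← Pi.single_smul', smul_eq_mul, mul_one, inv_neg, inv_one]
    exact LinearMap.congr_fun e
  rw [exists_omega_matrix_iff h _ hM, mem_commutator_chars hQ hex, and_iff_right hdk]
  have hq : ∀ n : ℕ, qs ((-1 : F) ^ n) = qs (-1 : F) ^ n := fun n => by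
    induction n with
    | zero => simp [qs_one]
    | succ n ih => rw [pow_succ, pow_succ, qs_mul (pow_ne_zero _ (neg_ne_zero.2 one_ne_zero)) (neg_ne_zero.2 one_ne_zero), ih]
  constructor
  · intro h'
    have := (hs h2).symm.trans (h' h2)
    rw [Finset.prod_const, ← hq] at this
    exact qs_eq_one.1 this
  · intro h' _
    rw [hs h2, Finset.prod_const, ← hq]
    exact qs_eq_one.2 h'

theorem card_fin_lt {i m : ℕ} (him : i ≤ m) : (Finset.univ.filter fun j : Fin m => (j : ℕ) < i).card = i := by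
  rw [Fin.card_filter_val_lt]; omega

end Cfsg.Agent.Classical.Quad
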