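import Mathlib
import Cfsg.Agent.ThreeTrans.SU32

/-!
The structure of PSU₃(2): elementary abelian of order nine extended by the quaternion group.
-/

set_option autoImplicit false

namespace Cfsg.Agent.Classical.U32

open Cfsg.Agent.ThreeTrans.SU32 Cfsg.Agent.Classical.Herm
open F4

/-- Parameters of monomial elements with cyclic pattern. -/
abbrev Idx : Type := Fin 3 × Fin 3 × Fin 3

/-- Diagonal exponents. -/
def expo (a b : Fin 3) : Fin 3 → Fin 3 := ![a, b, -a - b]

/-- The monomial matrices. -/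
def em (p : Idx) : Matrix (Fin 3) (Fin 3) F4 :=
  Matrix.of fun i j => if j = i + p.1 then ![e, w, w'] (expo p.2.1 p.2.2 i) else o

theorem em_det : ∀ p : Idx, (em p).det = 1 := by decide +kernel

theorem em_form : ∀ (p : Idx) (i j : Fin 3),
    form (fun k => em p k i) (fun k => em p k j) = if i = j then 1 else 0 := by decide +kernel

/-- The monomial elements. -/
def el (p : Idx) : Cfsg.SU 3 F4 2 := mk (em p) (em_det p) (em_form p)

/-- Product of parameters. -/
def mulIdx (p q : Idx) : Idx :=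
  (p.1 + q.1, p.2.1 + expo q.2.1 q.2.2 p.1, p.2.2 + expo q.2.1 q.2.2 (1 + p.1))

/-- Inverse of parameters. -/
def invIdx (p : Idx) : Idx := (-p.1, -expo p.2.1 p.2.2 (-p.1), -expo p.2.1 p.2.2 (1 - p.1))

theorem em_mul : ∀ p q : Idx, em p * em q = em (mulIdx p q) := by decide +kernel

theorem ext' {A B : Cfsg.SU 3 F4 2} (h : A.1.1 = B.1.1) : A = B := Subtype.ext (Subtype.ext h)

theorem el_mul (p q : Idx) : el p * el q = el (mulIdx p q) := ext' (em_mul p q)

theorem el_zero : el (0, 0, 0) = 1 := ext' (by decide +kernel)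

theorem mul_invIdx : ∀ p : Idx, mulIdx p (invIdx p) = (0, 0, 0) := by decide +kernel

/-- The normal Sylow three-subgroup. -/
def E : Subgroup (Cfsg.SU 3 F4 2) where
  carrier := Set.range el
  mul_mem' := by rintro _ _ ⟨p, rfl⟩ ⟨q, rfl⟩; exact ⟨_, (el_mul p q).symm⟩
  one_mem' := ⟨_, el_zero⟩
  inv_mem' := by
    rintro _ ⟨p, rfl⟩
    exact ⟨invIdx p, (inv_eq_of_mul_eq_one_right (by rw [el_mul, mul_invIdx, el_zero])).symm⟩

theorem em_injective : ∀ p q : Idx, em p = em q → p = q := by decide +kernel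

theorem card_E : Nat.card E = 27 := by
  have h : Nat.card (Set.range el) = 27 := by
    rw [Nat.card_congr (Equiv.ofInjective el fun p q h =>
      em_injective p q (congrArg (fun A : Cfsg.SU 3 F4 2 => A.1.1) h)).symm, Nat.card_eq_fintype_card]
    rfl
  exact h

theorem card_SU : Nat.card (Cfsg.SU 3 F4 2) = 216 := by
  have h := card_SU_mul_eq_GU (n := 3) (q := 2) frob_invol frob_pow card_fix (by norm_num)
  rw [card_GU_formula frob_invol frob_pow card_fix] at h
  simp [Finset.prod_range_succ] at h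
  omega

/-- Representatives of the quotient. -/
def rep : QuaternionGroup 2 → Cfsg.SU 3 F4 2
  | .a i => ga ^ i.val
  | .xa i => gb * ga ^ i.val

theorem rep_mul_mat : ∀ p q : QuaternionGroup 2, ∃ r : Idx,
    (rep p).1.1 * (rep q).1.1 = em r * (rep (p * q)).1.1 := by decide +kernel

theorem rep_not_mem : ∀ p : QuaternionGroup 2, p ≠ 1 → ∀ r : Idx, (rep p).1.1 ≠ em r := by decide +kernel

theorem ga_normal : ∀ r : Idx, ∃ r' : Idx, ga.1.1 * em r = em r' * ga.1.1 := by decide +kernel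

theorem gb_normal : ∀ r : Idx, ∃ r' : Idx, gb.1.1 * em r = em r' * gb.1.1 := by decide +kernel

theorem rep_eq_one : rep 1 = 1 := ext' (by decide +kernel)

theorem rep_injective_mod {p q : QuaternionGroup 2} {x y : Cfsg.SU 3 F4 2} (hx : x ∈ E) (hy : y ∈ E)
    (h : x * rep p = y * rep q) : p = q := by
  -- compare with the representative of the quotient of p by q
  obtain ⟨r, hr⟩ := rep_mul_mat (p * q⁻¹) q
  rw [inv_mul_cancel_right] at hr
  have h1 : rep (p * q⁻¹) * rep q = el r * rep p := ext' hr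
  by_contra hne
  have hne' : p * q⁻¹ ≠ 1 := fun e => hne (mul_inv_eq_one.1 e)
  have h2 : rep (p * q⁻¹) ∈ E := by
    have e : rep (p * q⁻¹) = el r * (x⁻¹ * y) := by
      have h3 : rep p = x⁻¹ * y * rep q := by rw [mul_assoc, ← h, inv_mul_cancel_left]
      rw [h3, ← mul_assoc] at h1
      exact mul_right_cancel h1
    rw [e]
    exact E.mul_mem ⟨r, rfl⟩ (E.mul_mem (E.inv_mem hx) hy)
  obtain ⟨r', hr'⟩ := h2
  exact rep_not_mem _ hne' r' (congrArg (fun A : Cfsg.SU 3 F4 2 => A.1.1) hr').symm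

theorem decomp : Function.Bijective (fun x : E × QuaternionGroup 2 => (x.1 : Cfsg.SU 3 F4 2) * rep x.2) := by
  refine (Nat.bijective_iff_injective_and_card _).2 ⟨?_, ?_⟩
  · rintro ⟨x, p⟩ ⟨y, q⟩ h
    have hpq := rep_injective_mod x.2 y.2 h
    subst hpq
    exact Prod.ext (Subtype.ext (mul_right_cancel h)) rfl
  · rw [Nat.card_prod, card_E, card_SU, Nat.card_eq_fintype_card]
    rfl

instance normal_E : E.Normal := by
  refine Subgroup.normalizer_eq_top_iff.1 (eq_top_iff.2 fun g _ => ?_)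
  obtain ⟨⟨x, p⟩, rfl⟩ := decomp.2 g
  have conj : ∀ (c : Cfsg.SU 3 F4 2), (∀ r : Idx, ∃ r' : Idx, c.1.1 * em r = em r' * c.1.1) →
      c ∈ Subgroup.normalizer (E : Set (Cfsg.SU 3 F4 2)) := by
    intro c hc
    refine Subgroup.mem_normalizer_fintype fun z hz => ?_
    obtain ⟨r, rfl⟩ := hz
    obtain ⟨r', hr'⟩ := hc r
    refine ⟨r', ?_⟩
    rw [eq_mul_inv_iff_mul_eq]
    exact ext' hr'.symm
  refine Subgroup.mul_mem _ (Subgroup.le_normalizer x.2) ?_
  cases p with
  | a i => exact Subgroup.pow_mem _ (conj ga ga_normal) _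
  | xa i => exact Subgroup.mul_mem _ (conj gb gb_normal) (Subgroup.pow_mem _ (conj ga ga_normal) _)

/-- The quaternion group as the quotient. -/
noncomputable def quaternionHom : QuaternionGroup 2 →* Cfsg.SU 3 F4 2 ⧸ E :=
  MonoidHom.mk' (fun p => (rep p : Cfsg.SU 3 F4 2 ⧸ E)) fun p q => by
    obtain ⟨r, hr⟩ := rep_mul_mat p q
    rw [← QuotientGroup.mk_mul, show rep p * rep q = el r * rep (p * q) from ext' hr, QuotientGroup.mk_mul,
      (QuotientGroup.eq_one_iff (el r)).2 (show el r ∈ E from ⟨r, rfl⟩), one_mul]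

theorem quotient_equiv : Nonempty (Cfsg.SU 3 F4 2 ⧸ E ≃* QuaternionGroup 2) := by
  refine ⟨(MulEquiv.ofBijective quaternionHom ⟨?_, ?_⟩).symm⟩
  · refine (injective_iff_map_eq_one _).2 fun p hp => ?_
    by_contra hne
    obtain ⟨r, hr⟩ := (QuotientGroup.eq_one_iff (rep p)).1 hp
    exact rep_not_mem p hne r (congrArg (fun A : Cfsg.SU 3 F4 2 => A.1.1) hr).symm
  · intro z
    obtain ⟨g, rfl⟩ := QuotientGroup.mk'_surjective E z
    obtain ⟨⟨x, p⟩, rfl⟩ := decomp.2 g
    refine ⟨p, ?_⟩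
    show (rep p : Cfsg.SU 3 F4 2 ⧸ E) = ((x : Cfsg.SU 3 F4 2) * rep p : Cfsg.SU 3 F4 2)
    rw [QuotientGroup.mk_mul, (QuotientGroup.eq_one_iff (x : Cfsg.SU 3 F4 2)).2 x.2, one_mul]

theorem center_le : Subgroup.center (Cfsg.SU 3 F4 2) ≤ E := by
  intro z hz
  obtain ⟨⟨x, p⟩, rfl⟩ := decomp.2 z
  by_contra hcon
  have hp : p ≠ 1 := fun h => hcon (by
    show (x : Cfsg.SU 3 F4 2) * rep p ∈ E
    rw [h, rep_eq_one, mul_one]
    exact x.2)
  obtain ⟨φ⟩ := quotient_equiv
  have hc : φ ((x : Cfsg.SU 3 F4 2) * rep p : Cfsg.SU 3 F4 2) ∈ Subgroup.center (QuaternionGroup 2) :=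
    Subgroup.mem_center_iff.2 fun y => by
      obtain ⟨y, rfl⟩ := φ.surjective y
      obtain ⟨y, rfl⟩ := QuotientGroup.mk'_surjective E y
      rw [← map_mul, ← map_mul]
      exact congrArg φ (congrArg (QuotientGroup.mk' E) (Subgroup.mem_center_iff.1 hz y))
  have hmul : ∀ q : QuaternionGroup 2, (x : Cfsg.SU 3 F4 2) * rep p * rep q = rep q * (x * rep p) :=
    fun q => (Subgroup.mem_center_iff.1 hz _).symm
  have key : ∀ p : QuaternionGroup 2, p ≠ 1 → p ≠ .a 2 → ∃ q, q * p ≠ p * q := by decide +kernel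
  by_cases hp2 : p = .a 2
  · subst hp2
    obtain ⟨r, hr⟩ := x.2
    have h : ∀ r : Idx, ∃ r' : Idx, em r * (rep (.a 2)).1.1 * em r' ≠ em r' * (em r * (rep (.a 2)).1.1) := by
      decide +kernel
    obtain ⟨r', hr'⟩ := h r
    apply hr'
    have e := congrArg (fun A : Cfsg.SU 3 F4 2 => A.1.1) (Subgroup.mem_center_iff.1 hz (el r')).symm
    dsimp only at e
    rw [← hr] at e
    exact e
  · obtain ⟨q, hq⟩ := key p hp hp2
    obtain ⟨r₁, h1⟩ := rep_mul_mat p q
    obtain ⟨r₂, h2⟩ := rep_mul_mat q p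
    apply hq
    have e := hmul q
    have hq' : (QuotientGroup.mk' E) (rep q) * (QuotientGroup.mk' E) (rep p) =
        (QuotientGroup.mk' E) (rep p) * (QuotientGroup.mk' E) (rep q) := by
      have e' := congrArg (QuotientGroup.mk' E) e
      have hx1 : QuotientGroup.mk' E (x : Cfsg.SU 3 F4 2) = 1 := (QuotientGroup.eq_one_iff _).2 x.2
      rw [map_mul, map_mul, map_mul, map_mul, hx1, one_mul] at e'
      exact e'.symm
    have hinj : Function.Injective quaternionHom := by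
      refine (injective_iff_map_eq_one _).2 fun s hs => ?_
      by_contra hne
      obtain ⟨r, hr⟩ := (QuotientGroup.eq_one_iff (rep s)).1 hs
      exact rep_not_mem s hne r (congrArg (fun A : Cfsg.SU 3 F4 2 => A.1.1) hr).symm
    exact hinj (by rw [map_mul, map_mul]; exact hq')

theorem cube_center : ∀ p : Idx, ∀ q : Idx, mulIdx (mulIdx (mulIdx p p) p) q = mulIdx q (mulIdx (mulIdx p p) p) := by
  decide +kernel

theorem cube_rep : ∀ p : Idx, ∀ q : QuaternionGroup 2,
    em (mulIdx (mulIdx p p) p) * (rep q).1.1 = (rep q).1.1 * em (mulIdx (mulIdx p p) p) := by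
  decide +kernel

theorem cube_mem_center {x : Cfsg.SU 3 F4 2} (hx : x ∈ E) : x ^ 3 ∈ Subgroup.center (Cfsg.SU 3 F4 2) := by
  obtain ⟨p, rfl⟩ := hx
  rw [pow_succ, pow_two, el_mul, el_mul]
  refine Subgroup.mem_center_iff.2 fun g => ?_
  obtain ⟨⟨⟨_, q, rfl⟩, s⟩, rfl⟩ := decomp.2 g
  have h1 : el (mulIdx (mulIdx p p) p) * el q = el q * el (mulIdx (mulIdx p p) p) := by
    rw [el_mul, el_mul, cube_center]
  have h2 : el (mulIdx (mulIdx p p) p) * rep s = rep s * el (mulIdx (mulIdx p p) p) := ext' (cube_rep p s)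
  show el q * rep s * _ = _ * (el q * rep s)
  rw [mul_assoc, ← h2, ← mul_assoc, ← h1, mul_assoc]

theorem structure_psu32 : ∃ (N : Subgroup (Cfsg.PSU 3 F4 2)) (_ : N.Normal), Nat.card N = 9 ∧
    (∀ x ∈ N, x ^ 3 = 1) ∧ Nonempty (Cfsg.PSU 3 F4 2 ⧸ N ≃* QuaternionGroup 2) := by
  set Z := Subgroup.center (Cfsg.SU 3 F4 2)
  let π := QuotientGroup.mk' Z
  have hN : (E.map π).Normal := normal_E.map π (QuotientGroup.mk'_surjective Z)
  refine ⟨E.map π, hN, ?_, ?_, ?_⟩
  · have hz : Nat.card Z = 3 := by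
      rw [card_center_SU frob_invol frob_pow card_fix (by norm_num)]; rfl
    have h1 := (Z.subgroupOf E).card_eq_card_quotient_mul_card_subgroup
    rw [card_E, Nat.card_congr (Subgroup.subgroupOfEquivOfLe center_le).toEquiv, hz] at h1
    have e : Nat.card (E.map π) = Nat.card (E ⧸ Z.subgroupOf E) := by
      rw [show E.map π = (π.comp E.subtype).range by rw [MonoidHom.range_comp, Subgroup.range_subtype]]
      rw [← Nat.card_congr (QuotientGroup.quotientKerEquivRange (π.comp E.subtype)).toEquiv]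
      refine Nat.card_congr (QuotientGroup.quotientMulEquivOfEq ?_).toEquiv
      ext y
      simp [π, Subgroup.mem_subgroupOf, QuotientGroup.eq_one_iff]
    rw [e]
    omega
  · rintro _ ⟨y, hy, rfl⟩
    rw [← map_pow]
    exact (QuotientGroup.eq_one_iff _).2 (cube_mem_center hy)
  · obtain ⟨φ⟩ := quotient_equiv
    exact ⟨(QuotientGroup.quotientQuotientEquivQuotient Z E center_le).trans φ⟩

theorem isSolvable_psu32 : Group.IsSolvable (Cfsg.PSU 3 F4 2) := by
  obtain ⟨N, hN, hcard, -, ⟨φ⟩⟩ := structure_psu32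
  have := Fact.mk Nat.prime_three
  have := Fact.mk Nat.prime_two
  have hNs : Group.IsSolvable N := by
    have h := IsPGroup.of_card (p := 3) (G := N) (n := 2) (by rw [hcard]; rfl)
    have := h.isNilpotent
    infer_instance
  have hQs : Group.IsSolvable (Cfsg.PSU 3 F4 2 ⧸ N) := by
    have h := IsPGroup.of_card (p := 2) (G := Cfsg.PSU 3 F4 2 ⧸ N) (n := 3)
      (by rw [Nat.card_congr φ.toEquiv, Nat.card_eq_fintype_card]; rfl)
    have := h.isNilpotent
    infer_instance
  exact solvable_of_ker_le_range N.subtype (QuotientGroup.mk' N) (by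
    rw [QuotientGroup.ker_mk', Subgroup.range_subtype])

theorem card_psu32 : Nat.card (Cfsg.PSU 3 F4 2) = 72 := by
  obtain ⟨N, hN, hcard, -, ⟨φ⟩⟩ := structure_psu32
  rw [N.card_eq_card_quotient_mul_card_subgroup, hcard, Nat.card_congr φ.toEquiv, Nat.card_eq_fintype_card]
  rfl

theorem map_mem_SU {F K : Type*} [Field F] [Field K] {n q : ℕ} (σ : F ≃+* K)
    (g : Matrix.SpecialLinearGroup (Fin n) F) (hg : g ∈ Cfsg.SU n F q) :
    Matrix.SpecialLinearGroup.map σ.toRingHom g ∈ Cfsg.SU n K q := by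
  intro u v
  have h := congrArg σ (hg (σ.symm ∘ u) (σ.symm ∘ v))
  have e : ∀ x : Fin n → K, Matrix.mulVec (Cfsg.slToMat n K (Matrix.SpecialLinearGroup.map σ.toRingHom g)) x =
      σ ∘ Matrix.mulVec (Cfsg.slToMat n F g) (σ.symm ∘ x) := fun x => by
    funext i
    simp [Matrix.mulVec, dotProduct, Cfsg.slToMat]
  rw [e, e]
  simpa [Cfsg.hermForm] using h

/-- Field isomorphisms carry PSU to PSU. -/
theorem psu_congr {F K : Type*} [Field F] [Field K] {n q : ℕ} (σ : F ≃+* K) :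
    Nonempty (Cfsg.PSU n F q ≃* Cfsg.PSU n K q) := by
  let φ : Matrix.SpecialLinearGroup (Fin n) F ≃* Matrix.SpecialLinearGroup (Fin n) K :=
    { toFun := Matrix.SpecialLinearGroup.map σ.toRingHom
      invFun := Matrix.SpecialLinearGroup.map σ.symm.toRingHom
      left_inv := fun g => Matrix.SpecialLinearGroup.ext _ _ fun i j => by simp
      right_inv := fun g => Matrix.SpecialLinearGroup.ext _ _ fun i j => by simp
      map_mul' := map_mul _ }
  have hmap : (Cfsg.SU n F q).map φ.toMonoidHom = Cfsg.SU n K q := by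
    refine le_antisymm ?_ fun y hy => ⟨φ.symm y, map_mem_SU σ.symm y hy, φ.apply_symm_apply y⟩
    rintro _ ⟨x, hx, rfl⟩
    exact map_mem_SU σ x hx
  let ψ : Cfsg.SU n F q ≃* Cfsg.SU n K q := (φ.subgroupMap _).trans (MulEquiv.subgroupCongr hmap)
  refine ⟨QuotientGroup.congr _ _ ψ ?_⟩
  ext x
  constructor
  · rintro ⟨g, hg, rfl⟩
    refine Subgroup.mem_center_iff.2 fun y => ?_
    obtain ⟨y, rfl⟩ := ψ.surjective y
    exact (map_mul ψ y g).symm.trans ((congrArg ψ (Subgroup.mem_center_iff.1 hg y)).trans (map_mul ψ g y))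
  · intro hx
    refine ⟨ψ.symm x, Subgroup.mem_center_iff.2 fun y => ψ.injective ?_, ψ.apply_symm_apply x⟩
    rw [map_mul, map_mul, ψ.apply_symm_apply]
    exact Subgroup.mem_center_iff.1 hx _

theorem psu32_equiv {F : Type*} [Field F] [Fintype F] (hF : Fintype.card F = 4) :
    Nonempty (Cfsg.PSU 3 F 2 ≃* Cfsg.PSU 3 F4 2) :=
  psu_congr (FiniteField.ringEquivOfCardEq (hF.trans F4.card_eq.symm))

theorem solvable_72 {F : Type*} [Field F] [Fintype F] (hF : Fintype.card F = 4) :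
    Nat.card (Cfsg.PSU 3 F 2) = 72 ∧ Group.IsSolvable (Cfsg.PSU 3 F 2) := by
  obtain ⟨ψ⟩ := psu32_equiv hF
  have := isSolvable_psu32
  exact ⟨(Nat.card_congr ψ.toEquiv).trans card_psu32,
    solvable_of_solvable_injective (f := ψ.toMonoidHom) ψ.injective⟩

theorem nine_by_quaternion {F : Type*} [Field F] [Fintype F] (hF : Fintype.card F = 4) :
    ∃ (N : Subgroup (Cfsg.PSU 3 F 2)) (_ : N.Normal), Nat.card N = 9 ∧ (∀ x ∈ N, x ^ 3 = 1) ∧
      Nonempty (Cfsg.PSU 3 F 2 ⧸ N ≃* QuaternionGroup 2) := by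
  obtain ⟨ψ⟩ := psu32_equiv hF
  obtain ⟨N, hN, hcard, hexp, ⟨φ⟩⟩ := structure_psu32
  have hn : (N.map ψ.symm.toMonoidHom).Normal := hN.map _ ψ.symm.surjective
  refine ⟨N.map ψ.symm.toMonoidHom, hn, (Nat.card_congr (ψ.symm.subgroupMap N).toEquiv).symm.trans hcard, ?_, ?_⟩
  · rintro _ ⟨x, hx, rfl⟩
    rw [← map_pow, hexp x hx, map_one]
  · exact ⟨(QuotientGroup.congr N (N.map ψ.symm.toMonoidHom) ψ.symm rfl).symm.trans φ⟩

end Cfsg.Agent.Classical.U32
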