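import Mathlib
import Cfsg.Agent.Classical.Linear2
import Cfsg.Agent.Classical.LinearBasic
import Cfsg.Agent.Fusion.UniqueInvolution

/-!
Semisimple elements and Sylow subgroups of SL₂ in cross characteristic.
-/

set_option autoImplicit false

namespace Cfsg.Agent.Classical

open Matrix

variable {F : Type*} [Field F]

theorem sq_eq_trace_smul (g : SpecialLinearGroup (Fin 2) F) :
    g.1 * g.1 = g.1.trace • g.1 - 1 := by
  have hd : g.1 0 0 * g.1 1 1 - g.1 0 1 * g.1 1 0 = 1 := by rw [← Matrix.det_fin_two]; exact g.2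
  ext i j
  fin_cases i <;> fin_cases j <;> simp [Matrix.mul_apply, Fin.sum_univ_two, Matrix.trace_fin_two]
  · linear_combination -hd
  · ring
  · ring
  · linear_combination -hd

theorem exists_lin_of_commute {z x : Matrix (Fin 2) (Fin 2) F} (hz : ∀ c : F, z ≠ c • 1) (h : z * x = x * z) :
    ∃ a b : F, x = a • z + b • 1 := by
  have e00 := congrFun (congrFun h 0) 0
  have e01 := congrFun (congrFun h 0) 1
  have e10 := congrFun (congrFun h 1) 0
  simp [Matrix.mul_apply, Fin.sum_univ_two] at e00 e01 e10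
  by_cases hr : z 0 1 = 0
  swap
  · refine ⟨x 0 1 / z 0 1, x 0 0 - x 0 1 / z 0 1 * z 0 0, ?_⟩
    ext i j
    fin_cases i <;> fin_cases j <;> simp <;> field_simp
    all_goals first
      | linear_combination e00
      | linear_combination -e00
      | linear_combination e01
      | linear_combination -e01
      | linear_combination e10
      | linear_combination -e10
      | ring1
  by_cases hs : z 1 0 = 0
  swap
  · refine ⟨x 1 0 / z 1 0, x 0 0 - x 1 0 / z 1 0 * z 0 0, ?_⟩
    ext i j
    fin_cases i <;> fin_cases j <;> simp <;> field_simp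
    all_goals first
      | linear_combination e00
      | linear_combination -e00
      | linear_combination e01
      | linear_combination -e01
      | linear_combination e10
      | linear_combination -e10
      | ring1
  have hd : z 0 0 ≠ z 1 1 := fun he => hz (z 0 0) (by
    ext i j
    fin_cases i <;> fin_cases j <;> simp [hr, hs, he])
  have hx01 : x 0 1 = 0 := by
    have : (z 0 0 - z 1 1) * x 0 1 = 0 := by rw [hr] at e01; linear_combination e01
    exact (mul_eq_zero.1 this).resolve_left (sub_ne_zero.2 hd)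
  have hx10 : x 1 0 = 0 := by
    have : (z 0 0 - z 1 1) * x 1 0 = 0 := by rw [hs] at e10; linear_combination -e10
    exact (mul_eq_zero.1 this).resolve_left (sub_ne_zero.2 hd)
  have hne := sub_ne_zero.2 hd
  refine ⟨(x 0 0 - x 1 1) / (z 0 0 - z 1 1), x 0 0 - (x 0 0 - x 1 1) / (z 0 0 - z 1 1) * z 0 0, ?_⟩
  ext i j
  fin_cases i <;> fin_cases j <;> simp [hr, hs, hx01, hx10]
  field_simp
  ring

theorem lin_unique {z : Matrix (Fin 2) (Fin 2) F} (hz : ∀ c : F, z ≠ c • 1) {a b c d : F}
    (h : a • z + b • 1 = c • z + d • 1) : a = c ∧ b = d := by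
  have h' : (a - c) • z = (d - b) • (1 : Matrix (Fin 2) (Fin 2) F) := by linear_combination (norm := module) h
  by_cases hac : a - c = 0
  · rw [hac, zero_smul] at h'
    have := congrFun (congrFun h' 0) 0
    simp at this
    exact ⟨sub_eq_zero.1 hac, by linear_combination this⟩
  · exfalso
    apply hz ((a - c)⁻¹ * (d - b))
    rw [mul_smul, ← h', inv_smul_smul₀ hac]

variable (p : ℕ) [Fact p.Prime] [CharP F p]

/-- A semisimple element has distinct eigenvalues unless it is an involution or trivial. -/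
theorem sq_eq_one_of_trace {g : SpecialLinearGroup (Fin 2) F} (hg : Nat.Coprime (orderOf g) p)
    (ht : g.1.trace ^ 2 = 4) : g ^ 2 = 1 := by
  have : CharP (Matrix (Fin 2) (Fin 2) F) p := inferInstance
  obtain ⟨c, hc, htc⟩ : ∃ c : F, c * c = 1 ∧ g.1.trace = 2 * c := by
    by_cases h2 : (2 : F) = 0
    · have h0 : g.1.trace ^ 2 = 0 := by rw [ht]; linear_combination 2 * h2
      exact ⟨1, one_mul 1, by rw [pow_eq_zero_iff two_ne_zero |>.1 h0]; linear_combination -h2⟩
    · refine ⟨g.1.trace / 2, ?_, by field_simp⟩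
      field_simp
      linear_combination ht
  have hsq : (g.1 - c • 1) ^ 2 = 0 := by
    rw [pow_two, sub_mul, mul_sub, mul_sub, sq_eq_trace_smul, htc]
    simp only [Matrix.mul_smul, Matrix.smul_mul, mul_one, one_mul, smul_smul, hc, one_smul]
    module
  have hcomm : Commute (g.1) (c • 1) := (Commute.one_right _).smul_right c
  have hp2 : 2 ≤ p := (Fact.out : p.Prime).two_le
  have hgp : g.1 ^ p = c ^ p • 1 := by
    have h1 : (g.1 - c • 1) ^ p = 0 := by
      rw [← Nat.add_sub_cancel' hp2, pow_add, hsq, zero_mul]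
    rwa [sub_pow_char_of_commute (p := p) hcomm, sub_eq_zero, smul_pow, one_pow] at h1
  have h2p : g ^ (2 * p) = 1 := by
    refine Subtype.ext ?_
    rw [Matrix.SpecialLinearGroup.coe_pow, mul_comm, pow_mul, hgp, smul_pow, one_pow,
      ← pow_mul, mul_comm p 2, pow_mul, pow_two, hc, one_pow, one_smul,
      Matrix.SpecialLinearGroup.coe_one]
  exact orderOf_dvd_iff_pow_eq_one.1 (hg.dvd_of_dvd_mul_right (orderOf_dvd_of_pow_eq_one h2p))

theorem orderOf_dvd_torus [Fintype F] {g : SpecialLinearGroup (Fin 2) F} (hg : Nat.Coprime (orderOf g) p) :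
    orderOf g ∣ Fintype.card F - 1 ∨ orderOf g ∣ Fintype.card F + 1 := by
  have : CharP (Matrix (Fin 2) (Fin 2) F) p := inferInstance
  set q := Fintype.card F with hqdef
  obtain ⟨k, -, hk⟩ := FiniteField.card F p
  have hq1 : 1 ≤ q := Fintype.card_pos
  by_cases ht : g.1.trace ^ 2 = 4
  · left
    have h2 := sq_eq_one_of_trace p hg ht
    rcases (Nat.dvd_prime Nat.prime_two).1 (orderOf_dvd_of_pow_eq_one h2) with h | h
    · rw [h]; exact one_dvd _
    · rw [h] at hg ⊢
      have hp : p ≠ 2 := fun hp => by rw [hp] at hg; simp at hg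
      have hodd : Odd p := (Fact.out : p.Prime).odd_of_ne_two hp
      have hq : Odd q := by rw [hqdef, hk]; exact hodd.pow
      obtain ⟨r, hr⟩ := hq
      exact ⟨r, by omega⟩
  set t := g.1.trace with htdef
  have hsq : g.1 * g.1 = t • g.1 - 1 := sq_eq_trace_smul g
  have hlin : ∀ n : ℕ, ∃ a b : F, g.1 ^ n = a • g.1 + b • 1 := by
    intro n
    induction n with
    | zero => exact ⟨0, 1, by simp⟩
    | succ n ih =>
      obtain ⟨a, b, h⟩ := ih
      refine ⟨a * t + b, -a, ?_⟩
      rw [pow_succ, h, add_mul, Matrix.smul_mul, Matrix.smul_mul, hsq, one_mul]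
      module
  have hq2 : g.1 ^ q * g.1 ^ q = t • g.1 ^ q - 1 := by
    rw [← (Commute.refl g.1).mul_pow, hsq, hqdef, hk,
      sub_pow_char_pow_of_commute p k (h := (Commute.one_right _).smul_left _), smul_pow, one_pow,
      show g.1.trace ^ p ^ (k : ℕ) = t by rw [← hk, FiniteField.pow_card]]
  by_cases hroot : ∃ l : F, l * l - t * l + 1 = 0
  · left
    obtain ⟨l, hl⟩ := hroot
    set m := t - l with hm
    have hne : l - m ≠ 0 := fun h0 => ht (by
      have : t = 2 * l := by rw [hm] at h0; linear_combination -h0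
      rw [this] at hl ⊢
      linear_combination -4 * hl)
    have hev : ∀ r s : F, r + s = t → r * s = 1 → ∀ n : ℕ, g.1 ^ n * (g.1 - s • 1) = r ^ n • (g.1 - s • 1) := by
      intro r s h1 h2 n
      have h3 : g.1 * (g.1 - s • 1) = r • (g.1 - s • 1) := by
        rw [mul_sub, hsq, Matrix.mul_smul, mul_one, smul_sub, smul_smul, h2, one_smul, ← h1]
        module
      induction n with
      | zero => simp
      | succ n ih => rw [pow_succ, mul_assoc, h3, Matrix.mul_smul, ih, smul_smul, pow_succ']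
    have e1 := hev l m (by rw [hm]; ring) (by rw [hm]; linear_combination -hl) q
    have e2 := hev m l (by rw [hm]; ring) (by rw [hm]; linear_combination -hl) q
    have f1 := hev l m (by rw [hm]; ring) (by rw [hm]; linear_combination -hl) 1
    have f2 := hev m l (by rw [hm]; ring) (by rw [hm]; linear_combination -hl) 1
    rw [FiniteField.pow_card] at e1 e2
    rw [pow_one, pow_one] at f1 f2
    have h1 : (g.1 ^ q - g.1) * ((g.1 - m • 1) - (g.1 - l • 1)) = 0 := by
      rw [sub_mul, mul_sub (g.1 ^ q) (g.1 - m • 1), mul_sub g.1 (g.1 - m • 1), e1, e2, f1, f2, sub_self]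
    have h2 : g.1 ^ q = g.1 := by
      rw [show (g.1 - m • 1) - (g.1 - l • 1) = (l - m) • (1 : Matrix (Fin 2) (Fin 2) F) by module,
        Matrix.mul_smul, mul_one, smul_eq_zero] at h1
      exact sub_eq_zero.1 (h1.resolve_left hne)
    have h3 : g ^ q = g := Subtype.ext h2
    refine orderOf_dvd_of_pow_eq_one (mul_right_cancel (b := g) ?_)
    rw [← pow_succ, Nat.sub_add_cancel hq1, h3, one_mul]
  · obtain ⟨a, b, hab⟩ := hlin q
    have hprod : (g.1 ^ q - g.1) * (g.1 ^ q + g.1 - t • 1) = 0 := by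
      rw [sub_mul, mul_sub, mul_sub, mul_add, mul_add, hq2, hsq, Matrix.mul_smul, Matrix.mul_smul, mul_one, mul_one,
        ← pow_succ' g.1 q, ← pow_succ g.1 q]
      module
    by_cases hz : g.1 ^ q - g.1 = 0
    · left
      have h3 : g ^ q = g := Subtype.ext (sub_eq_zero.1 hz)
      refine orderOf_dvd_of_pow_eq_one (mul_right_cancel (b := g) ?_)
      rw [← pow_succ, Nat.sub_add_cancel hq1, h3, one_mul]
    · right
      set A := a - 1 with hA
      have e : g.1 ^ q - g.1 = A • g.1 + b • 1 := by rw [hab, hA]; module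
      have hunit : (A • (t • 1 - g.1) + b • 1) * (A • g.1 + b • 1)
          = (A * A + A * b * t + b * b) • (1 : Matrix (Fin 2) (Fin 2) F) := by
        simp only [add_mul, mul_add, sub_mul, smul_sub, Matrix.smul_mul, Matrix.mul_smul, one_mul, mul_one, hsq]
        module
      have hN : A * A + A * b * t + b * b ≠ 0 := fun h0 => by
        by_cases hA0 : A = 0
        · rw [hA0] at h0 e
          have hb : b = 0 := mul_self_eq_zero.1 (by linear_combination h0)
          exact hz (by rw [e, hb]; simp)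
        · exact hroot ⟨-b / A, by field_simp; linear_combination h0⟩
      have h0 := congrArg ((A • (t • 1 - g.1) + b • 1) * ·) hprod
      simp only [mul_zero] at h0
      rw [← mul_assoc, e, hunit, Matrix.smul_mul, one_mul, smul_eq_zero] at h0
      have h2 := h0.resolve_left hN
      have h4 : g.1 ^ (q + 1) = 1 := by
        have h5 : g.1 ^ q = t • 1 - g.1 := by linear_combination (norm := module) h2
        rw [pow_succ, h5, sub_mul, hsq, Matrix.smul_mul, one_mul]
        module
      exact orderOf_dvd_of_pow_eq_one (Subtype.ext h4)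

theorem isCyclic_sylow_sl2 [Fintype F] {r : ℕ} [Fact r.Prime] (hr : r ≠ 2) (hrp : r ≠ p)
    (R : Sylow r (SpecialLinearGroup (Fin 2) F)) : IsCyclic (R : Subgroup (SpecialLinearGroup (Fin 2) F)) := by
  classical
  rcases subsingleton_or_nontrivial (R : Subgroup (SpecialLinearGroup (Fin 2) F)) with hR | hR
  · infer_instance
  have := R.2.center_nontrivial
  obtain ⟨w, hw⟩ := exists_ne (1 : Subgroup.center (R : Subgroup (SpecialLinearGroup (Fin 2) F)))
  set z : SpecialLinearGroup (Fin 2) F := (w.1 : (R : Subgroup (SpecialLinearGroup (Fin 2) F))).1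
  have hz1 : z ≠ 1 := fun h => hw (Subtype.ext (Subtype.ext h))
  obtain ⟨e, he⟩ := (IsPGroup.iff_orderOf.1 R.2) (w.1 : (R : Subgroup (SpecialLinearGroup (Fin 2) F)))
  rw [← Subgroup.orderOf_coe] at he
  change orderOf z = r ^ e at he
  have hcop : Nat.Coprime (orderOf z) p := by
    rw [he]
    exact Nat.Coprime.pow_left _ ((Nat.coprime_primes Fact.out Fact.out).2 hrp)
  have hz2 : z ^ 2 ≠ 1 := fun h => by
    have hd := orderOf_dvd_of_pow_eq_one h
    rw [he] at hd
    rcases Nat.eq_zero_or_pos e with he0 | he0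
    · rw [he0, pow_zero] at he; exact hz1 (orderOf_eq_one_iff.1 he)
    · exact hr ((Nat.prime_dvd_prime_iff_eq Fact.out Nat.prime_two).1 ((dvd_pow_self r he0.ne').trans hd))
  have ht : z.1.trace ^ 2 ≠ 4 := fun h => hz2 (sq_eq_one_of_trace p hcop h)
  have hns : ∀ c : F, z.1 ≠ c • 1 := fun c hc => ht (by
    have hd := z.2
    rw [hc] at hd ⊢
    simp [Matrix.det_smul] at hd
    simp [Matrix.trace_smul]
    rcases hd with rfl | rfl <;> norm_num)
  let L := AlgebraicClosure F
  set t := z.1.trace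
  obtain ⟨l, hl⟩ : ∃ l : L, l * l - algebraMap F L t * l + 1 = 0 := by
    obtain ⟨l, hl⟩ := IsAlgClosed.exists_root
      (Polynomial.C 1 * Polynomial.X ^ 2 + Polynomial.C (-(algebraMap F L t)) * Polynomial.X
        + Polynomial.C (1 : L)) (by rw [Polynomial.degree_quadratic one_ne_zero]; decide)
    refine ⟨l, ?_⟩
    simp at hl
    linear_combination hl
  have hl2 : l * 2 ≠ algebraMap F L t := fun h => ht ((algebraMap F L).injective (by
    rw [map_pow, ← h, map_ofNat]
    rw [← h] at hl
    linear_combination -4 * hl))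
  have hlin : ∀ x : (R : Subgroup (SpecialLinearGroup (Fin 2) F)), ∃ ab : F × F,
      x.1.1 = ab.1 • z.1 + ab.2 • 1 := fun x => by
    have hc := congrArg Subtype.val (Subgroup.mem_center_iff.1 w.2 x)
    obtain ⟨a, b, h⟩ := exists_lin_of_commute (z := z.1) (x := x.1.1) hns (congrArg Subtype.val hc).symm
    exact ⟨(a, b), h⟩
  choose c hc using hlin
  have hdet : ∀ x, (algebraMap F L (c x).1 * l + algebraMap F L (c x).2)
      * (algebraMap F L (c x).1 * (algebraMap F L t - l) + algebraMap F L (c x).2) = 1 := fun x => by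
    have hd := x.1.2
    have hzd : z.1 0 0 * z.1 1 1 - z.1 0 1 * z.1 1 0 = 1 := by rw [← Matrix.det_fin_two]; exact z.2
    rw [hc x, Matrix.det_fin_two] at hd
    simp at hd
    have e : (c x).1 * (c x).1 + (c x).1 * (c x).2 * t + (c x).2 * (c x).2 = 1 := by
      simp only [t, Matrix.trace_fin_two]
      linear_combination hd - (c x).1 * (c x).1 * hzd
    have e' := congrArg (algebraMap F L) e
    simp only [map_add, map_mul, map_one] at e'
    linear_combination e' - algebraMap F L (c x).1 * algebraMap F L (c x).1 * hl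
  have hc1 : (c 1).1 = 0 ∧ (c 1).2 = 1 := by
    refine lin_unique hns (c := 0) (d := 1) ((hc 1).symm.trans ?_)
    simp
  let f : (R : Subgroup (SpecialLinearGroup (Fin 2) F)) →* L :=
    { toFun := fun x => algebraMap F L (c x).1 * l + algebraMap F L (c x).2
      map_one' := by simp [hc1.1, hc1.2]
      map_mul' := fun x y => by
        have h : (c (x * y)).1 = (c x).1 * (c y).1 * t + (c x).1 * (c y).2 + (c x).2 * (c y).1 ∧
            (c (x * y)).2 = (c x).2 * (c y).2 - (c x).1 * (c y).1 := by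
          refine lin_unique hns ((hc (x * y)).symm.trans ?_)
          rw [Subgroup.coe_mul, Matrix.SpecialLinearGroup.coe_mul, hc x, hc y]
          simp only [add_mul, mul_add, Matrix.smul_mul, Matrix.mul_smul, one_mul, mul_one, sq_eq_trace_smul]
          module
        rw [h.1, h.2]
        simp only [map_add, map_sub, map_mul]
        linear_combination -(algebraMap F L (c x).1 * algebraMap F L (c y).1) * hl }
  refine isCyclic_of_injective_ringHom f fun x y h => ?_
  change algebraMap F L (c x).1 * l + algebraMap F L (c x).2 = algebraMap F L (c y).1 * l + algebraMap F L (c y).2 at h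
  have hx := hdet x
  have hy := hdet y
  rw [← h] at hy
  have h' : algebraMap F L (c x).1 * (algebraMap F L t - l) + algebraMap F L (c x).2 =
      algebraMap F L (c y).1 * (algebraMap F L t - l) + algebraMap F L (c y).2 :=
    mul_left_cancel₀ (left_ne_zero_of_mul_eq_one hx) (hx.trans hy.symm)
  have h1 : algebraMap F L (c x).1 = algebraMap F L (c y).1 :=
    mul_right_cancel₀ (sub_ne_zero.2 hl2) (by linear_combination h - h')
  have h2 : algebraMap F L (c x).2 = algebraMap F L (c y).2 := by rw [h1] at h; exact add_left_cancel h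
  refine Subtype.ext (Subtype.ext ?_)
  rw [hc x, hc y, (algebraMap F L).injective h1, (algebraMap F L).injective h2]

omit p

/-! ### The prime two -/

variable [Fintype F]

theorem two_ne_zero_of_odd (hF : Odd (Fintype.card F)) : (2 : F) ≠ 0 := fun h => by
  have : CharP F 2 := CharTwo.of_one_ne_zero_of_two_eq_zero one_ne_zero h
  have h0 := FiniteField.even_card_iff_char_two.1 (ringChar.eq F 2)
  obtain ⟨r, hr⟩ := hF
  omega

omit [Fintype F] in
theorem eq_one_or_neg_one_of_sq (h2 : (2 : F) ≠ 0) {g : SpecialLinearGroup (Fin 2) F} (hg : g ^ 2 = 1) :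
    g = 1 ∨ g = -1 := by
  have hinv : g⁻¹ = g := inv_eq_of_mul_eq_one_right (by rw [← pow_two, hg])
  have h := congrArg Subtype.val hinv
  rw [Matrix.SpecialLinearGroup.coe_inv, Matrix.adjugate_fin_two] at h
  have h00 := congrFun (congrFun h 0) 0
  have h01 := congrFun (congrFun h 0) 1
  have h10 := congrFun (congrFun h 1) 0
  simp at h00 h01 h10
  have b0 : g.1 0 1 = 0 := mul_left_cancel₀ h2 (by linear_combination -h01)
  have c0 : g.1 1 0 = 0 := mul_left_cancel₀ h2 (by linear_combination -h10)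
  have hd := g.2
  rw [Matrix.det_fin_two, h00, b0, c0, mul_zero, sub_zero, mul_self_eq_one_iff] at hd
  rcases hd with hd | hd
  · left
    ext i j
    fin_cases i <;> fin_cases j <;> simp [h00, b0, c0, hd]
  · right
    ext i j
    fin_cases i <;> fin_cases j <;> simp [h00, b0, c0, hd]

theorem sylow_two_not_cyclic (hF : Odd (Fintype.card F)) (P : Sylow 2 (SpecialLinearGroup (Fin 2) F)) :
    ¬ IsCyclic (P : Subgroup (SpecialLinearGroup (Fin 2) F)) := by
  classical
  intro hP
  have : Fact (Nat.Prime 2) := ⟨Nat.prime_two⟩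
  have h2 := two_ne_zero_of_odd hF
  have hodd : ringChar F ≠ 2 := fun h => h2 (by
    have : CharP F 2 := h ▸ ringChar.charP F
    exact CharTwo.two_eq_zero)
  obtain ⟨x, y, hxy⟩ : ∃ x y : F, x ^ 2 + y ^ 2 = -1 := by
    obtain ⟨x, y, h⟩ := FiniteField.exists_root_sum_quadratic
      (f := Polynomial.C 1 * Polynomial.X ^ 2 + Polynomial.C 0 * Polynomial.X + Polynomial.C 0)
      (g := Polynomial.C 1 * Polynomial.X ^ 2 + Polynomial.C 0 * Polynomial.X + Polynomial.C (1 : F))
      (Polynomial.degree_quadratic one_ne_zero) (Polynomial.degree_quadratic one_ne_zero)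
      (FiniteField.odd_card_of_char_ne_two hodd)
    simp at h
    exact ⟨x, y, by linear_combination h⟩
  let i : SpecialLinearGroup (Fin 2) F := ⟨!![0, 1; -1, 0], by simp [Matrix.det_fin_two]⟩
  let j : SpecialLinearGroup (Fin 2) F := ⟨!![x, y; y, -x], by
    simp [Matrix.det_fin_two]; linear_combination -hxy⟩
  have ci : (i : Matrix (Fin 2) (Fin 2) F) = !![0, 1; -1, 0] := rfl
  have cj : (j : Matrix (Fin 2) (Fin 2) F) = !![x, y; y, -x] := rfl
  have hi2 : i * i = -1 := by
    refine Subtype.ext ?_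
    rw [Matrix.SpecialLinearGroup.coe_mul, Matrix.SpecialLinearGroup.coe_neg, Matrix.SpecialLinearGroup.coe_one, ci]
    ext a b
    fin_cases a <;> fin_cases b <;> simp [Matrix.mul_apply, Fin.sum_univ_two]
  have hi4 : i ^ 4 = 1 := by rw [show 4 = 2 * 2 from rfl, pow_mul, pow_two i, hi2, neg_one_sq]
  have hj2 : j * j = -1 := by
    refine Subtype.ext ?_
    rw [Matrix.SpecialLinearGroup.coe_mul, Matrix.SpecialLinearGroup.coe_neg, Matrix.SpecialLinearGroup.coe_one, cj]
    ext a b
    fin_cases a <;> fin_cases b <;> simp [Matrix.mul_apply, Fin.sum_univ_two] <;>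
      first | linear_combination hxy | ring1
  have hj4 : j ^ 4 = 1 := by rw [show 4 = 2 * 2 from rfl, pow_mul, pow_two j, hj2, neg_one_sq]
  have hji : j * i = i⁻¹ * j := by
    refine Subtype.ext ?_
    rw [Matrix.SpecialLinearGroup.coe_mul, Matrix.SpecialLinearGroup.coe_mul, Matrix.SpecialLinearGroup.coe_inv,
      ci, cj, Matrix.adjugate_fin_two]
    ext a b
    fin_cases a <;> fin_cases b <;> simp [Matrix.mul_apply, Fin.sum_univ_two]
  have hpg : ∀ g : SpecialLinearGroup (Fin 2) F, g ^ 4 = 1 → IsPGroup 2 (Subgroup.zpowers g) := fun g hg a => by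
    refine ⟨2, Subtype.ext ?_⟩
    obtain ⟨n, hn⟩ := a.2
    change g ^ n = a.1 at hn
    rw [Subgroup.coe_pow, Subgroup.coe_one, ← hn, ← zpow_natCast (g ^ n) (2 ^ 2), ← _root_.zpow_mul,
      mul_comm, _root_.zpow_mul, zpow_natCast, show (2 : ℕ) ^ 2 = 4 by norm_num, hg, _root_.one_zpow]
  have hnorm : Subgroup.zpowers j ≤ Subgroup.normalizer (Subgroup.zpowers i : Subgroup (SpecialLinearGroup (Fin 2) F)) := by
    rw [Subgroup.zpowers_le, Subgroup.mem_normalizer_iff]
    intro g
    have e : j * i * j⁻¹ = i⁻¹ := by rw [hji, mul_inv_cancel_right]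
    have e' : j⁻¹ * i * j = i⁻¹ := by
      have : j⁻¹ * i⁻¹ * j = i := by rw [← e]; group
      calc j⁻¹ * i * j = (j⁻¹ * i⁻¹ * j)⁻¹ := by group
        _ = i⁻¹ := by rw [this]
    constructor
    · rintro ⟨n, rfl⟩
      refine ⟨-n, ?_⟩
      show i ^ (-n) = j * i ^ n * j⁻¹
      rw [← conj_zpow, e, _root_.inv_zpow, _root_.zpow_neg]
    · rintro ⟨n, hn⟩
      refine ⟨-n, ?_⟩
      change i ^ n = j * g * j⁻¹ at hn
      show i ^ (-n) = g
      rw [show g = j⁻¹ * i ^ n * j by rw [hn]; group]
      have := conj_zpow (a := j⁻¹) (b := i) (i := n)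
      rw [inv_inv] at this
      rw [← this, e', _root_.inv_zpow, _root_.zpow_neg]
  obtain ⟨S, hS⟩ := (IsPGroup.to_sup_of_normal_left' (hpg i hi4) (hpg j hj4) hnorm).exists_le_sylow
  obtain ⟨g, hg⟩ := MulAction.exists_smul_eq (SpecialLinearGroup (Fin 2) F) P S
  have hScyc : IsCyclic (S : Subgroup (SpecialLinearGroup (Fin 2) F)) := by
    rw [← hg]
    exact isCyclic_of_surjective (Sylow.equiv P (g • P)) (Sylow.equiv P (g • P)).surjective
  have hcomm : i * j = j * i := congrArg Subtype.val
    ((IsMulCommutative.is_comm (M := (S : Subgroup (SpecialLinearGroup (Fin 2) F)))).comm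
      ⟨i, hS (Subgroup.mem_sup_left (Subgroup.mem_zpowers i))⟩
      ⟨j, hS (Subgroup.mem_sup_right (Subgroup.mem_zpowers j))⟩)
  have h0 := congrArg (fun M : SpecialLinearGroup (Fin 2) F => M.1 0 0) hcomm
  have h1 := congrArg (fun M : SpecialLinearGroup (Fin 2) F => M.1 0 1) hcomm
  simp only [Matrix.SpecialLinearGroup.coe_mul, ci, cj] at h0 h1
  simp [Matrix.mul_apply, Fin.sum_univ_two] at h0 h1
  have hy : y = 0 := mul_left_cancel₀ h2 (by linear_combination h0)
  have hx : x = 0 := mul_left_cancel₀ h2 (by linear_combination -h1)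
  rw [hx, hy] at hxy
  simp at hxy

theorem sylow_two_sl2 (hF : Odd (Fintype.card F)) (P : Sylow 2 (SpecialLinearGroup (Fin 2) F)) :
    ∃ k : ℕ, 1 ≤ k ∧ Nonempty ((P : Subgroup (SpecialLinearGroup (Fin 2) F)) ≃* QuaternionGroup (2 ^ k)) := by
  have h2 := two_ne_zero_of_odd hF
  refine (Cfsg.Agent.Fusion.cyclic_or_quaternion P.2 fun u v hu hv => ?_).resolve_left (sylow_two_not_cyclic hF P)
  have key : ∀ w : (P : Subgroup (SpecialLinearGroup (Fin 2) F)), orderOf w = 2 → w.1 = -1 := fun w hw => by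
    have hw' := pow_orderOf_eq_one w
    rw [hw] at hw'
    refine (eq_one_or_neg_one_of_sq h2 (congrArg Subtype.val hw')).resolve_left fun h => ?_
    rw [show w = 1 from Subtype.ext h, orderOf_one] at hw
    norm_num at hw
  exact Subtype.ext ((key u hu).trans (key v hv).symm)

theorem sylow_two_psl2 {q : ℕ} (hF : Fintype.card F = q) (hq : q % 8 = 3 ∨ q % 8 = 5)
    (P : Sylow 2 (ProjectiveSpecialLinearGroup (Fin 2) F)) :
    IsKleinFour (P : Subgroup (ProjectiveSpecialLinearGroup (Fin 2) F)) := by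
  classical
  have : Fact (Nat.Prime 2) := ⟨Nat.prime_two⟩
  have hodd : Odd (Fintype.card F) := by rw [hF]; exact Nat.odd_iff.2 (by omega)
  have h2 := two_ne_zero_of_odd hodd
  obtain ⟨m, hm, hcard⟩ : ∃ m, Odd m ∧ Nat.card (SpecialLinearGroup (Fin 2) F) = 8 * m := by
    obtain ⟨k, hk⟩ : ∃ k, q = 8 * k + 3 ∨ q = 8 * k + 5 := ⟨q / 8, by omega⟩
    rcases hk with hk | hk
    · refine ⟨q * (8 * k ^ 2 + 6 * k + 1), ?_, ?_⟩
      · exact (Nat.odd_iff.2 (by omega)).mul ⟨4 * k ^ 2 + 3 * k, by ring⟩
      · rw [card_sl2, hF, show q ^ 2 = 8 * (8 * k ^ 2 + 6 * k + 1) + 1 by rw [hk]; ring, Nat.add_sub_cancel]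
        ring
    · refine ⟨q * (8 * k ^ 2 + 10 * k + 3), ?_, ?_⟩
      · exact (Nat.odd_iff.2 (by omega)).mul ⟨4 * k ^ 2 + 5 * k + 1, by ring⟩
      · rw [card_sl2, hF, show q ^ 2 = 8 * (8 * k ^ 2 + 10 * k + 3) + 1 by rw [hk]; ring, Nat.add_sub_cancel]
        ring
  have hpsl : Nat.card (ProjectiveSpecialLinearGroup (Fin 2) F) = 4 * m := by
    have h := card_psl_mul (ι := Fin 2) (F := F)
    rw [hcard, Fintype.card_fin, hF] at h
    rw [show Nat.gcd 2 (q - 1) = 2 from Nat.gcd_eq_left (by omega)] at h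
    omega
  have sylcard : ∀ {G : Type _} [Group G] [Finite G] (S : Sylow 2 G) (a : ℕ), Nat.card G = 2 ^ a * m →
      Nat.card (S : Subgroup G) = 2 ^ a := by
    intro G _ _ S a hG
    rw [Sylow.card_eq_multiplicity, hG, Nat.factorization_mul (by positivity) (by
      intro h0; rw [h0] at hm; simp at hm), Finsupp.add_apply, Nat.prime_two.factorization_pow,
      Finsupp.single_eq_same, Nat.factorization_eq_zero_of_not_dvd hm.not_two_dvd_nat, add_zero]
  have hP : Nat.card (P : Subgroup (ProjectiveSpecialLinearGroup (Fin 2) F)) = 4 := sylcard P 2 hpsl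
  refine ⟨hP, ?_⟩
  have hsq : ∀ u : (P : Subgroup (ProjectiveSpecialLinearGroup (Fin 2) F)), u ^ 2 = 1 := by
    by_contra hc
    push Not at hc
    obtain ⟨u, hu⟩ := hc
    obtain ⟨P₀, hP₀⟩ := Sylow.mapSurjective_surjective (p := 2)
      (f := QuotientGroup.mk' (Subgroup.center (SpecialLinearGroup (Fin 2) F))) (QuotientGroup.mk'_surjective _) P
    have hu' : u.1 ∈ (P₀ : Subgroup _).map (QuotientGroup.mk' (Subgroup.center (SpecialLinearGroup (Fin 2) F))) := by
      rw [← Sylow.coe_mapSurjective (QuotientGroup.mk'_surjective _), hP₀]; exact u.2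
    obtain ⟨y, hy, hyu⟩ := hu'
    have hyord : orderOf (⟨y, hy⟩ : (P₀ : Subgroup (SpecialLinearGroup (Fin 2) F))) =
        Nat.card (P₀ : Subgroup (SpecialLinearGroup (Fin 2) F)) := by
      have h8 := sylcard P₀ 3 hcard
      have hd := orderOf_dvd_natCard (⟨y, hy⟩ : (P₀ : Subgroup (SpecialLinearGroup (Fin 2) F)))
      rw [h8] at hd ⊢
      obtain ⟨e, he, heq⟩ := (Nat.dvd_prime_pow Nat.prime_two).1 hd
      rw [heq]
      suffices ¬ e ≤ 2 by rw [show e = 3 by omega]
      intro he2
      have hy4 : (⟨y, hy⟩ : (P₀ : Subgroup (SpecialLinearGroup (Fin 2) F))) ^ 4 = 1 :=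
        orderOf_dvd_iff_pow_eq_one.1 (heq ▸ pow_dvd_pow 2 he2)
      have h4 : (y ^ 2) ^ 2 = 1 := by rw [← pow_mul]; exact congrArg Subtype.val hy4
      apply hu
      refine Subtype.ext ?_
      rw [Subgroup.coe_pow, ← hyu, ← map_pow, Subgroup.coe_one]
      refine (QuotientGroup.eq_one_iff _).2 ?_
      rcases eq_one_or_neg_one_of_sq h2 h4 with h | h <;> rw [h]
      · exact one_mem _
      · exact Subgroup.mem_center_iff.2 fun g => by simp
    exact sylow_two_not_cyclic hodd P₀ (isCyclic_of_orderOf_eq_card _ hyord)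
  obtain ⟨u, hu⟩ : ∃ u : (P : Subgroup (ProjectiveSpecialLinearGroup (Fin 2) F)), u ≠ 1 := by
    have : Nontrivial (P : Subgroup (ProjectiveSpecialLinearGroup (Fin 2) F)) :=
      Finite.one_lt_card_iff_nontrivial.1 (by rw [hP]; norm_num)
    exact exists_ne 1
  refine Nat.dvd_antisymm (Monoid.exponent_dvd_of_forall_pow_eq_one hsq) ?_
  have hdvd := Monoid.order_dvd_exponent u
  rwa [orderOf_eq_prime (hsq u) hu] at hdvd

end Cfsg.Agent.Classical
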