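import Mathlib
import Cfsg.Agent.SL2Class.PSL
import Cfsg.Agent.Classical.SL2Sylow
import Cfsg.Agent.Classical.LinearBasic
import Cfsg.Agent.Classical.KleinNormalizer

/-!
Involutions and Klein four subgroups of PSL(2, q), q odd.
-/

set_option autoImplicit false

namespace Cfsg.Agent.Classical.PKlein

open Matrix Cfsg.Agent.SL2Class

variable {F : Type*} [Field F]

local notation "SG" => Matrix.SpecialLinearGroup (Fin 2) F
local notation "PG" => Matrix.ProjectiveSpecialLinearGroup (Fin 2) F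
local notation:1024 "↥ₘ" A:1024 => ((A : Matrix.SpecialLinearGroup (Fin 2) F) : Matrix (Fin 2) (Fin 2) F)

theorem ne_neg (h2 : (2 : F) ≠ 0) (x : SG) : x ≠ -x := fun h => by
  have hm : ↥ₘ x = -↥ₘ x := by rw [← Matrix.SpecialLinearGroup.coe_neg, ← h]
  have hz : ↥ₘ x = 0 := by
    ext i j
    have := congrFun (congrFun hm i) j
    rw [Matrix.neg_apply] at this
    exact (mul_eq_zero.1 (show (2 : F) * ↥ₘ x i j = 0 by linear_combination this)).resolve_left h2
  have := x.2
  rw [hz, Matrix.det_zero] at this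
  exact zero_ne_one this

theorem neg_mul' (a b : SG) : -a * b = -(a * b) := Subtype.ext (by simp)

theorem mul_neg' (a b : SG) : a * -b = -(a * b) := Subtype.ext (by simp)

theorem neg_neg' (a : SG) : -(-a) = a := Subtype.ext (by simp)

theorem neg_inj' {a b : SG} (h : -a = -b) : a = b := by rw [← neg_neg' a, h, neg_neg']

/-- Elements whose square is minus one. -/
abbrev T0 (F : Type*) [Field F] : Type _ := {g : Matrix.SpecialLinearGroup (Fin 2) F // g * g = -1}

theorem t0_props (h2 : (2 : F) ≠ 0) {g : SG} (hg : g * g = -1) :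
    NonScalar g ∧ tr g = 0 ∧ tr g * tr g ≠ 4 ∧ g⁻¹ = -g := by
  have hns : NonScalar g := by
    by_contra h
    rcases scalar_eq h with e | e <;> rw [e] at hg
    · exact ne_neg h2 1 (by rw [one_mul] at hg; exact hg)
    · rw [neg_mul', one_mul, neg_neg'] at hg
      exact ne_neg h2 1 hg
  have htr : tr g = 0 := by
    have e : lin g (-1) (tr g) = lin g (-1) 0 := by
      rw [← g_sq, ← Matrix.SpecialLinearGroup.coe_mul, hg]
      simp [lin]
    exact (lin_ext hns e).2
  refine ⟨hns, htr, ?_, inv_eq_of_mul_eq_one_right (by rw [mul_neg', hg, neg_neg'])⟩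
  rw [htr, zero_mul]
  exact fun h => h2 (mul_self_eq_zero.1 (by linear_combination -h))

theorem mem_T0_of_tr {g : SG} (hg : tr g = 0) : g * g = -1 := by
  refine Subtype.ext ?_
  rw [Matrix.SpecialLinearGroup.coe_mul, g_sq, hg]
  simp [lin]

theorem exists_T0 : ∃ g : SG, g * g = -1 :=
  ⟨comp 0, mem_T0_of_tr (by simp [tr, coe_comp])⟩

theorem proj_eq_iff' {g h : SG} : proj g = proj h ↔ h = g ∨ h = -g := proj_eq_iff

theorem proj_neg (g : SG) : proj (-g) = proj g := (proj_eq_iff.2 (Or.inr rfl)).symm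

theorem involution_iff (h2 : (2 : F) ≠ 0) {g : SG} :
    (proj g ≠ 1 ∧ proj g * proj g = 1) ↔ g * g = -1 := by
  constructor
  · rintro ⟨h1, hsq⟩
    rw [← map_mul, proj_eq_one, mem_center_cases] at hsq
    rcases hsq with e | e
    · exact absurd (proj_eq_one.2 (mem_center_cases.2 (sq_eq_one_cases h2 e))) h1
    · exact e
  · intro hg
    refine ⟨fun h => ?_, ?_⟩
    · exact mem_center_iff.1 (proj_eq_one.1 h) (t0_props h2 hg).1
    · rw [← map_mul, proj_eq_one, hg]
      exact neg_one_mem_center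

/-- Anticommuting pairs of square roots of minus one. -/
abbrev Pairs (F : Type*) [Field F] : Type _ :=
  Σ g : T0 F, {h : Matrix.SpecialLinearGroup (Fin 2) F // h * h = -1 ∧ g.1 * h = -(h * g.1)}

theorem anti_iff (h2 : (2 : F) ≠ 0) {g h : SG} (hg : g * g = -1) (hh : h * h = -1) :
    (proj g * proj h = proj h * proj g ∧ proj g ≠ proj h) ↔ g * h = -(h * g) := by
  constructor
  · rintro ⟨hc, hne⟩
    rw [← map_mul, ← map_mul, proj_eq_iff] at hc
    rcases hc with e | e
    · exfalso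
      obtain ⟨hns, htr, -, -⟩ := t0_props h2 hg
      obtain ⟨a, b, hab⟩ := (mem_centralizer hns).1
        (Subgroup.mem_centralizer_singleton_iff.2 (show h * g = g * h from e))
      have ht := (t0_props h2 hh).2.1
      rw [tr_of_lin hab, htr, mul_zero, add_zero, mul_eq_zero] at ht
      have ha : a = 0 := ht.resolve_left h2
      subst ha
      have hd : N2 (tr g) 0 b = 1 := by rw [← det_lin, ← hab]; exact h.2
      have hb : b = 1 ∨ b = -1 := mul_self_eq_one_iff.1 (by simpa [N2] using hd)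
      refine hne (proj_eq_iff.2 ?_)
      rcases hb with rfl | rfl
      · exact Or.inl (Subtype.ext (by rw [hab, lin_self]))
      · refine Or.inr (Subtype.ext ?_)
        rw [hab, Matrix.SpecialLinearGroup.coe_neg]
        simp [lin]
    · rw [e, neg_neg']
  · intro e
    refine ⟨?_, fun hp => ?_⟩
    · rw [← map_mul, ← map_mul, e, proj_neg]
    · rcases proj_eq_iff.1 hp with rfl | rfl
      · exact ne_neg h2 _ e
      · rw [mul_neg', neg_mul', neg_neg'] at e
        exact ne_neg h2 _ e.symm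

theorem partner_iff (h2 : (2 : F) ≠ 0) [Fintype F] {g h : SG} (hg : g * g = -1) :
    (h * h = -1 ∧ g * h = -(h * g)) ↔
      h ∈ Subgroup.normalizer (Subgroup.centralizer ({g} : Set SG) : Set SG) ∧
        h ∉ Subgroup.centralizer ({g} : Set SG) := by
  obtain ⟨hns, -, ht4, hinv⟩ := t0_props h2 hg
  constructor
  · rintro ⟨-, e⟩
    have hconj : h * g * h⁻¹ = g⁻¹ := by
      rw [hinv, mul_inv_eq_iff_eq_mul, neg_mul', e, neg_neg']
    exact ⟨mem_normalizer_of_inverting hns hconj, inverting_notMem ht4 hconj⟩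
  · rintro ⟨hN, hC⟩
    refine ⟨sq_of_not_mem h2 ht4 hN hC, ?_⟩
    rcases eq_or_inv_of_tr ht4 ((Subgroup.mem_normalizer_iff.1 hN g).1 (self_mem_cent g)) (tr_conj h g) with e | e
    · exact absurd (Subgroup.mem_centralizer_singleton_iff.2 (mul_inv_eq_iff_eq_mul.1 e)) hC
    · rw [hinv, mul_inv_eq_iff_eq_mul, neg_mul'] at e
      rw [e, neg_neg']

theorem card_pairs (h2 : (2 : F) ≠ 0) [Fintype F] : Nat.card (Pairs F) = Nat.card SG := by
  classical
  obtain ⟨g0, hg0⟩ := exists_T0 (F := F)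
  obtain ⟨hns0, htr0, ht0, -⟩ := t0_props h2 hg0
  set c := Nat.card (Subgroup.centralizer ({g0} : Set SG)) with hc
  have hcarrier : Nat.card (T0 F) = Nat.card (ConjClasses.mk g0).carrier := by
    refine Nat.card_congr (Equiv.subtypeEquivRight fun g => ?_)
    rw [ConjClasses.mem_carrier_iff_mk_eq, ConjClasses.mk_eq_mk_iff_isConj]
    constructor
    · intro hg
      exact isConj_of_tr (t0_props h2 hg).1 hns0 ((t0_props h2 hg).2.1.trans htr0.symm) (Or.inl (t0_props h2 hg).2.2.1)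
    · intro h
      exact mem_T0_of_tr ((tr_eq_of_isConj h).trans htr0)
  have hfib : ∀ g : T0 F, Nat.card {h : SG // h * h = -1 ∧ g.1 * h = -(h * g.1)} = c := by
    intro g
    obtain ⟨hns, htr, ht4, -⟩ := t0_props h2 g.2
    have hcg : Nat.card (Subgroup.centralizer ({g.1} : Set SG)) = c := by
      rw [hc, card_centralizer hns, card_centralizer hns0, htr, htr0]
    set C := Subgroup.centralizer ({g.1} : Set SG)
    set N := Subgroup.normalizer (C : Set SG)
    rw [Nat.card_congr (Equiv.subtypeEquivRight fun h => partner_iff h2 g.2)]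
    show Nat.card ↥((N : Set SG) \ (C : Set SG)) = c
    rw [Nat.card_coe_set_eq, Set.ncard_diff (Subgroup.le_normalizer : C ≤ N), ← Nat.card_coe_set_eq,
      ← Nat.card_coe_set_eq]
    show Nat.card N - Nat.card C = c
    rw [card_normalizer ht4, hcg]
    omega
  have : Fintype (T0 F) := Fintype.ofFinite _
  rw [Nat.card_sigma, Finset.sum_const_nat (fun g _ => hfib g), Finset.card_univ, ← Nat.card_eq_fintype_card,
    hcarrier, hc, card_carrier_mul]

/-- A lift to SL. -/
noncomputable def lift (x : PG) : SG := (proj_surjective x).choose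

theorem proj_lift (x : PG) : proj (lift x) = x := (proj_surjective x).choose_spec

theorem isKleinFour_of_lifts (h2 : (2 : F) ≠ 0) {g h : SG} (hg : g * g = -1) (hh : h * h = -1)
    (e : g * h = -(h * g)) :
    ∃ V : Subgroup PG, IsKleinFour V ∧ proj g ∈ V ∧ proj h ∈ V := by
  obtain ⟨hc, hne⟩ := (anti_iff h2 hg hh).2 e
  obtain ⟨g1, g2⟩ := (involution_iff h2).2 hg
  obtain ⟨k1, k2⟩ := (involution_iff h2).2 hh
  exact ⟨_, KleinN.isKleinFour_ofPair g2 k2 hc g1 k1 hne, KleinN.mem_ofPair.2 (Or.inr (Or.inl rfl)),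
    KleinN.mem_ofPair.2 (Or.inr (Or.inr (Or.inl rfl)))⟩

theorem lifts_of_mem (h2 : (2 : F) ≠ 0) (V : Subgroup PG) [IsKleinFour V] {x y : PG} (hx : x ∈ V) (hy : y ∈ V)
    (x1 : x ≠ 1) (y1 : y ≠ 1) (hxy : x ≠ y) {g h : SG} (eg : proj g = x) (eh : proj h = y) :
    g * g = -1 ∧ h * h = -1 ∧ g * h = -(h * g) := by
  have hsq : ∀ z ∈ V, z * z = 1 := fun z hz => congrArg Subtype.val (IsKleinFour.mul_self (⟨z, hz⟩ : V))
  have hc : x * y = y * x :=
    congrArg Subtype.val (mul_comm_of_exponent_two IsKleinFour.exponent_two (⟨x, hx⟩ : V) ⟨y, hy⟩)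
  have hg := (involution_iff h2 (g := g)).1 ⟨eg ▸ x1, eg ▸ hsq x hx⟩
  have hh := (involution_iff h2 (g := h)).1 ⟨eh ▸ y1, eh ▸ hsq y hy⟩
  exact ⟨hg, hh, (anti_iff h2 hg hh).1 (by rw [eg, eh]; exact ⟨hc, hxy⟩)⟩

theorem card_klein (h2 : (2 : F) ≠ 0) [Fintype F] :
    24 * Nat.card {V : Subgroup PG // IsKleinFour V} = Nat.card SG := by
  classical
  let A := Σ V : {V : Subgroup PG // IsKleinFour V}, KleinN.PairsIn V.1
  have hA : Nat.card A = 6 * Nat.card {V : Subgroup PG // IsKleinFour V} := by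
    have : Fintype {V : Subgroup PG // IsKleinFour V} := Fintype.ofFinite _
    rw [Nat.card_sigma, Finset.sum_const_nat (m := 6) (fun V _ => by
      have := V.2; exact KleinN.card_pairsIn V.1), Finset.card_univ, ← Nat.card_eq_fintype_card, mul_comm]
  let sg : Bool → SG → SG := fun b g => if b then -g else g
  have sgp : ∀ b g, proj (sg b g) = proj g := fun b g => by cases b <;> simp [sg, proj_neg]
  let f : A × Bool × Bool → Pairs F := fun a =>
    haveI := a.1.1.2
    have hl := lifts_of_mem h2 a.1.1.1 a.1.2.1.1.2 a.1.2.1.2.2 (fun e => a.1.2.2.1 (Subtype.ext e))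
      (fun e => a.1.2.2.2.1 (Subtype.ext e)) (fun e => a.1.2.2.2.2 (Subtype.ext e))
      ((sgp a.2.1 _).trans (proj_lift a.1.2.1.1.1)) ((sgp a.2.2 _).trans (proj_lift a.1.2.1.2.1))
    ⟨⟨sg a.2.1 (lift a.1.2.1.1.1), hl.1⟩, ⟨sg a.2.2 (lift a.1.2.1.2.1), hl.2.1, hl.2.2⟩⟩
  have hf : Function.Bijective f := by
    constructor
    · rintro ⟨⟨⟨V, hV⟩, ⟨⟨⟨x, hx⟩, ⟨y, hy⟩⟩, hp⟩⟩, s, t⟩ ⟨⟨⟨V', hV'⟩, ⟨⟨⟨x', hx'⟩, ⟨y', hy'⟩⟩, hp'⟩⟩, s', t'⟩ e
      have e1 : sg s (lift x) = sg s' (lift x') := congrArg (fun p : Pairs F => p.1.1) e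
      have e2 : sg t (lift y) = sg t' (lift y') := congrArg (fun p : Pairs F => p.2.1) e
      have ex : x = x' := by rw [← proj_lift x, ← sgp s, e1, sgp, proj_lift]
      have ey : y = y' := by rw [← proj_lift y, ← sgp t, e2, sgp, proj_lift]
      subst ex ey
      obtain rfl : V = V' := KleinN.eq_of_mem hx hy hx' hy' (fun e => hp.1 (Subtype.ext e))
        (fun e => hp.2.1 (Subtype.ext e)) (fun e => hp.2.2 (Subtype.ext e))
      have hs : ∀ (b b' : Bool) (g : SG), sg b g = sg b' g → b = b' := fun b b' g h => by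
        cases b <;> cases b' <;> simp [sg] at h ⊢
        · exact ne_neg h2 g h
        · exact ne_neg h2 g h.symm
      rw [hs s s' _ e1, hs t t' _ e2]
    · rintro ⟨⟨g, hg⟩, ⟨h, hh, e⟩⟩
      obtain ⟨V, hV, hgV, hhV⟩ := isKleinFour_of_lifts h2 hg hh e
      obtain ⟨-, hne⟩ := (anti_iff h2 hg hh).2 e
      have pick : ∀ k : SG, ∃ b, sg b (lift (proj k)) = k := fun k => by
        rcases proj_eq_iff.1 (proj_lift (proj k)) with h' | h'
        · exact ⟨false, h'.symm⟩
        · exact ⟨true, h'.symm⟩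
      obtain ⟨s, hs⟩ := pick g
      obtain ⟨t, ht⟩ := pick h
      refine ⟨⟨⟨⟨V, hV⟩, ⟨⟨⟨proj g, hgV⟩, ⟨proj h, hhV⟩⟩, fun h' => ((involution_iff h2).2 hg).1 (congrArg Subtype.val h'),
        fun h' => ((involution_iff h2).2 hh).1 (congrArg Subtype.val h'), fun h' => hne (congrArg Subtype.val h')⟩⟩,
        s, t⟩, ?_⟩
      have ee : ∀ p q : Pairs F, p.1.1 = q.1.1 → p.2.1 = q.2.1 → p = q := by
        rintro ⟨⟨a, ha⟩, ⟨b, hb⟩⟩ ⟨⟨a', ha'⟩, ⟨b', hb'⟩⟩ h1 h2
        obtain rfl : a = a' := h1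
        obtain rfl : b = b' := h2
        rfl
      exact ee _ _ hs ht
  have := Nat.card_eq_of_bijective f hf
  rw [Nat.card_prod, Nat.card_prod, Nat.card_eq_fintype_card (α := Bool), Fintype.card_bool, hA, card_pairs h2] at this
  omega

theorem card_psl_two (h2 : (2 : F) ≠ 0) [Fintype F] : 2 * Nat.card PG = Nat.card SG := by
  have h := Classical.card_psl_mul (ι := Fin 2) (F := F)
  have := card_odd_of_two_ne_zero h2
  rw [Fintype.card_fin, show Nat.gcd 2 (Fintype.card F - 1) = 2 from Nat.gcd_eq_left (by omega)] at h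
  exact h

theorem twelve_mul_card (h2 : (2 : F) ≠ 0) [Fintype F] :
    12 * Nat.card {V : Subgroup PG // IsKleinFour V} = Nat.card PG := by
  have h := card_klein (F := F) h2
  have h' := card_psl_two (F := F) h2
  omega

theorem centralizer_klein (h2 : (2 : F) ≠ 0) [Fintype F] (V : Subgroup PG) [IsKleinFour V] :
    Subgroup.centralizer (V : Set PG) ≤ V := by
  intro z hz
  obtain ⟨x, y, hx, hy, x1, y1, hxy⟩ := KleinN.exists_basis V
  obtain ⟨g, rfl⟩ := proj_surjective x
  obtain ⟨h, rfl⟩ := proj_surjective y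
  obtain ⟨hg, hh, e⟩ := lifts_of_mem h2 V hx hy x1 y1 hxy (g := g) (h := h) rfl rfl
  obtain ⟨t, rfl⟩ := proj_surjective z
  have sgn : ∀ (k : SG) (t : SG), proj k ∈ V → proj t ∈ Subgroup.centralizer (V : Set PG) →
      t * k = k * t ∨ t * k = -(k * t) := by
    intro k t hk ht
    have := Subgroup.mem_centralizer_iff.1 ht _ hk
    rw [← map_mul, ← map_mul, proj_eq_iff] at this
    exact this
  have core : ∀ s : SG, s * g = g * s → s * h = h * s → proj s = 1 := by
    intro s s1 s2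
    obtain ⟨hns, htr, -, -⟩ := t0_props h2 hg
    obtain ⟨a, b, hab⟩ := (mem_centralizer hns).1 (Subgroup.mem_centralizer_singleton_iff.2 s1)
    refine proj_eq_one.2 (mem_center_iff.2 fun hsns => ?_)
    have hb : b ≠ 0 := fun hb0 => hsns (by rw [hab, hb0]; simp [lin_apply])
    have hm : lin g a b * ↥ₘ h = ↥ₘ h * lin g a b := by
      rw [← hab, ← Matrix.SpecialLinearGroup.coe_mul, s2, Matrix.SpecialLinearGroup.coe_mul]
    rw [lin, add_mul, mul_add, Matrix.smul_mul, Matrix.smul_mul, Matrix.mul_smul, Matrix.mul_smul, one_mul, mul_one,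
      add_right_inj] at hm
    have := smul_right_injective _ hb hm
    rw [← Matrix.SpecialLinearGroup.coe_mul, ← Matrix.SpecialLinearGroup.coe_mul] at this
    exact ne_neg h2 _ ((Subtype.ext this : g * h = h * g).symm.trans e)
  have hcomm : ∀ {A : PG}, A ∈ V → A ∈ Subgroup.centralizer (V : Set PG) := fun hA =>
    Subgroup.mem_centralizer_iff.2 fun w hw =>
      congrArg Subtype.val (mul_comm_of_exponent_two IsKleinFour.exponent_two (⟨w, hw⟩ : V) ⟨_, hA⟩)
  -- reduce the sign on g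
  obtain ⟨t₁, ht₁C, ht₁V, hg₁⟩ : ∃ t₁, proj t₁ ∈ Subgroup.centralizer (V : Set PG) ∧
      (proj t₁ ∈ V → proj t ∈ V) ∧ t₁ * g = g * t₁ := by
    rcases sgn g t hx hz with e1 | e1
    · exact ⟨t, hz, id, e1⟩
    · refine ⟨h * t, by rw [map_mul]; exact Subgroup.mul_mem _ (hcomm hy) hz, fun hv => ?_, ?_⟩
      · rw [map_mul] at hv
        exact (V.mul_mem_cancel_left hy).1 hv
      · rw [mul_assoc, e1, mul_neg', ← mul_assoc, ← neg_mul', ← e, mul_assoc]
  apply ht₁V
  rcases sgn h t₁ hy ht₁C with e2 | e2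
  · rw [core t₁ hg₁ e2]; exact V.one_mem
  · have h3 : proj (g * t₁) = 1 := core _ (by rw [mul_assoc, hg₁]) (by
      rw [mul_assoc, e2, mul_neg', ← mul_assoc, e, neg_mul', neg_neg', mul_assoc])
    rw [map_mul] at h3
    rw [eq_inv_of_mul_eq_one_right h3]
    exact V.inv_mem hx

theorem exists_klein (h2 : (2 : F) ≠ 0) [Fintype F] : ∃ V : Subgroup PG, IsKleinFour V := by
  have h := twelve_mul_card (F := F) h2
  have hp : 0 < Nat.card PG := Nat.card_pos
  obtain ⟨⟨V, hV⟩⟩ := (Nat.card_pos_iff.1 (show 0 < Nat.card {V : Subgroup PG // IsKleinFour V} by omega)).1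
  exact ⟨V, hV⟩

theorem involutions_conj (h2 : (2 : F) ≠ 0) [Fintype F] (x y : PG) (hx : orderOf x = 2) (hy : orderOf y = 2) :
    IsConj x y := by
  obtain ⟨g, rfl⟩ := proj_surjective x
  obtain ⟨h, rfl⟩ := proj_surjective y
  have key : ∀ k : SG, orderOf (proj k) = 2 → k * k = -1 := fun k hk => (involution_iff h2).1
    ⟨fun e => by rw [e, orderOf_one] at hk; omega, by
      have := pow_orderOf_eq_one (proj k); rw [hk, pow_two] at this; exact this⟩
  obtain ⟨hns, htr, ht4, -⟩ := t0_props h2 (key g hx)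
  obtain ⟨hns', htr', -, -⟩ := t0_props h2 (key h hy)
  exact MonoidHom.map_isConj proj (isConj_of_tr hns hns' (htr.trans htr'.symm) (Or.inl ht4))

theorem isKleinFour_map {G : Type*} [Group G] (V : Subgroup G) [IsKleinFour V] (g : G) :
    IsKleinFour (V.map (MulAut.conj g).toMonoidHom) :=
  ⟨(Nat.card_congr ((MulAut.conj g).subgroupMap V).toEquiv).symm.trans IsKleinFour.card_four,
    (Monoid.exponent_eq_of_mulEquiv ((MulAut.conj g).subgroupMap V)).symm.trans IsKleinFour.exponent_two⟩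

/-- Conjugacy of subgroups. -/
def SConj {G : Type*} [Group G] (V W : Subgroup G) : Prop := ∃ g : G, W = V.map (MulAut.conj g).toMonoidHom

theorem card_pg_two_part (h2 : (2 : F) ≠ 0) [Fintype F] {q : ℕ} (hF : Fintype.card F = q) :
    ((q % 8 = 1 ∨ q % 8 = 7) → 8 ∣ Nat.card PG) ∧ (q % 8 = 3 ∨ q % 8 = 5 → ¬ 8 ∣ Nat.card PG) := by
  have hS : Nat.card SG = q * (q ^ 2 - 1) := by rw [card_sl, hF]
  have hP := card_psl_two (F := F) h2
  have h4 := twelve_mul_card (F := F) h2
  obtain ⟨k, r, hk, hr⟩ : ∃ k r, q = 8 * k + r ∧ r < 8 := ⟨q / 8, q % 8, by omega, by omega⟩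
  constructor
  · intro hq
    have hr' : r = 1 ∨ r = 7 := by omega
    rcases hr' with rfl | rfl
    · have : q ^ 2 - 1 = 16 * (4 * k ^ 2 + k) := by
        rw [hk, show (8 * k + 1) ^ 2 = 16 * (4 * k ^ 2 + k) + 1 by ring, Nat.add_sub_cancel]
      rw [this] at hS
      exact ⟨q * (4 * k ^ 2 + k), by rw [mul_left_comm] at hS; omega⟩
    · have : q ^ 2 - 1 = 16 * (4 * k ^ 2 + 7 * k + 3) := by
        rw [hk, show (8 * k + 7) ^ 2 = 16 * (4 * k ^ 2 + 7 * k + 3) + 1 by ring, Nat.add_sub_cancel]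
      rw [this] at hS
      exact ⟨q * (4 * k ^ 2 + 7 * k + 3), by rw [mul_left_comm] at hS; omega⟩
  · intro hq hdvd
    have hr' : r = 3 ∨ r = 5 := by omega
    have hodd : ∀ a b : ℕ, Odd a → Odd b → ¬ 8 ∣ 4 * (a * b) := fun a b ha hb ⟨c, hc⟩ => by
      obtain ⟨d, hd⟩ := ha.mul hb
      omega
    rcases hr' with rfl | rfl
    · have : q ^ 2 - 1 = 8 * (8 * k ^ 2 + 6 * k + 1) := by
        rw [hk, show (8 * k + 3) ^ 2 = 8 * (8 * k ^ 2 + 6 * k + 1) + 1 by ring, Nat.add_sub_cancel]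
      rw [this] at hS
      exact hodd q (8 * k ^ 2 + 6 * k + 1) (Nat.odd_iff.2 (by omega)) ⟨4 * k ^ 2 + 3 * k, by ring⟩
        (by rw [mul_left_comm] at hS; convert hdvd using 1; omega)
    · have : q ^ 2 - 1 = 8 * (8 * k ^ 2 + 10 * k + 3) := by
        rw [hk, show (8 * k + 5) ^ 2 = 8 * (8 * k ^ 2 + 10 * k + 3) + 1 by ring, Nat.add_sub_cancel]
      rw [this] at hS
      exact hodd q (8 * k ^ 2 + 10 * k + 3) (Nat.odd_iff.2 (by omega)) ⟨4 * k ^ 2 + 5 * k + 1, by ring⟩
        (by rw [mul_left_comm] at hS; convert hdvd using 1; omega)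

theorem one_class (h2 : (2 : F) ≠ 0) [Fintype F] {q : ℕ} (hF : Fintype.card F = q) (hq : q % 8 = 3 ∨ q % 8 = 5)
    (V W : Subgroup PG) (hV : IsKleinFour V) (hW : IsKleinFour W) : SConj V W := by
  have : Fact (Nat.Prime 2) := ⟨Nat.prime_two⟩
  have hP : ∀ X : Subgroup PG, IsKleinFour X → ∃ P : Sylow 2 PG, (P : Subgroup PG) = X := by
    intro X hX
    obtain ⟨P, hP⟩ := (IsPGroup.of_card (p := 2) (G := X) (n := 2) (by rw [hX.card_four]; rfl)).exists_le_sylow
    refine ⟨P, (Subgroup.eq_of_le_of_card_ge hP ?_).symm⟩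
    rw [(Cfsg.Agent.Classical.sylow_two_psl2 hF hq P).card_four, hX.card_four]
  obtain ⟨P, rfl⟩ := hP V hV
  obtain ⟨Q, rfl⟩ := hP W hW
  obtain ⟨g, hg⟩ := MulAction.exists_smul_eq PG P Q
  exact ⟨g, by rw [← hg]; exact Sylow.coe_subgroup_smul⟩

theorem orbit_le (h2 : (2 : F) ≠ 0) [Fintype F] (V : Subgroup PG) [IsKleinFour V] :
    Nat.card {W : Subgroup PG // SConj V W} * Nat.card (Subgroup.normalizer (V : Set PG)) =
      12 * Nat.card {V : Subgroup PG // IsKleinFour V} := by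
  rw [twelve_mul_card h2]
  exact KleinN.card_orbit V

theorem normalizer_twelve (h2 : (2 : F) ≠ 0) [Fintype F] {q : ℕ} (hF : Fintype.card F = q)
    (hq : q % 8 = 3 ∨ q % 8 = 5) (V : Subgroup PG) [IsKleinFour V] :
    Nat.card (Subgroup.normalizer (V : Set PG)) = 12 := by
  have h := orbit_le h2 V
  have e : Nat.card {W : Subgroup PG // SConj V W} = Nat.card {V : Subgroup PG // IsKleinFour V} :=
    Nat.card_congr (Equiv.subtypeEquivRight fun W =>
      ⟨fun ⟨g, hg⟩ => hg ▸ isKleinFour_map V g, fun hW => one_class h2 hF hq V W inferInstance hW⟩)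
  rw [e, mul_comm 12] at h
  exact mul_left_cancel₀ (Nat.card_pos_iff.2 ⟨⟨⟨V, inferInstance⟩⟩, inferInstance⟩).ne' h

theorem two_classes (h2 : (2 : F) ≠ 0) [Fintype F] {q : ℕ} (hF : Fintype.card F = q) (hq : q % 8 = 1 ∨ q % 8 = 7) :
    ∃ V₁ V₂ : Subgroup PG, IsKleinFour V₁ ∧ IsKleinFour V₂ ∧ ¬ SConj V₁ V₂ ∧
      (∀ W : Subgroup PG, IsKleinFour W → SConj V₁ W ∨ SConj V₂ W) ∧
      Nat.card (Subgroup.normalizer (V₁ : Set PG)) = 24 := by
  classical
  obtain ⟨V, hV⟩ := exists_klein (F := F) h2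
  set K := Nat.card {V : Subgroup PG // IsKleinFour V} with hK
  have h8 := (card_pg_two_part h2 hF).1 hq
  have hKpos : 0 < K := Nat.card_pos_iff.2 ⟨⟨⟨V, hV⟩⟩, inferInstance⟩
  have bound : ∀ (X : Subgroup PG), IsKleinFour X →
      Nat.card (Subgroup.normalizer (X : Set PG)) ≤ 24 ∧ 8 ∣ Nat.card (Subgroup.normalizer (X : Set PG)) ∧
        4 ∣ Nat.card (Subgroup.normalizer (X : Set PG)) := fun X hX =>
    ⟨(KleinN.normalizer_cap X (centralizer_klein h2 X)).1, KleinN.eight_dvd_normalizer X h8,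
      (KleinN.normalizer_cap X (centralizer_klein h2 X)).2⟩
  obtain ⟨W, hW, hVW⟩ : ∃ W : Subgroup PG, IsKleinFour W ∧ ¬ SConj V W := by
    by_contra hcon
    push_neg at hcon
    have h := orbit_le h2 V
    have e : Nat.card {W : Subgroup PG // SConj V W} = K :=
      Nat.card_congr (Equiv.subtypeEquivRight fun W => ⟨fun ⟨g, hg⟩ => hg ▸ isKleinFour_map V g, hcon W⟩)
    rw [e, mul_comm 12] at h
    have h12 := mul_left_cancel₀ hKpos.ne' h
    have := (bound V hV).2.1
    omega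
  have symm : ∀ {A B : Subgroup PG}, SConj A B → SConj B A := by
    rintro A B ⟨g, rfl⟩
    refine ⟨g⁻¹, ?_⟩
    rw [Subgroup.map_map]
    ext x
    simp [mul_assoc]
  have trans' : ∀ {A B C : Subgroup PG}, SConj A B → SConj B C → SConj A C := by
    rintro A B C ⟨g, rfl⟩ ⟨k, rfl⟩
    refine ⟨k * g, ?_⟩
    rw [Subgroup.map_map]
    congr 1
    ext x
    simp [mul_assoc]
  let S : Subgroup PG → Set (Subgroup PG) := fun X => {Y | SConj X Y}
  let All : Set (Subgroup PG) := {Y | IsKleinFour Y}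
  have hsub : ∀ X : Subgroup PG, IsKleinFour X → S X ⊆ All := fun X hX Y ⟨g, hg⟩ => hg ▸ isKleinFour_map X g
  have hdisj : Disjoint (S V) (S W) := Set.disjoint_left.2 fun Y h1 h2' => hVW (trans' h1 (symm h2'))
  have hn : ∀ X : Subgroup PG, IsKleinFour X → (S X).ncard * Nat.card (Subgroup.normalizer (X : Set PG)) = 12 * K := by
    intro X hX
    rw [← Nat.card_coe_set_eq]
    exact orbit_le h2 X
  have hAll : All.ncard = K := by rw [← Nat.card_coe_set_eq]; rfl
  have hsum : (S V).ncard + (S W).ncard ≤ K := by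
    rw [← Set.ncard_union_eq hdisj, ← hAll]
    exact Set.ncard_le_ncard (Set.union_subset (hsub V hV) (hsub W hW))
  have a1 := hn V hV
  have a2 := hn W hW
  have b1 := Nat.mul_le_mul_left (S V).ncard (bound V hV).1
  have b2 := Nat.mul_le_mul_left (S W).ncard (bound W hW).1
  have c1 : 2 * (S V).ncard = K := by omega
  have c2 : 2 * (S W).ncard = K := by omega
  have hfull : S V ∪ S W = All := Set.eq_of_subset_of_ncard_le (Set.union_subset (hsub V hV) (hsub W hW))
    (by rw [Set.ncard_union_eq hdisj, hAll]; omega)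
  refine ⟨V, W, hV, hW, hVW, fun X hX => ?_, ?_⟩
  · have : X ∈ S V ∪ S W := hfull ▸ hX
    exact this
  · rw [show 12 * K = (S V).ncard * 24 by omega] at a1
    exact mul_left_cancel₀ (fun h0 => by omega) a1

end Cfsg.Agent.Classical.PKlein
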