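import Mathlib
import Cfsg.Agent.Classical.Linear2

/-! SL_2 over a finite field: Sylow p-subgroups as conjugates of the root subgroup, generation by any two. -/

set_option autoImplicit false

namespace Cfsg.Agent.Classical

open Matrix
open scoped MatrixGroups

variable {F : Type*} [Field F]

/-- The upper root subgroup of SL_2. -/
def rootHomSL : Multiplicative F →* SL(2, F) :=
  MonoidHom.mk' (fun c => (Matrix.SpecialLinearGroup.transvection (i := (0 : Fin 2)) (j := 1)
      (by decide) c.toAdd : SL(2, F))) fun c d => by rw [toAdd_mul, Matrix.SpecialLinearGroup.transvection_add]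

theorem rootHomSL_coe (c : Multiplicative F) :
    ((rootHomSL c : SL(2, F)) : Matrix (Fin 2) (Fin 2) F) = !![1, c.toAdd; 0, 1] := by
  ext i j
  fin_cases i <;> fin_cases j <;> simp [rootHomSL, Matrix.SpecialLinearGroup.transvection_coe]

theorem rootHomSL_injective : Function.Injective (rootHomSL (F := F)) := fun c d h => by
  have := congrArg (fun g : SL(2, F) => (g : Matrix (Fin 2) (Fin 2) F) 0 1) h
  simpa [rootHomSL_coe] using this

theorem conj_rootHomSL (g : SL(2, F)) (c : Multiplicative F) :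
    ((g * rootHomSL c * g⁻¹ : SL(2, F)) : Matrix (Fin 2) (Fin 2) F) =
      !![1 - c.toAdd * g.1 0 0 * g.1 1 0, c.toAdd * g.1 0 0 ^ 2; -(c.toAdd * g.1 1 0 ^ 2),
        1 + c.toAdd * g.1 0 0 * g.1 1 0] := by
  have hd : g.1 0 0 * g.1 1 1 - g.1 0 1 * g.1 1 0 = 1 := by rw [← Matrix.det_fin_two]; exact g.2
  rw [Matrix.SpecialLinearGroup.coe_mul, Matrix.SpecialLinearGroup.coe_mul,
    Matrix.SpecialLinearGroup.coe_inv, rootHomSL_coe, Matrix.adjugate_fin_two]
  ext i j
  fin_cases i <;> fin_cases j <;> simp [Matrix.mul_apply, Fin.sum_univ_two]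
  · linear_combination hd
  · ring
  · ring
  · linear_combination hd

theorem conj_rootHomSL_mem_of_upper {g : SL(2, F)} (h : g.1 1 0 = 0) (c : Multiplicative F) :
    g * rootHomSL c * g⁻¹ = rootHomSL (Multiplicative.ofAdd (c.toAdd * g.1 0 0 ^ 2)) := by
  refine Subtype.ext ?_
  rw [conj_rootHomSL, rootHomSL_coe]
  simp [h]

variable [Fintype F] (p : ℕ) [Fact p.Prime] [CharP F p]

theorem exists_sylow_rootSL : ∃ P : Sylow p SL(2, F), (P : Subgroup SL(2, F)) = (rootHomSL (F := F)).range := by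
  obtain ⟨f, hf, hq⟩ := card_field_eq_pow (F := F) p
  have hc : Nat.card (rootHomSL (F := F)).range = p ^ f := by
    rw [← Nat.card_congr (MonoidHom.ofInjective rootHomSL_injective).toEquiv, ← hq,
      Nat.card_congr Multiplicative.toAdd, Nat.card_eq_fintype_card]
  have hP : Nat.card (rootHomSL (F := F)).range = p ^ (Nat.card SL(2, F)).factorization p := by
    let P : Sylow p SL(2, F) := default
    rw [hc, ← P.card_eq_multiplicity]
    refine (card_sylow_eq_of_card_eq P (r := (p ^ f) ^ 2 - 1) ?_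
      (not_dvd_pow_sub_one Fact.out hf (by norm_num))).symm
    rw [card_sl2, hq]
  exact ⟨Sylow.ofCard _ hP, rfl⟩

theorem sylow_sl2_conj (P : Sylow p SL(2, F)) : ∃ g : SL(2, F),
    (P : Subgroup SL(2, F)) = (rootHomSL (F := F)).range.map (MulAut.conj g).toMonoidHom := by
  obtain ⟨P₀, hP₀⟩ := exists_sylow_rootSL (F := F) p
  obtain ⟨g, hg⟩ := MulAction.exists_smul_eq SL(2, F) P₀ P
  refine ⟨g, ?_⟩
  rw [← hg, ← hP₀]
  rfl

theorem sylow_sl2_sup (P Q : Sylow p SL(2, F)) (h : P ≠ Q) :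
    (P : Subgroup SL(2, F)) ⊔ (Q : Subgroup SL(2, F)) = ⊤ := by
  obtain ⟨a, ha⟩ := sylow_sl2_conj (F := F) p P
  obtain ⟨k, hk⟩ := sylow_sl2_conj (F := F) p Q
  have hmem : ∀ c, a * rootHomSL c * a⁻¹ ∈ (P : Subgroup SL(2, F)) ⊔ Q := fun c =>
    Subgroup.mem_sup_left (by rw [ha]; exact ⟨_, ⟨c, rfl⟩, rfl⟩)
  have hmem' : ∀ c, k * rootHomSL c * k⁻¹ ∈ (P : Subgroup SL(2, F)) ⊔ Q := fun c =>
    Subgroup.mem_sup_right (by rw [hk]; exact ⟨_, ⟨c, rfl⟩, rfl⟩)
  by_cases hg : (a⁻¹ * k).1 1 0 = 0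
  · refine absurd (Sylow.ext ?_) h
    have hle : (Q : Subgroup SL(2, F)) ≤ P := by
      rw [ha, hk]
      rintro _ ⟨_, ⟨c, rfl⟩, rfl⟩
      refine ⟨_, ⟨_, (conj_rootHomSL_mem_of_upper hg c).symm⟩, ?_⟩
      simp only [MulEquiv.coe_toMonoidHom, MulAut.conj_apply]
      group
    exact (Subgroup.eq_of_le_of_card_ge hle (by rw [P.card_eq_multiplicity, Q.card_eq_multiplicity])).symm
  · set g := a⁻¹ * k with hgdef
    set H := ((P : Subgroup SL(2, F)) ⊔ Q).comap (MulAut.conj a).toMonoidHom with hH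
    suffices hHtop : H = ⊤ by
      rw [eq_top_iff]
      intro x _
      have hx : a⁻¹ * x * a ∈ H := hHtop ▸ Subgroup.mem_top _
      rw [hH, Subgroup.mem_comap, MulEquiv.coe_toMonoidHom, MulAut.conj_apply] at hx
      rwa [show a * (a⁻¹ * x * a) * a⁻¹ = x by group] at hx
    have hU : ∀ c, rootHomSL c ∈ H := fun c => by
      rw [hH, Subgroup.mem_comap]; exact hmem c
    have hV : ∀ c, g * rootHomSL c * g⁻¹ ∈ H := fun c => by
      rw [hH, Subgroup.mem_comap, MulEquiv.coe_toMonoidHom, MulAut.conj_apply]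
      convert hmem' c using 1
      rw [hgdef]; group
    set u := rootHomSL (Multiplicative.ofAdd (-(g.1 0 0) / g.1 1 0)) with hu
    have e0 : (u * g).1 0 0 = 0 := by
      rw [Matrix.SpecialLinearGroup.coe_mul, hu, rootHomSL_coe]
      simp [Matrix.mul_apply, Fin.sum_univ_two]
      field_simp
      ring
    have e1 : (u * g).1 1 0 = g.1 1 0 := by
      rw [Matrix.SpecialLinearGroup.coe_mul, hu, rootHomSL_coe]
      simp [Matrix.mul_apply, Fin.sum_univ_two]
    refine sl_eq_top_of_transvection H fun i j hij c => ?_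
    fin_cases i <;> fin_cases j
    · exact absurd rfl hij
    · exact hU (Multiplicative.ofAdd c)
    · have hW := hV (Multiplicative.ofAdd (-c / g.1 1 0 ^ 2))
      have hW2 := H.mul_mem (H.mul_mem (hU (Multiplicative.ofAdd (-(g.1 0 0) / g.1 1 0))) hW) (H.inv_mem (hU (Multiplicative.ofAdd (-(g.1 0 0) / g.1 1 0))))
      rw [← hu] at hW2
      convert hW2 using 1
      rw [show u * (g * rootHomSL (Multiplicative.ofAdd (-c / g.1 1 0 ^ 2)) * g⁻¹) * u⁻¹
        = (u * g) * rootHomSL (Multiplicative.ofAdd (-c / g.1 1 0 ^ 2)) * (u * g)⁻¹ by group]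
      refine Subtype.ext ?_
      rw [conj_rootHomSL, e0, e1, Matrix.SpecialLinearGroup.transvection_coe]
      ext i j
      fin_cases i <;> fin_cases j <;> simp
      field_simp
    · exact absurd rfl hij

end Cfsg.Agent.Classical
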