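import Mathlib
import Cfsg.Agent.Classical.LinearBasic
import Cfsg.Agent.Classical.Linear2

/-!
Subfield subgroups of PSL(2,q).
-/

set_option autoImplicit false

namespace Cfsg.Agent.Classical.SubfieldPSL

open Matrix
open scoped MatrixGroups

theorem exists_ringHom {F K : Type*} [Field F] [Fintype F] [Field K] [Fintype K] {m : ℕ}
    (hK : Fintype.card K ^ m = Fintype.card F) : Nonempty (K →+* F) := by
  obtain ⟨p, hpK⟩ := CharP.exists K
  obtain ⟨a, hp, ha⟩ := FiniteField.card K p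
  obtain ⟨r, hr⟩ := CharP.exists F
  obtain ⟨b, hrp, hb⟩ := FiniteField.card F r
  have hpr : r = p := by
    have h : r ∣ p ^ ((a : ℕ) * m) := by
      rw [pow_mul, ← ha, hK, hb]; exact dvd_pow_self r b.ne_zero
    exact (Nat.prime_dvd_prime_iff_eq hrp hp).1 (hrp.dvd_of_dvd_pow h)
  subst hpr
  haveI : Fact r.Prime := ⟨hp⟩
  letI := ZMod.algebra K r
  letI := ZMod.algebra F r
  have hfK := Module.card_eq_pow_finrank (K := ZMod r) (V := K)
  have hfF := Module.card_eq_pow_finrank (K := ZMod r) (V := F)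
  rw [ZMod.card] at hfK hfF
  obtain ⟨φ⟩ := FiniteField.nonempty_algHom_of_finrank_dvd (F := ZMod r) (K := K) (L := F) ⟨m,
    Nat.pow_right_injective hp.two_le (show r ^ _ = r ^ _ by rw [pow_mul, ← hfK, hK, hfF])⟩
  exact ⟨φ.toRingHom⟩

variable {F K : Type*} [Field F] [Field K]

/-- The map of projective groups induced by a field homomorphism. -/
def pglMap (ι : K →+* F) : Matrix.ProjGenLinGroup (Fin 2) K →* Matrix.ProjGenLinGroup (Fin 2) F :=
  ProjGenLinGroup.lift (ProjGenLinGroup.mk.comp (Matrix.GeneralLinearGroup.map ι)) (by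
    ext u
    have : Matrix.GeneralLinearGroup.map ι (Matrix.GeneralLinearGroup.scalar (Fin 2) u) =
        Matrix.GeneralLinearGroup.scalar (Fin 2) (Units.map ι.toMonoidHom u) := by
      ext i j
      fin_cases i <;> fin_cases j <;> simp
    simp [this])

theorem pglMap_mk (ι : K →+* F) (g : GL (Fin 2) K) :
    pglMap ι (ProjGenLinGroup.mk g) = ProjGenLinGroup.mk (Matrix.GeneralLinearGroup.map ι g) := rfl

theorem pglMap_injective (ι : K →+* F) : Function.Injective (pglMap ι) := by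
  refine (injective_iff_map_eq_one _).2 fun x hx => ?_
  induction x using Matrix.ProjGenLinGroup.induction_on with | mk g => ?_
  rw [pglMap_mk, ProjGenLinGroup.mk_eq_one, Matrix.GeneralLinearGroup.center_eq_range_scalar] at hx
  obtain ⟨u, hu⟩ := hx
  have he : ∀ i j, ι (g.1 i j) = if i = j then (u : F) else 0 := fun i j => by
    have := congrArg (fun M : GL (Fin 2) F => M.1 i j) hu
    simp [Matrix.GeneralLinearGroup.map_apply, Matrix.diagonal_apply] at this
    rw [← this]
  rw [ProjGenLinGroup.mk_eq_one, Matrix.GeneralLinearGroup.center_eq_range_scalar]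
  have h01 : g.1 0 1 = 0 := ι.injective (by rw [he, map_zero]; simp)
  have h10 : g.1 1 0 = 0 := ι.injective (by rw [he, map_zero]; simp)
  have h11 : g.1 1 1 = g.1 0 0 := ι.injective (by rw [he, he]; simp)
  have h00 : g.1 0 0 ≠ 0 := fun h => u.ne_zero (by
    have := he 0 0
    rw [h, map_zero] at this
    simpa using this.symm)
  refine ⟨Units.mk0 _ h00, ?_⟩
  ext i j
  fin_cases i <;> fin_cases j <;> simp [h01, h10, h11]

theorem mem_range_toPGL {g : GL (Fin 2) F} (h : IsSquare g.1.det) :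
    ProjGenLinGroup.mk g ∈ (ProjectiveSpecialLinearGroup.toPGL (n := Fin 2) (R := F)).range := by
  obtain ⟨s, hs⟩ := h
  have hs0 : s ≠ 0 := fun h0 => by
    have := ((Matrix.isUnit_iff_isUnit_det _).1 g.isUnit).ne_zero
    rw [hs, h0, mul_zero] at this
    exact this rfl
  have hdet : (s⁻¹ • g.1).det = 1 := by
    rw [Matrix.det_smul, Fintype.card_fin, hs]
    field_simp
  refine ⟨QuotientGroup.mk (⟨s⁻¹ • g.1, hdet⟩ : SL(2, F)), ?_⟩
  show ProjGenLinGroup.mk (Matrix.SpecialLinearGroup.toGL (⟨s⁻¹ • g.1, hdet⟩ : SL(2, F))) = _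
  rw [ProjGenLinGroup.mk_eq_mk_iff]
  refine ⟨Units.mk0 s hs0, Units.ext ?_⟩
  rw [Units.val_mul, show (Matrix.SpecialLinearGroup.toGL (⟨s⁻¹ • g.1, hdet⟩ : SL(2, F))).1 = s⁻¹ • g.1 from rfl]
  ext i j
  fin_cases i <;> fin_cases j <;> simp [Matrix.mul_apply, Fin.sum_univ_two] <;> field_simp

theorem exists_subgroup {A : Type*} [Group A] (f : A →* Matrix.ProjGenLinGroup (Fin 2) F) (hf : Function.Injective f)
    (h : ∀ a, f a ∈ (ProjectiveSpecialLinearGroup.toPGL (n := Fin 2) (R := F)).range) :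
    ∃ H : Subgroup (ProjectiveSpecialLinearGroup (Fin 2) F), Nonempty (H ≃* A) := by
  let e := MonoidHom.ofInjective (ProjectiveSpecialLinearGroup.toPGL_injective (n := Fin 2) (R := F))
  let ψ := e.symm.toMonoidHom.comp (f.codRestrict _ h)
  have hψ : Function.Injective ψ := e.symm.injective.comp fun a b hab => hf (congrArg Subtype.val hab)
  exact ⟨ψ.range, ⟨(MonoidHom.ofInjective hψ).symm⟩⟩

variable [Fintype F] [Fintype K]

theorem exists_psl (ι : K →+* F) :
    ∃ H : Subgroup (ProjectiveSpecialLinearGroup (Fin 2) F),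
      Nonempty (H ≃* ProjectiveSpecialLinearGroup (Fin 2) K) := by
  refine exists_subgroup ((pglMap ι).comp ProjectiveSpecialLinearGroup.toPGL)
    ((pglMap_injective ι).comp ProjectiveSpecialLinearGroup.toPGL_injective) fun a => ?_
  induction a using QuotientGroup.induction_on with | H g => ?_
  show pglMap ι (ProjectiveSpecialLinearGroup.toPGL (g : ProjectiveSpecialLinearGroup (Fin 2) K)) ∈ _
  rw [ProjectiveSpecialLinearGroup.toPGL_mk, pglMap_mk]
  refine mem_range_toPGL ⟨1, ?_⟩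
  have h : (Matrix.GeneralLinearGroup.map ι (Matrix.SpecialLinearGroup.toGL g)).1 = g.1.map ι := rfl
  rw [h, ← RingHom.mapMatrix_apply, ← RingHom.map_det, g.2, map_one, mul_one]

theorem exists_pgl (ι : K →+* F) (h2 : ringChar F ≠ 2) {m : ℕ} (hm : Even m) (hK : Fintype.card K ^ m = Fintype.card F) :
    ∃ H : Subgroup (ProjectiveSpecialLinearGroup (Fin 2) F),
      Nonempty (H ≃* Matrix.ProjGenLinGroup (Fin 2) K) := by
  refine exists_subgroup (pglMap ι) (pglMap_injective ι) fun a => ?_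
  induction a using Matrix.ProjGenLinGroup.induction_on with | mk g => ?_
  rw [pglMap_mk]
  refine mem_range_toPGL ?_
  have h : (Matrix.GeneralLinearGroup.map ι g).1 = g.1.map ι := rfl
  rw [h, ← RingHom.mapMatrix_apply, ← RingHom.map_det]
  have hd := ((Matrix.isUnit_iff_isUnit_det _).1 g.isUnit).ne_zero
  rw [FiniteField.isSquare_iff h2 ((map_ne_zero ι).2 hd), ← map_pow]
  have hk1 : Fintype.card K - 1 ∣ Fintype.card F / 2 := by
    obtain ⟨j, hj⟩ := hm
    subst hj
    have hodd := FiniteField.odd_card_of_char_ne_two h2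
    rw [← hK, ← two_mul, pow_mul] at hodd ⊢
    set k := Fintype.card K
    have hk : 1 < k := Fintype.one_lt_card
    obtain ⟨c, hc⟩ : k ^ 2 - 1 ∣ (k ^ 2) ^ j - 1 := by simpa using Nat.sub_dvd_pow_sub_pow (k ^ 2) 1 j
    have hk2 : k ^ 2 - 1 = (k - 1) * (k + 1) := by rw [mul_comm, ← Nat.sq_sub_sq, one_pow]
    obtain ⟨l, hl⟩ : 2 ∣ (k + 1) := by
      by_contra hcon
      have hke : Even k := by rw [Nat.even_iff]; omega
      rcases Nat.eq_zero_or_pos j with rfl | hj
      · simp at hK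
        have := Fintype.one_lt_card (α := F)
        omega
      · have : Even ((k ^ 2) ^ j) := (hke.pow_of_ne_zero two_ne_zero).pow_of_ne_zero (by omega)
        rw [Nat.even_iff] at this
        omega
    refine ⟨l * c, ?_⟩
    have h4 : (k ^ 2) ^ j / 2 * 2 = (k - 1) * (k + 1) * c := by
      rw [← hk2, ← hc]; omega
    rw [hl] at h4
    linarith
  obtain ⟨c, hc⟩ := hk1
  rw [hc, pow_mul, FiniteField.pow_card_sub_one_eq_one _ hd, one_pow, map_one]

theorem not_pgl {m : ℕ} (hm : Odd m) (hK : Fintype.card K ^ m = Fintype.card F) (hodd : Odd (Fintype.card F))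
    (H : Subgroup (ProjectiveSpecialLinearGroup (Fin 2) F)) (e : H ≃* Matrix.ProjGenLinGroup (Fin 2) K) : False := by
  classical
  have h1 : Nat.card H ∣ Nat.card (ProjectiveSpecialLinearGroup (Fin 2) F) := H.card_subgroup_dvd_card
  rw [Nat.card_congr e.toEquiv, Classical.card_pgl, Classical.card_sl2] at h1
  have h2 := card_psl_mul (ι := Fin 2) (F := F)
  rw [Classical.card_sl2, Fintype.card_fin] at h2
  set k := Fintype.card K
  set q := Fintype.card F
  have hk : 1 < k := Fintype.one_lt_card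
  have hS : ∀ n : ℕ, ∃ S, (k ^ 2) ^ n = (k ^ 2 - 1) * S + 1 ∧ S % 2 = n % 2 := by
    have hko : k % 2 = 1 := by
      by_contra hke
      have : Even (k ^ m) := (Nat.even_iff.2 (by omega)).pow_of_ne_zero (by
        intro h0; rw [h0] at hm; simp at hm)
      rw [hK] at this
      exact Nat.not_even_iff_odd.2 hodd this
    intro n
    induction n with
    | zero => exact ⟨0, by simp, rfl⟩
    | succ n ih =>
      obtain ⟨S, hS, hp⟩ := ih
      refine ⟨k ^ 2 * S + 1, ?_, ?_⟩
      · rw [pow_succ, hS]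
        have : 1 ≤ k ^ 2 := Nat.one_le_pow _ _ (by omega)
        generalize k ^ 2 = u at this ⊢
        obtain ⟨v, rfl⟩ : ∃ v, u = v + 1 := ⟨u - 1, by omega⟩
        rw [Nat.add_sub_cancel]; ring
      · rw [Nat.add_mod, Nat.mul_mod, Nat.pow_mod, hko, hp]
        omega
  obtain ⟨S, hS, hp⟩ := hS m
  have hq2 : q ^ 2 - 1 = (k ^ 2 - 1) * S := by
    rw [← hK, pow_right_comm, hS, Nat.add_sub_cancel]
  have hg : Nat.gcd 2 (q - 1) = 2 := Nat.gcd_eq_left (by obtain ⟨r, hr⟩ := hodd; omega)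
  rw [hg] at h2
  obtain ⟨c, hc⟩ := h1
  have h3 : (k ^ 2 - 1) * (2 * k * c) = (k ^ 2 - 1) * (q * S) := by
    calc (k ^ 2 - 1) * (2 * k * c) = 2 * (k * (k ^ 2 - 1) * c) := by ring
      _ = q * (q ^ 2 - 1) := by rw [← hc]; linarith
      _ = _ := by rw [hq2]; ring
  have h4 := Nat.eq_of_mul_eq_mul_left (Nat.sub_pos_of_lt (Nat.one_lt_pow (by norm_num) hk)) h3
  have h5 : Odd (q * S) := hodd.mul (by rw [Nat.odd_iff, hp]; exact Nat.odd_iff.1 hm)
  rw [← h4, mul_assoc] at h5
  exact Nat.not_even_iff_odd.2 h5 (even_two_mul _)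

theorem main {q : ℕ} (hF : Fintype.card F = q) (hodd : Odd q) (m : ℕ) (hK : Fintype.card K ^ m = q) :
    (∃ H : Subgroup (ProjectiveSpecialLinearGroup (Fin 2) F),
        Nonempty (H ≃* ProjectiveSpecialLinearGroup (Fin 2) K)) ∧
      ((∃ H : Subgroup (ProjectiveSpecialLinearGroup (Fin 2) F),
          Nonempty (H ≃* Matrix.ProjGenLinGroup (Fin 2) K)) ↔ Even m) := by
  subst hF
  obtain ⟨ι⟩ := exists_ringHom hK
  have h2 : ringChar F ≠ 2 := fun h => by
    have := FiniteField.even_card_iff_char_two.1 h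
    rw [Nat.odd_iff] at hodd
    omega
  refine ⟨exists_psl ι, ⟨fun ⟨H, ⟨e⟩⟩ => ?_, fun h => exists_pgl ι h2 h hK⟩⟩
  by_contra hm
  exact not_pgl (Nat.not_even_iff_odd.1 hm) hK hodd H e

end Cfsg.Agent.Classical.SubfieldPSL
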