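import Mathlib
import Cfsg.Agent.Classical.OrthBlocks

/-!
Involutions of orthogonal groups in characteristic two: adjusting a conjugator into the commutator subgroup.
-/

set_option autoImplicit false

namespace Cfsg.Agent.Classical.Quad

open Module QuadraticMap

variable {F : Type*} [Field F] [Finite F] [CharP F 2] {ι : Type} [Fintype ι] [DecidableEq ι]
  {Q : QuadraticForm F (ι → F)}

omit [Finite F] in
theorem involution_data {t : Cfsg.isometryGroup F ⇑Q} (ht : t * t = 1) :
    LinearMap.range (Matrix.toLin' (((t : GL ι F) : Matrix ι ι F) - 1)) ≤ fixSub (oEquiv Q t) ∧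
      LinearMap.ker (Matrix.toLin' (((t : GL ι F) : Matrix ι ι F) - 1)) = fixSub (oEquiv Q t) := by
  have hsq : ((t : GL ι F) : Matrix ι ι F) * ((t : GL ι F) : Matrix ι ι F) = 1 := by
    have := congrArg (fun x : Cfsg.isometryGroup F ⇑Q => ((x : GL ι F) : Matrix ι ι F)) ht
    simpa using this
  constructor
  · rintro _ ⟨x, rfl⟩
    rw [mem_fixSub, oEquiv_apply, Matrix.toLin'_apply, Matrix.sub_mulVec, Matrix.one_mulVec, Matrix.mulVec_sub,
      Matrix.mulVec_mulVec, hsq, Matrix.one_mulVec]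
    funext i
    simp only [Pi.sub_apply, CharTwo.sub_eq_add]
    exact add_comm _ _
  · ext x
    rw [LinearMap.mem_ker, mem_fixSub, oEquiv_apply, Matrix.toLin'_apply, Matrix.sub_mulVec, Matrix.one_mulVec,
      sub_eq_zero]

/-- An anisotropic fixed vector allows to adjust a conjugator. -/
theorem exists_conj_omega (hQ : (polarBilin Q).Nondegenerate) (hex : Nat.card F ≠ 2 ∨ finrank F (ι → F) ≠ 4)
    {t s : Cfsg.isometryGroup F ⇑Q} (hc : IsConj t s) {v : ι → F} (hv : v ∈ fixSub (oEquiv Q t)) (hQv : Q v ≠ 0) :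
    ∃ g ∈ Cfsg.Omega F ⇑Q, g * t * g⁻¹ = s := by
  obtain ⟨g, hg⟩ := isConj_iff.1 hc
  have h2 : (2 : F) = 0 := CharTwo.two_eq_zero
  rcases Int.units_eq_one_or (dickson hQ hex (oEquiv Q g)) with h | h
  · exact ⟨g, (mem_omega_iff g).2 ((mem_commutator_chars hQ hex _).2 ⟨h, fun h' => absurd h2 h'⟩), hg⟩
  · set r := (oEquiv Q).symm (rO hQv) with hr
    have hrt : r * t * r⁻¹ = t := by
      refine (oEquiv Q).injective ?_
      rw [map_mul, map_mul, map_inv, hr, MulEquiv.apply_symm_apply]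
      have h1 : oEquiv Q t * rO hQv * (oEquiv Q t)⁻¹ = rO hQv := by
        rw [conj_rO]; exact rO_congr _ _ (mem_fixSub.1 hv)
      rw [mul_inv_eq_iff_eq_mul] at h1 ⊢
      exact h1.symm
    refine ⟨g * r, (mem_omega_iff _).2 ((mem_commutator_chars hQ hex _).2 ⟨?_, fun h' => absurd h2 h'⟩), ?_⟩
    · rw [map_mul, map_mul, h, hr, MulEquiv.apply_symm_apply, dickson_rO]; rfl
    · rw [show g * r * t * (g * r)⁻¹ = g * (r * t * r⁻¹) * g⁻¹ by group, hrt, hg]

end Cfsg.Agent.Classical.Quad
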