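import Mathlib
import Cfsg.Agent.Classical.SympGroup
import Cfsg.Agent.Classical.HermGroup

/-!
Numbers of totally isotropic planes.
-/

set_option autoImplicit false

namespace Cfsg.Agent.Classical.Lines

open Module

variable {F V : Type*} [Field F] [Finite F] [AddCommGroup V] [Module F V] [Finite V]

/-- An orthogonality relation. -/
structure Orth (R : V → V → Prop) : Prop where
  symm : ∀ {x y}, R x y → R y x
  add : ∀ {x y z}, R x y → R x z → R x (y + z)
  smul : ∀ {x y} (c : F), R x y → R x (c • y)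

theorem Orth.span {R : V → V → Prop} (h : Orth (F := F) R) {s : Fin 2 → V} (hs : ∀ i j, R (s i) (s j)) :
    ∀ u ∈ Submodule.span F (Set.range s), ∀ w ∈ Submodule.span F (Set.range s), R u w := by
  have aux : ∀ x, (∀ j, R x (s j)) → ∀ w ∈ Submodule.span F (Set.range s), R x w := by
    intro x hx w hw
    rw [← Fintype.range_linearCombination F s] at hw
    obtain ⟨c, rfl⟩ := hw
    rw [Fintype.linearCombination_apply, Fin.sum_univ_two]
    exact h.add (h.smul _ (hx 0)) (h.smul _ (hx 1))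
  exact fun u hu w hw => aux u (fun j => h.symm (aux (s j) (fun i => hs j i) u hu)) w hw

theorem pair_indep {v w : V} : LinearIndependent F ![v, w] ↔ v ≠ 0 ∧ w ∉ Submodule.span F {v} := by
  refine ⟨fun h => ?_, fun h => ?_⟩
  · have hv : v ≠ 0 := h.ne_zero 0
    refine ⟨hv, fun hw => ?_⟩
    obtain ⟨c, hc⟩ := Submodule.mem_span_singleton.1 hw
    exact (LinearIndependent.pair_iff' hv).1 h c hc
  · exact (LinearIndependent.pair_iff' h.1).2 fun c hc => h.2 (Submodule.mem_span_singleton.2 ⟨c, hc⟩)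

theorem card_planes {R : V → V → Prop} (h : Orth (F := F) R) (Q I A : ℕ) (hQ : Nat.card F = Q)
    (hI : Nat.card {v : V // v ≠ 0 ∧ R v v} = I)
    (hA : ∀ v : V, v ≠ 0 → R v v → Nat.card {w : V // R v w ∧ R w w} = A) :
    Nat.card {W : Submodule F V // finrank F W = 2 ∧ ∀ u ∈ W, ∀ w ∈ W, R u w} * ((Q ^ 2 - 1) * (Q ^ 2 - Q)) =
      I * (A - Q) := by
  classical
  have : Fintype F := Fintype.ofFinite F
  have : Fintype V := Fintype.ofFinite V
  let P := {W : Submodule F V // finrank F W = 2 ∧ ∀ u ∈ W, ∀ w ∈ W, R u w}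
  let S := {s : Fin 2 → V // LinearIndependent F s ∧ ∀ i j, R (s i) (s j)}
  let f : (Σ W : P, {s : Fin 2 → W.1 // LinearIndependent F s}) → S := fun x =>
    ⟨fun i => (x.2.1 i : V), x.2.2.map' x.1.1.subtype x.1.1.ker_subtype,
      fun i j => x.1.2.2 _ (x.2.1 i).2 _ (x.2.1 j).2⟩
  have hf : Function.Bijective f := by
    constructor
    · rintro ⟨W, s⟩ ⟨W', s'⟩ e
      have e' : ∀ i, (s.1 i : V) = (s'.1 i : V) := fun i => congrFun (congrArg Subtype.val e) i
      have sp : ∀ (W : P) (s : {s : Fin 2 → W.1 // LinearIndependent F s}),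
          Submodule.span F (Set.range fun i => (s.1 i : V)) = W.1 := fun W s => by
        refine Submodule.eq_of_le_of_finrank_eq (Submodule.span_le.2 (by rintro _ ⟨i, rfl⟩; exact (s.1 i).2)) ?_
        rw [finrank_span_eq_card (b := fun i => (s.1 i : V)) (s.2.map' W.1.subtype W.1.ker_subtype),
          Fintype.card_fin, W.2.1]
      have hW : W = W' := Subtype.ext (by rw [← sp W s, ← sp W' s', funext e'])
      subst hW
      exact Sigma.ext rfl (heq_of_eq (Subtype.ext (funext fun i => Subtype.ext (e' i))))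
    · rintro ⟨s, hs, hR⟩
      let W : P := ⟨Submodule.span F (Set.range s), by rw [finrank_span_eq_card hs, Fintype.card_fin], h.span hR⟩
      exact ⟨⟨W, fun i => ⟨s i, Submodule.subset_span ⟨i, rfl⟩⟩,
        LinearIndependent.of_comp W.1.subtype hs⟩, rfl⟩
  have c1 : Nat.card S = Nat.card P * ((Q ^ 2 - 1) * (Q ^ 2 - Q)) := by
    rw [← Nat.card_eq_of_bijective f hf, Nat.card_sigma, Finset.sum_const_nat
      (m := (Q ^ 2 - 1) * (Q ^ 2 - Q)) fun W _ => ?_, Finset.card_univ, ← Nat.card_eq_fintype_card]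
    rw [card_linearIndependent (K := F) (V := W.1) (k := 2) (by rw [W.2.1]), Fin.prod_univ_two, W.2.1,
      ← Nat.card_eq_fintype_card, hQ]
    simp
  let I' := {v : V // v ≠ 0 ∧ R v v}
  let T : I' → Type _ := fun v => {w : V // (R v.1 w ∧ R w w) ∧ w ∉ Submodule.span F {v.1}}
  let g : (Σ v : I', T v) → S := fun x => ⟨![x.1.1, x.2.1], pair_indep.2 ⟨x.1.2.1, x.2.2.2⟩, fun i j => by
    fin_cases i <;> fin_cases j
    exacts [x.1.2.2, x.2.2.1.1, h.symm x.2.2.1.1, x.2.2.1.2]⟩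
  have hg : Function.Bijective g := by
    constructor
    · rintro ⟨v, w⟩ ⟨v', w'⟩ e
      have e0 := congrFun (congrArg Subtype.val e) 0
      have e1 := congrFun (congrArg Subtype.val e) 1
      obtain rfl : v = v' := Subtype.ext e0
      exact Sigma.ext rfl (heq_of_eq (Subtype.ext e1))
    · rintro ⟨s, hs, hR⟩
      have hs' : s = ![s 0, s 1] := by funext i; fin_cases i <;> rfl
      have hp := pair_indep.1 (hs' ▸ hs)
      exact ⟨⟨⟨s 0, hp.1, hR 0 0⟩, ⟨s 1, ⟨hR 0 1, hR 1 1⟩, hp.2⟩⟩, Subtype.ext hs'.symm⟩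
  have c2 : Nat.card S = I * (A - Q) := by
    rw [← Nat.card_eq_of_bijective g hg, Nat.card_sigma, Finset.sum_const_nat (m := A - Q) fun v _ => ?_,
      Finset.card_univ, ← Nat.card_eq_fintype_card, hI]
    have hsub : {w : V | w ∈ Submodule.span F {v.1}} ⊆ {w : V | R v.1 w ∧ R w w} := fun w hw => by
      obtain ⟨c, rfl⟩ := Submodule.mem_span_singleton.1 hw
      exact ⟨h.smul c v.2.2, h.smul c (h.symm (h.smul c v.2.2))⟩
    have hspan : Set.ncard {w : V | w ∈ Submodule.span F {v.1}} = Q := by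
      rw [← Nat.card_coe_set_eq]
      show Nat.card (Submodule.span F {v.1}) = Q
      rw [Module.natCard_eq_pow_finrank (K := F), finrank_span_singleton v.2.1, pow_one, hQ]
    show Nat.card ↥({w : V | R v.1 w ∧ R w w} \ {w : V | w ∈ Submodule.span F {v.1}}) = A - Q
    rw [Nat.card_coe_set_eq, Set.ncard_diff hsub, hspan, ← Nat.card_coe_set_eq]
    rw [show Nat.card ↥{w : V | R v.1 w ∧ R w w} = A from hA v.1 v.2.1 v.2.2]
  exact c1.symm.trans c2

theorem card_planes_through {R : V → V → Prop} (h : Orth (F := F) R) (Q A : ℕ) (hQ : Nat.card F = Q) {v : V}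
    (hv : v ≠ 0) (hvv : R v v) (hA : Nat.card {w : V // R v w ∧ R w w} = A) :
    Nat.card {W : Submodule F V // finrank F W = 2 ∧ v ∈ W ∧ ∀ u ∈ W, ∀ w ∈ W, R u w} * (Q ^ 2 - Q) = A - Q := by
  classical
  have : Fintype F := Fintype.ofFinite F
  have : Fintype V := Fintype.ofFinite V
  let P := {W : Submodule F V // finrank F W = 2 ∧ v ∈ W ∧ ∀ u ∈ W, ∀ w ∈ W, R u w}
  let L : Set V := {w : V | w ∈ Submodule.span F {v}}
  have hspan : L.ncard = Q := by
    rw [← Nat.card_coe_set_eq]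
    show Nat.card (Submodule.span F {v}) = Q
    rw [Module.natCard_eq_pow_finrank (K := F), finrank_span_singleton hv, pow_one, hQ]
  let f : (Σ W : P, ↥((W.1 : Set V) \ L)) → ↥({w : V | R v w ∧ R w w} \ L) := fun x =>
    ⟨x.2.1, ⟨x.1.2.2.2 _ x.1.2.2.1 _ x.2.2.1, x.1.2.2.2 _ x.2.2.1 _ x.2.2.1⟩, x.2.2.2⟩
  have hf : Function.Bijective f := by
    constructor
    · rintro ⟨W, w⟩ ⟨W', w'⟩ e
      have e' : w.1 = w'.1 := congrArg (fun z : ↥({w : V | R v w ∧ R w w} \ L) => z.1) e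
      have sp : ∀ (W : P) (u : V), u ∈ (W.1 : Set V) \ L → Submodule.span F (Set.range ![v, u]) = W.1 := by
        intro W u hu
        refine Submodule.eq_of_le_of_finrank_eq (Submodule.span_le.2 ?_) ?_
        · rintro _ ⟨i, rfl⟩; fin_cases i; exacts [W.2.2.1, hu.1]
        · rw [finrank_span_eq_card (b := ![v, u]) (pair_indep.2 ⟨hv, hu.2⟩), Fintype.card_fin, W.2.1]
      obtain rfl : W = W' := Subtype.ext (by rw [← sp W _ w.2, ← sp W' _ w'.2, e'])
      exact Sigma.ext rfl (heq_of_eq (Subtype.ext e'))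
    · rintro ⟨w, ⟨hvw, hww⟩, hwL⟩
      have hR : ∀ i j, R (![v, w] i) (![v, w] j) := fun i j => by
        fin_cases i <;> fin_cases j
        exacts [hvv, hvw, h.symm hvw, hww]
      let W : P := ⟨Submodule.span F (Set.range ![v, w]),
        by rw [finrank_span_eq_card (pair_indep.2 ⟨hv, hwL⟩), Fintype.card_fin],
        Submodule.subset_span ⟨0, rfl⟩, h.span hR⟩
      exact ⟨⟨W, ⟨w, Submodule.subset_span ⟨1, rfl⟩, hwL⟩⟩, rfl⟩
  have hL : L ⊆ {w : V | R v w ∧ R w w} := fun w hw => by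
    obtain ⟨c, rfl⟩ := Submodule.mem_span_singleton.1 hw
    exact ⟨h.smul c hvv, h.smul c (h.symm (h.smul c hvv))⟩
  have e := Nat.card_eq_of_bijective f hf
  rw [Nat.card_sigma, Finset.sum_const_nat (m := Q ^ 2 - Q) fun W _ => ?_, Finset.card_univ,
    ← Nat.card_eq_fintype_card, Nat.card_coe_set_eq, Set.ncard_diff hL, hspan, ← Nat.card_coe_set_eq,
    show Nat.card ↥{w : V | R v w ∧ R w w} = A from hA] at e
  · exact e
  · have hsub : L ⊆ (W.1 : Set V) := fun w hw => by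
      obtain ⟨c, rfl⟩ := Submodule.mem_span_singleton.1 hw
      exact W.1.smul_mem _ W.2.2.1
    rw [Nat.card_coe_set_eq, Set.ncard_diff hsub, hspan, ← Nat.card_coe_set_eq]
    show Nat.card W.1 - Q = _
    rw [Module.natCard_eq_pow_finrank (K := F), W.2.1, hQ]

theorem symp_counts {F : Type*} [Field F] [Fintype F] {q : ℕ} (hF : Fintype.card F = q) :
    Nat.card {W : Submodule F (Fin 2 ⊕ Fin 2 → F) // finrank F W = 2 ∧
        ∀ u ∈ W, ∀ v ∈ W, Cfsg.sympForm 2 F u v = 0} = (q + 1) * (q ^ 2 + 1) ∧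
      ∀ v : Fin 2 ⊕ Fin 2 → F, v ≠ 0 → Nat.card {W : Submodule F (Fin 2 ⊕ Fin 2 → F) // finrank F W = 2 ∧
        v ∈ W ∧ ∀ u ∈ W, ∀ w ∈ W, Cfsg.sympForm 2 F u w = 0} = q + 1 := by
  classical
  have hq : 1 < q := hF ▸ Fintype.one_lt_card
  have hQ : Nat.card F = q := by rw [Nat.card_eq_fintype_card, hF]
  let R := fun u w : Fin 2 ⊕ Fin 2 → F => Cfsg.sympForm 2 F u w = 0
  have hR : Orth (F := F) R := by
    refine ⟨fun {x y} h => ?_, fun {x y z} h h' => ?_, fun {x y} c h => ?_⟩ <;>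
      simp only [R, ← sympB_apply] at *
    · rw [← LinearMap.BilinForm.IsAlt.neg_eq sympB_isAlt, h, neg_zero]
    · rw [map_add, h, h', add_zero]
    · rw [map_smul, h, smul_zero]
  have hself : ∀ v, R v v := fun v => by simp only [R, ← sympB_apply]; exact sympB_isAlt v
  have hA : ∀ v : Fin 2 ⊕ Fin 2 → F, v ≠ 0 → Nat.card {w // R v w ∧ R w w} = q ^ 3 := by
    intro v hv
    have hne : sympB 2 F v ≠ 0 := fun h => hv (sympB_nondeg.1 v fun y => by rw [h]; rfl)
    have hk := Module.Dual.finrank_ker_add_one_of_ne_zero hne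
    rw [Module.finrank_fintype_fun_eq_card, show Fintype.card (Fin 2 ⊕ Fin 2) = 4 from rfl] at hk
    have e : Nat.card {w // R v w ∧ R w w} = Nat.card (LinearMap.ker (sympB 2 F v)) :=
      Nat.card_congr (Equiv.subtypeEquivRight fun w => by simp [R, sympB_apply, hself w])
    rw [e, Module.natCard_eq_pow_finrank (K := F), hQ]
    congr 1
    omega
  have hI : Nat.card {v : Fin 2 ⊕ Fin 2 → F // v ≠ 0 ∧ R v v} = q ^ 4 - 1 := by
    rw [Nat.card_congr (Equiv.subtypeEquivRight fun v => and_iff_left (hself v)), Nat.card_eq_fintype_card,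
      Fintype.card_subtype_compl, Fintype.card_subtype_eq, Fintype.card_fun, hF]
    rfl
  have h4 : q ^ 4 - 1 = (q ^ 2 - 1) * (q ^ 2 + 1) := by
    rw [Nat.mul_comm, ← Nat.sq_sub_sq]; ring_nf
  have h2 : 0 < q ^ 2 - q := by
    have : q * 2 ≤ q * q := Nat.mul_le_mul_left q hq
    rw [pow_two]; omega
  have h3 : q ^ 3 - q = (q + 1) * (q ^ 2 - q) := by
    rw [Nat.mul_sub, show (q + 1) * q = q ^ 2 + q by ring, show (q + 1) * q ^ 2 = q ^ 2 + q ^ 3 by ring,
      Nat.add_sub_add_left]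
  refine ⟨?_, fun v hv => ?_⟩
  · have h := card_planes hR q _ _ hQ hI (fun v hv _ => hA v hv)
    rw [h4, h3, show (q ^ 2 - 1) * (q ^ 2 + 1) * ((q + 1) * (q ^ 2 - q)) =
      (q + 1) * (q ^ 2 + 1) * ((q ^ 2 - 1) * (q ^ 2 - q)) by ring] at h
    exact Nat.eq_of_mul_eq_mul_right (Nat.mul_pos (by have := Nat.one_lt_pow (n := 2) (by norm_num) hq; omega) h2) h
  · have h := card_planes_through hR q _ hQ hv (hself v) (hA v hv)
    rw [h3] at h
    exact Nat.eq_of_mul_eq_mul_right h2 h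

open Herm in
theorem card_perp_isotropic {F : Type*} [Field F] [Fintype F] {σ : F →+* F} (hσ : IsInvol σ) {n : ℕ}
    {v : Fin (n + 2) → F} (hv : v ≠ 0) (hvv : hermB (n + 2) σ v v = 0) :
    Nat.card {w : Fin (n + 2) → F // hermB (n + 2) σ v w = 0 ∧ hermB (n + 2) σ w w = 0} =
      Nat.card F * Nat.card {u : Fin n → F // hermB n σ u u = 0} := by
  classical
  obtain ⟨c, hc⟩ := exists_norm hσ (a := -1) (by simp)
  let v₀ : Fin (n + 2) → F := Fin.cons 1 (Fin.cons c 0)
  have h0 : hermB (n + 2) σ v₀ v₀ = 0 := by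
    rw [hermB_apply, Fin.sum_univ_succ, Fin.sum_univ_succ]
    simp [v₀, mul_comm (σ c) c, hc]
  have hv₀ : v₀ ≠ 0 := fun h => by simpa [v₀] using congrFun h 0
  obtain ⟨g, hg, hgv⟩ := witt_family (hermB_isHerm hσ (n + 2)) (finrank F (Fin (n + 2) → F) - 1) (k := 1)
    (fun _ => v) (fun _ => v₀) rfl (linearIndependent_unique_iff.2 hv) (linearIndependent_unique_iff.2 hv₀)
    (fun _ _ => hvv.trans h0.symm)
  have e : ∀ w, hermB (n + 2) σ v₀ (g w) = hermB (n + 2) σ v w := fun w => by rw [← hgv 0, hg]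
  rw [Nat.card_congr (g.toEquiv.subtypeEquiv (q := fun w => hermB (n + 2) σ v₀ w = 0 ∧ hermB (n + 2) σ w w = 0)
    fun w => by simp [e, hg]), ← Nat.card_prod]
  have key : ∀ (x : F) (y : F) (u : Fin n → F),
      (hermB (n + 2) σ v₀ (Fin.cons x (Fin.cons y u)) = 0 ∧
        hermB (n + 2) σ (Fin.cons x (Fin.cons y u)) (Fin.cons x (Fin.cons y u)) = 0) ↔
      x = -(σ c * y) ∧ hermB n σ u u = 0 := fun x y u => by
    simp only [hermB_apply, Fin.sum_univ_succ, v₀, Fin.cons_zero, Fin.cons_succ, map_one, one_mul, Pi.zero_apply,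
      map_zero, zero_mul, Finset.sum_const_zero, add_zero]
    constructor
    · rintro ⟨h1, h2⟩
      have hx : x = -(σ c * y) := eq_neg_of_add_eq_zero_left h1
      refine ⟨hx, ?_⟩
      rw [hx] at h2
      simp only [map_neg, map_mul, hσ.invol] at h2
      linear_combination h2 - σ y * y * hc
    · rintro ⟨rfl, h2⟩
      refine ⟨by ring, ?_⟩
      simp only [map_neg, map_mul, hσ.invol]
      linear_combination h2 + σ y * y * hc
  refine Nat.card_congr
    { toFun := fun w => (w.1 1, ⟨Fin.tail (Fin.tail w.1), ((key (w.1 0) (w.1 1) _).1 (by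
        have e : w.1 = Fin.cons (w.1 0) (Fin.cons (w.1 1) (Fin.tail (Fin.tail w.1))) := by
          conv_lhs => rw [← Fin.cons_self_tail w.1, ← Fin.cons_self_tail (Fin.tail w.1)]
          rfl
        rw [← e]; exact w.2)).2⟩)
      invFun := fun p => ⟨Fin.cons (-(σ c * p.1)) (Fin.cons p.1 p.2.1), (key _ _ _).2 ⟨rfl, p.2.2⟩⟩
      left_inv := fun w => Subtype.ext (by
        have e : w.1 = Fin.cons (w.1 0) (Fin.cons (w.1 1) (Fin.tail (Fin.tail w.1))) := by
          conv_lhs => rw [← Fin.cons_self_tail w.1, ← Fin.cons_self_tail (Fin.tail w.1)]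
          rfl
        show Fin.cons (-(σ c * w.1 1)) _ = w.1
        conv_rhs => rw [e]
        rw [((key (w.1 0) (w.1 1) _).1 (by rw [← e]; exact w.2)).1])
      right_inv := fun p => rfl }

open Herm in
theorem herm_planes {F : Type*} [Field F] [Fintype F] {q : ℕ} (hF : Fintype.card F = q ^ 2) {n : ℕ} :
    (Nat.card {W : Submodule F (Fin (n + 2) → F) // finrank F W = 2 ∧
        ∀ u ∈ W, ∀ v ∈ W, Cfsg.hermForm (n + 2) F q u v = 0} : ℤ) *
        (((q : ℤ) ^ 4 - 1) * ((q : ℤ) ^ 4 - (q : ℤ) ^ 2)) * q * q =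
      ((q : ℤ) ^ (2 * (n + 2)) + (-1) ^ n * ((q : ℤ) ^ (n + 3) - (q : ℤ) ^ (n + 2)) - q) *
        ((q : ℤ) ^ 2 * ((q : ℤ) ^ (2 * n) + (-1) ^ n * ((q : ℤ) ^ (n + 1) - (q : ℤ) ^ n) - q)) := by
  classical
  obtain ⟨σ, hσq, hσ, hfix, hq⟩ := exists_powHom hF
  let R := fun u w : Fin (n + 2) → F => hermB (n + 2) σ u w = 0
  have hR : Orth (F := F) R := ⟨fun {x y} h => (eq_zero_comm (hermB_isHerm hσ _)).1 h,
    fun {x y z} h h' => by simp only [R] at *; rw [map_add, h, h', add_zero],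
    fun {x y} c h => by simp only [R] at *; rw [map_smul, h, smul_zero]⟩
  have hQ : Nat.card F = q ^ 2 := by rw [Nat.card_eq_fintype_card, hF]
  set I := Nat.card {v : Fin (n + 2) → F // v ≠ 0 ∧ R v v} with hI
  set H := Nat.card {u : Fin n → F // hermB n σ u u = 0} with hH
  have hI1 : I + 1 = Nat.card {v : Fin (n + 2) → F // R v v} := by
    rw [hI, ← Finite.card_option]
    refine Nat.card_congr
      { toFun := fun o => o.elim ⟨0, by simp [R]⟩ fun v => ⟨v.1, v.2.2⟩
        invFun := fun v => if h : v.1 = 0 then none else some ⟨v.1, h, v.2⟩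
        left_inv := fun o => by
          cases o with
          | none => simp
          | some v => simp [v.2.1]
        right_inv := fun v => by
          by_cases h : v.1 = 0
          · simp [h]; exact Subtype.ext h.symm
          · simp [h] }
  have h := card_planes hR (q ^ 2) I (q ^ 2 * H) hQ rfl fun v hv hvv => by
    rw [← hQ]; exact card_perp_isotropic hσ hv hvv
  have eS : {W : Submodule F (Fin (n + 2) → F) // finrank F W = 2 ∧
      ∀ u ∈ W, ∀ v ∈ W, Cfsg.hermForm (n + 2) F q u v = 0} ≃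
      {W : Submodule F (Fin (n + 2) → F) // finrank F W = 2 ∧ ∀ u ∈ W, ∀ v ∈ W, R u v} :=
    Equiv.subtypeEquivRight fun W => and_congr_right fun _ =>
      ⟨fun h u hu v hv => by simpa [R, hermForm_eq hσq] using h v hv u hu,
        fun h u hu v hv => by rw [hermForm_eq hσq]; exact h v hv u hu⟩
  rw [← Nat.card_congr eS] at h
  have c1 := card_herm_zero hσ hfix (n + 2)
  have c2 := card_herm_zero hσ hfix n
  have hH1 : 1 ≤ H := Nat.card_pos_iff.2 ⟨⟨0, by simp⟩, inferInstance⟩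
  rw [← hH] at c2
  have c1' : (q : ℤ) * ((I : ℤ) + 1) = (q : ℤ) ^ (2 * (n + 2)) + (-1) ^ n * ((q : ℤ) ^ (n + 3) - q ^ (n + 2)) := by
    rw [show ((I : ℤ) + 1) = ((I + 1 : ℕ) : ℤ) by push_cast; ring, hI1, c1]
    ring
  have hq2 : q ^ 2 ≤ (q ^ 2) ^ 2 := Nat.le_self_pow (by norm_num) _
  have hh := congrArg (Nat.cast : ℕ → ℤ) h
  rw [Nat.cast_mul, Nat.cast_mul, Nat.cast_mul, Nat.cast_sub hq2, Nat.cast_sub (Nat.le_mul_of_pos_right _ hH1),
    Nat.cast_sub (Nat.one_le_pow _ _ (Nat.pow_pos (by omega)))] at hh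
  push_cast at hh
  linear_combination (q : ℤ) * q * hh +
    ((q : ℤ) ^ 3 * H - (q : ℤ) ^ 3) * c1' +
    (((q : ℤ) ^ (2 * (n + 2)) + (-1) ^ n * ((q : ℤ) ^ (n + 3) - (q : ℤ) ^ (n + 2)) - q) * (q : ℤ) ^ 2) * c2

end Cfsg.Agent.Classical.Lines
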