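import Mathlib
import Cfsg.Prelude.Def_ClassicalGeometry
import Cfsg.Agent.Classical.SympGroup
import Cfsg.Agent.Classical.Linear2
import Cfsg.Agent.Classical.IsotropicLines

/-!
Orders of stabilisers of totally isotropic subspaces and flags via orbits of frames.
-/

set_option autoImplicit false

namespace Cfsg.Agent.Classical.IsoStab

open Module Matrix

section generic

variable {G F ι : Type*} [Group G] [Field F] [Fintype ι] [DecidableEq ι] {k : ℕ}

/-- Moving a tuple. -/
def move (M : G →* Matrix ι ι F) (g : G) (s : Fin k → ι → F) : Fin k → ι → F := fun i => M g *ᵥ s i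

theorem card_mul_orbit [Finite G] (M : G →* Matrix ι ι F) (H : Subgroup G) (s₀ : Fin k → ι → F)
    (O L : Set (Fin k → ι → F)) (hO : ∀ s, s ∈ O ↔ ∃ g, move M g s₀ = s)
    (hL : ∀ s, s ∈ L ↔ ∃ g ∈ H, move M g s₀ = s) (hK : ∀ g, move M g s₀ = s₀ → g ∈ H) :
    Nat.card H * Nat.card O = Nat.card G * Nat.card L := by
  letI act : MulAction G (Fin k → ι → F) :=
    { smul := move M
      one_smul := fun s => funext fun i => by show M 1 *ᵥ s i = s i; rw [map_one, one_mulVec]
      mul_smul := fun g h s => funext fun i => by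
        show M (g * h) *ᵥ s i = M g *ᵥ (M h *ᵥ s i); rw [map_mul, mulVec_mulVec] }
  have hOe : O = MulAction.orbit G s₀ := Set.ext fun s => hO s
  have hLe : L = MulAction.orbit H s₀ := Set.ext fun s => by
    rw [hL]
    exact ⟨fun ⟨g, hg, e⟩ => ⟨⟨g, hg⟩, e⟩, fun ⟨g, e⟩ => ⟨g.1, g.2, e⟩⟩
  have e1 := Nat.card_congr (MulAction.orbitEquivQuotientStabilizer G s₀)
  have e2 := Nat.card_congr (MulAction.orbitEquivQuotientStabilizer H s₀)
  have eK : Nat.card (MulAction.stabilizer H s₀) = Nat.card (MulAction.stabilizer G s₀) :=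
    Nat.card_congr
      { toFun := fun g => ⟨g.1.1, g.2⟩
        invFun := fun g => ⟨⟨g.1, hK g.1 g.2⟩, g.2⟩
        left_inv := fun _ => rfl
        right_inv := fun _ => rfl }
  rw [hOe, hLe, e1, e2, (MulAction.stabilizer H s₀).card_eq_card_quotient_mul_card_subgroup,
    (MulAction.stabilizer G s₀).card_eq_card_quotient_mul_card_subgroup, eK]
  ring

end generic

section frames

variable {F V : Type*} [Field F] [Finite F] [AddCommGroup V] [Module F V] [Finite V]

/-- Linearly independent tuples of mutually orthogonal vectors. -/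
abbrev Frames (F : Type*) {V : Type*} [Field F] [AddCommGroup V] [Module F V] (R : V → V → Prop) (k : ℕ) :
    Set (Fin k → V) :=
  {s | LinearIndependent F s ∧ ∀ i j, R (s i) (s j)}

theorem card_frames {R : V → V → Prop} (h : Lines.Orth (F := F) R) {Q : ℕ} (hQ : Nat.card F = Q) (A : ℕ → ℕ)
    (hzero : ∀ x, R x 0) (K : ℕ)
    (hA : ∀ i < K, ∀ s ∈ Frames F R i, Nat.card {v : V // R v v ∧ ∀ j, R (s j) v} = A i) :
    ∀ k ≤ K, Nat.card (Frames F R k) = ∏ i ∈ Finset.range k, (A i - Q ^ i) := by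
  classical
  intro k
  induction k with
  | zero =>
    intro _
    have : Nonempty (Frames F R 0) := ⟨⟨Fin.elim0, linearIndependent_empty_type, fun i => i.elim0⟩⟩
    have : Subsingleton (Frames F R 0) := ⟨fun a b => Subtype.ext (Subsingleton.elim _ _)⟩
    rw [Finset.prod_range_zero, Nat.card_unique]
  | succ k ih =>
    intro hk
    have : Fintype (Frames F R k) := Fintype.ofFinite _
    let T : Frames F R k → Set V := fun s =>
      {v | R v v ∧ ∀ j, R (s.1 j) v} \ (Submodule.span F (Set.range s.1) : Set V)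
    let f : (Σ s : Frames F R k, T s) → Frames F R (k + 1) := fun x =>
      ⟨Fin.snoc x.1.1 x.2.1, linearIndependent_finSnoc.2 ⟨x.1.2.1, x.2.2.2⟩, fun i j => by
        refine Fin.lastCases ?_ (fun i => ?_) i <;> refine Fin.lastCases ?_ (fun j => ?_) j
        · simpa using x.2.2.1.1
        · simpa using h.symm (x.2.2.1.2 j)
        · simpa using x.2.2.1.2 i
        · simpa using x.1.2.2 i j⟩
    have hf : Function.Bijective f := by
      constructor
      · rintro ⟨s, v⟩ ⟨s', v'⟩ e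
        have e' : Fin.snoc (α := fun _ => V) s.1 v.1 = Fin.snoc s'.1 v'.1 := congrArg Subtype.val e
        obtain rfl : s = s' := Subtype.ext (funext fun i => by
          simpa using congrFun e' i.castSucc)
        exact Sigma.ext rfl (heq_of_eq (Subtype.ext (by simpa using congrFun e' (Fin.last k))))
      · rintro ⟨s, hs, hR⟩
        have hs' : LinearIndependent F (Fin.snoc (Fin.init s) (s (Fin.last k)) : Fin (k + 1) → V) := by
          rwa [Fin.snoc_init_self]
        obtain ⟨h1, h2⟩ := linearIndependent_finSnoc.1 hs'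
        exact ⟨⟨⟨Fin.init s, h1, fun i j => hR _ _⟩, ⟨s (Fin.last k), ⟨hR _ _, fun j => hR _ _⟩, h2⟩⟩,
          Subtype.ext (Fin.snoc_init_self s)⟩
    rw [← Nat.card_eq_of_bijective f hf, Nat.card_sigma, Finset.sum_const_nat (m := A k - Q ^ k) fun s _ => ?_,
      Finset.card_univ, ← Nat.card_eq_fintype_card, ih (by omega), Finset.prod_range_succ]
    have hsub : (Submodule.span F (Set.range s.1) : Set V) ⊆ {v | R v v ∧ ∀ j, R (s.1 j) v} := by
      intro v hv
      have aux : ∀ x, (∀ j, R x (s.1 j)) → ∀ w ∈ Submodule.span F (Set.range s.1), R x w := by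
        intro x hx w hw
        induction hw using Submodule.span_induction with
        | mem a ha => obtain ⟨j, rfl⟩ := ha; exact hx j
        | zero => exact hzero x
        | add a b _ _ pa pb => exact h.add pa pb
        | smul c a _ pa => exact h.smul c pa
      have h1 : ∀ j, R (s.1 j) v := fun j => aux _ (fun i => s.2.2 j i) v hv
      exact ⟨aux v (fun j => h.symm (h1 j)) v hv, h1⟩
    rw [Nat.card_coe_set_eq, Set.ncard_diff hsub, ← Nat.card_coe_set_eq, ← Nat.card_coe_set_eq]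
    show Nat.card {v // R v v ∧ ∀ j, R (s.1 j) v} - Nat.card (Submodule.span F (Set.range s.1)) = _
    rw [hA k (by omega) s.1 s.2, Module.natCard_eq_pow_finrank (K := F), finrank_span_eq_card s.2.1,
      Fintype.card_fin, hQ]

end frames

section symplectic

variable {F : Type*} [Field F] {m : ℕ}

theorem symp_orth : Lines.Orth (F := F) fun u v : Fin m ⊕ Fin m → F => Cfsg.sympForm m F u v = 0 := by
  refine ⟨fun {x y} h => ?_, fun {x y z} h h' => ?_, fun {x y} c h => ?_⟩ <;> simp only [← sympB_apply] at *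
  · rw [← LinearMap.BilinForm.IsAlt.neg_eq sympB_isAlt, h, neg_zero]
  · rw [map_add, h, h', add_zero]
  · rw [map_smul, h, smul_zero]

theorem symp_self (v : Fin m ⊕ Fin m → F) : Cfsg.sympForm m F v v = 0 := by
  rw [← sympB_apply]; exact sympB_isAlt v

theorem card_symp_frames [Fintype F] {q : ℕ} (hF : Fintype.card F = q) {k : ℕ} (hk : k ≤ m) :
    Nat.card (Frames F (fun u v : Fin m ⊕ Fin m → F => Cfsg.sympForm m F u v = 0) k) =
      ∏ i ∈ Finset.range k, (q ^ (2 * m - i) - q ^ i) := by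
  classical
  refine card_frames symp_orth (by rw [Nat.card_eq_fintype_card, hF]) (fun i => q ^ (2 * m - i))
    (fun x => by rw [← sympB_apply, map_zero]) m (fun i _ s hs => ?_) k hk
  have e : Nat.card {v : Fin m ⊕ Fin m → F // Cfsg.sympForm m F v v = 0 ∧ ∀ j, Cfsg.sympForm m F (s j) v = 0} =
      Nat.card (LinearMap.BilinForm.orthogonal (sympB m F) (Submodule.span F (Set.range s))) := by
    refine Nat.card_congr (Equiv.subtypeEquivRight fun v => ?_)
    rw [LinearMap.BilinForm.mem_orthogonal_iff]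
    refine ⟨fun ⟨_, h⟩ n hn => ?_, fun h => ⟨symp_self v, fun j => ?_⟩⟩
    · induction hn using Submodule.span_induction with
      | mem a ha => obtain ⟨j, rfl⟩ := ha; rw [sympB_apply]; exact h j
      | zero => exact LinearMap.map_zero₂ _ _
      | add a b _ _ pa pb => rw [map_add, LinearMap.add_apply, pa, pb, add_zero]
      | smul c a _ pa => rw [map_smul, LinearMap.smul_apply, pa, smul_zero]
    · rw [← sympB_apply]; exact h _ (Submodule.subset_span ⟨j, rfl⟩)
  rw [e, Module.natCard_eq_pow_finrank (K := F), LinearMap.BilinForm.finrank_orthogonal sympB_nondeg, finrank_symp,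
    finrank_span_eq_card hs.1, Fintype.card_fin, Nat.card_eq_fintype_card, hF]

/-- The symplectic group is transitive on frames. -/
theorem symp_transitive {k : ℕ} {s t : Fin k → Fin m ⊕ Fin m → F} (hs : LinearIndependent F s)
    (ht : LinearIndependent F t) (h : ∀ i j, sympB m F (s i) (s j) = sympB m F (t i) (t j)) :
    ∃ A : Matrix.symplecticGroup (Fin m) F, move (Cfsg.spToMat m F) A s = t := by
  classical
  let X := Submodule.span F (Set.range s)
  let b := Basis.span hs
  let φ : X →ₗ[F] (Fin m ⊕ Fin m → F) := b.constr F t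
  have hφb : ∀ i, φ (b i) = t i := fun i => Basis.constr_basis _ _ _ _
  have hbv : ∀ i, ((b i : X) : Fin m ⊕ Fin m → F) = s i := fun i => Basis.coe_span_apply hs i
  have hinj : Function.Injective φ := by
    refine LinearMap.ker_eq_bot.1 (LinearMap.ker_eq_bot'.2 fun x hx => ?_)
    rw [← b.sum_repr x, map_sum] at hx
    simp only [map_smul, hφb] at hx
    have := Fintype.linearIndependent_iff.1 ht _ hx
    rw [← b.sum_repr x]
    simp [this]
  have hiso : ∀ x x' : X, sympB m F (φ x) (φ x') = sympB m F (x : Fin m ⊕ Fin m → F) (x' : Fin m ⊕ Fin m → F) := by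
    have e : (sympB m F).compl₁₂ φ φ = (sympB m F).compl₁₂ X.subtype X.subtype :=
      LinearMap.BilinForm.ext_basis b fun i j => by
        rw [LinearMap.compl₁₂_apply, LinearMap.compl₁₂_apply, hφb, hφb]
        simp only [Submodule.subtype_apply, hbv]
        exact (h i j).symm
    exact fun x x' => LinearMap.congr_fun (LinearMap.congr_fun e x) x'
  obtain ⟨g, hg, hgx⟩ := Alt.witt sympB_isAlt _ ⊤ rfl
    (fun w _ hw => by
      by_contra hcon
      push_neg at hcon
      exact hw (sympB_nondeg.1 w fun z => hcon z Submodule.mem_top))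
    X le_top φ hinj (fun x => Submodule.mem_top) hiso
  refine ⟨(spEquiv m F).symm ⟨g, Alt.TG_le_isoGroup sympB_isAlt _ hg⟩, funext fun i => ?_⟩
  show ((spEquiv m F).symm ⟨g, Alt.TG_le_isoGroup sympB_isAlt _ hg⟩).1 *ᵥ s i = t i
  rw [spEquiv_symm_mulVec, ← hφb i, ← hgx, hbv]

theorem symp_inj (g : Matrix.symplecticGroup (Fin m) F) : Function.Injective fun v => g.1 *ᵥ v := fun a b h =>
  (spLin g).injective (by rw [spLin_apply, spLin_apply]; exact h)

theorem indep_move (g : Matrix.symplecticGroup (Fin m) F) {k : ℕ} {s : Fin k → Fin m ⊕ Fin m → F}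
    (hs : LinearIndependent F s) : LinearIndependent F (move (Cfsg.spToMat m F) g s) :=
  hs.map' (spLin g).toLinearMap (LinearMap.ker_eq_bot.2 (spLin g).injective)

theorem form_move (g : Matrix.symplecticGroup (Fin m) F) (u v : Fin m ⊕ Fin m → F) :
    sympB m F (g.1 *ᵥ u) (g.1 *ᵥ v) = sympB m F u v := (mem_symplectic_iff g.1).1 g.2 u v

/-- Stabilising membership from mapping a subspace into itself. -/
theorem mem_stab_of_maps (g : Matrix.symplecticGroup (Fin m) F) (W : Submodule F (Fin m ⊕ Fin m → F))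
    (h : ∀ w ∈ W, g.1 *ᵥ w ∈ W) : g ∈ Cfsg.stabilizing (Cfsg.spToMat m F) (W : Set (Fin m ⊕ Fin m → F)) := by
  have e : W.map (spLin g).toLinearMap = W :=
    Submodule.eq_of_le_of_finrank_eq (fun x ⟨w, hw, hx⟩ => hx ▸ h w hw) (LinearEquiv.finrank_map_eq _ _)
  intro v
  show v ∈ W ↔ g.1 *ᵥ v ∈ W
  refine ⟨h v, fun hv => ?_⟩
  rw [← e] at hv
  obtain ⟨w, hw, hwv⟩ := hv
  rw [← (spLin g).injective hwv]
  exact hw

theorem stab_master [Fintype F] {q : ℕ} (hF : Fintype.card F = q) {k : ℕ} (hk : k ≤ m)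
    (H : Subgroup (Matrix.symplecticGroup (Fin m) F)) (s₀ : Fin k → Fin m ⊕ Fin m → F)
    (hs₀ : s₀ ∈ Frames F (fun u v => Cfsg.sympForm m F u v = 0) k) (L : Set (Fin k → Fin m ⊕ Fin m → F))
    (hL : ∀ s, s ∈ L ↔ ∃ g ∈ H, move (Cfsg.spToMat m F) g s₀ = s)
    (hK : ∀ g, move (Cfsg.spToMat m F) g s₀ = s₀ → g ∈ H) :
    Nat.card H * ∏ i ∈ Finset.range k, (q ^ (2 * m - i) - q ^ i) =
      q ^ (m ^ 2) * (∏ i ∈ Finset.range m, (q ^ (2 * (i + 1)) - 1)) * Nat.card L := by
  classical
  rw [← card_symp_frames hF hk, ← card_symplecticGroup hF m]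
  refine card_mul_orbit (Cfsg.spToMat m F) H s₀ _ L (fun s => ⟨fun hs => ?_, ?_⟩) hL hK
  · exact symp_transitive hs₀.1 hs.1 fun i j => by
      rw [sympB_apply, sympB_apply, hs₀.2 i j, hs.2 i j]
  · rintro ⟨g, rfl⟩
    refine ⟨indep_move g hs₀.1, fun i j => ?_⟩
    show Cfsg.sympForm m F (g.1 *ᵥ s₀ i) (g.1 *ᵥ s₀ j) = 0
    rw [← sympB_apply, form_move, sympB_apply]
    exact hs₀.2 i j

theorem prod_split (q : ℕ) (hq : 1 ≤ q) : ∀ k m : ℕ, k ≤ m →
    (∏ i ∈ Finset.range k, (q ^ (2 * m - i) - q ^ i)) * (q ^ (k * (k + 1) / 2 + 2 * k * (m - k)) *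
        (q ^ ((m - k) ^ 2) * ∏ i ∈ Finset.range (m - k), (q ^ (2 * (i + 1)) - 1))) =
      q ^ (m ^ 2) * ∏ i ∈ Finset.range m, (q ^ (2 * (i + 1)) - 1) := by
  intro k
  induction k with
  | zero => intro m _; simp
  | succ k ih =>
    intro m hk
    obtain ⟨d, rfl⟩ : ∃ d, m = k + 1 + d := ⟨m - (k + 1), by omega⟩
    rw [← ih (k + 1 + d) (by omega), show k + 1 + d - (k + 1) = d by omega, show k + 1 + d - k = d + 1 by omega,
      Finset.prod_range_succ _ k, Finset.prod_range_succ _ d]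
    have e3 : q ^ (2 * (k + 1 + d) - k) - q ^ k = q ^ k * (q ^ (2 * (d + 1)) - 1) := by
      rw [Nat.mul_sub, mul_one, ← pow_add]
      congr 2
      omega
    have e4 : (k + 1) * (k + 1 + 1) / 2 = k * (k + 1) / 2 + (k + 1) := by
      rw [show (k + 1) * (k + 1 + 1) = k * (k + 1) + (k + 1) * 2 by ring, Nat.add_mul_div_right _ _ (by norm_num)]
    rw [e3, e4]
    ring

theorem prod_pos (q : ℕ) (hq : 2 ≤ q) {k : ℕ} (hk : k ≤ m) :
    0 < ∏ i ∈ Finset.range k, (q ^ (2 * m - i) - q ^ i) :=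
  Finset.prod_pos fun i hi => Nat.sub_pos_of_lt (Nat.pow_lt_pow_right hq (by
    have := Finset.mem_range.1 hi
    omega))

theorem card_stab_isotropic [Fintype F] {q : ℕ} (hF : Fintype.card F = q) {k : ℕ} (hk : k ≤ m)
    (W : Submodule F (Fin m ⊕ Fin m → F)) (hWk : finrank F W = k)
    (hW : ∀ u ∈ W, ∀ v ∈ W, Cfsg.sympForm m F u v = 0) :
    Nat.card (Cfsg.stabilizing (Cfsg.spToMat m F) (W : Set (Fin m ⊕ Fin m → F))) =
      q ^ (k * (k + 1) / 2 + 2 * k * (m - k)) * (q ^ ((m - k) ^ 2) * ∏ i ∈ Finset.range (m - k),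
        (q ^ (2 * (i + 1)) - 1)) * ∏ i : Fin k, (q ^ k - q ^ (i : ℕ)) := by
  classical
  let b : Basis (Fin k) F W := Module.finBasisOfFinrankEq F W hWk
  let s₀ : Fin k → Fin m ⊕ Fin m → F := fun i => (b i : Fin m ⊕ Fin m → F)
  have hs₀ : LinearIndependent F s₀ := b.linearIndependent.map' W.subtype W.ker_subtype
  have hspan : ∀ g : Matrix.symplecticGroup (Fin m) F, (∀ i, g.1 *ᵥ s₀ i ∈ W) → ∀ w ∈ W, g.1 *ᵥ w ∈ W := by
    intro g hg w hw
    have e : w = ∑ i, b.repr ⟨w, hw⟩ i • s₀ i := by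
      have := congrArg W.subtype (b.sum_repr ⟨w, hw⟩)
      rw [map_sum] at this
      exact this.symm
    rw [e, Matrix.mulVec_sum]
    exact Submodule.sum_mem _ fun i _ => by rw [Matrix.mulVec_smul]; exact W.smul_mem _ (hg i)
  let L : Set (Fin k → Fin m ⊕ Fin m → F) := {s | LinearIndependent F s ∧ ∀ i, s i ∈ W}
  have hL : Nat.card L = ∏ i : Fin k, (q ^ k - q ^ (i : ℕ)) := by
    let e : L ≃ {s : Fin k → W // LinearIndependent F s} :=
      { toFun := fun s => ⟨fun i => ⟨s.1 i, s.2.2 i⟩, LinearIndependent.of_comp W.subtype s.2.1⟩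
        invFun := fun s => ⟨fun i => (s.1 i : Fin m ⊕ Fin m → F), s.2.map' W.subtype W.ker_subtype, fun i => (s.1 i).2⟩
        left_inv := fun _ => rfl
        right_inv := fun _ => rfl }
    rw [Nat.card_congr e, card_linearIndependent hWk.ge, hF, hWk]
  have key := stab_master hF hk (Cfsg.stabilizing (Cfsg.spToMat m F) (W : Set (Fin m ⊕ Fin m → F))) s₀
    ⟨hs₀, fun i j => hW _ (b i).2 _ (b j).2⟩ L (fun s => ⟨fun hs => ?_, ?_⟩)
    (fun g hg => mem_stab_of_maps g W (hspan g fun i => by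
      have : g.1 *ᵥ s₀ i = s₀ i := congrFun hg i
      rw [this]; exact (b i).2))
  · rw [← prod_split q (hF ▸ Fintype.card_pos) k m hk, hL] at key
    refine Nat.eq_of_mul_eq_mul_right (prod_pos q (hF ▸ Fintype.one_lt_card) hk) (key.trans ?_)
    ring
  · obtain ⟨g, hg⟩ := symp_transitive hs₀ hs.1 fun i j => by
      rw [sympB_apply, sympB_apply, hW _ (b i).2 _ (b j).2, hW _ (hs.2 i) _ (hs.2 j)]
    exact ⟨g, mem_stab_of_maps g W (hspan g fun i => by
      have : g.1 *ᵥ s₀ i = s i := congrFun hg i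
      rw [this]; exact hs.2 i), hg⟩
  · rintro ⟨g, hg, rfl⟩
    exact ⟨indep_move g hs₀, fun i => (hg (s₀ i)).1 (b i).2⟩

/-- The coordinate flag member `⟨e₀, …, e_k⟩`. -/
def flagSub (k : Fin m) : Submodule F (Fin m ⊕ Fin m → F) where
  carrier := {v | (∀ i : Fin m, (k : ℕ) < (i : ℕ) → v (Sum.inl i) = 0) ∧ ∀ i : Fin m, v (Sum.inr i) = 0}
  add_mem' {u v} hu hv := ⟨fun i h => by simp [hu.1 i h, hv.1 i h], fun i => by simp [hu.2 i, hv.2 i]⟩
  zero_mem' := ⟨fun _ _ => rfl, fun _ => rfl⟩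
  smul_mem' c v hv := ⟨fun i h => by simp [hv.1 i h], fun i => by simp [hv.2 i]⟩

theorem isotropic_of_inr (u v : Fin m ⊕ Fin m → F) (hu : ∀ i, u (Sum.inr i) = 0) (hv : ∀ i, v (Sum.inr i) = 0) :
    Cfsg.sympForm m F u v = 0 := by
  rw [← sympB_apply, sympB_eq_sum]
  simp [hu, hv]

set_option maxHeartbeats 1000000 in
theorem card_stab_flag [Fintype F] {q : ℕ} (hF : Fintype.card F = q) :
    Nat.card ↥(⨅ k : Fin m, Cfsg.stabilizing (Cfsg.spToMat m F) {v : Fin m ⊕ Fin m → F |
      (∀ i : Fin m, (k : ℕ) < (i : ℕ) → v (Sum.inl i) = 0) ∧ ∀ i : Fin m, v (Sum.inr i) = 0}) =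
      q ^ (m ^ 2) * (q - 1) ^ m := by
  classical
  let s₀ : Fin m → Fin m ⊕ Fin m → F := fun i => Pi.single (Sum.inl i) 1
  have hmem : ∀ i, s₀ i ∈ flagSub (F := F) i := fun i =>
    ⟨fun j hj => Pi.single_eq_of_ne (by simp [Fin.ext_iff, hj.ne']) _, fun j => Pi.single_eq_of_ne (by simp) _⟩
  have hs₀ : LinearIndependent F s₀ :=
    Fintype.linearIndependent_iff.2 fun c hc i => by
      simpa [s₀, Finset.sum_apply, Pi.single_apply] using congrFun hc (Sum.inl i)
  have hexp : ∀ v : Fin m ⊕ Fin m → F, (∀ i, v (Sum.inr i) = 0) → v = ∑ i, v (Sum.inl i) • s₀ i := fun v hv => by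
    funext x
    cases x with
    | inl j => simp [s₀, Finset.sum_apply, Pi.single_apply]
    | inr j => simp [s₀, Finset.sum_apply, Pi.single_apply, hv j]
  have hmaps : ∀ g : Matrix.symplecticGroup (Fin m) F, (∀ i, g.1 *ᵥ s₀ i ∈ flagSub i) →
      ∀ k, ∀ w ∈ flagSub (F := F) k, g.1 *ᵥ w ∈ flagSub k := by
    intro g hg k w hw
    rw [hexp w hw.2, Matrix.mulVec_sum]
    refine Submodule.sum_mem _ fun i _ => ?_
    rw [Matrix.mulVec_smul]
    by_cases hik : (k : ℕ) < i
    · rw [hw.1 i hik, zero_smul]; exact Submodule.zero_mem _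
    · exact Submodule.smul_mem _ _ ⟨fun j hj => (hg i).1 j (by omega), (hg i).2⟩
  let L : Set (Fin m → Fin m ⊕ Fin m → F) := {s | LinearIndependent F s ∧ ∀ k, s k ∈ flagSub k}
  have hL : Nat.card L = q ^ (m * (m - 1) / 2) * (q - 1) ^ m := by
    rw [← card_lowerTriangular hF m]
    have hunit : ∀ s : L, IsUnit (Matrix.of fun k i => s.1 k (Sum.inl i) : Matrix (Fin m) (Fin m) F) := fun s => by
      rw [← Matrix.linearIndependent_rows_iff_isUnit]
      refine Fintype.linearIndependent_iff.2 fun c hc => Fintype.linearIndependent_iff.1 s.2.1 c (funext fun x => ?_)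
      cases x with
      | inl j => simpa [Finset.sum_apply] using congrFun hc j
      | inr j => simp [Finset.sum_apply, (s.2.2 _).2 j]
    refine Nat.card_congr
      { toFun := fun s => ⟨(hunit s).unit, fun k i hki => (s.2.2 k).1 i hki⟩
        invFun := fun A => ⟨fun k => Sum.elim (fun i => (A.1 : Matrix (Fin m) (Fin m) F) k i) fun _ => 0, ?_,
          fun k => ⟨fun i hki => A.2 k i hki, fun _ => rfl⟩⟩
        left_inv := fun s => Subtype.ext (funext fun k => funext fun x => ?_)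
        right_inv := fun A => Subtype.ext (Units.ext rfl) }
    · refine Fintype.linearIndependent_iff.2 fun c hc =>
        Fintype.linearIndependent_iff.1 (Matrix.linearIndependent_rows_iff_isUnit.2 A.1.isUnit) c (funext fun j => ?_)
      simpa [Finset.sum_apply] using congrFun hc (Sum.inl j)
    · cases x with
      | inl j => rfl
      | inr j => exact ((s.2.2 k).2 j).symm
  have key := stab_master hF le_rfl (⨅ k : Fin m, Cfsg.stabilizing (Cfsg.spToMat m F) {v : Fin m ⊕ Fin m → F |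
      (∀ i : Fin m, (k : ℕ) < (i : ℕ) → v (Sum.inl i) = 0) ∧ ∀ i : Fin m, v (Sum.inr i) = 0}) s₀
    ⟨hs₀, fun i j => isotropic_of_inr _ _ (hmem i).2 (hmem j).2⟩ L (fun s => ⟨fun hs => ?_, ?_⟩)
    (fun g hg => Subgroup.mem_iInf.2 fun k => mem_stab_of_maps g (flagSub k) (hmaps g (fun i => by
      have : g.1 *ᵥ s₀ i = s₀ i := congrFun hg i
      rw [this]; exact hmem i) k))
  · rw [← prod_split q (hF ▸ Fintype.card_pos) m m le_rfl, hL] at key
    refine Nat.eq_of_mul_eq_mul_right (prod_pos q (hF ▸ Fintype.one_lt_card) le_rfl) (key.trans ?_)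
    have e : m * (m + 1) / 2 + m * (m - 1) / 2 = m ^ 2 := by
      rcases Nat.eq_zero_or_pos m with rfl | hm
      · rfl
      obtain ⟨a, rfl⟩ : ∃ a, m = a + 1 := ⟨m - 1, by omega⟩
      rw [show (a + 1) * (a + 1 + 1) = (a + 1) * a + (a + 1) * 2 by ring, Nat.add_mul_div_right _ _ (by norm_num),
        Nat.add_sub_cancel]
      have h2 : 2 ∣ (a + 1) * a := by rw [mul_comm]; exact (Nat.even_mul_succ_self a).two_dvd
      have := Nat.div_mul_cancel h2
      rw [sq]
      nlinarith
    simp only [Nat.sub_self, mul_zero, add_zero, Finset.range_zero, Finset.prod_empty, zero_pow two_ne_zero,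
      pow_zero, mul_one]
    rw [← e, pow_add]
    ring
  · obtain ⟨g, hg⟩ := symp_transitive hs₀ hs.1 fun i j => by
      rw [sympB_apply, sympB_apply, isotropic_of_inr _ _ (hmem i).2 (hmem j).2,
        isotropic_of_inr _ _ (hs.2 i).2 (hs.2 j).2]
    exact ⟨g, Subgroup.mem_iInf.2 fun k => mem_stab_of_maps g (flagSub k) (hmaps g (fun i => by
      have : g.1 *ᵥ s₀ i = s i := congrFun hg i
      rw [this]; exact hs.2 i) k), hg⟩
  · rintro ⟨g, hg, rfl⟩
    exact ⟨indep_move g hs₀, fun k => (Subgroup.mem_iInf.1 hg k (s₀ k)).1 (hmem k)⟩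

end symplectic

end Cfsg.Agent.Classical.IsoStab
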