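import Mathlib
import Cfsg.Prelude.Def_ClassicalGeometry
import Cfsg.Agent.Classical.LinearBasic

/-!
Transitivity of SL_n on subspaces of a given dimension and on transvections.
-/

set_option autoImplicit false

namespace Cfsg.Agent.Classical

open Matrix Module

variable {F : Type*} [Field F] {ι : Type} [Fintype ι] [DecidableEq ι]

/-- `1 + vecMulVec w φ` -/
theorem det_one_add_vecMulVec (w φ : ι → F) : (1 + Matrix.vecMulVec w φ).det = 1 + φ ⬝ᵥ w := by
  rw [Matrix.vecMulVec_eq Unit, Matrix.det_one_add_replicateCol_mul_replicateRow]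

theorem exists_dual_one (U : Submodule F (ι → F)) {w : ι → F} (hw : w ∉ U) :
    ∃ φ : ι → F, φ ⬝ᵥ w = 1 ∧ ∀ u ∈ U, φ ⬝ᵥ u = 0 := by
  obtain ⟨f, hf, hfU⟩ : ∃ f : Module.Dual F (ι → F), f w = 1 ∧ ∀ u ∈ U, f u = 0 := by
    obtain ⟨f, hf0, hfU⟩ := Submodule.exists_dual_map_eq_bot_of_notMem hw inferInstance
    refine ⟨(f w)⁻¹ • f, by simp [inv_mul_cancel₀ hf0], fun u hu => ?_⟩
    have : f u ∈ U.map f := ⟨u, hu, rfl⟩
    rw [hfU, Submodule.mem_bot] at this
    simp [this]
  refine ⟨fun i => f (Pi.single i 1), ?_, fun u hu => ?_⟩ <;>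
    rw [show ∀ x, (fun i => f (Pi.single i 1)) ⬝ᵥ x = f x from fun x => by
      conv_rhs => rw [pi_eq_sum_univ' x, map_sum]
      simp [dotProduct, mul_comm]]
  · exact hf
  · exact hfU u hu

/-- Two subspaces of the same dimension are conjugate under SL. -/
theorem exists_sl_map (U₁ U₂ : Submodule F (ι → F)) (h : finrank F U₁ = finrank F U₂) :
    ∃ g : SpecialLinearGroup ι F,
      U₁.map ((Matrix.SpecialLinearGroup.toLin' g : (ι → F) ≃ₗ[F] (ι → F)) : (ι → F) →ₗ[F] (ι → F)) = U₂ := by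
  by_cases h0 : U₁ = ⊥
  · refine ⟨1, ?_⟩
    subst h0
    rw [finrank_bot] at h
    rw [Submodule.map_bot, Submodule.finrank_eq_zero.1 h.symm]
  obtain ⟨W₁, hW₁⟩ := Submodule.exists_isCompl U₁
  obtain ⟨W₂, hW₂⟩ := Submodule.exists_isCompl U₂
  have hW : finrank F W₁ = finrank F W₂ := by
    have h1 := Submodule.finrank_add_eq_of_isCompl hW₁
    have h2 := Submodule.finrank_add_eq_of_isCompl hW₂
    omega
  let e : (ι → F) ≃ₗ[F] (ι → F) := (Submodule.prodEquivOfIsCompl U₁ W₁ hW₁).symm.trans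
    (((LinearEquiv.ofFinrankEq U₁ U₂ h).prodCongr (LinearEquiv.ofFinrankEq W₁ W₂ hW)).trans
      (Submodule.prodEquivOfIsCompl U₂ W₂ hW₂))
  have he : ∀ u (hu : u ∈ U₁), e u = (LinearEquiv.ofFinrankEq U₁ U₂ h ⟨u, hu⟩ : ι → F) := fun u hu => by
    have : (Submodule.prodEquivOfIsCompl U₁ W₁ hW₁).symm u = (⟨u, hu⟩, 0) := by
      rw [LinearEquiv.symm_apply_eq]; simp
    simp [e, this]
  let M := LinearMap.toMatrix' (e : (ι → F) →ₗ[F] (ι → F))
  have hM : ∀ v, M *ᵥ v = e v := fun v => LinearMap.toMatrix'_mulVec _ _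
  have hdet : M.det ≠ 0 := by
    rw [show M.det = LinearMap.det (e : (ι → F) →ₗ[F] (ι → F)) from LinearMap.det_toMatrix' _]
    exact (LinearEquiv.isUnit_det' e).ne_zero
  obtain ⟨w, hwU, hw0⟩ := Submodule.exists_mem_ne_zero_of_ne_bot h0
  obtain ⟨φ, hφ, -⟩ := exists_dual_one (⊥ : Submodule F (ι → F)) (w := w) (by simpa using hw0)
  let D : Matrix ι ι F := 1 + Matrix.vecMulVec ((M.det⁻¹ - 1) • w) φ
  have hD : D.det = M.det⁻¹ := by
    simp only [D, det_one_add_vecMulVec, dotProduct_smul, hφ, smul_eq_mul, mul_one]; ring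
  let g : SpecialLinearGroup ι F := ⟨M * D, by rw [Matrix.det_mul, hD, mul_inv_cancel₀ hdet]⟩
  have hg : ∀ v, Matrix.SpecialLinearGroup.toLin' g v = e (v + ((φ ⬝ᵥ v) * (M.det⁻¹ - 1)) • w) := fun v => by
    show (M * D) *ᵥ v = _
    rw [← Matrix.mulVec_mulVec, hM, Matrix.add_mulVec, Matrix.one_mulVec, Matrix.vecMulVec_mulVec,
      op_smul_eq_smul, smul_smul]
  refine ⟨g, Submodule.eq_of_le_of_finrank_eq ?_ ?_⟩
  · rintro _ ⟨u, hu, rfl⟩
    rw [LinearEquiv.coe_coe, hg, he _ (U₁.add_mem hu (U₁.smul_mem _ hwU))]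
    exact Subtype.coe_prop _
  · rw [LinearEquiv.finrank_map_eq, h]

omit [DecidableEq ι] in
theorem mul_vecMulVec' (g : Matrix ι ι F) (a b : ι → F) : g * vecMulVec a b = vecMulVec (g *ᵥ a) b := by
  ext i j
  simp [Matrix.mul_apply, vecMulVec_apply, Matrix.mulVec, dotProduct, Finset.sum_mul, mul_assoc]

omit [DecidableEq ι] in
theorem vecMulVec_mul' (g : Matrix ι ι F) (a b : ι → F) : vecMulVec a b * g = vecMulVec a (b ᵥ* g) := by
  ext i j
  simp [Matrix.mul_apply, vecMulVec_apply, Matrix.vecMul, dotProduct, Finset.mul_sum, mul_assoc]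

/-- The shape of a transvection. -/
theorem exists_vecMulVec_of_isTransvection {t : Matrix ι ι F} (ht : Cfsg.IsTransvection t) :
    ∃ a b : ι → F, a ≠ 0 ∧ b ≠ 0 ∧ b ⬝ᵥ a = 0 ∧ t = 1 + vecMulVec a b := by
  obtain ⟨hr, hs⟩ := ht
  set N := t - 1 with hN
  rw [Matrix.rank] at hr
  obtain ⟨⟨a, ha⟩, ha0, hspan⟩ := finrank_eq_one_iff'.1 hr
  have hcol : ∀ j, ∃ c : F, N *ᵥ Pi.single j 1 = c • a := fun j => by
    obtain ⟨c, hc⟩ := hspan ⟨_, ⟨Pi.single j 1, rfl⟩⟩
    exact ⟨c, (congrArg Subtype.val hc).symm⟩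
  choose b hb using hcol
  have ha' : a ≠ 0 := fun h => ha0 (Subtype.ext h)
  have hNab : N = vecMulVec a b := by
    ext i j
    have := congrFun (hb j) i
    simpa [vecMulVec_apply, mul_comm] using this
  refine ⟨a, b, ha', fun h => ?_, ?_, ?_⟩
  · obtain ⟨x, hx⟩ := ha
    refine ha' (hx.symm.trans ?_)
    rw [hNab, h]
    simp
  · rw [hNab] at hs
    have h1 := congrArg (fun T : Matrix ι ι F => T *ᵥ a) hs
    simp only [← Matrix.mulVec_mulVec, Matrix.vecMulVec_mulVec, op_smul_eq_smul, Matrix.mulVec_smul, smul_smul,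
      Matrix.zero_mulVec] at h1
    exact mul_self_eq_zero.1 ((smul_eq_zero.1 h1).resolve_right ha')
  · rw [← hNab, hN, add_sub_cancel]

/-- A basis starting with a vector of functional value one, then a given vector of its kernel. -/
theorem exists_adapted_basis {a b : ι → F} (ha : a ≠ 0) (hb : b ≠ 0) (hab : b ⬝ᵥ a = 0) {r : ℕ}
    (hr : Fintype.card ι = r + 2) :
    ∃ B : Basis (Fin (r + 2)) F (ι → F), B 1 = a ∧ ∀ i, b ⬝ᵥ B i = if i = 0 then 1 else 0 := by
  let f : (ι → F) →ₗ[F] F :=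
    { toFun := fun x => b ⬝ᵥ x
      map_add' := dotProduct_add b
      map_smul' := fun c x => dotProduct_smul c b x }
  obtain ⟨j, hj⟩ : ∃ j, b j ≠ 0 := Function.ne_iff.1 hb
  let y : ι → F := Pi.single j (b j)⁻¹
  have hy : f y = 1 := by
    show b ⬝ᵥ y = 1
    rw [dotProduct_single, mul_inv_cancel₀ hj]
  let a' : LinearMap.ker f := ⟨a, hab⟩
  have ha' : a' ≠ 0 := fun h => ha (congrArg Subtype.val h)
  obtain ⟨W, hW⟩ := Submodule.exists_isCompl (Submodule.span F {a'})
  have hfk : finrank F (LinearMap.ker f) = r + 1 := by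
    have h := LinearMap.finrank_range_add_finrank_ker f
    rw [LinearMap.range_eq_top.2 fun c => ⟨c • y, by rw [map_smul, hy, smul_eq_mul, mul_one]⟩, finrank_top,
      Module.finrank_self, Module.finrank_fintype_fun_eq_card, hr] at h
    omega
  have hWd : finrank F W = r := by
    have h := Submodule.finrank_add_eq_of_isCompl hW
    rw [finrank_span_singleton ha', hfk] at h
    omega
  have : Module.Free F W := Module.Free.of_divisionRing F W
  let B₁ : Basis (Fin (r + 1)) F (LinearMap.ker f) := Basis.mkFinCons a' (finBasisOfFinrankEq F W hWd)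
    (fun c x hx h => by
      have hmem : c • a' ∈ Submodule.span F {a'} ⊓ W := by
        refine ⟨Submodule.smul_mem _ _ (Submodule.mem_span_singleton_self _), ?_⟩
        rw [eq_neg_of_add_eq_zero_left h]
        exact W.neg_mem hx
      rw [hW.inf_eq_bot, Submodule.mem_bot] at hmem
      exact (smul_eq_zero.1 hmem).resolve_right ha')
    (fun z => by
      obtain ⟨p, hp, x, hx, rfl⟩ := Submodule.mem_sup.1 (hW.sup_eq_top.symm ▸ Submodule.mem_top (x := z))
      obtain ⟨c, rfl⟩ := Submodule.mem_span_singleton.1 hp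
      exact ⟨-c, by rw [neg_smul]; simpa using hx⟩)
  let B : Basis (Fin (r + 2)) F (ι → F) := Basis.mkFinCons y B₁
    (fun c x hx h => by
      have := congrArg f h
      rw [map_add, map_smul, hy, LinearMap.mem_ker.1 hx, map_zero] at this
      simpa using this)
    (fun z => ⟨-(f z), LinearMap.mem_ker.2 (by simp [hy])⟩)
  refine ⟨B, ?_, fun i => ?_⟩
  · rw [show (1 : Fin (r + 2)) = Fin.succ 0 from rfl]
    simp [B, B₁, a']
  · refine Fin.cases ?_ (fun k => ?_) i
    · have h0 : B 0 = y := by simp [B]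
      rw [h0, if_pos rfl]
      exact hy
    · have hk : B k.succ = (B₁ k : ι → F) := by simp [B]
      rw [hk, if_neg (Fin.succ_ne_zero k)]
      exact (B₁ k).2

/-- In SL_n, n ≥ 3, all transvections are conjugate. -/
theorem isConj_transvection (hn : 3 ≤ Fintype.card ι) (s t : SpecialLinearGroup ι F)
    (hs : Cfsg.IsTransvection (s : Matrix ι ι F)) (ht : Cfsg.IsTransvection (t : Matrix ι ι F)) : IsConj s t := by
  obtain ⟨a, b, ha, hb, hab, hse⟩ := exists_vecMulVec_of_isTransvection hs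
  obtain ⟨a', b', ha', hb', hab', hte⟩ := exists_vecMulVec_of_isTransvection ht
  obtain ⟨r, hr⟩ : ∃ r, Fintype.card ι = r + 3 := ⟨Fintype.card ι - 3, by omega⟩
  obtain ⟨B, hBa, hBb⟩ := exists_adapted_basis ha hb hab (r := r + 1) hr
  obtain ⟨B', hBa', hBb'⟩ := exists_adapted_basis ha' hb' hab' (r := r + 1) hr
  let e : (ι → F) ≃ₗ[F] (ι → F) := B.equiv B' (Equiv.refl _)
  let M := LinearMap.toMatrix' (e : (ι → F) →ₗ[F] (ι → F))
  have hM : ∀ v, M *ᵥ v = e v := fun v => LinearMap.toMatrix'_mulVec _ _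
  have hdet : M.det ≠ 0 := by
    rw [show M.det = LinearMap.det (e : (ι → F) →ₗ[F] (ι → F)) from LinearMap.det_toMatrix' _]
    exact (LinearEquiv.isUnit_det' e).ne_zero
  have hMa : M *ᵥ a = a' := by
    rw [hM, ← hBa]
    simp [e, hBa']
  have hMb : b' ᵥ* M = b := dotProduct_eq _ _ fun v => by
    rw [← Matrix.dotProduct_mulVec, hM]
    induction B.mem_span v using Submodule.span_induction with
    | mem x hx =>
      obtain ⟨i, rfl⟩ := hx
      simp [e, hBb, hBb']
    | zero => simp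
    | add x y _ _ hx hy => rw [map_add, dotProduct_add, dotProduct_add, hx, hy]
    | smul c x _ hx => rw [map_smul, dotProduct_smul, dotProduct_smul, hx]
  have hw : B 2 ∉ Submodule.span F {a} := fun h => by
    obtain ⟨c, hc⟩ := Submodule.mem_span_singleton.1 h
    have h2 : (2 : Fin (r + 1 + 2)) ≠ 1 := by
      intro h
      have := congrArg Fin.val h
      simp [Nat.mod_eq_of_lt (show 2 < r + 1 + 2 by omega)] at this
    have := congrArg (fun x => B.repr x 2) (hc.trans (rfl : B 2 = B 2))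
    rw [← hBa] at this
    simp [h2.symm] at this
  obtain ⟨φ, hφ, hφa⟩ := exists_dual_one _ hw
  have hbw : b ⬝ᵥ B 2 = 0 := by
    rw [hBb, if_neg]
    intro h
    have := congrArg Fin.val h
    simp [Nat.mod_eq_of_lt (show 2 < r + 1 + 2 by omega)] at this
  let D : Matrix ι ι F := 1 + vecMulVec ((M.det⁻¹ - 1) • B 2) φ
  have hD : D.det = M.det⁻¹ := by
    simp only [D, det_one_add_vecMulVec, dotProduct_smul, hφ, smul_eq_mul, mul_one]; ring
  have hDa : D *ᵥ a = a := by
    simp only [D, Matrix.add_mulVec, Matrix.one_mulVec, Matrix.vecMulVec_mulVec,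
      hφa a (Submodule.mem_span_singleton_self a), op_smul_eq_smul, zero_smul, add_zero]
  have hbD : b ᵥ* D = b := dotProduct_eq _ _ fun v => by
    rw [← Matrix.dotProduct_mulVec, Matrix.add_mulVec, Matrix.vecMulVec_mulVec, Matrix.one_mulVec, dotProduct_add,
      op_smul_eq_smul, dotProduct_smul, dotProduct_smul, hbw, smul_zero, smul_zero, add_zero]
  let g : SpecialLinearGroup ι F := ⟨M * D, by rw [Matrix.det_mul, hD, mul_inv_cancel₀ hdet]⟩
  refine isConj_iff.2 ⟨g, mul_inv_eq_iff_eq_mul.2 (Subtype.ext ?_)⟩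
  show (M * D) * s.1 = t.1 * (M * D)
  rw [hse, hte, mul_add, add_mul, mul_one, one_mul, mul_vecMulVec', vecMulVec_mul', ← Matrix.mulVec_mulVec, hDa,
    hMa, ← Matrix.vecMul_vecMul, hMb, hbD]

end Cfsg.Agent.Classical
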