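import Mathlib
import Cfsg.Agent.Classical.LinearMove

/-!
Endomorphisms of square zero are classified by their rank, also under conjugation by determinant one where the
square classes are trivial; involutions of SL_n in characteristic two; elements of order p in GL_2.
-/

set_option autoImplicit false

namespace Cfsg.Agent.Classical

open Matrix Module

section Normal

variable {F V : Type*} [Field F] [AddCommGroup V] [Module F V] [FiniteDimensional F V]

/-- A decomposition `V = (x + N y) + u`. -/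
theorem exists_coord_sq_zero {N : V →ₗ[F] V} (hN : ∀ x, N (N x) = 0) {r s : ℕ}
    (hr : finrank F (LinearMap.range N) = r) (hs : r + r + s = finrank F V) :
    ∃ Φ : (((Fin r → F) × (Fin r → F)) × (Fin s → F)) ≃ₗ[F] V, ∀ x, N (Φ x) = Φ ((0, x.1.1), 0) := by
  obtain ⟨W, hW⟩ := Submodule.exists_isCompl (LinearMap.ker N)
  have hWd : finrank F W = r := by
    have h1 := Submodule.finrank_add_eq_of_isCompl hW
    have h2 := LinearMap.finrank_range_add_finrank_ker N
    omega
  obtain ⟨iW⟩ := FiniteDimensional.nonempty_linearEquiv_of_finrank_eq (R := F)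
    (M := Fin r → F) (M' := W) (by rw [hWd, Module.finrank_fin_fun])
  let R : Submodule F (LinearMap.ker N) := Submodule.comap (LinearMap.ker N).subtype (LinearMap.range N)
  obtain ⟨U, hU⟩ := Submodule.exists_isCompl R
  have hUd : finrank F U = s := by
    have h1 := Submodule.finrank_add_eq_of_isCompl hU
    have h2 := LinearMap.finrank_range_add_finrank_ker N
    have h3 : finrank F R = r := by
      rw [← hr]
      refine (Submodule.comapSubtypeEquivOfLe ?_).finrank_eq
      rintro _ ⟨x, rfl⟩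
      exact LinearMap.mem_ker.2 (hN x)
    omega
  obtain ⟨iU⟩ := FiniteDimensional.nonempty_linearEquiv_of_finrank_eq (R := F)
    (M := Fin s → F) (M' := U) (by rw [hUd, Module.finrank_fin_fun])
  let w : (Fin r → F) →ₗ[F] V := W.subtype.comp iW.toLinearMap
  let u : (Fin s → F) →ₗ[F] V := (LinearMap.ker N).subtype.comp (U.subtype.comp iU.toLinearMap)
  let f : ((Fin r → F) × (Fin r → F)) × (Fin s → F) →ₗ[F] V := (w.coprod (N.comp w)).coprod u
  have hu : ∀ z, N (u z) = 0 := fun z => LinearMap.mem_ker.1 (iU z).1.2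
  have hNf : ∀ x, N (f x) = N (w x.1.1) := fun x => by simp [f, hu, hN]
  have hw : ∀ z, N (w z) = 0 → z = 0 := fun z hz => by
    have hm : w z ∈ LinearMap.ker N ⊓ W := ⟨LinearMap.mem_ker.2 hz, (iW z).2⟩
    rw [hW.inf_eq_bot, Submodule.mem_bot] at hm
    exact iW.injective (Subtype.ext (by simpa [w] using hm))
  have hinj : Function.Injective f := (injective_iff_map_eq_zero f).2 fun x hx => by
    have h1 : x.1.1 = 0 := hw _ (by rw [← hNf, hx, map_zero])
    have h2 : N (w x.1.2) + u x.2 = 0 := by simpa [f, h1] using hx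
    have hm : (iU x.2).1 ∈ R ⊓ U := by
      refine ⟨?_, (iU x.2).2⟩
      show u x.2 ∈ LinearMap.range N
      exact ⟨-(w x.1.2), by rw [map_neg]; exact neg_eq_of_add_eq_zero_right h2⟩
    rw [hU.inf_eq_bot, Submodule.mem_bot] at hm
    have h3 : x.2 = 0 := iU.injective (Subtype.ext (by simpa using hm))
    rw [h3, map_zero, add_zero] at h2
    exact Prod.ext (Prod.ext h1 (hw _ h2)) h3
  refine ⟨LinearMap.linearEquivOfInjective f hinj (by simp [← hs]), fun x => ?_⟩
  show N (f x) = f _
  rw [hNf]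
  simp [f]

/-- Two square-zero maps of the same rank are conjugate, with freely chosen determinant up to squares. -/
theorem exists_conj_sq_zero {N N' : V →ₗ[F] V} (hN : ∀ x, N (N x) = 0) (hN' : ∀ x, N' (N' x) = 0)
    (hrk : finrank F (LinearMap.range N) = finrank F (LinearMap.range N')) :
    ∃ d : F, d ≠ 0 ∧ ∀ c : F, c ≠ 0 → ∃ e : V ≃ₗ[F] V, (∀ x, N' (e x) = e (N x)) ∧
      ((finrank F (LinearMap.range N) = 0 ∧ LinearMap.det (e : V →ₗ[F] V) = d) ∨
        LinearMap.det (e : V →ₗ[F] V) = d * (c * c)) := by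
  set r := finrank F (LinearMap.range N) with hr
  have hle : r + r ≤ finrank F V := by
    have h1 : finrank F (LinearMap.range N) ≤ finrank F (LinearMap.ker N) :=
      Submodule.finrank_mono (by rintro _ ⟨x, rfl⟩; exact LinearMap.mem_ker.2 (hN x))
    have h2 := LinearMap.finrank_range_add_finrank_ker N
    omega
  obtain ⟨Φ, hΦ⟩ := exists_coord_sq_zero hN hr.symm (Nat.add_sub_cancel' hle)
  obtain ⟨Φ', hΦ'⟩ := exists_coord_sq_zero hN' hrk.symm (Nat.add_sub_cancel' hle)
  refine ⟨LinearMap.det ((Φ.symm.trans Φ' : V ≃ₗ[F] V) : V →ₗ[F] V),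
    (LinearEquiv.isUnit_det' _).ne_zero, fun c hc => ?_⟩
  by_cases h0 : r = 0
  · refine ⟨Φ.symm.trans Φ', fun x => ?_, Or.inl ⟨h0, rfl⟩⟩
    obtain ⟨y, rfl⟩ := Φ.surjective x
    simp [hΦ, hΦ']
  classical
  let D : (Fin r → F) ≃ₗ[F] (Fin r → F) :=
    LinearEquiv.piCongrRight fun i => LinearEquiv.smulOfUnit (if i = ⟨0, by omega⟩ then Units.mk0 c hc else 1)
  have hD : LinearMap.det (D : (Fin r → F) →ₗ[F] (Fin r → F)) = c := by
    have e : (D : (Fin r → F) →ₗ[F] (Fin r → F)) = Matrix.toLin'
        (Matrix.diagonal fun i : Fin r => if i = ⟨0, by omega⟩ then c else 1) := by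
      refine LinearMap.ext fun x => funext fun i => ?_
      simp only [D, LinearEquiv.coe_coe, LinearEquiv.piCongrRight_apply, Matrix.toLin'_apply, Matrix.mulVec_diagonal]
      split_ifs <;> simp [LinearEquiv.smulOfUnit, Units.smul_def]
    rw [e, LinearMap.det_toLin', Matrix.det_diagonal, Finset.prod_ite_eq']
    simp
  let E : (((Fin r → F) × (Fin r → F)) × (Fin (finrank F V - (r + r)) → F)) ≃ₗ[F]
      ((Fin r → F) × (Fin r → F)) × (Fin (finrank F V - (r + r)) → F) :=
    (D.prodCongr D).prodCongr (LinearEquiv.refl F _)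
  refine ⟨(Φ.symm.trans E).trans Φ', fun x => ?_, Or.inr ?_⟩
  · obtain ⟨y, rfl⟩ := Φ.surjective x
    simp [hΦ, hΦ', E]
  · have e : (((Φ.symm.trans E).trans Φ' : V ≃ₗ[F] V) : V →ₗ[F] V) =
        ((Φ.symm.trans Φ' : V ≃ₗ[F] V) : V →ₗ[F] V) * (Φ.toLinearMap ∘ₗ E.toLinearMap ∘ₗ Φ.symm.toLinearMap) := by
      refine LinearMap.ext fun x => ?_
      simp [Module.End.mul_apply]
    rw [e, map_mul, LinearMap.det_conj]
    show _ * LinearMap.det (((D : (Fin r → F) →ₗ[F] (Fin r → F)).prodMap D.toLinearMap).prodMap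
      (LinearMap.id : (Fin (finrank F V - (r + r)) → F) →ₗ[F] _)) = _
    rw [LinearMap.det_prodMap, LinearMap.det_prodMap, hD, LinearMap.det_id, mul_one]

end Normal

variable {F : Type*} [Field F] {ι : Type} [Fintype ι] [DecidableEq ι]

/-- Square-zero shifts of the same rank are conjugate in GL. -/
theorem isConj_gl_of_sq_zero (g h : GL ι F) (hg : (g.1 - 1) * (g.1 - 1) = 0) (hh : (h.1 - 1) * (h.1 - 1) = 0)
    (hrk : (g.1 - 1).rank = (h.1 - 1).rank) : IsConj g h := by
  obtain ⟨d, -, H⟩ := exists_conj_sq_zero (N := (g.1 - 1).mulVecLin) (N' := (h.1 - 1).mulVecLin)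
    (fun x => by rw [Matrix.mulVecLin_apply, Matrix.mulVecLin_apply, Matrix.mulVec_mulVec, hg, Matrix.zero_mulVec])
    (fun x => by rw [Matrix.mulVecLin_apply, Matrix.mulVecLin_apply, Matrix.mulVec_mulVec, hh, Matrix.zero_mulVec]) hrk
  obtain ⟨e, he, -⟩ := H 1 one_ne_zero
  let M := LinearMap.toMatrix' (e : (ι → F) →ₗ[F] (ι → F))
  have hM : ∀ v, M *ᵥ v = e v := fun v => LinearMap.toMatrix'_mulVec _ _
  have hu : IsUnit M.det := by
    rw [show M.det = LinearMap.det (e : (ι → F) →ₗ[F] (ι → F)) from LinearMap.det_toMatrix' _]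
    exact LinearEquiv.isUnit_det' e
  refine isConj_iff.2 ⟨Matrix.GeneralLinearGroup.mk'' M hu, mul_inv_eq_iff_eq_mul.2 (Units.ext ?_)⟩
  show M * g.1 = h.1 * M
  have key : M * (g.1 - 1) = (h.1 - 1) * M := Matrix.ext_of_mulVec_single fun j => by
    rw [← Matrix.mulVec_mulVec, ← Matrix.mulVec_mulVec, hM, hM]
    exact (he _).symm
  rw [mul_sub, sub_mul, mul_one, one_mul] at key
  exact sub_left_injective key

theorem sq_zero_of_involution [CharP F 2] {A : Matrix ι ι F} (h : A * A = 1) : (A - 1) * (A - 1) = 0 := by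
  rw [sub_mul, mul_sub, mul_sub, h, one_mul, mul_one]
  ext i j
  simp [CharTwo.sub_eq_add]
  linear_combination ((1 : Matrix ι ι F) i j + A i j) * (CharTwo.two_eq_zero : (2 : F) = 0)

/-- Involutions of SL_n in characteristic two. -/
theorem isConj_involution_iff [Finite F] [CharP F 2] {n : ℕ} (a b : Matrix.SpecialLinearGroup (Fin n) F)
    (ha : orderOf a = 2) (hb : orderOf b = 2) :
    IsConj a b ↔ ((a : Matrix (Fin n) (Fin n) F) - 1).rank = ((b : Matrix (Fin n) (Fin n) F) - 1).rank := by
  constructor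
  · rintro h
    obtain ⟨g, hg⟩ := isConj_iff.1 h
    have hb' : (b : Matrix (Fin n) (Fin n) F) - 1 =
        g.1 * ((a : Matrix (Fin n) (Fin n) F) - 1) * (g⁻¹ : Matrix.SpecialLinearGroup (Fin n) F).1 := by
      rw [mul_sub, sub_mul, mul_one, ← Matrix.SpecialLinearGroup.coe_mul, ← Matrix.SpecialLinearGroup.coe_mul,
        ← Matrix.SpecialLinearGroup.coe_mul, hg, mul_inv_cancel, Matrix.SpecialLinearGroup.coe_one]
    rw [hb', Matrix.rank_mul_eq_left_of_isUnit_det _ _ (by rw [(g⁻¹).2]; exact isUnit_one),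
      Matrix.rank_mul_eq_right_of_isUnit_det _ _ (by rw [g.2]; exact isUnit_one)]
  · intro hrk
    have hsq : ∀ x : Matrix.SpecialLinearGroup (Fin n) F, orderOf x = 2 → x.1 * x.1 = 1 := fun x hx => by
      have := pow_orderOf_eq_one x
      rw [hx, pow_two] at this
      rw [← Matrix.SpecialLinearGroup.coe_mul, this, Matrix.SpecialLinearGroup.coe_one]
    obtain ⟨d, hd, H⟩ := exists_conj_sq_zero (N := (a.1 - 1).mulVecLin) (N' := (b.1 - 1).mulVecLin)
      (fun x => by rw [Matrix.mulVecLin_apply, Matrix.mulVecLin_apply, Matrix.mulVec_mulVec,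
        sq_zero_of_involution (hsq a ha), Matrix.zero_mulVec])
      (fun x => by rw [Matrix.mulVecLin_apply, Matrix.mulVecLin_apply, Matrix.mulVec_mulVec,
        sq_zero_of_involution (hsq b hb), Matrix.zero_mulVec]) hrk
    obtain ⟨c, hc⟩ : ∃ c : F, d⁻¹ = c * c := FiniteField.isSquare_of_char_two ((ringChar.eq F 2).symm ▸ rfl) d⁻¹
    have hc0 : c ≠ 0 := by rintro rfl; exact inv_ne_zero hd (by simpa using hc)
    obtain ⟨e, he, hdet⟩ := H c hc0
    have hr0 : finrank F (LinearMap.range (a.1 - 1).mulVecLin) ≠ 0 := fun h0 => by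
      have h1 : (a.1 - 1).mulVecLin = 0 := LinearMap.range_eq_bot.1 (Submodule.finrank_eq_zero.1 h0)
      have : a = 1 := Subtype.ext (sub_eq_zero.1 (Matrix.ext_of_mulVec_single fun j => by
        have := LinearMap.congr_fun h1 (Pi.single j 1)
        rw [Matrix.mulVecLin_apply, LinearMap.zero_apply] at this
        rw [Matrix.SpecialLinearGroup.coe_one, this, Matrix.zero_mulVec]))
      rw [this, orderOf_one] at ha
      omega
    let M := LinearMap.toMatrix' (e : (Fin n → F) →ₗ[F] (Fin n → F))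
    have hM : ∀ v, M *ᵥ v = e v := fun v => LinearMap.toMatrix'_mulVec _ _
    have hu : M.det = 1 := by
      rw [show M.det = LinearMap.det (e : (Fin n → F) →ₗ[F] (Fin n → F)) from LinearMap.det_toMatrix' _]
      rcases hdet with ⟨h0, -⟩ | hdet
      · exact absurd h0 hr0
      · rw [hdet, ← hc, mul_inv_cancel₀ hd]
    refine isConj_iff.2 ⟨⟨M, hu⟩, mul_inv_eq_iff_eq_mul.2 (Subtype.ext ?_)⟩
    show M * a.1 = b.1 * M
    have key : M * (a.1 - 1) = (b.1 - 1) * M := Matrix.ext_of_mulVec_single fun j => by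
      rw [← Matrix.mulVec_mulVec, ← Matrix.mulVec_mulVec, hM, hM]
      exact (he _).symm
    rw [mul_sub, sub_mul, mul_one, one_mul] at key
    exact sub_left_injective key

/-- Elements of order p in GL₂ in characteristic p. -/
theorem isConj_order_p (p : ℕ) [Fact p.Prime] [CharP F p] (g h : GL (Fin 2) F) (hg : orderOf g = p)
    (hh : orderOf h = p) : IsConj g h := by
  have key : ∀ g : GL (Fin 2) F, orderOf g = p → (g.1 - 1) * (g.1 - 1) = 0 ∧ (g.1 - 1).rank = 1 := by
    intro g hg
    set N := g.1 - 1 with hN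
    have hpow : N ^ p = 0 := by
      rw [hN, sub_pow_char_of_commute p (h := Commute.one_right _), one_pow]
      have := pow_orderOf_eq_one g
      rw [hg] at this
      rw [← Units.val_pow_eq_pow_val, this, Units.val_one, sub_self]
    have hchar : N.charpoly = Polynomial.X ^ 2 := by
      have := Matrix.isNilpotent_charpoly_sub_pow_of_isNilpotent ⟨p, hpow⟩
      rw [isNilpotent_iff_eq_zero, sub_eq_zero, Fintype.card_fin] at this
      exact this
    have hsq : N * N = 0 := by
      have := Matrix.aeval_self_charpoly N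
      rw [hchar, map_pow, Polynomial.aeval_X, pow_two] at this
      exact this
    refine ⟨hsq, le_antisymm ?_ ?_⟩
    · have h1 : LinearMap.range N.mulVecLin ≤ LinearMap.ker N.mulVecLin := by
        rintro _ ⟨x, rfl⟩
        rw [LinearMap.mem_ker, Matrix.mulVecLin_apply, Matrix.mulVecLin_apply, Matrix.mulVec_mulVec, hsq,
          Matrix.zero_mulVec]
      have h2 := Submodule.finrank_mono h1
      have h3 := LinearMap.finrank_range_add_finrank_ker N.mulVecLin
      rw [Module.finrank_fin_fun] at h3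
      rw [Matrix.rank]
      omega
    · rw [Nat.one_le_iff_ne_zero, Matrix.rank]
      intro h0
      have h1 : N.mulVecLin = 0 := LinearMap.range_eq_bot.1 (Submodule.finrank_eq_zero.1 h0)
      have hN0 : N = 0 := Matrix.ext_of_mulVec_single fun j => by
        have := LinearMap.congr_fun h1 (Pi.single j 1)
        rw [Matrix.mulVecLin_apply, LinearMap.zero_apply] at this
        rw [this, Matrix.zero_mulVec]
      have : g = 1 := Units.ext (sub_eq_zero.1 hN0)
      rw [this, orderOf_one] at hg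
      exact (Fact.out : p.Prime).one_lt.ne hg
  exact isConj_gl_of_sq_zero g h (key g hg).1 (key h hh).1 ((key g hg).2.trans (key h hh).2.symm)

end Cfsg.Agent.Classical
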