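import Mathlib
import Cfsg.Agent.Classical.SquareZero
import Cfsg.Agent.Classical.LinearBasic

/-!
Elements of PSL₃(4): no elements of order 15, one class of involutions.
-/

set_option autoImplicit false

namespace Cfsg.Agent.Classical.L34

open Matrix

variable {F : Type*} [Field F] [Fintype F]

theorem two_zero (hF : Fintype.card F = 4) : (2 : F) = 0 := by
  have h : ((4 : ℕ) : F) = 0 := by rw [← hF]; exact Nat.cast_card_eq_zero F
  have h' : (2 : F) * 2 = 0 := by push_cast at h; linear_combination h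
  exact mul_self_eq_zero.1 h'

theorem pow_three_eq_one (hF : Fintype.card F = 4) {a : F} (ha : a ≠ 0) : a ^ 3 = 1 := by
  have := FiniteField.pow_card_sub_one_eq_one a ha
  rwa [hF] at this

/-- A scalar-order element commuting with an element of order five is scalar. -/
theorem scalar_of_commute (hF : Fintype.card F = 4) {x y : Matrix (Fin 3) (Fin 3) F} (hx : x ^ 5 = 1)
    (hx1 : x ≠ 1) (hxy : x * y = y * x) {k : F} (hy : y ^ 3 = Matrix.scalar (Fin 3) k) (hdet : y.det = 1) :
    ∃ a : F, y = Matrix.scalar (Fin 3) a := by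
  classical
  have t2 := two_zero hF
  have xinj : ∀ v, x *ᵥ v = 0 → v = 0 := fun v h => by
    have : (x ^ 4 * x) *ᵥ v = 0 := by rw [← mulVec_mulVec, h, mulVec_zero]
    rwa [← pow_succ, hx, one_mulVec] at this
  have yinj : ∀ v, y *ᵥ v = 0 → v = 0 := fun v h => by
    by_contra hv
    exact one_ne_zero (hdet.symm.trans (exists_mulVec_eq_zero_iff.1 ⟨v, hv, h⟩))
  let S : Matrix (Fin 3) (Fin 3) F := 1 + x + x ^ 2 + x ^ 3 + x ^ 4
  have xS : x * S = S := by
    have e : x * S = x + x ^ 2 + x ^ 3 + x ^ 4 + x ^ 5 := by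
      simp only [S, mul_add, mul_one, ← pow_succ']
      rw [pow_two]
    rw [e, hx]; simp only [S]; abel
  have Sfix : ∀ v, x *ᵥ v = v → S *ᵥ v = v := fun v h => by
    have h2 : x ^ 2 *ᵥ v = v := by rw [pow_two, ← mulVec_mulVec, h, h]
    have h3 : x ^ 3 *ᵥ v = v := by rw [pow_succ, ← mulVec_mulVec, h, h2]
    have h4 : x ^ 4 *ᵥ v = v := by rw [pow_succ, ← mulVec_mulVec, h, h3]
    simp only [S, add_mulVec, one_mulVec, h, h2, h3, h4]
    funext i
    simp only [Pi.add_apply]
    linear_combination 2 * v i * t2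
  -- the fixed space is a line
  let W : Submodule F (Fin 3 → F) := LinearMap.ker (x - 1).mulVecLin
  have memW : ∀ v, v ∈ W ↔ x *ᵥ v = v := fun v => by
    simp [W, sub_mulVec, sub_eq_zero]
  have hW : Module.finrank F W = 1 := by
    let σ : Equiv.Perm (Fin 3 → F) :=
      { toFun := fun v => x *ᵥ v
        invFun := fun v => x ^ 4 *ᵥ v
        left_inv := fun v => by simp [mulVec_mulVec, ← pow_succ, hx]
        right_inv := fun v => by simp [mulVec_mulVec, ← pow_succ', hx] }
    have hσ : σ ^ 5 ^ 1 = 1 := Equiv.ext fun v => by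
      have : ∀ n, (σ ^ n) v = x ^ n *ᵥ v := fun n => by
        induction n with
        | zero => simp
        | succ n ih => rw [pow_succ', Equiv.Perm.mul_apply, ih]; simp [σ, mulVec_mulVec, pow_succ']
      rw [this]; simp [hx]
    have h := Equiv.Perm.card_compl_support_modEq (α := Fin 3 → F) (p := 5) (hp := ⟨by norm_num⟩) hσ
    have e : σ.supportᶜ.card = Nat.card W := by
      rw [← Nat.card_eq_finsetCard]
      exact Nat.card_congr (Equiv.subtypeEquivRight fun v => by simp [memW, σ])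
    rw [e, Fintype.card_fun, Fintype.card_fin, hF, Module.natCard_eq_pow_finrank (K := F),
      Nat.card_eq_fintype_card, hF] at h
    have hle : Module.finrank F W ≤ 3 := by simpa using W.finrank_le
    have hne : Module.finrank F W ≠ 3 := fun h3 => hx1 (Matrix.ext_of_mulVec_single fun j => by
      have : W = ⊤ := Submodule.eq_top_of_finrank_eq (by simp [h3])
      rw [one_mulVec, (memW _).1 (this ▸ Submodule.mem_top)])
    rcases (show Module.finrank F W = 0 ∨ Module.finrank F W = 1 ∨ Module.finrank F W = 2 ∨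
      Module.finrank F W = 3 by omega) with h0 | h0 | h0 | h0
    · rw [h0] at h; exact absurd h (by decide)
    · exact h0
    · rw [h0] at h; exact absurd h (by decide)
    · exact absurd h0 hne
  obtain ⟨⟨f, hf⟩, hf0, hfW⟩ := finrank_eq_one_iff'.1 hW
  have hfx := (memW f).1 hf
  have hf' : f ≠ 0 := fun h => hf0 (Subtype.ext h)
  have inW : ∀ v, x *ᵥ v = v → ∃ c : F, v = c • f := fun v hv => by
    obtain ⟨c, hc⟩ := hfW ⟨v, (memW v).2 hv⟩
    exact ⟨c, (congrArg Subtype.val hc).symm⟩
  -- the eigenvalue on the fixed line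
  obtain ⟨a, ha⟩ := inW (y *ᵥ f) (by rw [mulVec_mulVec, hxy, ← mulVec_mulVec, hfx])
  have ha0 : a ≠ 0 := fun h => hf' (yinj f (by rw [ha, h, zero_smul]))
  have hk : k = 1 := by
    have e : y ^ 3 *ᵥ f = (a ^ 3) • f := by
      simp only [pow_succ, pow_zero, one_mul, ← mulVec_mulVec, ha, mulVec_smul, smul_smul, mul_assoc]
    rw [hy, pow_three_eq_one hF ha0, one_smul] at e
    obtain ⟨i, hi⟩ := Function.ne_iff.1 hf'
    have e' := congrFun e i
    simp [Matrix.mulVec_diagonal] at e'
    exact mul_eq_right₀ hi |>.1 e'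
  -- the plane
  obtain ⟨u, hu⟩ : ∃ u, x *ᵥ u ≠ u := by
    by_contra h
    push_neg at h
    exact hx1 (Matrix.ext_of_mulVec_single fun j => by rw [one_mulVec, h])
  obtain ⟨v, hv0, hSv⟩ : ∃ v, v ≠ 0 ∧ S *ᵥ v = 0 :=
    ⟨x *ᵥ u - u, sub_ne_zero.2 hu, by
      have : S * x = x * S := by simp [S, mul_add, add_mul, ← pow_succ, ← pow_succ']
      rw [mulVec_sub, mulVec_mulVec, this, xS, sub_self]⟩
  have hSxv : S *ᵥ (x *ᵥ v) = 0 := by
    have : S * x = x * S := by simp [S, mul_add, add_mul, ← pow_succ, ← pow_succ']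
    rw [mulVec_mulVec, this, xS, hSv]
  have hnev : ∀ c : F, x *ᵥ v ≠ c • v := fun c hc => by
    have hp : ∀ n, x ^ n *ᵥ v = c ^ n • v := fun n => by
      induction n with
      | zero => simp
      | succ n ih => rw [pow_succ, ← mulVec_mulVec, hc, mulVec_smul, ih, smul_smul, pow_succ']
    have c0 : c ≠ 0 := fun h => hv0 (xinj v (by rw [hc, h, zero_smul]))
    have h5 := hp 5
    rw [hx, one_mulVec] at h5
    have c5 : c ^ 5 = 1 := smul_left_injective F hv0 (by simpa using h5.symm)
    have c3 := pow_three_eq_one hF c0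
    have c1 : c = 1 := by linear_combination (c ^ 3 + 1) * c3 - c * c5
    rw [c1, one_smul] at hc
    exact hv0 ((Sfix v hc).symm.trans hSv)
  let B : Matrix (Fin 3) (Fin 3) F := (Matrix.of ![f, v, x *ᵥ v])ᵀ
  have hB : ∀ z : Fin 3 → F, B *ᵥ z = z 0 • f + z 1 • v + z 2 • (x *ᵥ v) := fun z => by
    funext i
    simp [B, mulVec, dotProduct, Fin.sum_univ_three, mul_comm]
  have hindep : ∀ z : Fin 3 → F, B *ᵥ z = 0 → z = 0 := fun z hz => by
    rw [hB] at hz
    have h1 := congrArg (S *ᵥ ·) hz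
    simp only [mulVec_add, mulVec_smul, hSv, hSxv, Sfix f hfx, smul_zero, add_zero, mulVec_zero] at h1
    have z0 : z 0 = 0 := (smul_eq_zero.1 h1).resolve_right hf'
    rw [z0, zero_smul, zero_add] at hz
    have z2 : z 2 = 0 := by
      by_contra h
      exact hnev (-(z 1) / z 2) (by
        funext i
        have := congrFun hz i
        simp at this ⊢
        field_simp
        linear_combination this)
    rw [z2, zero_smul, add_zero] at hz
    have z1 : z 1 = 0 := (smul_eq_zero.1 hz).resolve_right hv0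
    funext i; fin_cases i <;> assumption
  have hBd : B.det ≠ 0 := fun h => by
    obtain ⟨z, hz, hz'⟩ := exists_mulVec_eq_zero_iff.2 h
    exact hz (hindep z hz')
  obtain ⟨z, hz⟩ : ∃ z, B *ᵥ z = y *ᵥ v :=
    ⟨B⁻¹ *ᵥ (y *ᵥ v), by rw [mulVec_mulVec, Matrix.mul_nonsing_inv _ (isUnit_iff_ne_zero.2 hBd), one_mulVec]⟩
  rw [hB] at hz
  have z0 : z 0 = 0 := by
    have hSy : S * y = y * S := by
      have c : Commute x y := hxy
      exact (((((Commute.one_left y).add_left c).add_left (c.pow_left 2)).add_left (c.pow_left 3)).add_left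
        (c.pow_left 4)).eq
    have h1 := congrArg (S *ᵥ ·) hz
    simp only [mulVec_add, mulVec_smul, hSv, hSxv, Sfix f hfx, smul_zero, add_zero, mulVec_mulVec,
      hSy] at h1
    rw [← mulVec_mulVec, hSv, mulVec_zero] at h1
    exact (smul_eq_zero.1 h1).resolve_right hf'
  rw [z0, zero_smul, zero_add] at hz
  set b := z 1
  set c := z 2
  have hyx : ∀ w, y *ᵥ (x *ᵥ w) = x *ᵥ (y *ᵥ w) := fun w => by rw [mulVec_mulVec, ← hxy, ← mulVec_mulVec]
  have hc : c = 0 := by
    by_contra hc0
    have e2 : y ^ 2 *ᵥ v = b ^ 2 • v + c ^ 2 • (x ^ 2 *ᵥ v) := by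
      rw [pow_two y, ← mulVec_mulVec, ← hz, mulVec_add, mulVec_smul, mulVec_smul, hyx, ← hz, mulVec_add,
        mulVec_smul, mulVec_smul, pow_two x, ← mulVec_mulVec]
      funext i
      simp only [Pi.add_apply, Pi.smul_apply, smul_eq_mul]
      linear_combination (b * c * (x *ᵥ v) i) * t2
    have hy2x : ∀ w, y ^ 2 *ᵥ (x ^ 2 *ᵥ w) = x ^ 2 *ᵥ (y ^ 2 *ᵥ w) := fun w => by
      simp only [pow_two, ← mulVec_mulVec, hyx]
    have e4 : y ^ 4 *ᵥ v = b ^ 4 • v + c ^ 4 • (x ^ 4 *ᵥ v) := by
      rw [show y ^ 4 = y ^ 2 * y ^ 2 from pow_add y 2 2, ← mulVec_mulVec, e2, mulVec_add, mulVec_smul,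
        mulVec_smul, hy2x, e2, mulVec_add, mulVec_smul, mulVec_smul, mulVec_mulVec, ← pow_add]
      funext i
      simp only [Pi.add_apply, Pi.smul_apply, smul_eq_mul]
      linear_combination (b ^ 2 * c ^ 2 * (x ^ 2 *ᵥ v) i) * t2
    have y4 : y ^ 4 = y := by rw [pow_succ, hy, hk, map_one, one_mul]
    have q4 : ∀ r : F, r ^ 4 = r := fun r => by
      have := FiniteField.pow_card r
      rwa [hF] at this
    rw [y4, q4, q4, ← hz, add_right_inj] at e4
    have e : x *ᵥ v = x ^ 4 *ᵥ v := smul_right_injective _ hc0 e4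
    have h3 : x ^ 3 *ᵥ v = v := by
      have h := congrArg (x ^ 4 *ᵥ ·) e
      simp only [mulVec_mulVec, ← pow_succ, ← pow_add] at h
      rw [hx, one_mulVec] at h
      rw [show 4 + 4 = 5 + 3 from rfl, pow_add, hx, one_mul] at h
      exact h.symm
    have h2 : x ^ 2 *ᵥ v = v := by
      have h := congrArg (x ^ 2 *ᵥ ·) h3
      simp only [mulVec_mulVec, ← pow_add] at h
      rw [hx, one_mulVec] at h
      exact h.symm
    refine hnev 1 ?_
    rw [one_smul]
    have h := congrArg (x *ᵥ ·) h2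
    simp only [mulVec_mulVec, ← pow_succ'] at h
    rw [h3] at h
    exact h.symm
  rw [hc, zero_smul, add_zero] at hz
  have hyB : y * B = B * Matrix.diagonal ![a, b, b] := Matrix.ext_of_mulVec_single fun j => by
    have hxv : y *ᵥ (x *ᵥ v) = b • (x *ᵥ v) := by rw [hyx, ← hz, mulVec_smul]
    rw [← mulVec_mulVec, ← mulVec_mulVec, hB, hB, Matrix.diagonal_mulVec_single]
    fin_cases j <;> simp [ha, ← hz, hxv]
  have hab : a = b := by
    have h := congrArg Matrix.det hyB
    rw [det_mul, det_mul, hdet, det_diagonal, one_mul, Fin.prod_univ_three] at h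
    have h' : a * b * b = 1 := mul_left_cancel₀ hBd (by simpa using h.symm)
    have a3 := pow_three_eq_one hF ha0
    have : (a - b) * (a - b) = 0 := by
      linear_combination (b ^ 2 - a * b) * t2 + b ^ 2 * a3 - a ^ 2 * h' 
    exact sub_eq_zero.1 (mul_self_eq_zero.1 this)
  rw [← hab] at hyB
  refine ⟨a, ?_⟩
  have : Matrix.diagonal ![a, a, a] = Matrix.scalar (Fin 3) a := by
    ext i j; fin_cases i <;> fin_cases j <;> simp
  rw [this, ← (Matrix.scalar_commute a (fun _ => Commute.all _ _) B).eq] at hyB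
  exact ((Matrix.isUnit_iff_isUnit_det _).2 (isUnit_iff_ne_zero.2 hBd)).mul_right_cancel hyB

theorem coe_center {g : SpecialLinearGroup (Fin 3) F} (hg : g ∈ Subgroup.center (SpecialLinearGroup (Fin 3) F)) :
    ∃ r : F, r ^ 3 = 1 ∧ g.1 = Matrix.scalar (Fin 3) r := by
  obtain ⟨r, hr, e⟩ := Matrix.SpecialLinearGroup.mem_center_iff.1 hg
  exact ⟨r, by simpa using hr, e.symm⟩

theorem center_cube {g : SpecialLinearGroup (Fin 3) F} (hg : g ∈ Subgroup.center (SpecialLinearGroup (Fin 3) F)) :
    g ^ 3 = 1 := by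
  obtain ⟨r, hr, e⟩ := coe_center hg
  exact Subtype.ext (by rw [Matrix.SpecialLinearGroup.coe_pow, e, ← map_pow, hr, map_one,
    Matrix.SpecialLinearGroup.coe_one])

theorem orderOf_ne_fifteen (hF : Fintype.card F = 4) (g : Matrix.ProjectiveSpecialLinearGroup (Fin 3) F) :
    orderOf g ≠ 15 := by
  intro hg
  obtain ⟨s, rfl⟩ := QuotientGroup.mk'_surjective _ g
  set π := QuotientGroup.mk' (Subgroup.center (SpecialLinearGroup (Fin 3) F))
  have hne : ∀ n, ¬ 15 ∣ n → s ^ n ∉ Subgroup.center (SpecialLinearGroup (Fin 3) F) := fun n hn h =>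
    hn (hg ▸ orderOf_dvd_of_pow_eq_one (by rw [← map_pow]; exact (QuotientGroup.eq_one_iff _).2 h))
  have hc : s ^ 15 ∈ Subgroup.center (SpecialLinearGroup (Fin 3) F) :=
    (QuotientGroup.eq_one_iff _).1 (show π (s ^ 15) = 1 by rw [map_pow, ← hg, pow_orderOf_eq_one])
  obtain ⟨r, -, hr⟩ := coe_center hc
  obtain ⟨a, ha⟩ := scalar_of_commute hF (x := (s ^ 9 : SpecialLinearGroup (Fin 3) F).1)
    (y := (s ^ 5 : SpecialLinearGroup (Fin 3) F).1)
    (by rw [← Matrix.SpecialLinearGroup.coe_pow, ← pow_mul, show 9 * 5 = 15 * 3 from rfl, pow_mul,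
      center_cube hc, Matrix.SpecialLinearGroup.coe_one])
    (fun h => hne 9 (by decide) (by
      rw [show s ^ 9 = 1 from Subtype.ext h]; exact Subgroup.one_mem _))
    (by rw [← Matrix.SpecialLinearGroup.coe_mul, ← Matrix.SpecialLinearGroup.coe_mul, ← pow_add, ← pow_add])
    (by rw [← Matrix.SpecialLinearGroup.coe_pow, ← pow_mul]; exact hr) (s ^ 5).2
  refine hne 5 (by decide) (Subgroup.mem_center_iff.2 fun t => Subtype.ext ?_)
  rw [Matrix.SpecialLinearGroup.coe_mul, Matrix.SpecialLinearGroup.coe_mul, ha]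
  exact ((Matrix.scalar_commute a (fun _ => Commute.all _ _) t.1).eq).symm

theorem rank_involution (hF : Fintype.card F = 4) {t : SpecialLinearGroup (Fin 3) F} (ht : orderOf t = 2) :
    (t.1 - 1).rank = 1 := by
  classical
  have : CharP F 2 := CharTwo.of_one_ne_zero_of_two_eq_zero one_ne_zero (two_zero hF)
  have h1 : t.1 * t.1 = 1 := by
    have := pow_orderOf_eq_one t
    rw [ht, pow_two] at this
    rw [← Matrix.SpecialLinearGroup.coe_mul, this, Matrix.SpecialLinearGroup.coe_one]
  have h2 := sq_zero_of_involution h1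
  set N := (t.1 - 1).mulVecLin
  have hle : LinearMap.range N ≤ LinearMap.ker N := by
    rintro _ ⟨v, rfl⟩
    show (t.1 - 1) *ᵥ ((t.1 - 1) *ᵥ v) = 0
    rw [mulVec_mulVec, h2, zero_mulVec]
  have hsum := LinearMap.finrank_range_add_finrank_ker N
  have h3 := Submodule.finrank_mono hle
  simp at hsum
  have hne : (t.1 - 1).rank ≠ 0 := fun h0 => by
    have h' : N = 0 := LinearMap.range_eq_bot.1 (Submodule.finrank_eq_zero.1 h0)
    have : t = 1 := Subtype.ext (sub_eq_zero.1 (Matrix.ext_of_mulVec_single fun j => by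
      rw [zero_mulVec]
      exact LinearMap.congr_fun h' (Pi.single j 1)))
    rw [this, orderOf_one] at ht
    omega
  unfold Matrix.rank at hne ⊢
  change Module.finrank F (LinearMap.range N) ≠ 0 at hne
  change Module.finrank F (LinearMap.range N) = 1
  omega

theorem isConj_of_order_two (hF : Fintype.card F = 4) (x y : Matrix.ProjectiveSpecialLinearGroup (Fin 3) F)
    (hx : orderOf x = 2) (hy : orderOf y = 2) : IsConj x y := by
  have lift : ∀ z : Matrix.ProjectiveSpecialLinearGroup (Fin 3) F, orderOf z = 2 →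
      ∃ t : SpecialLinearGroup (Fin 3) F, orderOf t = 2 ∧ QuotientGroup.mk' _ t = z := by
    intro z hz
    obtain ⟨s, rfl⟩ := QuotientGroup.mk'_surjective _ z
    set π := QuotientGroup.mk' (Subgroup.center (SpecialLinearGroup (Fin 3) F))
    have h2 : π s ^ 2 = 1 := by rw [← hz, pow_orderOf_eq_one]
    have hc : s ^ 2 ∈ Subgroup.center (SpecialLinearGroup (Fin 3) F) :=
      (QuotientGroup.eq_one_iff _).1 (show π (s ^ 2) = 1 by rw [map_pow, h2])
    have e : π (s ^ 3) = π s := by rw [map_pow, pow_succ, h2, one_mul]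
    refine ⟨s ^ 3, orderOf_eq_prime (by rw [← pow_mul, show 3 * 2 = 2 * 3 from rfl, pow_mul, center_cube hc]) ?_, e⟩
    intro h
    rw [h, map_one] at e
    rw [← e, orderOf_one] at hz
    omega
  obtain ⟨s, hs, rfl⟩ := lift x hx
  obtain ⟨t, ht, rfl⟩ := lift y hy
  have : CharP F 2 := CharTwo.of_one_ne_zero_of_two_eq_zero one_ne_zero (two_zero hF)
  exact MonoidHom.map_isConj _ ((isConj_involution_iff s t hs ht).2
    ((rank_involution hF hs).trans (rank_involution hF ht).symm))

end Cfsg.Agent.Classical.L34
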