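import Mathlib
import Cfsg.Agent.Classical.KleinIso
import Cfsg.Agent.Classical.SymmTwo
import Cfsg.Agent.Classical.PSLThreeFour

/-!
The alternating group of degree eight as PSL₄(2).
-/

set_option autoImplicit false

namespace Cfsg.Agent.Classical.L34

open Matrix

theorem psl_four_two {F : Type*} [Field F] [Fintype F] (hF : Fintype.card F = 2) :
    Nonempty (Matrix.ProjectiveSpecialLinearGroup (Fin 4) F ≃* alternatingGroup (Fin 8)) := by
  classical
  obtain ⟨e⟩ := Exc.pomega_six_plus (F := F)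
  obtain ⟨s⟩ := Symm2.equiv_eight hF
  have hcomm : (commutator (Cfsg.isometryGroup F (Cfsg.quadFormPlus 3 F))).map
      (s : Cfsg.isometryGroup F (Cfsg.quadFormPlus 3 F) →* Equiv.Perm (Fin 8)) = alternatingGroup (Fin 8) := by
    rw [← alternatingGroup.commutator_perm_eq (α := Fin 8) (by simp), commutator_def, Subgroup.map_commutator,
      ← MonoidHom.range_eq_map, MonoidHom.range_eq_top.2 s.surjective, commutator_def]
  let e1 : Cfsg.Omega F (Cfsg.quadFormPlus 3 F) ≃* alternatingGroup (Fin 8) :=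
    (s.subgroupMap _).trans (MulEquiv.subgroupCongr hcomm)
  have hz : Subgroup.center (Cfsg.Omega F (Cfsg.quadFormPlus 3 F)) = ⊥ := by
    refine eq_bot_iff.2 fun x hx => ?_
    have h : e1 x ∈ Subgroup.center (alternatingGroup (Fin 8)) := Subgroup.mem_center_iff.2 fun y => by
      obtain ⟨y', rfl⟩ := e1.surjective y
      rw [← map_mul, ← map_mul, Subgroup.mem_center_iff.1 hx y']
    rw [alternatingGroup.center_eq_bot (by simp), Subgroup.mem_bot] at h
    exact Subgroup.mem_bot.2 (e1.injective (h.trans (map_one _).symm))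
  exact ⟨e.symm.trans (((QuotientGroup.quotientMulEquivOfEq hz).trans QuotientGroup.quotientBot).trans e1)⟩

theorem exists_order_fifteen : ∃ g : alternatingGroup (Fin 8), orderOf g = 15 := by
  let a : Equiv.Perm (Fin 8) := Equiv.swap 0 1 * Equiv.swap 1 2 * Equiv.swap 2 3 * Equiv.swap 3 4
  let b : Equiv.Perm (Fin 8) := Equiv.swap 5 6 * Equiv.swap 6 7
  have hm : a * b ∈ alternatingGroup (Fin 8) := Equiv.Perm.mem_alternatingGroup.2 (by
    simp [a, b, Equiv.Perm.sign_swap])
  have h5 : Fact (Nat.Prime 5) := ⟨by norm_num⟩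
  have h3 : Fact (Nat.Prime 3) := ⟨by norm_num⟩
  have oa : orderOf a = 5 := orderOf_eq_prime (by decide +kernel) (by decide +kernel)
  have ob : orderOf b = 3 := orderOf_eq_prime (by decide +kernel) (by decide +kernel)
  have hc : Commute a b := by unfold Commute SemiconjBy; decide +kernel
  exact ⟨⟨a * b, hm⟩, by
    rw [Subgroup.orderOf_mk, hc.orderOf_mul_eq_mul_orderOf_of_coprime (by rw [oa, ob]; norm_num), oa, ob]⟩

theorem card_eq_and_not_equiv {F K : Type*} [Field F] [Fintype F] [Field K] [Fintype K]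
    (hF : Fintype.card F = 2) (hK : Fintype.card K = 4) :
    Nat.card (Matrix.ProjectiveSpecialLinearGroup (Fin 4) F)
        = Nat.card (Matrix.ProjectiveSpecialLinearGroup (Fin 3) K) ∧
      ¬ Nonempty (Matrix.ProjectiveSpecialLinearGroup (Fin 4) F ≃* Matrix.ProjectiveSpecialLinearGroup (Fin 3) K) := by
  obtain ⟨e⟩ := psl_four_two hF
  refine ⟨?_, fun ⟨e'⟩ => ?_⟩
  · have h1 := card_psl_mul (ι := Fin 3) (F := K)
    have h2 := card_sl_mul hK 3 (by norm_num)
    rw [Nat.card_congr e.toEquiv, nat_card_alternatingGroup, Nat.card_fin]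
    rw [Fintype.card_fin, hK, show Nat.gcd 3 (4 - 1) = 3 from rfl] at h1
    simp [Fin.prod_univ_three] at h2
    simp [Nat.factorial] at h1 ⊢
    omega
  · obtain ⟨g, hg⟩ := exists_order_fifteen
    exact orderOf_ne_fifteen hK _ ((MulEquiv.orderOf_eq (e.symm.trans e') g).trans hg)

end Cfsg.Agent.Classical.L34
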