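import Mathlib
import Cfsg.Prelude.Def_ClassicalGeometry
import Cfsg.Prelude.Def_LieClassical
import Cfsg.Agent.Classical.SympGroup
import Cfsg.Agent.Classical.HermGroup
import Cfsg.Agent.Classical.SymmTwo

/-!
The stabiliser of a non-degenerate subspace in the isometry group of a bilinear or sesquilinear form is the product
of the isometry groups of the subspace and of its perpendicular.
-/

set_option autoImplicit false

namespace Cfsg.Agent.Classical

open Module

section general

variable {F V : Type*} [Field F] [AddCommGroup V] [Module F V]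

/-- The linear maps preserving a two-variable function. -/
def fGroup (f : V → V → F) : Subgroup (V ≃ₗ[F] V) where
  carrier := {g | ∀ x y, f (g x) (g y) = f x y}
  mul_mem' {a b} ha hb x y := by rw [LinearEquiv.mul_apply, LinearEquiv.mul_apply, ha, hb]
  one_mem' _ _ := rfl
  inv_mem' {a} ha x y := by
    have h := ha (a⁻¹ x) (a⁻¹ y)
    rw [← LinearEquiv.mul_apply, ← LinearEquiv.mul_apply, mul_inv_cancel] at h
    exact h.symm

theorem mem_fGroup {f : V → V → F} {g : V ≃ₗ[F] V} : g ∈ fGroup f ↔ ∀ x y, f (g x) (g y) = f x y := Iff.rfl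

/-- The form on a subspace. -/
def onSub (f : V → V → F) (W : Submodule F V) (x y : W) : F := f x y

/-- Transport of the isometry group along coordinates. -/
def fCongr {V' : Type*} [AddCommGroup V'] [Module F V'] {f : V → V → F} {f' : V' → V' → F} (e : V ≃ₗ[F] V')
    (he : ∀ x y, f' (e x) (e y) = f x y) : fGroup f ≃* fGroup f' where
  toFun g := ⟨e.symm.trans (g.1.trans e), fun x y => by
    simp only [LinearEquiv.trans_apply]
    rw [he, g.2, ← he, e.apply_symm_apply, e.apply_symm_apply]⟩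
  invFun g := ⟨e.trans (g.1.trans e.symm), fun x y => by
    simp only [LinearEquiv.trans_apply]
    rw [← he, e.apply_symm_apply, e.apply_symm_apply, g.2, he]⟩
  left_inv g := Subtype.ext (LinearEquiv.ext fun x => by simp)
  right_inv g := Subtype.ext (LinearEquiv.ext fun x => by simp)
  map_mul' g h := Subtype.ext (LinearEquiv.ext fun x => by simp [LinearEquiv.mul_apply])

variable {f : V → V → F} {W U : Submodule F V} (hc : IsCompl W U)
  (hsplit : ∀ w ∈ W, ∀ u ∈ U, ∀ w' ∈ W, ∀ u' ∈ U, f (w + u) (w' + u') = f w w' + f u u')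
  (hperp : ∀ x, x ∈ U ↔ ∀ w ∈ W, f w x = 0)

/-- The stabiliser of a set. -/
def setStab (S : Set V) : Subgroup (V ≃ₗ[F] V) where
  carrier := {g | ∀ v, v ∈ S ↔ g v ∈ S}
  mul_mem' {a b} ha hb v := (hb v).trans (ha _)
  one_mem' _ := Iff.rfl
  inv_mem' {a} ha v := by
    have h := ha (a⁻¹ v)
    rw [← LinearEquiv.mul_apply, mul_inv_cancel] at h
    exact h.symm

theorem mem_setStab {S : Set V} {g : V ≃ₗ[F] V} : g ∈ setStab S ↔ ∀ v, v ∈ S ↔ g v ∈ S := Iff.rfl

include hc hsplit hperp in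
theorem exists_splitEquiv :
    Nonempty (↥(fGroup f ⊓ setStab (W : Set V)) ≃* fGroup (onSub f W) × fGroup (onSub f U)) := by
  have hU : ∀ g ∈ fGroup f ⊓ setStab (W : Set V), ∀ x, x ∈ U ↔ g x ∈ U := by
    rintro g ⟨hg, hgW⟩ x
    rw [hperp, hperp]
    refine ⟨fun h w hw => ?_, fun h w hw => ?_⟩
    · rw [← g.apply_symm_apply w, hg]
      exact h _ ((hgW _).2 (by rwa [g.apply_symm_apply]))
    · rw [← hg]
      exact h _ ((hgW w).1 hw)
  let pW : V ≃ₗ[F] W × U := (Submodule.prodEquivOfIsCompl W U hc).symm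
  have hp : ∀ a : W × U, pW.symm a = (a.1 : V) + a.2 := fun a => rfl
  let resW : ∀ g : ↥(fGroup f ⊓ setStab (W : Set V)), W ≃ₗ[F] W := fun g =>
    (g.1.submoduleMap W).trans (LinearEquiv.ofEq _ _ (by
      ext v
      exact ⟨by rintro ⟨w, hw, rfl⟩; exact (g.2.2 w).1 hw,
        fun hv => ⟨g.1.symm v, (g.2.2 _).2 (by rwa [g.1.apply_symm_apply]), g.1.apply_symm_apply v⟩⟩))
  let resU : ∀ g : ↥(fGroup f ⊓ setStab (W : Set V)), U ≃ₗ[F] U := fun g =>
    (g.1.submoduleMap U).trans (LinearEquiv.ofEq _ _ (by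
      ext v
      exact ⟨by rintro ⟨w, hw, rfl⟩; exact (hU _ g.2 w).1 hw,
        fun hv => ⟨g.1.symm v, (hU _ g.2 _).2 (by rwa [g.1.apply_symm_apply]), g.1.apply_symm_apply v⟩⟩))
  let glue : fGroup (onSub f W) × fGroup (onSub f U) → (V ≃ₗ[F] V) := fun p =>
    pW.trans ((p.1.1.prodCongr p.2.1).trans pW.symm)
  have happ : ∀ (p : fGroup (onSub f W) × fGroup (onSub f U)) (a : W × U),
      glue p (pW.symm a) = (p.1.1 a.1 : V) + p.2.1 a.2 := fun p a => by
    simp only [glue, LinearEquiv.trans_apply, LinearEquiv.apply_symm_apply]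
    rw [hp]
    rfl
  have hglue : ∀ p, glue p ∈ fGroup f ⊓ setStab (W : Set V) := fun p => by
    refine ⟨fun x y => ?_, fun v => ?_⟩
    · obtain ⟨a, rfl⟩ := pW.symm.surjective x
      obtain ⟨b, rfl⟩ := pW.symm.surjective y
      rw [happ, happ, hp, hp, hsplit _ (p.1.1 a.1).2 _ (p.2.1 a.2).2 _ (p.1.1 b.1).2 _ (p.2.1 b.2).2,
        hsplit _ a.1.2 _ a.2.2 _ b.1.2 _ b.2.2]
      exact congrArg₂ (· + ·) (p.1.2 a.1 b.1) (p.2.2 a.2 b.2)
    · obtain ⟨a, rfl⟩ := pW.symm.surjective v
      rw [happ, hp]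
      have key : ∀ (w : W) (u : U), (w : V) + u ∈ W ↔ u = 0 := fun w u => by
        refine ⟨fun h => Subtype.ext (Submodule.disjoint_def.1 hc.disjoint _ ?_ u.2), fun h => by simp [h]⟩
        simpa using W.sub_mem h w.2
      rw [SetLike.mem_coe, key, SetLike.mem_coe, key, LinearEquiv.map_eq_zero_iff]
  refine ⟨MulEquiv.symm
    { toFun := fun p => ⟨glue p, hglue p⟩
      invFun := fun g => (⟨resW g, fun x y => g.2.1 _ _⟩, ⟨resU g, fun x y => g.2.1 _ _⟩)
      left_inv := fun p => ?_
      right_inv := fun g => ?_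
      map_mul' := fun p p' => ?_ }⟩
  · refine Prod.ext (Subtype.ext (LinearEquiv.ext fun x => Subtype.ext ?_))
      (Subtype.ext (LinearEquiv.ext fun x => Subtype.ext ?_))
    · show glue p x = _
      have h := happ p (x, 0)
      rw [hp] at h
      simpa using h
    · show glue p x = _
      have h := happ p (0, x)
      rw [hp] at h
      simpa using h
  · refine Subtype.ext (LinearEquiv.ext fun v => ?_)
    obtain ⟨a, rfl⟩ := pW.symm.surjective v
    show glue _ (pW.symm a) = _
    rw [happ, hp, map_add]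
    rfl
  · refine Subtype.ext (LinearEquiv.ext fun v => ?_)
    obtain ⟨a, rfl⟩ := pW.symm.surjective v
    show glue (p * p') (pW.symm a) = glue p (glue p' (pW.symm a))
    rw [happ, happ, ← hp (p'.1.1 a.1, p'.2.1 a.2), happ]
    rfl

end general

section bridge

variable {F : Type*} [Field F] {ι : Type} [Fintype ι] [DecidableEq ι]

/-- Invertible matrices as linear automorphisms. -/
noncomputable def glAut : GL ι F ≃* ((ι → F) ≃ₗ[F] (ι → F)) :=
  Matrix.GeneralLinearGroup.toLin.trans (LinearMap.GeneralLinearGroup.generalLinearEquiv F (ι → F))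

theorem glAut_apply (g : GL ι F) (x : ι → F) : glAut g x = g.1.mulVec x := rfl

theorem exists_stab_equiv {f : (ι → F) → (ι → F) → F} (S : Set (ι → F)) (P : Subgroup (GL ι F))
    (hP : ∀ g, g ∈ P ↔ ∀ u v, f (g.1.mulVec u) (g.1.mulVec v) = f u v) :
    Nonempty (↥((Cfsg.stabilizing (Units.coeHom (Matrix ι ι F)) S).subgroupOf P) ≃* ↥(fGroup f ⊓ setStab S)) := by
  have h : (P ⊓ Cfsg.stabilizing (Units.coeHom (Matrix ι ι F)) S).map glAut.toMonoidHom = fGroup f ⊓ setStab S := by
    ext g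
    obtain ⟨g, rfl⟩ := glAut.surjective g
    rw [Subgroup.mem_map_equiv, MulEquiv.symm_apply_apply, Subgroup.mem_inf,
      Subgroup.mem_inf, hP]
    rfl
  let f' : (Cfsg.stabilizing (Units.coeHom (Matrix ι ι F)) S).subgroupOf P ≃*
      ↥(P ⊓ Cfsg.stabilizing (Units.coeHom (Matrix ι ι F)) S) :=
    { toFun := fun x => ⟨x.1.1, x.1.2, x.2⟩
      invFun := fun x => ⟨⟨x.1, x.2.1⟩, x.2.2⟩
      left_inv := fun _ => rfl
      right_inv := fun _ => rfl
      map_mul' := fun _ _ => rfl }
  exact ⟨f'.trans ((glAut.subgroupMap _).trans (MulEquiv.subgroupCongr h))⟩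

theorem exists_iso_equiv {f : (ι → F) → (ι → F) → F} (P : Subgroup (GL ι F))
    (hP : ∀ g, g ∈ P ↔ ∀ u v, f (g.1.mulVec u) (g.1.mulVec v) = f u v) : Nonempty (↥P ≃* ↥(fGroup f)) := by
  have h : P.map glAut.toMonoidHom = fGroup f := by
    ext g
    obtain ⟨g, rfl⟩ := glAut.surjective g
    rw [Subgroup.mem_map_equiv, MulEquiv.symm_apply_apply, hP]
    rfl
  exact ⟨(glAut.subgroupMap _).trans (MulEquiv.subgroupCongr h)⟩

end bridge

section symplectic

variable {F V : Type*} [Field F] [AddCommGroup V] [Module F V] [FiniteDimensional F V]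

theorem exists_spEquiv' {B : LinearMap.BilinForm F V} (hA : B.IsAlt) (hB : B.Nondegenerate) {n : ℕ}
    (hd : finrank F V = 2 * n) :
    Nonempty (fGroup (fun x y => B x y) ≃* Matrix.symplecticGroup (Fin n) F) := by
  obtain ⟨e⟩ := Symm2.exists_spEquiv hA hB hd
  exact ⟨(MulEquiv.subgroupCongr (show fGroup (fun x y => B x y) = Alt.isoGroup B from rfl)).trans e⟩

end symplectic

theorem sp_stab_split {F : Type*} [Field F] {m k : ℕ} (hk : k ≤ m) (W : Submodule F (Fin m ⊕ Fin m → F))
    (hWk : finrank F W = 2 * k) (hW : ∀ u ∈ W, (∀ v ∈ W, Cfsg.sympForm m F u v = 0) → u = 0) :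
    Nonempty (↥(Cfsg.stabilizing (Cfsg.spToMat m F) (W : Set (Fin m ⊕ Fin m → F))) ≃*
      Matrix.symplecticGroup (Fin k) F × Matrix.symplecticGroup (Fin (m - k)) F) := by
  let B := sympB m F
  have hA : B.IsAlt := sympB_isAlt
  let U : Submodule F (Fin m ⊕ Fin m → F) := B.orthogonal W
  have hU : ∀ x, x ∈ U ↔ ∀ w ∈ W, B w x = 0 := fun x => Iff.rfl
  have hBW : (B.restrict W).Nondegenerate := by
    have key : ∀ u : W, (∀ v : W, B u v = 0) → u = 0 := fun u hu =>
      Subtype.ext (hW u u.2 fun v hv => by rw [← sympB_apply]; exact hu ⟨v, hv⟩)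
    exact ⟨key, fun u hu => key u fun v => by rw [Alt.neg' hA (v : Fin m ⊕ Fin m → F)]; simpa using hu v⟩
  have hrefl : B.IsRefl := hA.isRefl
  have hcompl : IsCompl W U := LinearMap.BilinForm.isCompl_orthogonal_of_restrict_nondegenerate hrefl hBW
  have hBU : (B.restrict U).Nondegenerate := by
    have key : ∀ u : U, (∀ v : U, B u v = 0) → u = 0 := fun u hu => by
      refine Subtype.ext ((sympB_nondeg (m := m) (F := F)).1 u fun x => ?_)
      obtain ⟨a, ha, b, hb, rfl⟩ := Submodule.mem_sup.1 (hcompl.sup_eq_top.symm ▸ Submodule.mem_top (x := x))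
      rw [map_add, hrefl a u ((hU u).1 u.2 a ha), zero_add]
      exact hu ⟨b, hb⟩
    exact ⟨key, fun u hu => key u fun v => by rw [Alt.neg' hA (v : Fin m ⊕ Fin m → F)]; simpa using hu v⟩
  have hsplit : ∀ w ∈ W, ∀ u ∈ U, ∀ w' ∈ W, ∀ u' ∈ U, B (w + u) (w' + u') = B w w' + B u u' := by
    intro w hw u hu w' hw' u' hu'
    simp only [map_add, LinearMap.add_apply, (hU u').1 hu' w hw, hrefl w' u ((hU u).1 hu w' hw'), zero_add,
      add_zero]
  obtain ⟨e0⟩ := exists_splitEquiv (f := fun x y => B x y) hcompl hsplit hU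
  have hfr : finrank F U = 2 * (m - k) := by
    have := Submodule.finrank_add_eq_of_isCompl hcompl
    rw [hWk, Module.finrank_fintype_fun_eq_card, Fintype.card_sum, Fintype.card_fin] at this
    omega
  obtain ⟨e1⟩ := exists_spEquiv' (B := B.restrict W) (fun x => hA x.1) hBW hWk
  obtain ⟨e2⟩ := exists_spEquiv' (B := B.restrict U) (fun x => hA x.1) hBU hfr
  let φ : Cfsg.stabilizing (Cfsg.spToMat m F) (W : Set (Fin m ⊕ Fin m → F)) ≃*
      ↥(fGroup (fun x y => B x y) ⊓ setStab (W : Set (Fin m ⊕ Fin m → F))) :=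
    { toFun := fun x => ⟨((spEquiv m F x.1).1), (spEquiv m F x.1).2, fun v => x.2 v⟩
      invFun := fun g => ⟨(spEquiv m F).symm ⟨g.1, g.2.1⟩, fun v => by
        have h := spEquiv_apply ((spEquiv m F).symm ⟨g.1, g.2.1⟩) v
        rw [MulEquiv.apply_symm_apply] at h
        show v ∈ (W : Set _) ↔ ((spEquiv m F).symm ⟨g.1, g.2.1⟩).1.mulVec v ∈ (W : Set _)
        rw [← h]; exact g.2.2 v⟩
      left_inv := fun x => Subtype.ext ((spEquiv m F).symm_apply_apply x.1)
      right_inv := fun g => by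
        refine Subtype.ext ?_
        exact congrArg (Subtype.val : Alt.isoGroup (sympB m F) → _) ((spEquiv m F).apply_symm_apply (⟨g.1, g.2.1⟩ : Alt.isoGroup (sympB m F)))
      map_mul' := fun x y => by
        refine Subtype.ext ?_
        exact congrArg (Subtype.val : Alt.isoGroup (sympB m F) → _) (map_mul (spEquiv m F) x.1 y.1) }
  exact ⟨φ.trans (e0.trans (e1.prodCongr e2))⟩

theorem gu_stab_split {F : Type*} [Field F] [Fintype F] {q : ℕ} (hF : Fintype.card F = q ^ 2) {n k : ℕ} (hk : k ≤ n)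
    (W : Submodule F (Fin n → F)) (hWk : finrank F W = k)
    (hW : ∀ u ∈ W, (∀ v ∈ W, Cfsg.hermForm n F q u v = 0) → u = 0) :
    Nonempty (↥((Cfsg.stabilizing (Cfsg.glToMat (Fin n) F) (W : Set (Fin n → F))).subgroupOf (Cfsg.GU n F q)) ≃*
      ↥(Cfsg.GU k F q) × ↥(Cfsg.GU (n - k) F q)) := by
  obtain ⟨σ, hσq, hσ, -, -⟩ := exists_powHom hF
  have hf : ∀ d (u v : Fin d → F), Cfsg.hermForm d F q u v = hermB d σ v u := fun d => hermForm_eq hσq d
  have hH := hermB_isHerm hσ n
  let B := hermB n σ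
  let f : (Fin n → F) → (Fin n → F) → F := fun x y => B y x
  let U : Submodule F (Fin n → F) := ⨅ w : W, LinearMap.ker (B w)
  have hU : ∀ x, x ∈ U ↔ ∀ w ∈ W, f w x = 0 := fun x => by
    simp only [U, Submodule.mem_iInf, LinearMap.mem_ker, Subtype.forall]
    exact forall₂_congr fun w _ => Herm.eq_zero_comm hH
  have hWn : ∀ u ∈ W, (∀ v ∈ W, B v u = 0) → u = 0 := fun u hu h => hW u hu fun v hv => by
    rw [hf]; exact h v hv
  have hdis : Disjoint W U := Submodule.disjoint_def.2 fun x hxW hxU =>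
    hWn x hxW fun v hv => (Herm.eq_zero_comm hH).1 ((hU x).1 hxU v hv)
  have hle : n - k ≤ finrank F U := by
    let b := Module.finBasis F W
    let L : (Fin n → F) →ₗ[F] (Fin (finrank F W) → F) := LinearMap.pi fun i => B (b i)
    have hk : LinearMap.ker L ≤ U := fun x hx => by
      simp only [U, Submodule.mem_iInf, LinearMap.mem_ker]
      intro w
      rw [← b.sum_repr w]
      simp only [Submodule.coe_sum, Submodule.coe_smul, map_sum, map_smulₛₗ, LinearMap.sum_apply,
        LinearMap.smul_apply]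
      refine Finset.sum_eq_zero fun i _ => ?_
      rw [show B (b i : Fin n → F) x = 0 from congrFun (LinearMap.mem_ker.1 hx) i, smul_zero]
    have h1 := L.finrank_range_add_finrank_ker
    have h2 := Submodule.finrank_le (LinearMap.range L)
    have h3 := Submodule.finrank_mono hk
    rw [Module.finrank_fin_fun] at h1 h2
    omega
  have hsum := Submodule.finrank_sup_add_finrank_inf_eq W U
  rw [hdis.eq_bot, finrank_bot, hWk] at hsum
  have htop := Submodule.finrank_le (W ⊔ U)
  rw [Module.finrank_fin_fun] at htop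
  have hfr : finrank F U = n - k := by omega
  have hcompl : IsCompl W U := ⟨hdis, codisjoint_iff.2
    (Submodule.eq_top_of_finrank_eq (by rw [Module.finrank_fin_fun]; omega))⟩
  have hsplit : ∀ w ∈ W, ∀ u ∈ U, ∀ w' ∈ W, ∀ u' ∈ U, f (w + u) (w' + u') = f w w' + f u u' := by
    intro w hw u hu w' hw' u' hu'
    have e1 : B w' u = 0 := (Herm.eq_zero_comm hH).1 ((hU u).1 hu w' hw')
    have e2 : B u' w = 0 := (hU u').1 hu' w hw
    simp only [f, map_add, LinearMap.add_apply, e1, e2, zero_add, add_zero]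
  obtain ⟨e0⟩ := exists_splitEquiv hcompl hsplit hU
  have hsub : ∀ (X : Submodule F (Fin n → F)) (d : ℕ), finrank F X = d →
      (∀ x ∈ X, (∀ y ∈ X, B x y = 0) → x = 0) → Nonempty (↥(Cfsg.GU d F q) ≃* fGroup (onSub f X)) := by
    intro X d hd hX
    let BX : X →ₛₗ[σ] X →ₗ[F] F :=
      LinearMap.mk₂'ₛₗ σ (RingHom.id F) (fun x y : X => B (x : Fin n → F) (y : Fin n → F))
        (fun a b c => by simp) (fun a b c => by simp) (fun a b c => by simp) (fun a b c => by simp)
    have hXH : Herm.IsHerm BX :=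
      { toIsInvol := hσ
        symm := fun x y => hH.symm _ _
        nondeg := fun x hx => Subtype.ext (hX x x.2 fun y hy => hx ⟨y, hy⟩) }
    obtain ⟨b, hb⟩ := Herm.exists_orthonormal hXH
    subst hd
    have he : ∀ x y, onSub f X (b.equivFun.symm x) (b.equivFun.symm y) =
        Cfsg.hermForm (finrank F X) F q x y := fun x y => by
      rw [hf]
      show BX (b.equivFun.symm y) (b.equivFun.symm x) = _
      simp only [Basis.equivFun_symm_apply, map_sum, map_smulₛₗ, LinearMap.sum_apply, LinearMap.smul_apply,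
        hermB_apply, RingHom.id_apply, smul_eq_mul]
      refine Finset.sum_congr rfl fun i _ => ?_
      rw [Finset.sum_eq_single i (fun j _ hj => by rw [hb j i, if_neg hj]; ring)
        (fun h => absurd (Finset.mem_univ _) h), hb i i, if_pos rfl]
      ring
    obtain ⟨e⟩ := exists_iso_equiv (f := Cfsg.hermForm (finrank F X) F q) (Cfsg.GU (finrank F X) F q) fun _ => Iff.rfl
    exact ⟨e.trans (fCongr b.equivFun.symm he)⟩
  obtain ⟨e1⟩ := hsub W k hWk fun x hx h => hWn x hx fun y hy => (Herm.eq_zero_comm hH).1 (h y hy)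
  obtain ⟨e2⟩ := hsub U (n - k) hfr fun x hx h => hH.nondeg x fun z => by
    obtain ⟨a, ha, b, hb, rfl⟩ := Submodule.mem_sup.1 (hcompl.sup_eq_top.symm ▸ Submodule.mem_top (x := z))
    rw [map_add, h b hb, add_zero]
    exact (hU x).1 hx a ha
  obtain ⟨e⟩ := exists_stab_equiv (f := f) (W : Set (Fin n → F)) (Cfsg.GU n F q) fun g => by
    refine ⟨fun h u v => ?_, fun h u v => ?_⟩
    · exact (hf n _ _).symm.trans ((h u v).trans (hf n u v))
    · exact (hf n _ _).trans ((h u v).trans (hf n u v).symm)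
  exact ⟨e.trans (e0.trans (e1.symm.prodCongr e2.symm))⟩

end Cfsg.Agent.Classical
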