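import Mathlib
import Cfsg.Agent.Classical.PSLKlein
import Cfsg.Agent.Classical.SL2Gen

/-!
Subgroups A₄ and S₄ of PSL(2, q); order-four subgroups of SL(2, q).
-/

set_option autoImplicit false

namespace Cfsg.Agent.Classical.PKlein

open Matrix Cfsg.Agent.SL2Class

variable {F : Type*} [Field F] [Fintype F]

local notation "SG" => Matrix.SpecialLinearGroup (Fin 2) F
local notation "PG" => Matrix.ProjectiveSpecialLinearGroup (Fin 2) F
local notation:1024 "↥ₘ" A:1024 => ((A : Matrix.SpecialLinearGroup (Fin 2) F) : Matrix (Fin 2) (Fin 2) F)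

theorem klein_conj_statement (h2 : (2 : F) ≠ 0) {q : ℕ} (hF : Fintype.card F = q) :
    ((q % 8 = 3 ∨ q % 8 = 5) → ∀ V W : Subgroup PG, IsKleinFour V → IsKleinFour W →
      ∃ g : PG, W = V.map (MulAut.conj g).toMonoidHom) ∧
    ((q % 8 = 1 ∨ q % 8 = 7) → ∃ V₁ V₂ : Subgroup PG, IsKleinFour V₁ ∧ IsKleinFour V₂ ∧
      (¬ ∃ g : PG, V₂ = V₁.map (MulAut.conj g).toMonoidHom) ∧ ∀ W : Subgroup PG, IsKleinFour W →
        (∃ g : PG, W = V₁.map (MulAut.conj g).toMonoidHom) ∨ (∃ g : PG, W = V₂.map (MulAut.conj g).toMonoidHom)) := by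
  refine ⟨fun hq V W hV hW => one_class h2 hF hq V W hV hW, fun hq => ?_⟩
  obtain ⟨V₁, V₂, h1, h3, h4, h5, -⟩ := two_classes h2 hF hq
  exact ⟨V₁, V₂, h1, h3, h4, h5⟩

theorem two_ne (hodd : Odd (Fintype.card F)) : (2 : F) ≠ 0 := Classical.two_ne_zero_of_odd hodd

theorem two_eq_zero_of_even (he : Even (Fintype.card F)) : (2 : F) = 0 := by
  by_contra h
  have := card_odd_of_two_ne_zero h
  rw [Nat.even_iff] at he
  omega

theorem no_order_four (h2 : (2 : F) = 0) (x : PG) : orderOf x ≠ 4 := by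
  have hc : CharP F 2 := CharTwo.of_one_ne_zero_of_two_eq_zero one_ne_zero h2
  have : Fact (Nat.Prime 2) := ⟨Nat.prime_two⟩
  obtain ⟨g, rfl⟩ := proj_surjective x
  intro h
  have he := FiniteField.even_card_of_char_two (ringChar.eq F 2)
  have h1 := Fintype.one_lt_card (α := F)
  have hg : Nat.gcd 2 (Fintype.card F - 1) = 1 := Nat.prime_two.coprime_iff_not_dvd.2 (by omega)
  rcases orderOf_proj_dvd g 2 with h' | h' | h' <;> rw [h] at h'
  · omega
  · rw [hg, Nat.div_one] at h'; obtain ⟨c, hc⟩ := h'; omega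
  · rw [hg, Nat.div_one] at h'; obtain ⟨c, hc⟩ := h'; omega

theorem sym_four_iff {q : ℕ} (hF : Fintype.card F = q) :
    (∃ H : Subgroup PG, Nonempty (H ≃* Equiv.Perm (Fin 4))) ↔ q ^ 2 % 16 = 1 := by
  have key : ∀ r : ℕ, q % 8 = r → q ^ 2 % 16 = r ^ 2 % 16 := by
    intro r hr
    obtain ⟨k, rfl⟩ : ∃ k, q = 8 * k + r := ⟨q / 8, by omega⟩
    rw [show (8 * k + r) ^ 2 = r ^ 2 + 16 * (4 * k ^ 2 + k * r) by ring, Nat.add_mul_mod_self_left]
  constructor
  · rintro ⟨H, ⟨e⟩⟩
    by_cases hodd : Odd q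
    · have h2 := two_ne (F := F) (hF ▸ hodd)
      have h8 : 8 ∣ Nat.card PG := by
        have h := Subgroup.card_subgroup_dvd_card H
        rw [Nat.card_congr e.toEquiv, Nat.card_perm, Nat.card_fin] at h
        exact dvd_trans (by decide : 8 ∣ Nat.factorial 4) h
      rw [Nat.odd_iff] at hodd
      rcases (show q % 8 = 1 ∨ q % 8 = 7 ∨ (q % 8 = 3 ∨ q % 8 = 5) by omega) with h | h | h
      · rw [key _ h]; rfl
      · rw [key _ h]; rfl
      · exact absurd h8 ((card_pg_two_part h2 hF).2 h)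
    · exfalso
      rw [Nat.not_odd_iff_even] at hodd
      let c : Equiv.Perm (Fin 4) := Equiv.swap 0 1 * Equiv.swap 1 2 * Equiv.swap 2 3
      have oc : orderOf c = 4 := orderOf_eq_prime_pow (p := 2) (n := 1) (by decide +kernel) (by decide +kernel)
      refine no_order_four (two_eq_zero_of_even (F := F) (hF ▸ hodd)) (e.symm c).1 ?_
      rw [Subgroup.orderOf_coe, MulEquiv.orderOf_eq, oc]
  · intro h
    have hodd : Odd q := by
      rw [Nat.odd_iff]
      by_contra hcon
      obtain ⟨k, rfl⟩ : ∃ k, q = 2 * k := ⟨q / 2, by omega⟩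
      rw [mul_pow] at h
      omega
    rw [Nat.odd_iff] at hodd
    have hq : q % 8 = 1 ∨ q % 8 = 7 := by
      rcases (show q % 8 = 1 ∨ q % 8 = 7 ∨ q % 8 = 3 ∨ q % 8 = 5 by omega) with h' | h' | h' | h'
      · exact Or.inl h'
      · exact Or.inr h'
      · rw [key _ h'] at h; exact absurd h (by norm_num)
      · rw [key _ h'] at h; exact absurd h (by norm_num)
    have h2 := two_ne (F := F) (hF ▸ Nat.odd_iff.2 hodd)
    obtain ⟨V, -, hV, -, -, -, h24⟩ := two_classes h2 hF hq
    exact ⟨_, (KleinN.normalizer_equiv V (centralizer_klein h2 V)).1 h24⟩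

theorem upper_of_commute_root {b : SG} (hb : b * rootHomSL (Multiplicative.ofAdd (1 : F)) =
    rootHomSL (Multiplicative.ofAdd (1 : F)) * b) : b.1 1 0 = 0 ∧ b.1 0 0 = b.1 1 1 := by
  have h := congrArg (fun A : SG => ↥ₘ A) hb
  simp only [Matrix.SpecialLinearGroup.coe_mul, rootHomSL_coe, toAdd_ofAdd] at h
  have h00 := congrFun (congrFun h 0) 0
  have h01 := congrFun (congrFun h 0) 1
  simp [Matrix.mul_apply, Fin.sum_univ_two] at h00 h01
  exact ⟨h00, by linear_combination h01⟩

omit [Fintype F] in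
theorem eq_root {g : SG} (h10 : g.1 1 0 = 0) (h00 : g.1 0 0 = 1) :
    g = rootHomSL (Multiplicative.ofAdd (g.1 0 1)) := by
  have hd := det_eq g
  rw [h10, h00, one_mul, mul_zero, sub_zero] at hd
  refine Subtype.ext ?_
  rw [rootHomSL_coe]
  ext i j
  fin_cases i <;> fin_cases j <;> simp [h10, h00, hd]

theorem sq_one_imp_one (h2 : (2 : F) = 0) {a : F} (h : a * a = 1) : a = 1 := by
  have : (a - 1) * (a - 1) = 0 := by linear_combination h + (1 - a) * h2
  exact sub_eq_zero.1 (mul_self_eq_zero.1 this)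

theorem no_alt_four (h2 : (2 : F) = 0) (h3 : Nat.Coprime 3 (Fintype.card F - 1)) (a t : SG) (ha : a * a = 1)
    (ha1 : a ≠ 1) (ht : t ^ 3 = 1) (hne : t * a * t⁻¹ ≠ a) (hcomm : Commute (t * a * t⁻¹) a) : False := by
  set u : SG := rootHomSL (Multiplicative.ofAdd (1 : F))
  have hu : ↥ₘ u = !![1, 1; 0, 1] := by rw [rootHomSL_coe, toAdd_ofAdd]
  have huns : NonScalar u := fun h => by simpa [hu] using h.1
  have hans : NonScalar a := by
    intro hs
    obtain ⟨e1, e2, e3⟩ := hs
    have hd := det_eq a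
    rw [e1, ← e3, zero_mul, sub_zero] at hd
    have h1 := sq_one_imp_one h2 hd
    refine ha1 (Subtype.ext ?_)
    ext i j
    fin_cases i <;> fin_cases j <;> simp [e1, e2, ← e3, h1]
  have hatr : tr a = 0 := by
    have e := g_sq a
    rw [← Matrix.SpecialLinearGroup.coe_mul, ha, Matrix.SpecialLinearGroup.coe_one, ← lin_one a] at e
    exact (lin_ext hans e).2.symm
  have hutr : tr u = 0 := by simp [tr, hu]; linear_combination h2
  obtain ⟨c, hc⟩ := isConj_iff.1 (isConj_of_tr hans huns (hatr.trans hutr.symm) (Or.inr h2))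
  set t' := c * t * c⁻¹
  set b := t' * u * t'⁻¹ with hb
  have hbe : b = c * (t * a * t⁻¹) * c⁻¹ := by rw [hb, ← hc]; simp [t', mul_assoc]
  have hbu : b * u = u * b := by
    rw [hbe, ← hc, show c * (t * a * t⁻¹) * c⁻¹ * (c * a * c⁻¹) = c * (t * a * t⁻¹ * a) * c⁻¹ by group, hcomm.eq]
    group
  obtain ⟨b10, -⟩ := upper_of_commute_root hbu
  have hconj := conj_rootHomSL t' (Multiplicative.ofAdd (1 : F))
  have hb10 := congrFun (congrFun hconj 1) 0
  rw [show (t' * rootHomSL (Multiplicative.ofAdd (1 : F)) * t'⁻¹ : SG) = b from rfl, b10] at hb10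
  simp at hb10
  have t10 : t'.1 1 0 = 0 := hb10
  have ht' : t' ^ 3 = 1 := by rw [conj_pow, ht, mul_one, mul_inv_cancel]
  have h00 : t'.1 0 0 ^ 3 = 1 := by
    have := congrArg (fun A : SG => (↥ₘ A) 0 0) ht'
    simp [pow_succ, Matrix.mul_apply, Fin.sum_univ_two, t10] at this
    linear_combination this
  have hA : t'.1 0 0 = 1 := by
    have hne0 : t'.1 0 0 ≠ 0 := fun h0 => by rw [h0] at h00; simp at h00
    have hu' : (Units.mk0 _ hne0) ^ 3 = (1 : Fˣ) := Units.ext (by simpa using h00)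
    have h1 : orderOf (Units.mk0 _ hne0) ∣ 3 := orderOf_dvd_of_pow_eq_one hu'
    have h4 : orderOf (Units.mk0 _ hne0) ∣ Fintype.card F - 1 := by
      rw [← Classical.card_units_field]; exact orderOf_dvd_natCard _
    have := orderOf_eq_one_iff.1 (Nat.eq_one_of_dvd_coprimes h3 h1 h4)
    exact congrArg Units.val this
  have hbb : b = u := by
    rw [hb, conj_rootHomSL_mem_of_upper t10, hA]
    simp [u]
  apply hne
  rw [hbe, ← hc] at hbb
  exact mul_left_cancel (mul_right_cancel hbb)

theorem alt_four_char_two (h2 : (2 : F) = 0) (h3 : 3 ∣ Fintype.card F - 1) :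
    ∃ H : Subgroup PG, Nonempty (H ≃* alternatingGroup (Fin 4)) := by
  classical
  have : Fact (Nat.Prime 3) := ⟨Nat.prime_three⟩
  obtain ⟨w, hw⟩ := exists_prime_orderOf_dvd_card' (G := Fˣ) 3 (by rw [Classical.card_units_field]; exact h3)
  have hw3 : (w : F) ^ 3 = 1 := by
    rw [← Units.val_pow_eq_pow_val, ← hw, pow_orderOf_eq_one, Units.val_one]
  have hw1 : (w : F) ≠ 1 := fun h => by
    rw [show w = 1 from Units.ext h, orderOf_one] at hw; omega
  have hq : (w : F) ^ 2 + w + 1 = 0 :=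
    (mul_eq_zero.1 (show ((w : F) - 1) * ((w : F) ^ 2 + w + 1) = 0 by linear_combination hw3)).resolve_left
      (sub_ne_zero.2 hw1)
  have hπ : Function.Injective (proj (F := F)) := (injective_iff_map_eq_one _).2 fun x hx => by
    have := proj_eq_one.1 hx
    rwa [center_eq_bot h2, Subgroup.mem_bot] at this
  let u : F → SG := fun b => rootHomSL (Multiplicative.ofAdd b)
  have uadd : ∀ a b, u a * u b = u (a + b) := fun a b => by simp [u, ← map_mul, ← ofAdd_add]
  have u0 : u 0 = 1 := by simp [u]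
  have uinj : ∀ a b, proj (u a) = proj (u b) → a = b := fun a b h => by
    simpa [u] using rootHomSL_injective (hπ h)
  have u1 : proj (u 1) ≠ 1 := fun h => one_ne_zero (uinj 1 0 (by rw [h, u0, map_one]))
  have uw : proj (u w) ≠ 1 := fun h => w.ne_zero (uinj w 0 (by rw [h, u0, map_one]))
  have hsq : ∀ a, proj (u a) * proj (u a) = 1 := fun a => by
    rw [← map_mul proj, uadd, ← two_mul, h2, zero_mul, u0, map_one]
  have hc : proj (u 1) * proj (u w) = proj (u w) * proj (u 1) := by
    rw [← map_mul proj, ← map_mul proj, uadd, uadd, add_comm]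
  let V := KleinN.ofPair (proj (u 1)) (proj (u w)) (hsq 1) (hsq w) hc
  have : IsKleinFour V := KleinN.isKleinFour_ofPair (hsq 1) (hsq w) hc u1 uw (fun h => hw1 (uinj 1 w h).symm)
  let t0 : SG := ⟨!![(w : F) ^ 2, 0; 0, (w : F)], by
    rw [Matrix.det_fin_two_of, mul_zero, sub_zero, ← pow_succ, hw3]⟩
  have tu : ∀ b, t0 * u b * t0⁻¹ = u ((w : F) * b) := fun b => by
    show t0 * rootHomSL _ * t0⁻¹ = _
    rw [conj_rootHomSL_mem_of_upper (by simp [t0])]
    simp only [u, toAdd_ofAdd]
    congr 2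
    simp only [t0, Matrix.of_apply, Matrix.cons_val', Matrix.cons_val_zero, Matrix.empty_val',
      Matrix.cons_val_fin_one]
    linear_combination b * (w : F) * hw3
  have tconj : ∀ b, proj t0 * proj (u b) * (proj t0)⁻¹ = proj (u ((w : F) * b)) := fun b => by
    rw [← map_inv, ← map_mul, ← map_mul, tu]
  have tV : ∀ v ∈ V, proj t0 * v * (proj t0)⁻¹ ∈ V := by
    intro v hv
    rcases KleinN.mem_ofPair.1 hv with rfl | rfl | rfl | rfl
    · simp
    · rw [tconj, mul_one]; exact KleinN.mem_ofPair.2 (Or.inr (Or.inr (Or.inl rfl)))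
    · rw [tconj]
      refine KleinN.mem_ofPair.2 (Or.inr (Or.inr (Or.inr ?_)))
      rw [← map_mul proj, uadd]
      exact congrArg (fun x => proj (u x)) (by linear_combination hq - (w + 1) * h2)
    · rw [← map_mul proj, uadd, tconj]
      refine KleinN.mem_ofPair.2 (Or.inr (Or.inl ?_))
      exact congrArg (fun x => proj (u x)) (by linear_combination hq - h2)
  have tN : proj t0 ∈ Subgroup.normalizer (V : Set PG) := Subgroup.mem_normalizer_fintype tV
  set N := Subgroup.normalizer (V : Set PG) with hN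
  let W := V.subgroupOf N
  have : W.Normal := Subgroup.normal_in_normalizer
  let H₀ : Subgroup N := (Subgroup.zpowers (QuotientGroup.mk' W ⟨proj t0, tN⟩)).comap (QuotientGroup.mk' W)
  have ht3 : (proj t0) ^ 3 = 1 := by
    rw [← map_pow, show t0 ^ 3 = 1 from Subtype.ext (by
      ext i j
      rw [Matrix.SpecialLinearGroup.coe_pow]
      fin_cases i <;> fin_cases j <;> simp [t0, pow_succ, Matrix.mul_apply, Fin.sum_univ_two]
      · linear_combination ((w : F) ^ 3 + 1) * hw3
      · linear_combination hw3), map_one]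
  have htV : proj t0 ∉ V := by
    intro h
    have hcomm := congrArg Subtype.val
      (mul_comm_of_exponent_two IsKleinFour.exponent_two (⟨proj t0, h⟩ : V) ⟨proj (u 1), KleinN.mem_ofPair.2 (Or.inr (Or.inl rfl))⟩)
    have := tconj 1
    rw [show proj t0 * proj (u 1) = proj (u 1) * proj t0 from hcomm, mul_inv_cancel_right, mul_one] at this
    exact hw1 (uinj 1 w this).symm
  have hord : orderOf (QuotientGroup.mk' W ⟨proj t0, tN⟩) = 3 := by
    refine orderOf_eq_prime ?_ ?_
    · rw [← map_pow, show (⟨proj t0, tN⟩ : N) ^ 3 = 1 from Subtype.ext ht3, map_one]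
    · rw [Ne, QuotientGroup.mk'_apply, QuotientGroup.eq_one_iff]
      exact htV
  have hWH : W ≤ H₀ := fun x hx => by
    rw [Subgroup.mem_comap, show QuotientGroup.mk' W x = 1 from (QuotientGroup.eq_one_iff x).2 hx]
    exact Subgroup.one_mem _
  have hcardW : Nat.card W = 4 := (Nat.card_congr (Subgroup.subgroupOfEquivOfLe
    (Subgroup.le_normalizer : V ≤ N)).toEquiv).trans IsKleinFour.card_four
  have hidx : H₀.index * 3 = W.index := by
    rw [Subgroup.index_comap_of_surjective _ (QuotientGroup.mk'_surjective W), ← hord, ← Nat.card_zpowers,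
      Subgroup.index_mul_card]
    rfl
  have hcardH : Nat.card H₀ = 12 := by
    have e1 := H₀.card_mul_index
    have e2 := W.card_mul_index
    rw [← hidx, hcardW] at e2
    have hpos : 0 < H₀.index := Nat.pos_of_ne_zero Subgroup.index_ne_zero_of_finite
    nlinarith
  let V' := W.subgroupOf H₀
  have : IsKleinFour V' :=
    ⟨(Nat.card_congr (Subgroup.subgroupOfEquivOfLe hWH).toEquiv).trans hcardW,
      (Monoid.exponent_eq_of_mulEquiv ((Subgroup.subgroupOfEquivOfLe hWH).trans
        (Subgroup.subgroupOfEquivOfLe (Subgroup.le_normalizer : V ≤ N)))).trans IsKleinFour.exponent_two⟩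
  have hC : Subgroup.centralizer (V' : Set H₀) ≤ V' := by
    intro z hz
    have hz1 : z.1.1 * proj (u 1) = proj (u 1) * z.1.1 := by
      have h1V : proj (u 1) ∈ V := KleinN.mem_ofPair.2 (Or.inr (Or.inl rfl))
      exact congrArg (fun a : H₀ => a.1.1) (Subgroup.mem_centralizer_iff.1 hz
        ⟨⟨proj (u 1), Subgroup.le_normalizer h1V⟩, hWH h1V⟩ h1V).symm
    obtain ⟨k, hk⟩ := Subgroup.mem_zpowers_iff.1 z.2
    obtain ⟨m, hm, hm'⟩ : ∃ m < 3, (z.1.1) * ((proj t0) ^ m)⁻¹ ∈ V := by
      refine ⟨(k % 3).toNat, by omega, ?_⟩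
      have e : QuotientGroup.mk' W ⟨proj t0, tN⟩ ^ ((k % 3).toNat : ℕ) = QuotientGroup.mk' W z.1 := by
        rw [← hk, ← zpow_natCast, Int.toNat_of_nonneg (by omega)]
        conv_rhs => rw [← zpow_mod_orderOf, hord]
        rfl
      rw [← map_pow, QuotientGroup.mk'_apply, QuotientGroup.mk'_apply, QuotientGroup.eq] at e
      have e' : ((proj t0) ^ (k % 3).toNat)⁻¹ * z.1.1 ∈ V := e
      simpa [mul_assoc] using (Subgroup.mem_normalizer_iff.1 (Subgroup.pow_mem _ tN (k % 3).toNat) _).1 e'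
    have hv1 := congrArg Subtype.val (mul_comm_of_exponent_two IsKleinFour.exponent_two
      (⟨_, hm'⟩ : V) ⟨proj (u 1), KleinN.mem_ofPair.2 (Or.inr (Or.inl rfl))⟩)
    rcases (show m = 0 ∨ m = 1 ∨ m = 2 by omega) with rfl | rfl | rfl
    · show z.1.1 ∈ V
      simpa using hm'
    all_goals exfalso
    · replace hv1 : z.1.1 * (proj t0)⁻¹ * proj (u 1) = proj (u 1) * (z.1.1 * (proj t0)⁻¹) := by
        simpa [pow_one] using hv1
      have h1 : proj t0 * proj (u 1) = proj (u 1) * proj t0 := by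
        calc proj t0 * proj (u 1) = proj t0 * (z.1.1⁻¹ * (z.1.1 * proj (u 1))) := by group
          _ = proj t0 * z.1.1⁻¹ * (proj (u 1) * (z.1.1 * (proj t0)⁻¹)) * proj t0 := by rw [hz1]; group
          _ = proj t0 * z.1.1⁻¹ * (z.1.1 * (proj t0)⁻¹ * proj (u 1)) * proj t0 := by rw [← hv1]
          _ = _ := by group
      have := tconj 1
      rw [h1, mul_inv_cancel_right, mul_one] at this
      exact hw1 (uinj 1 w this).symm
    · simp only [Subgroup.coe_mul] at hv1
      have h1 : proj t0 ^ 2 * proj (u 1) = proj (u 1) * proj t0 ^ 2 := by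
        calc proj t0 ^ 2 * proj (u 1) = proj t0 ^ 2 * (z.1.1⁻¹ * (z.1.1 * proj (u 1))) := by group
          _ = proj t0 ^ 2 * z.1.1⁻¹ * (proj (u 1) * (z.1.1 * (proj t0 ^ 2)⁻¹)) * proj t0 ^ 2 := by rw [hz1]; group
          _ = proj t0 ^ 2 * z.1.1⁻¹ * (z.1.1 * (proj t0 ^ 2)⁻¹ * proj (u 1)) * proj t0 ^ 2 := by rw [← hv1]
          _ = _ := by group
      have h2' : proj t0 * (proj t0 * proj (u 1) * (proj t0)⁻¹) * (proj t0)⁻¹ = proj (u 1) := by
        have : proj t0 * (proj t0 * proj (u 1) * (proj t0)⁻¹) * (proj t0)⁻¹ =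
            proj t0 ^ 2 * proj (u 1) * (proj t0 ^ 2)⁻¹ := by simp [pow_two, mul_assoc]
        rw [this, h1, mul_inv_cancel_right]
      rw [tconj, mul_one, tconj] at h2'
      have := uinj _ _ h2'
      exact hw1 (by linear_combination hw3 - (w : F) * this)
  obtain ⟨e⟩ := KleinN.equiv_alt_four V' hC hcardH
  exact ⟨H₀.map N.subtype, ⟨(H₀.equivMapOfInjective N.subtype N.subtype_injective).symm.trans e⟩⟩

theorem alt_four_iff (p n : ℕ) [Fact p.Prime] [CharP F p] (hF : Fintype.card F = p ^ n) :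
    (∃ H : Subgroup PG, Nonempty (H ≃* alternatingGroup (Fin 4))) ↔ ¬ (p = 2 ∧ Odd n) := by
  constructor
  · rintro ⟨H, ⟨e⟩⟩ ⟨hp, hn⟩
    subst hp
    have h2 : (2 : F) = 0 := CharP.cast_eq_zero F 2
    have h3 : Nat.Coprime 3 (Fintype.card F - 1) := by
      rw [hF]
      refine (Nat.prime_three.coprime_iff_not_dvd).2 fun hd => ?_
      obtain ⟨k, rfl⟩ := hn
      have hmod : 2 ^ (2 * k + 1) % 3 = 2 := by
        rw [pow_succ, pow_mul, Nat.mul_mod, Nat.pow_mod]
        norm_num
      revert hd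
      generalize 2 ^ (2 * k + 1) = X at hmod ⊢
      omega
    have hπ : Function.Injective (proj (F := F)) := (injective_iff_map_eq_one _).2 fun x hx => by
      have := proj_eq_one.1 hx
      rwa [center_eq_bot h2, Subgroup.mem_bot] at this
    let A : alternatingGroup (Fin 4) := ⟨Equiv.swap 0 1 * Equiv.swap 2 3, Equiv.Perm.mem_alternatingGroup.2 (by decide +kernel)⟩
    let T : alternatingGroup (Fin 4) := ⟨Equiv.swap 0 1 * Equiv.swap 1 2, Equiv.Perm.mem_alternatingGroup.2 (by decide +kernel)⟩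
    let ψ : alternatingGroup (Fin 4) →* SG :=
      ((MulEquiv.ofBijective proj ⟨hπ, proj_surjective⟩).symm.toMonoidHom).comp (H.subtype.comp e.symm.toMonoidHom)
    have hψ : Function.Injective ψ :=
      ((MulEquiv.ofBijective proj ⟨hπ, proj_surjective⟩).symm.injective).comp (H.subtype_injective.comp e.symm.injective)
    refine no_alt_four h2 h3 (ψ A) (ψ T) (by rw [← map_mul, show A * A = 1 by decide +kernel, map_one])
      (fun h => absurd (hψ (h.trans (map_one ψ).symm)) (by decide +kernel))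
      (by rw [← map_pow, show T ^ 3 = 1 by decide +kernel, map_one]) (fun h => ?_) ?_
    · rw [← map_inv, ← map_mul, ← map_mul] at h
      exact absurd (hψ h) (by decide +kernel)
    · rw [← map_inv, ← map_mul, ← map_mul]
      exact Commute.map (show T * A * T⁻¹ * A = A * (T * A * T⁻¹) by decide +kernel) ψ
  · intro h
    by_cases hp : p = 2
    · subst hp
      have hn : Even n := Nat.not_odd_iff_even.1 fun ho => h ⟨rfl, ho⟩
      refine alt_four_char_two (CharP.cast_eq_zero F 2) ?_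
      obtain ⟨k, rfl⟩ := hn
      rw [hF, show 2 ^ (k + k) = 4 ^ k by rw [← two_mul, pow_mul]; rfl]
      have : 4 ^ k % 3 = 1 := by rw [Nat.pow_mod]; norm_num
      omega
    · have hodd : Odd (Fintype.card F) := hF ▸ ((Fact.out : p.Prime).odd_of_ne_two hp).pow
      have h2 := two_ne (F := F) hodd
      obtain ⟨q, hq⟩ : ∃ q, Fintype.card F = q := ⟨_, rfl⟩
      rw [hq, Nat.odd_iff] at hodd
      rcases (show (q % 8 = 1 ∨ q % 8 = 7) ∨ (q % 8 = 3 ∨ q % 8 = 5) by omega) with hc | hc
      · obtain ⟨V, -, hV, -, -, -, h24⟩ := two_classes h2 hq hc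
        obtain ⟨e⟩ := (KleinN.normalizer_equiv V (centralizer_klein h2 V)).1 h24
        let A := (alternatingGroup (Fin 4)).map ((Subgroup.normalizer (V : Set PG)).subtype.comp e.symm.toMonoidHom)
        exact ⟨A, ⟨((alternatingGroup (Fin 4)).equivMapOfInjective _
          ((Subgroup.subtype_injective _).comp e.symm.injective)).symm⟩⟩
      · obtain ⟨V, hV⟩ := exists_klein (F := F) h2
        exact ⟨_, (KleinN.normalizer_equiv V (centralizer_klein h2 V)).2 (normalizer_twelve h2 hq hc V)⟩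

theorem order_four_statement {q : ℕ} (hF : Fintype.card F = q) (hodd : Odd q) (A : Subgroup SG)
    (hA : Nat.card A = 4) :
    (∀ B : Subgroup SG, Nat.card B = 4 → ∃ g : SG, B = A.map (MulAut.conj g).toMonoidHom) ∧
      (q % 4 = 1 → Nat.card (Subgroup.normalizer (A : Set SG)) = 2 * (q - 1)) ∧
      (q % 4 = 3 → Nat.card (Subgroup.normalizer (A : Set SG)) = 2 * (q + 1)) ∧
      (∀ x y : PG, orderOf x = 2 → orderOf y = 2 → IsConj x y) := by
  classical
  have h2 := two_ne (F := F) (hF ▸ hodd)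
  have gen : ∀ B : Subgroup SG, Nat.card B = 4 → ∃ g, g * g = -1 ∧ B = Subgroup.zpowers g := by
    intro B hB
    obtain ⟨g, hgB, hg⟩ : ∃ g ∈ B, g * g ≠ 1 := by
      by_contra hcon
      push_neg at hcon
      have hle : (B : Set SG) ⊆ {1, -1} := fun g hg => (sq_eq_one_cases h2 (hcon g hg))
      have := Set.ncard_le_ncard hle
      rw [← Nat.card_coe_set_eq, show Nat.card (B : Set SG) = 4 from hB] at this
      have h' := Set.ncard_insert_le (1 : SG) {-1}
      rw [Set.ncard_singleton] at h'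
      omega
    have h4 : g ^ 4 = 1 := by
      rw [← hB]
      exact congrArg Subtype.val (pow_card_eq_one' (x := (⟨g, hgB⟩ : B)))
    have hsq : g * g = -1 := (sq_eq_one_cases h2 (x := g * g) (by rw [← h4]; simp [pow_succ, mul_assoc])).resolve_left hg
    refine ⟨g, hsq, (Subgroup.eq_of_le_of_card_ge (Subgroup.zpowers_le.2 hgB) ?_).symm⟩
    rw [hB, Nat.card_zpowers]
    exact (orderOf_eq_prime_pow (p := 2) (n := 1) (by
      rw [pow_one, pow_two, hsq]
      exact (ne_neg h2 1).symm) h4).ge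
  obtain ⟨g, hg, rfl⟩ := gen A hA
  obtain ⟨hns, htr, ht4, hinv⟩ := t0_props h2 hg
  have hN : Subgroup.normalizer (Subgroup.zpowers g : Set SG) =
      Subgroup.normalizer (Subgroup.centralizer ({g} : Set SG) : Set SG) := by
    ext h
    constructor
    · intro hh
      have hmem := (Subgroup.mem_normalizer_iff.1 hh g).1 (Subgroup.mem_zpowers g)
      have hgC : h * g * h⁻¹ ∈ Subgroup.centralizer ({g} : Set SG) :=
        (Subgroup.zpowers_le.2 (self_mem_cent g)) hmem
      rcases eq_or_inv_of_tr ht4 hgC (tr_conj h g) with e | e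
      · exact Subgroup.le_normalizer (Subgroup.mem_centralizer_singleton_iff.2 (mul_inv_eq_iff_eq_mul.1 e))
      · exact mem_normalizer_of_inverting hns e
    · intro hh
      have hmem := (Subgroup.mem_normalizer_iff.1 hh g).1 (self_mem_cent g)
      have hgen : h * g * h⁻¹ ∈ Subgroup.zpowers g := by
        rcases eq_or_inv_of_tr ht4 hmem (tr_conj h g) with e | e <;> rw [e]
        · exact Subgroup.mem_zpowers g
        · exact Subgroup.inv_mem _ (Subgroup.mem_zpowers g)
      refine Subgroup.mem_normalizer_fintype fun z hz => ?_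
      obtain ⟨k, rfl⟩ := Subgroup.mem_zpowers_iff.1 hz
      rw [← conj_zpow]
      exact Subgroup.zpow_mem _ hgen k
  have hcardN := card_normalizer ht4
  refine ⟨fun B hB => ?_, fun h4 => ?_, fun h4 => ?_, involutions_conj h2⟩
  · obtain ⟨g', hg', rfl⟩ := gen B hB
    obtain ⟨c, hc⟩ := isConj_iff.1 (isConj_of_tr hns (t0_props h2 hg').1 (htr.trans (t0_props h2 hg').2.1.symm) (Or.inl ht4))
    exact ⟨c, by rw [MonoidHom.map_zpowers]; show _ = Subgroup.zpowers (c * g * c⁻¹); rw [hc]⟩
  · obtain ⟨i, hi⟩ := FiniteField.isSquare_neg_one_iff.2 (show Fintype.card F % 4 ≠ 3 by rw [hF]; omega)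
    rw [hN, hcardN, card_cent_split (r := i) (by rw [htr]; linear_combination -hi) ht4, hF]
  · rw [hN, hcardN, card_cent_noRoot (fun r hr => ?_) hns, hF]
    have : IsSquare (-1 : F) := ⟨r, by rw [htr] at hr; linear_combination -hr⟩
    exact FiniteField.isSquare_neg_one_iff.1 this (by rw [hF]; exact h4)

end Cfsg.Agent.Classical.PKlein
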