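import Mathlib
import Cfsg.Agent.RootSub.Dickson.Main
import Cfsg.Agent.QdFree.SL2Three
import Cfsg.Agent.Classical.SL2Gen
import Cfsg.Agent.Classical.SL2Sylow
import Cfsg.Agent.Fusion.UniqueInvolution

/-!
Subgroups of SL(2,q) with more than one Sylow p-subgroup contain a copy of SL(2,p).
-/

set_option autoImplicit false

namespace Cfsg.Agent.Classical.DicksonSL

open Matrix
open Cfsg.Agent.RootSub.Dickson
open scoped MatrixGroups

variable {F : Type*} [Field F]

theorem upR_eq_root (a : F) : upR a = rootHomSL (Multiplicative.ofAdd a) :=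
  Subtype.ext (by rw [coe_upR, rootHomSL_coe]; rfl)

/-- Conjugation of a matrix by a diagonal matrix. -/
def scaleMat (a : Fˣ) (A : Matrix (Fin 2) (Fin 2) F) : Matrix (Fin 2) (Fin 2) F :=
  !![A 0 0, A 0 1 * (a⁻¹ : Fˣ); A 1 0 * a, A 1 1]

theorem scaleMat_mul (a : Fˣ) (A B : Matrix (Fin 2) (Fin 2) F) :
    scaleMat a (A * B) = scaleMat a A * scaleMat a B := by
  have ha : ((a⁻¹ : Fˣ) : F) * a = 1 := a.inv_mul
  unfold scaleMat
  rw [Matrix.mul_fin_two]
  ext i j
  fin_cases i <;> fin_cases j <;>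
    simp only [Matrix.mul_apply, Fin.sum_univ_two, Matrix.of_apply, Matrix.cons_val', Matrix.cons_val_zero,
      Matrix.cons_val_one, Matrix.cons_val_fin_one, Fin.zero_eta, Fin.mk_one] <;>
    first
      | ring1
      | linear_combination -A 0 1 * B 1 0 * ha
      | linear_combination -A 1 0 * B 0 1 * ha

/-- Conjugation by a diagonal matrix. -/
def scale (a : Fˣ) : SL(2, F) →* SL(2, F) :=
  MonoidHom.mk' (fun g => ⟨scaleMat a g.1, by
      have h := g.2
      rw [Matrix.det_fin_two] at h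
      rw [scaleMat, Matrix.det_fin_two_of]
      have ha : ((a⁻¹ : Fˣ) : F) * a = 1 := a.inv_mul
      linear_combination h - g.1 0 1 * g.1 1 0 * ha⟩)
    (fun g h => Subtype.ext ((congrArg (scaleMat a) (Matrix.SpecialLinearGroup.coe_mul g h)).trans
      (scaleMat_mul a g.1 h.1)))

theorem scale_coe (a : Fˣ) (g : SL(2, F)) :
    (scale a g).1 = !![g.1 0 0, g.1 0 1 * (a⁻¹ : Fˣ); g.1 1 0 * a, g.1 1 1] := rfl

theorem scale_injective (a : Fˣ) : Function.Injective (scale a) := fun g h hgh => by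
  have e := congrArg Subtype.val hgh
  rw [scale_coe, scale_coe] at e
  have e00 := congrFun (congrFun e 0) 0
  have e01 := congrFun (congrFun e 0) 1
  have e10 := congrFun (congrFun e 1) 0
  have e11 := congrFun (congrFun e 1) 1
  simp at e00 e01 e10 e11
  exact ext_entries e00 e01 e10 e11

theorem scale_upR (a : Fˣ) (r : F) : scale a (upR r) = upR (r * (a⁻¹ : Fˣ)) :=
  Subtype.ext (by rw [scale_coe, coe_upR, coe_upR]; ext i j; fin_cases i <;> fin_cases j <;> simp)

theorem scale_lowR (a : Fˣ) (r : F) : scale a (lowR r) = lowR (r * a) :=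
  Subtype.ext (by rw [scale_coe, coe_lowR, coe_lowR]; ext i j; fin_cases i <;> fin_cases j <;> simp)

theorem conj_to_low {g : SL(2, F)} {x : F} (hc : g.1 1 0 ≠ 0) (hx : x * g.1 1 0 = 1 - g.1 0 0)
    (ht : g.1 0 0 + g.1 1 1 = 2) : upR x * g * upR (-x) = lowR (g.1 1 0) := by
  have hd := g.2
  rw [Matrix.det_fin_two] at hd
  refine Subtype.ext ?_
  simp only [Matrix.SpecialLinearGroup.coe_mul, coe_upR, coe_lowR]
  rw [show g.1 = !![g.1 0 0, g.1 0 1; g.1 1 0, g.1 1 1] from Matrix.eta_fin_two g.1, Matrix.mul_fin_two,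
    Matrix.mul_fin_two]
  ext i j
  fin_cases i <;> fin_cases j <;> simp [Matrix.mul_apply, Fin.sum_univ_two]
  · linear_combination hx
  · refine mul_right_cancel₀ hc ?_
    linear_combination (g.1 1 1 - 1 - x * g.1 1 0) * hx - hd + ht
  · linear_combination ht - hx

/-- The two transvections generate a group containing SL(2,p). -/
theorem exists_sl2_pair [Finite F] (p : ℕ) [Fact p.Prime] [CharP F p] (hp : p ≠ 2) {lam : F} (hlam : lam ≠ 0) :
    ∃ σ : SL(2, ZMod p) →* SL(2, F), Function.Injective σ ∧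
      σ.range ≤ Subgroup.closure ({lowR lam, upR 1} : Set SL(2, F)) := by
  letI := ZMod.algebra F p
  haveI : FiniteDimensional (ZMod p) F := Module.Finite.of_finite
  set L := IntermediateField.adjoin (ZMod p) ({lam} : Set F) with hL
  set l : L := IntermediateField.AdjoinSimple.gen (ZMod p) lam with hl
  have hval : (L.val : L →ₐ[ZMod p] F) l = lam := rfl
  have hgen : Algebra.adjoin (ZMod p) ({l} : Set L) = ⊤ := by
    have h : (Algebra.adjoin (ZMod p) ({l} : Set L)).map L.val = (⊤ : Subalgebra (ZMod p) L).map L.val := by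
      rw [AlgHom.map_adjoin, Set.image_singleton, hval, Algebra.map_top, IntermediateField.range_val,
        IntermediateField.adjoin_simple_toSubalgebra_of_isAlgebraic (Algebra.IsAlgebraic.isAlgebraic lam)]
    exact Subalgebra.map_injective L.val.injective h
  have hl0 : l ≠ 0 := fun h => hlam (by rw [← hval, h, map_zero])
  let m : SL(2, L) →* SL(2, F) := Matrix.SpecialLinearGroup.map (L.val : L →+* F)
  have hm : Function.Injective m := fun g h hgh => by
    apply Subtype.ext
    ext i j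
    exact congrArg (fun M : SL(2, F) => M.1 i j) hgh
  have hmap : (Subgroup.closure ({lowR l, upR 1} : Set SL(2, L))).map m ≤
      Subgroup.closure ({lowR lam, upR 1} : Set SL(2, F)) := by
    rw [MonoidHom.map_closure, Set.image_pair, map_lowR, map_upR, map_one]
    exact le_rfl
  suffices h : ∃ σ : SL(2, ZMod p) →* SL(2, L), Function.Injective σ ∧
      σ.range ≤ Subgroup.closure ({lowR l, upR 1} : Set SL(2, L)) by
    obtain ⟨σ, hσ, hr⟩ := h
    refine ⟨m.comp σ, hm.comp hσ, ?_⟩
    rw [MonoidHom.range_comp]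
    exact (Subgroup.map_mono hr).trans hmap
  by_cases hp3 : p = 3
  · subst hp3
    refine Cfsg.Agent.QdFree.exists_sl2_three hl0 (eq_top_iff.2 fun x _ => ?_)
    have hx : x ∈ Algebra.adjoin (ZMod 3) ({l} : Set L) := hgen ▸ Algebra.mem_top
    induction hx using Algebra.adjoin_induction with
    | mem y hy => exact Subring.subset_closure hy
    | algebraMap r => rw [← ZMod.natCast_zmod_val r, map_natCast]; exact natCast_mem _ _
    | add y z _ _ hy hz => exact add_mem (hy (Subring.mem_top _)) (hz (Subring.mem_top _))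
    | mul y z _ _ hy hz => exact mul_mem (hy (Subring.mem_top _)) (hz (Subring.mem_top _))
  · have h2 : (2 : ZMod p) ≠ 0 := fun h => hp ((Nat.prime_dvd_prime_iff_eq Fact.out Nat.prime_two).1
      ((CharP.cast_eq_zero_iff (ZMod p) p 2).1 (by exact_mod_cast h)))
    have htop := dicksonGroup_eq_top h2 (by rw [Nat.card_zmod]; exact hp3) hl0 hgen
    have hC : Subgroup.closure ({lowR l, upR 1} : Set SL(2, L)) = ⊤ := by
      refine eq_top_iff.2 (htop ▸ ?_)
      rw [dicksonGroup, Subgroup.closure_le]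
      have hnat : ∀ t : ZMod p, algebraMap (ZMod p) L t = (t.val : L) := fun t => by
        conv_lhs => rw [← ZMod.natCast_zmod_val t, map_natCast]
      have hpow : ∀ (r : L) (n : ℕ), upR ((n : L) * r) = upR r ^ n ∧ lowR ((n : L) * r) = lowR r ^ n := by
        intro r n
        induction n with
        | zero => simp [upR_zero, lowR_zero]
        | succ n ih => simp only [Nat.cast_succ, add_one_mul, upR_add, lowR_add, ih.1, ih.2, pow_succ, and_self]
      rintro _ (⟨t, rfl⟩ | ⟨t, rfl⟩)
      · show upR _ ∈ _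
        rw [hnat, ← mul_one ((t.val : L)), (hpow 1 t.val).1]
        exact Subgroup.pow_mem _ (Subgroup.subset_closure (Set.mem_insert_of_mem _ (Set.mem_singleton _))) _
      · show lowR _ ∈ _
        rw [hnat, (hpow l t.val).2]
        exact Subgroup.pow_mem _ (Subgroup.subset_closure (Set.mem_insert _ _)) _
    refine ⟨Matrix.SpecialLinearGroup.map (algebraMap (ZMod p) L), fun g h hgh => ?_, by rw [hC]; exact le_top⟩
    apply Subtype.ext
    ext i j
    exact (algebraMap (ZMod p) L).injective (congrArg (fun M : SL(2, L) => M.1 i j) hgh)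

variable [Fintype F]

theorem exists_two_transvections (p : ℕ) [Fact p.Prime] [CharP F p] (H : Subgroup SL(2, F))
    (hH : 1 < Nat.card (Sylow p H)) :
    ∃ (e : SL(2, F) →* SL(2, F)) (c : F), Function.Injective e ∧ c ≠ 0 ∧ e (upR 1) ∈ H ∧ e (lowR c) ∈ H := by
  classical
  let P : Sylow p H := default
  obtain ⟨Q, hQ⟩ := (P.2.map H.subtype).exists_le_sylow
  obtain ⟨g, hg⟩ := sylow_sl2_conj (F := F) p Q
  let H' : Subgroup SL(2, F) := H.comap (MulAut.conj g).toMonoidHom
  let e₀ : H →* SL(2, F) := (MulAut.conj g).symm.toMonoidHom.comp H.subtype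
  have he₀ : Function.Injective e₀ := (MulAut.conj g).symm.injective.comp H.subtype_injective
  have he₀' : ∀ x : H, MulAut.conj g (e₀ x) = x := fun x => (MulAut.conj g).apply_symm_apply x.1
  have hroot : ∀ x ∈ (P : Subgroup H), e₀ x ∈ (rootHomSL (F := F)).range := fun x hx => by
    have h1 : (x : SL(2, F)) ∈ (Q : Subgroup SL(2, F)) := hQ ⟨x, hx, rfl⟩
    rw [hg] at h1
    obtain ⟨r, hr, hrx⟩ := h1
    have h2 : e₀ x = r := (MulAut.conj g).injective ((he₀' x).trans hrx.symm)
    rw [h2]; exact hr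
  have hmemH' : ∀ x : H, e₀ x ∈ H' := fun x => by
    show MulAut.conj g (e₀ x) ∈ H
    rw [he₀']; exact x.2
  -- a non-trivial element of `P`
  have hPne : (P : Subgroup H) ≠ ⊥ := fun hb => by
    have : Subsingleton (Sylow p H) := ⟨fun A B => Sylow.ext (by
      have hA := A.card_eq_multiplicity.trans P.card_eq_multiplicity.symm
      have hB := B.card_eq_multiplicity.trans P.card_eq_multiplicity.symm
      rw [hb, Subgroup.card_bot] at hA hB
      rw [Subgroup.card_eq_one.1 hA, Subgroup.card_eq_one.1 hB])⟩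
    rw [Nat.card_unique] at hH
    omega
  obtain ⟨u, huP, hu1⟩ := (Subgroup.ne_bot_iff_exists_ne_one.1 hPne).elim fun u hu =>
    (⟨u.1, u.2, fun h => hu (Subtype.ext h)⟩ : ∃ u ∈ (P : Subgroup H), u ≠ 1)
  obtain ⟨r, hr⟩ := hroot u huP
  set a : F := r.toAdd with ha
  have hua : e₀ u = upR a := by rw [upR_eq_root, ← hr]; rfl
  have ha0 : a ≠ 0 := fun h => hu1 (he₀ (by rw [hua, h, upR_zero, map_one]))
  -- a p-element of `H'` outside the upper root group
  obtain ⟨P', hP'⟩ : ∃ P' : Sylow p H, P' ≠ P := by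
    by_contra hcon
    push_neg at hcon
    have : Subsingleton (Sylow p H) := ⟨fun A B => (hcon A).trans (hcon B).symm⟩
    rw [Nat.card_unique] at hH
    omega
  obtain ⟨w, hw, hwc⟩ : ∃ w ∈ (P' : Subgroup H), (e₀ w).1 1 0 ≠ 0 := by
    by_contra hcon
    push_neg at hcon
    refine hP' (Sylow.ext ?_)
    let R : Subgroup H := (rootHomSL (F := F)).range.comap e₀
    have hR : IsPGroup p R := by
      rintro ⟨x, s, hs⟩
      refine ⟨1, Subtype.ext (he₀ ?_)⟩
      rw [Subgroup.coe_pow, map_pow, Subgroup.coe_one, map_one, ← hs, ← map_pow, pow_one,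
        show s ^ p = 1 from Multiplicative.toAdd.injective (by rw [toAdd_pow, nsmul_eq_mul, CharP.cast_eq_zero, zero_mul, toAdd_one]),
        map_one]
    have hPR : (P : Subgroup H) ≤ R := hroot
    have hP'R : (P' : Subgroup H) ≤ R := fun x hx => by
      have hx0 := hcon x hx
      obtain ⟨n, hn⟩ := P'.2 ⟨x, hx⟩
      have hpow : e₀ x ^ p ^ n = 1 := by rw [← map_pow, show x ^ p ^ n = 1 from congrArg Subtype.val hn, map_one]
      have hdiag : ∀ k : ℕ, ((e₀ x) ^ k).1 1 0 = 0 ∧ ((e₀ x) ^ k).1 0 0 = (e₀ x).1 0 0 ^ k := by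
        intro k
        induction k with
        | zero => simp
        | succ k ih =>
          rw [pow_succ (e₀ x), pow_succ ((e₀ x).1 0 0)]
          simp only [Matrix.SpecialLinearGroup.coe_mul, Matrix.mul_apply, Fin.sum_univ_two, hx0, ih.1, ih.2]
          constructor <;> ring
      have h1 := (hdiag (p ^ n)).2
      rw [hpow] at h1
      have h00 : (e₀ x).1 0 0 = 1 := by
        have : (iterateFrobenius F p n) ((e₀ x).1 0 0) = (iterateFrobenius F p n) 1 := by
          rw [iterateFrobenius_def, map_one, ← h1]; simp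
        exact (iterateFrobenius F p n).injective this
      refine ⟨Multiplicative.ofAdd ((e₀ x).1 0 1), Subtype.ext ?_⟩
      have hd := (e₀ x).2
      rw [Matrix.det_fin_two, hx0, h00, mul_zero, sub_zero, one_mul] at hd
      rw [rootHomSL_coe]
      ext i j
      fin_cases i <;> fin_cases j <;> simp [hx0, h00, hd]
    exact (P'.3 hR hP'R).symm.trans (P.3 hR hPR)
  set c := (e₀ w).1 1 0 with hc
  -- trace two
  have htr : (e₀ w).1 0 0 + (e₀ w).1 1 1 = 2 := by
    obtain ⟨S, hS⟩ := (P'.2.map e₀).exists_le_sylow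
    obtain ⟨k, hk⟩ := sylow_sl2_conj (F := F) p S
    have h1 : e₀ w ∈ (S : Subgroup SL(2, F)) := hS ⟨w, hw, rfl⟩
    rw [hk] at h1
    obtain ⟨y, ⟨s, rfl⟩, hy⟩ := h1
    rw [← hy, MulEquiv.coe_toMonoidHom, MulAut.conj_apply, conj_rootHomSL]
    simp
    ring
  set x := (1 - (e₀ w).1 0 0) / c with hx
  have hconj : upR x * e₀ w * (upR x)⁻¹ = lowR c := by
    rw [upR_inv]
    exact conj_to_low hwc (div_mul_cancel₀ _ hwc) htr
  let e : SL(2, F) →* SL(2, F) :=
    ((MulAut.conj g).toMonoidHom.comp (MulAut.conj (upR x)⁻¹).toMonoidHom).comp (scale (Units.mk0 a ha0)⁻¹)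
  have hinv : ((((Units.mk0 a ha0)⁻¹)⁻¹ : Fˣ) : F) = a := by simp
  refine ⟨e, c * a, (((MulAut.conj g).injective.comp (MulAut.conj (upR x)⁻¹).injective).comp (scale_injective _)),
    mul_ne_zero hwc ha0, ?_, ?_⟩
  · show MulAut.conj g (MulAut.conj (upR x)⁻¹ (scale _ (upR 1))) ∈ H
    rw [scale_upR, hinv, one_mul, MulAut.conj_apply (upR x)⁻¹, upR_inv, ← upR_add, upR_inv, ← upR_add,
      show -x + a + - -x = a by ring, ← hua, he₀']
    exact u.2
  · show MulAut.conj g (MulAut.conj (upR x)⁻¹ (scale _ (lowR (c * a)))) ∈ H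
    rw [scale_lowR, show c * a * (((Units.mk0 a ha0)⁻¹ : Fˣ) : F) = c by simp [mul_assoc, ha0], ← hconj,
      show MulAut.conj (upR x)⁻¹ (upR x * e₀ w * (upR x)⁻¹) = e₀ w by rw [MulAut.conj_apply]; group, he₀']
    exact w.2

theorem contains_sl2 (p : ℕ) [Fact p.Prime] [CharP F p] (hp : p ≠ 2) (H : Subgroup SL(2, F))
    (hH : 1 < Nat.card (Sylow p H)) :
    ∃ K : Subgroup SL(2, F), K ≤ H ∧ Nonempty (K ≃* SL(2, ZMod p)) := by
  obtain ⟨e, c, he, hc, hu, hl⟩ := exists_two_transvections p H hH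
  obtain ⟨σ, hσ, hr⟩ := exists_sl2_pair p hp hc
  refine ⟨(e.comp σ).range, ?_, ⟨(MonoidHom.ofInjective (f := e.comp σ) (by intro u v h; exact hσ (he h))).symm⟩⟩
  rw [MonoidHom.range_comp]
  refine (Subgroup.map_mono hr).trans ?_
  rw [MonoidHom.map_closure, Subgroup.closure_le, Set.image_pair]
  rintro y (rfl | rfl)
  exacts [hl, hu]

theorem sylow_two_quaternion (p : ℕ) [Fact p.Prime] [CharP F p] (hp : p ≠ 2) (H : Subgroup SL(2, F))
    (hH : 1 < Nat.card (Sylow p H)) (S : Sylow 2 H) :
    ∃ k : ℕ, 1 ≤ k ∧ Nonempty ((S : Subgroup H) ≃* QuaternionGroup (2 ^ k)) := by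
  classical
  haveI : Fact (Nat.Prime 2) := ⟨Nat.prime_two⟩
  obtain ⟨K, hKH, ⟨φ⟩⟩ := contains_sl2 p hp H hH
  have h2 : (2 : F) ≠ 0 := fun h => hp ((Nat.prime_dvd_prime_iff_eq Fact.out Nat.prime_two).1
    ((CharP.cast_eq_zero_iff F p 2).1 (by exact_mod_cast h)))
  refine (Cfsg.Agent.Fusion.cyclic_or_quaternion S.2 fun u v hu hv => ?_).resolve_left fun hcyc => ?_
  · have key : ∀ w : (S : Subgroup H), orderOf w = 2 → ((w : H) : SL(2, F)) = -1 := fun w hw => by
      have hw' := pow_orderOf_eq_one w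
      rw [hw] at hw'
      refine (eq_one_or_neg_one_of_sq h2 (congrArg (fun z : (S : Subgroup H) => ((z : H) : SL(2, F))) hw')).resolve_left
        fun h => ?_
      rw [show w = 1 from Subtype.ext (Subtype.ext h), orderOf_one] at hw
      norm_num at hw
    exact Subtype.ext (Subtype.ext ((key u hu).trans (key v hv).symm))
  · have hodd : Odd (Fintype.card (ZMod p)) := by
      rw [ZMod.card]; exact (Fact.out : p.Prime).odd_of_ne_two hp
    let T : Sylow 2 SL(2, ZMod p) := default
    refine sylow_two_not_cyclic hodd T ?_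
    let f : SL(2, ZMod p) →* H := (Subgroup.inclusion hKH).comp φ.symm.toMonoidHom
    have hf : Function.Injective f := (Subgroup.inclusion_injective hKH).comp φ.symm.injective
    obtain ⟨T', hT'⟩ := (T.2.map f).exists_le_sylow
    obtain ⟨g, hg⟩ := MulAction.exists_smul_eq H S T'
    have hTc : IsCyclic (T' : Subgroup H) := by
      rw [← hg]
      exact isCyclic_of_surjective (Sylow.equiv S (g • S)) (Sylow.equiv S (g • S)).surjective
    exact isCyclic_of_injective ((Subgroup.inclusion hT').comp (f.subgroupMap (T : Subgroup SL(2, ZMod p))))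
      ((Subgroup.inclusion_injective hT').comp fun a b h => Subtype.ext (hf (congrArg Subtype.val h)))

end Cfsg.Agent.Classical.DicksonSL
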