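import Mathlib
import Cfsg.Agent.Classical.ExcSmall

/-!
The alternating group of degree six in the orthogonal group of minus type in dimension four over three elements.
-/

set_option autoImplicit false

namespace Cfsg.Agent.Classical.Exc

open Module QuadraticMap Matrix
open scoped commutatorElement

/-- Sum-zero vectors with vanishing last coordinate. -/
def liftSix (w : Fin 4 → ZMod 3) : Fin 6 → ZMod 3 := ![w 0, w 1, w 2, w 3, -(w 0 + w 1 + w 2 + w 3), 0]

/-- Normalising the last coordinate. -/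
def nrmSix (v : Fin 6 → ZMod 3) : Fin 6 → ZMod 3 := fun i => v i - v 5

/-- The first four coordinates. -/
def cutSix (v : Fin 6 → ZMod 3) : Fin 4 → ZMod 3 := ![v 0, v 1, v 2, v 3]

theorem lift_cut {v : Fin 6 → ZMod 3} (h5 : v 5 = 0) (hs : ∑ i, v i = 0) : liftSix (cutSix v) = v := by
  rw [Fin.sum_univ_six, h5] at hs
  funext i
  fin_cases i <;> simp [liftSix, cutSix] <;> first | linear_combination -hs | exact h5.symm

theorem sum_lift (w : Fin 4 → ZMod 3) : ∑ i, liftSix w i = 0 := by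
  rw [Fin.sum_univ_six]; simp [liftSix]

theorem sum_nrm {v : Fin 6 → ZMod 3} (hs : ∑ i, v i = 0) : ∑ i, nrmSix v i = 0 := by
  simp [nrmSix, Finset.sum_sub_distrib, hs, show (6 : ZMod 3) = 0 from by decide]

/-- The action. -/
def sixMap (σ : Equiv.Perm (Fin 6)) : (Fin 4 → ZMod 3) →ₗ[ZMod 3] (Fin 4 → ZMod 3) where
  toFun w := cutSix (nrmSix (liftSix w ∘ σ.symm))
  map_add' w w' := by
    have e : liftSix (w + w') = liftSix w + liftSix w' := by funext i; fin_cases i <;> simp [liftSix]; ring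
    funext i
    fin_cases i <;> simp [cutSix, nrmSix, e] <;> ring
  map_smul' c w := by
    have e : liftSix (c • w) = c • liftSix w := by funext i; fin_cases i <;> simp [liftSix]; ring
    funext i
    fin_cases i <;> simp [cutSix, nrmSix, e] <;> ring

theorem lift_sixMap (σ : Equiv.Perm (Fin 6)) (w : Fin 4 → ZMod 3) :
    liftSix (sixMap σ w) = nrmSix (liftSix w ∘ σ.symm) :=
  lift_cut (sub_self _) (sum_nrm ((Equiv.sum_comp σ.symm (liftSix w)).trans (sum_lift w)))

theorem sixMap_mul (σ τ : Equiv.Perm (Fin 6)) (w : Fin 4 → ZMod 3) :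
    sixMap (σ * τ) w = sixMap σ (sixMap τ w) := by
  show cutSix (nrmSix (liftSix w ∘ (σ * τ).symm)) = cutSix (nrmSix (liftSix (sixMap τ w) ∘ σ.symm))
  rw [lift_sixMap]
  congr 1
  funext i
  simp only [nrmSix, Function.comp_apply]
  rw [show (σ * τ).symm i = τ.symm (σ.symm i) from rfl, show (σ * τ).symm 5 = τ.symm (σ.symm 5) from rfl]
  ring

theorem sixMap_one (w : Fin 4 → ZMod 3) : sixMap 1 w = w := by
  funext i
  show cutSix (nrmSix (liftSix w)) i = w i
  fin_cases i <;> simp [cutSix, nrmSix, liftSix]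

/-- The action as linear automorphisms. -/
def sixEquiv : Equiv.Perm (Fin 6) →* ((Fin 4 → ZMod 3) ≃ₗ[ZMod 3] (Fin 4 → ZMod 3)) :=
  MonoidHom.mk' (fun σ => LinearEquiv.ofLinearMap (sixMap σ) (sixMap σ⁻¹)
    (LinearMap.ext fun v => by rw [LinearMap.comp_apply, ← sixMap_mul, mul_inv_cancel, sixMap_one]; rfl)
    (LinearMap.ext fun v => by rw [LinearMap.comp_apply, ← sixMap_mul, inv_mul_cancel, sixMap_one]; rfl))
    fun σ τ => LinearEquiv.ext fun v => sixMap_mul σ τ v

/-- The sum of squares of the six coordinates. -/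
def sixB : LinearMap.BilinForm (ZMod 3) (Fin 4 → ZMod 3) :=
  LinearMap.mk₂ (ZMod 3) (fun w w' => ∑ i, liftSix w i * liftSix w' i)
    (fun a b c => by simp [Fin.sum_univ_six, liftSix]; ring)
    (fun k a c => by simp [Fin.sum_univ_six, liftSix]; ring)
    (fun a b c => by simp [Fin.sum_univ_six, liftSix]; ring)
    (fun k a c => by simp [Fin.sum_univ_six, liftSix]; ring)

/-- The quadratic form. -/
noncomputable def sixQ : QuadraticForm (ZMod 3) (Fin 4 → ZMod 3) := LinearMap.BilinMap.toQuadraticMap sixB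

theorem sixQ_apply (w : Fin 4 → ZMod 3) : sixQ w = ∑ i, liftSix w i * liftSix w i := rfl

theorem sixEquiv_mem (σ : Equiv.Perm (Fin 6)) : sixEquiv σ ∈ Quad.oG sixQ := fun w => by
  show sixQ (sixMap σ w) = sixQ w
  rw [sixQ_apply, sixQ_apply, lift_sixMap]
  have h0 : ∑ i, (liftSix w ∘ σ.symm) i = 0 := (Equiv.sum_comp σ.symm (liftSix w)).trans (sum_lift w)
  calc ∑ i, nrmSix (liftSix w ∘ σ.symm) i * nrmSix (liftSix w ∘ σ.symm) i
      = ∑ i, ((liftSix w ∘ σ.symm) i * (liftSix w ∘ σ.symm) i -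
          2 * (liftSix w ∘ σ.symm) 5 * (liftSix w ∘ σ.symm) i + (liftSix w ∘ σ.symm) 5 ^ 2) :=
        Finset.sum_congr rfl fun i _ => by simp only [nrmSix]; ring
    _ = ∑ i, (liftSix w ∘ σ.symm) i * (liftSix w ∘ σ.symm) i := by
        rw [Finset.sum_add_distrib, Finset.sum_sub_distrib, ← Finset.mul_sum, h0, Finset.sum_const,
          Finset.card_univ, Fintype.card_fin, nsmul_eq_mul, show ((6 : ℕ) : ZMod 3) = 0 from by decide]
        ring
    _ = _ := Equiv.sum_comp σ.symm fun i => liftSix w i * liftSix w i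

theorem nondeg_sixQ : (polarBilin sixQ).Nondegenerate := Quad.nondeg_of fun x hx => by
  have h : ∀ j, polar sixQ x (Pi.single j 1) = 0 := fun j => hx _
  have h0 := h 0
  have h1 := h 1
  have h2 := h 2
  have h3 := h 3
  simp [polar, sixQ_apply, Fin.sum_univ_six, liftSix, Pi.single_apply] at h0 h1 h2 h3
  have key : ∀ a b c d : ZMod 3, 2 * a + 2 * (a + b + c + d) = 0 → 2 * b + 2 * (a + b + c + d) = 0 →
      2 * c + 2 * (a + b + c + d) = 0 → 2 * d + 2 * (a + b + c + d) = 0 → a = 0 ∧ b = 0 ∧ c = 0 ∧ d = 0 := by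
    decide
  obtain ⟨ha, hb, hc, hd⟩ := key (x 0) (x 1) (x 2) (x 3) (by linear_combination h0) (by linear_combination h1)
    (by linear_combination h2) (by linear_combination h3)
  funext i
  fin_cases i <;> assumption

theorem sixEquiv_apply (σ : Equiv.Perm (Fin 6)) (w : Fin 4 → ZMod 3) : sixEquiv σ w = sixMap σ w := rfl

theorem sixMap_ne : sixMap (Equiv.swap 0 1 * Equiv.swap 1 2) ![1, 0, 0, 0] ≠ ![1, 0, 0, 0] := by
  intro h
  have h0 := congrFun h 0
  have e0 : (Equiv.swap (0 : Fin 6) 1 * Equiv.swap 1 2).symm 0 = 2 := by decide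
  have e5 : (Equiv.swap (0 : Fin 6) 1 * Equiv.swap 1 2).symm 5 = 5 := by decide
  simp [sixMap, cutSix, nrmSix, liftSix, e0, e5] at h0

theorem sixEquiv_ne_one : (sixEquiv.comp (alternatingGroup (Fin 6)).subtype) ≠ 1 := fun h => by
  have hσ : Equiv.swap (0 : Fin 6) 1 * Equiv.swap 1 2 ∈ alternatingGroup (Fin 6) :=
    Equiv.Perm.mem_alternatingGroup.2 (by simp [Equiv.Perm.sign_swap])
  have h1 := DFunLike.congr_fun h ⟨_, hσ⟩
  rw [MonoidHom.comp_apply, MonoidHom.one_apply, Subgroup.subtype_apply] at h1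
  refine sixMap_ne ?_
  rw [← sixEquiv_apply, h1, LinearEquiv.coe_one, id_eq]

theorem alt_six_psl_nine {F : Type*} [Field F] [Fintype F] (hF : Fintype.card F = 9) :
    Nonempty (ProjectiveSpecialLinearGroup (Fin 2) F ≃* alternatingGroup (Fin 6)) := by
  classical
  have hab : ∀ z₁ z₂ : ZMod 3, z₁ ^ 2 + 0 * z₁ * z₂ + 1 * z₂ ^ 2 = 0 → z₁ = 0 ∧ z₂ = 0 := by decide
  have hd : finrank (ZMod 3) (Fin 4 → ZMod 3) = 4 := Module.finrank_fin_fun _
  have h2 : (2 : ZMod 3) ≠ 0 := by decide
  have := oG_finite sixQ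
  have hc := card_commutator_odd nondeg_sixQ h2 (by omega)
  have : IsSimpleGroup (alternatingGroup (Fin 6)) := alternatingGroup.isSimpleGroup (by simp)
  let ψ : alternatingGroup (Fin 6) →* Quad.oG sixQ :=
    (sixEquiv.comp (alternatingGroup (Fin 6)).subtype).codRestrict _ fun σ => sixEquiv_mem σ.1
  have hψ : Function.Injective ψ := by
    rcases IsSimpleGroup.eq_bot_or_eq_top_of_normal ψ.ker inferInstance with h | h
    · exact ψ.ker_eq_bot_iff.1 h
    · refine absurd (MonoidHom.ext fun σ => ?_) sixEquiv_ne_one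
      exact congrArg Subtype.val (DFunLike.congr_fun (ψ.ker_eq_top_iff.1 h) σ)
  have hperf : commutator (alternatingGroup (Fin 6)) = ⊤ := by
    rcases IsSimpleGroup.eq_bot_or_eq_top_of_normal (commutator (alternatingGroup (Fin 6))) inferInstance with h | h
    · obtain ⟨a, b, hab'⟩ := Small.alt_noncomm (m := 6) (by norm_num)
      exact absurd (commutatorElement_eq_one_iff_mul_comm.1 (by
        have : ⁅a, b⁆ ∈ commutator (alternatingGroup (Fin 6)) :=
          Subgroup.commutator_mem_commutator (Subgroup.mem_top _) (Subgroup.mem_top _)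
        rwa [h, Subgroup.mem_bot] at this)) hab'
    · exact h
  have hA : Nat.card (alternatingGroup (Fin 6)) = 360 := by
    have h := two_mul_nat_card_alternatingGroup (α := Fin 6)
    rw [Nat.card_perm, Nat.card_fin, show Nat.factorial 6 = 720 from rfl] at h
    omega
  have hle := range_le_of_perfect ψ hperf
  have hdvd := Subgroup.card_dvd_of_le hle
  rw [← Nat.card_congr (MonoidHom.ofInjective hψ).toEquiv, hA] at hdvd
  rcases Quad.even_cases nondeg_sixQ (m := 2) hd with h | ⟨-, h⟩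
  · exfalso
    obtain ⟨e, he⟩ := h
    rw [← Nat.card_congr (Quad.oCongr e he).toEquiv, Quad.card_oG_plus (ZMod.card 3) 1] at hc
    simp at hc hdvd
    omega
  obtain ⟨e, he⟩ := (h 0 1 hab)
  rw [← Nat.card_congr (Quad.oCongr e he).toEquiv, Quad.card_oG_minus hab (ZMod.card 3) 1] at hc
  obtain ⟨e1⟩ := derived_quot_equiv ψ hle (strong_of_perfect ψ (by
    rw [(MonoidHom.ker_eq_bot_iff ψ).2 hψ]; exact bot_le) hperf) (by
    rw [(MonoidHom.ker_eq_bot_iff ψ).2 hψ, Subgroup.card_bot, mul_one, hA]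
    simp at hc ⊢
    omega)
  obtain ⟨e2⟩ := pomega_equiv (Q := sixQ) (Q' := Cfsg.quadFormMinus 1 (ZMod 3) 0 1)
    ((Quad.minusCoord 1).trans e) (fun x => (he _).trans (Quad.minusCoord_map 0 1 1 x))
  obtain ⟨e3⟩ := pomega_four_minus (K := F) (ZMod.card 3) (by rw [hF]; norm_num) 0 1 hab
  exact ⟨e3.symm.trans (e2.trans (e1.trans ((QuotientGroup.quotientMulEquivOfEq
    (alternatingGroup.center_eq_bot (by simp))).trans QuotientGroup.quotientBot)))⟩

end Cfsg.Agent.Classical.Exc
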