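import Mathlib
import Cfsg.Prelude.Def_ClassicalGeometry
import Cfsg.Agent.Classical.LinearMove

/-!
Stabilisers of subspaces in the general linear group: maximality, inequivalence, duality.
-/

set_option autoImplicit false

namespace Cfsg.Agent.Classical.GLPar

open Matrix Module

variable {F : Type*} [Field F] {n : ℕ}

/-- The stabiliser of a subspace. -/
abbrev stab (W : Submodule F (Fin n → F)) : Subgroup (GL (Fin n) F) :=
  Cfsg.stabilizing (Cfsg.glToMat (Fin n) F) (W : Set (Fin n → F))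

theorem glToMat_eq (g : GL (Fin n) F) : Cfsg.glToMat (Fin n) F g = g.1 := rfl

theorem mem_stab {W : Submodule F (Fin n → F)} {g : GL (Fin n) F} :
    g ∈ stab W ↔ ∀ v, v ∈ W ↔ g.1 *ᵥ v ∈ W := Iff.rfl

/-- The image of a subspace. -/
def im (g : GL (Fin n) F) (W : Submodule F (Fin n → F)) : Submodule F (Fin n → F) := W.map g.1.mulVecLin

theorem im_mul (g h : GL (Fin n) F) (W : Submodule F (Fin n → F)) : im (g * h) W = im g (im h W) := by
  rw [im, im, im, ← Submodule.map_comp, ← Matrix.mulVecLin_mul]; rfl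

theorem im_one (W : Submodule F (Fin n → F)) : im 1 W = W := by
  rw [im, Units.val_one, Matrix.mulVecLin_one, Submodule.map_id]

theorem inv_mulVec (g : GL (Fin n) F) (v : Fin n → F) : (g⁻¹).1 *ᵥ (g.1 *ᵥ v) = v := by
  rw [mulVec_mulVec, ← Units.val_mul, inv_mul_cancel, Units.val_one, one_mulVec]

theorem mulVec_inv (g : GL (Fin n) F) (v : Fin n → F) : g.1 *ᵥ ((g⁻¹).1 *ᵥ v) = v := by
  rw [mulVec_mulVec, ← Units.val_mul, mul_inv_cancel, Units.val_one, one_mulVec]

theorem mem_im {g : GL (Fin n) F} {W : Submodule F (Fin n → F)} {v : Fin n → F} :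
    v ∈ im g W ↔ (g⁻¹).1 *ᵥ v ∈ W := by
  constructor
  · rintro ⟨w, hw, rfl⟩
    rw [mulVecLin_apply, inv_mulVec]; exact hw
  · exact fun h => ⟨_, h, mulVec_inv g v⟩

theorem finrank_im (g : GL (Fin n) F) (W : Submodule F (Fin n → F)) : finrank F (im g W) = finrank F W := by
  have hinj : Function.Injective g.1.mulVecLin := fun a b h => by
    have := congrArg ((g⁻¹).1 *ᵥ ·) h
    simpa [inv_mulVec] using this
  exact (Submodule.equivMapOfInjective _ hinj W).finrank_eq.symm

theorem im_inf (g : GL (Fin n) F) (W W' : Submodule F (Fin n → F)) : im g (W ⊓ W') = im g W ⊓ im g W' := by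
  ext v; simp [mem_im]

theorem im_eq_iff {g : GL (Fin n) F} {W : Submodule F (Fin n → F)} : g ∈ stab W ↔ im g W = W := by
  constructor
  · intro h
    ext v
    rw [mem_im, mem_stab.1 h, mulVec_inv]
  · intro h v
    show v ∈ W ↔ g.1 *ᵥ v ∈ W
    rw [← SetLike.ext_iff.1 h (g.1 *ᵥ v), mem_im, inv_mulVec]

/-- The matrix of a linear automorphism. -/
noncomputable def ofEquiv (e : (Fin n → F) ≃ₗ[F] (Fin n → F)) : GL (Fin n) F where
  val := LinearMap.toMatrix' (e : (Fin n → F) →ₗ[F] (Fin n → F))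
  inv := LinearMap.toMatrix' (e.symm : (Fin n → F) →ₗ[F] (Fin n → F))
  val_inv := by rw [← LinearMap.toMatrix'_comp]; simp
  inv_val := by rw [← LinearMap.toMatrix'_comp]; simp

theorem ofEquiv_mulVec (e : (Fin n → F) ≃ₗ[F] (Fin n → F)) (v : Fin n → F) : (ofEquiv e).1 *ᵥ v = e v :=
  LinearMap.toMatrix'_mulVec _ _

/-- Independent families are related by an automorphism. -/
theorem exists_equiv_of_indep {ι : Type*} [Fintype ι] {v w : ι → Fin n → F} (hv : LinearIndependent F v)
    (hw : LinearIndependent F w) : ∃ g : GL (Fin n) F, ∀ i, g.1 *ᵥ v i = w i := by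
  classical
  obtain ⟨C, hC⟩ := Submodule.exists_isCompl (Submodule.span F (Set.range v))
  obtain ⟨D, hD⟩ := Submodule.exists_isCompl (Submodule.span F (Set.range w))
  have h1 := Submodule.finrank_add_eq_of_isCompl hC
  have h2 := Submodule.finrank_add_eq_of_isCompl hD
  rw [finrank_span_eq_card hv] at h1
  rw [finrank_span_eq_card hw] at h2
  let e := (Submodule.prodEquivOfIsCompl _ C hC).symm.trans
    ((((Basis.span hv).equiv (Basis.span hw) (Equiv.refl ι)).prodCongr (LinearEquiv.ofFinrankEq C D (by omega))).trans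
      (Submodule.prodEquivOfIsCompl _ D hD))
  refine ⟨ofEquiv e, fun i => ?_⟩
  have hi : (Submodule.prodEquivOfIsCompl _ C hC).symm (v i) = (Basis.span hv i, 0) := by
    rw [LinearEquiv.symm_apply_eq]; simp [Basis.span_apply]
  rw [ofEquiv_mulVec]
  show (Submodule.prodEquivOfIsCompl _ D hD) ((((Basis.span hv).equiv (Basis.span hw) (Equiv.refl ι)).prodCongr _)
    ((Submodule.prodEquivOfIsCompl _ C hC).symm (v i))) = w i
  rw [hi, LinearEquiv.prodCongr_apply, Basis.equiv_apply]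
  simp [Basis.span_apply]

/-- Transvections. -/
theorem exists_transvection (φ a : Fin n → F) (h : φ ⬝ᵥ a = 0) :
    ∃ g : GL (Fin n) F, ∀ v, g.1 *ᵥ v = v + (φ ⬝ᵥ v) • a := by
  refine ⟨((Matrix.isUnit_iff_isUnit_det _).2 (?_ : IsUnit (1 + Matrix.vecMulVec a φ).det)).unit, fun v => ?_⟩
  · rw [det_one_add_vecMulVec, h, add_zero]; exact isUnit_one
  · rw [IsUnit.unit_spec, add_mulVec, one_mulVec, vecMulVec_mulVec, op_smul_eq_smul]

theorem trans_mem_stab {W : Submodule F (Fin n → F)} {g : GL (Fin n) F} {φ a : Fin n → F}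
    (hg : ∀ v, g.1 *ᵥ v = v + (φ ⬝ᵥ v) • a) (h0 : φ ⬝ᵥ a = 0) (h : a ∈ W ∨ ∀ w ∈ W, φ ⬝ᵥ w = 0) :
    g ∈ stab W := by
  intro v
  show v ∈ W ↔ g.1 *ᵥ v ∈ W
  rcases h with h | h
  · rw [hg]; exact (Submodule.add_mem_iff_left _ (W.smul_mem _ h)).symm
  · refine ⟨fun hv => by rw [hg, h v hv, zero_smul, add_zero]; exact hv, fun hv => ?_⟩
    have h' := h _ hv
    rw [hg, dotProduct_add, dotProduct_smul, h0, smul_zero, add_zero] at h'
    rwa [hg, h', zero_smul, add_zero] at hv

theorem eq_of_stab_le {U U' : Submodule F (Fin n → F)} (hU : U ≠ ⊥) (hU' : U' ≠ ⊥) (hU'' : U' ≠ ⊤)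
    (h : stab U ≤ stab U') : U = U' := by
  have move : ∀ (φ a x : Fin n → F), φ ⬝ᵥ a = 0 → (a ∈ U ∨ ∀ w ∈ U, φ ⬝ᵥ w = 0) → φ ⬝ᵥ x = 1 → x ∈ U' →
      a ∈ U' := by
    intro φ a x h0 hor hx hxU
    obtain ⟨g, hg⟩ := exists_transvection φ a h0
    have : g.1 *ᵥ x ∈ U' := (h (trans_mem_stab hg h0 hor) x).1 hxU
    rw [hg, hx, one_smul] at this
    exact (Submodule.add_mem_iff_right _ hxU).1 this
  by_cases hle : U' ≤ U
  · by_contra hne
    obtain ⟨u, huU, huU'⟩ := SetLike.exists_of_lt (lt_of_le_of_ne hle (Ne.symm hne))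
    obtain ⟨x, hxU', hx0⟩ := Submodule.exists_mem_ne_zero_of_ne_bot hU'
    have hx : x ∉ Submodule.span F {u} := fun hh => by
      obtain ⟨c, rfl⟩ := Submodule.mem_span_singleton.1 hh
      exact huU' ((Submodule.smul_mem_iff _ (fun hc => hx0 (by rw [hc, zero_smul]))).1 hxU')
    obtain ⟨φ, hφx, hφu⟩ := exists_dual_one _ hx
    exact huU' (move φ u x (hφu u (Submodule.mem_span_singleton_self u)) (Or.inl huU) hφx hxU')
  · obtain ⟨x, hxU', hxU⟩ := SetLike.not_le_iff_exists.1 hle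
    have hUU' : U ≤ U' := fun u hu => by
      obtain ⟨φ, hφx, hφU⟩ := exists_dual_one U hxU
      exact move φ u x (hφU u hu) (Or.inl hu) hφx hxU'
    exfalso
    apply hU''
    rw [Submodule.eq_top_iff']
    intro y
    by_contra hy
    have hx' : x ∉ U ⊔ Submodule.span F {y} := fun hh => by
      obtain ⟨u, hu, z, hz, e⟩ := Submodule.mem_sup.1 hh
      obtain ⟨c, rfl⟩ := Submodule.mem_span_singleton.1 hz
      have hc : c ≠ 0 := fun hc => hxU (by rw [← e, hc, zero_smul, add_zero]; exact hu)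
      have : c • y ∈ U' := by
        rw [show c • y = x - u by rw [← e, add_sub_cancel_left]]; exact U'.sub_mem hxU' (hUU' hu)
      exact hy ((Submodule.smul_mem_iff _ hc).1 this)
    obtain ⟨φ, hφx, hφU⟩ := exists_dual_one _ hx'
    exact hy (move φ y x (hφU y (Submodule.mem_sup_right (Submodule.mem_span_singleton_self y)))
      (Or.inr fun w hw => hφU w (Submodule.mem_sup_left hw)) hφx hxU')

/-- Transitivity on adjacent pairs. -/
theorem exists_adjacent_map {k : ℕ} {W X X' : Submodule F (Fin n → F)} (hW : finrank F W = k)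
    (hX : finrank F X = k) (hX' : finrank F X' = k) (h : finrank F ↥(W ⊓ X) + 1 = k)
    (h' : finrank F ↥(W ⊓ X') + 1 = k) : ∃ g : GL (Fin n) F, im g W = W ∧ im g X = X' := by
  obtain ⟨j, rfl⟩ : ∃ j, k = j + 1 := ⟨k - 1, by omega⟩
  have data : ∀ X : Submodule F (Fin n → F), finrank F X = j + 1 → finrank F ↥(W ⊓ X) + 1 = j + 1 →
      ∃ v : Fin (j + 2) → Fin n → F, LinearIndependent F v ∧
        W = Submodule.span F (Set.range (v ∘ Fin.castSucc)) ∧
        X = Submodule.span F (Set.range (v ∘ Fin.succ)) := by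
    intro X hX h
    obtain ⟨a, haW, haI⟩ := SetLike.exists_of_lt (lt_of_le_of_ne (inf_le_left : W ⊓ X ≤ W)
      (fun e => by rw [e] at h; omega))
    obtain ⟨b, hbX, hbI⟩ := SetLike.exists_of_lt (lt_of_le_of_ne (inf_le_right : W ⊓ X ≤ X)
      (fun e => by rw [e] at h; omega))
    let B := Module.finBasisOfFinrankEq F ↥(W ⊓ X) (show finrank F ↥(W ⊓ X) = j by omega)
    let y : Fin j → Fin n → F := fun i => (B i : Fin n → F)
    have hy : LinearIndependent F y := B.linearIndependent.map' (Submodule.subtype _) (Submodule.ker_subtype _)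
    have hspan : Submodule.span F (Set.range y) = W ⊓ X := by
      refine Submodule.eq_of_le_of_finrank_eq (Submodule.span_le.2 ?_) ?_
      · rintro _ ⟨i, rfl⟩; exact (B i).2
      · rw [finrank_span_eq_card hy, Fintype.card_fin]; omega
    have ha : a ∉ Submodule.span F (Set.range y) := hspan ▸ haI
    have hb : b ∉ Submodule.span F (Set.range (Fin.cons a y : Fin (j + 1) → Fin n → F)) := by
      rw [Fin.range_cons, Submodule.mem_span_insert, hspan]
      rintro ⟨c, z, hz, rfl⟩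
      have hca : c • a ∈ X := by
        have := X.sub_mem hbX hz.2
        simpa using this
      exact hbI ⟨W.add_mem (W.smul_mem _ haW) hz.1, hbX⟩
    have hv : LinearIndependent F (Fin.snoc (Fin.cons a y : Fin (j + 1) → Fin n → F) b : Fin (j + 2) → Fin n → F) :=
      linearIndependent_finSnoc.2 ⟨linearIndependent_finCons.2 ⟨hy, ha⟩, hb⟩
    refine ⟨_, hv, ?_, ?_⟩
    · rw [show (Fin.snoc (Fin.cons a y : Fin (j + 1) → Fin n → F) b : Fin (j + 2) → Fin n → F) ∘ Fin.castSucc =
        Fin.cons a y from funext fun i => Fin.snoc_castSucc ..]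
      refine (Submodule.eq_of_le_of_finrank_eq (Submodule.span_le.2 ?_) ?_).symm
      · rintro _ ⟨i, rfl⟩
        refine Fin.cases ?_ (fun i => ?_) i
        · exact haW
        · exact (B i).2.1
      · rw [finrank_span_eq_card (linearIndependent_finCons.2 ⟨hy, ha⟩), Fintype.card_fin, hW]
    · refine (Submodule.eq_of_le_of_finrank_eq (Submodule.span_le.2 ?_) ?_).symm
      · rintro _ ⟨i, rfl⟩
        show (Fin.snoc (Fin.cons a y : Fin (j + 1) → Fin n → F) b : Fin (j + 2) → Fin n → F) i.succ ∈ X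
        refine Fin.lastCases ?_ (fun i => ?_) i
        · rw [Fin.succ_last, Fin.snoc_last]; exact hbX
        · rw [Fin.succ_castSucc, Fin.snoc_castSucc, Fin.cons_succ]; exact (B i).2.2
      · rw [finrank_span_eq_card (hv.comp _ (Fin.succ_injective _)), Fintype.card_fin, hX]
  obtain ⟨v, hv, hvW, hvX⟩ := data X hX h
  obtain ⟨w, hw, hwW, hwX⟩ := data X' hX' h'
  obtain ⟨g, hg⟩ := exists_equiv_of_indep hv hw
  have e : ∀ (σ : Fin (j + 1) → Fin (j + 2)), im g (Submodule.span F (Set.range (v ∘ σ))) =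
      Submodule.span F (Set.range (w ∘ σ)) := fun σ => by
    rw [im, Submodule.map_span, ← Set.range_comp]
    congr 2
    funext i; simp [hg]
  refine ⟨g, ?_, ?_⟩
  · conv_lhs => rw [hvW]
    rw [e, ← hwW]
  · rw [hvX, e, ← hwX]

theorem isCoatom_stab {W₀ : Submodule F (Fin n → F)} (h0 : W₀ ≠ ⊥) (h1 : W₀ ≠ ⊤) : IsCoatom (stab W₀) := by
  set k := finrank F W₀ with hk
  have hlt : k < n := by
    have := Submodule.finrank_lt h1
    simpa [hk] using this
  constructor
  · intro htop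
    obtain ⟨x, hx, hx0⟩ := Submodule.exists_mem_ne_zero_of_ne_bot h0
    obtain ⟨y, -, hy⟩ := SetLike.exists_of_lt (lt_top_iff_ne_top.2 h1)
    have hx' : x ∉ Submodule.span F {y} := fun hh => by
      obtain ⟨c, rfl⟩ := Submodule.mem_span_singleton.1 hh
      exact hy ((Submodule.smul_mem_iff _ (fun hc => hx0 (by rw [hc, zero_smul]))).1 hx)
    obtain ⟨φ, hφx, hφy⟩ := exists_dual_one _ hx'
    obtain ⟨g, hg⟩ := exists_transvection φ y (hφy y (Submodule.mem_span_singleton_self y))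
    have : g.1 *ᵥ x ∈ W₀ := ((htop ▸ Subgroup.mem_top g : g ∈ stab W₀) x).1 hx
    rw [hg, hφx, one_smul] at this
    exact hy ((Submodule.add_mem_iff_right _ hx).1 this)
  intro K hK
  obtain ⟨g₁, hg₁K, hg₁⟩ := SetLike.exists_of_lt hK
  have hPK : stab W₀ ≤ K := hK.le
  -- one adjacency inside the orbit
  obtain ⟨a, b, haK, hbK, hab⟩ : ∃ a b, a ∈ K ∧ b ∈ K ∧ finrank F ↥(im a W₀ ⊓ im b W₀) + 1 = k := by
    set W₁ := im g₁ W₀ with hW₁
    have hd1 : finrank F W₁ = k := finrank_im _ _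
    have hne : W₁ ≠ W₀ := fun e => hg₁ (im_eq_iff.2 e)
    have hI : W₀ ⊓ W₁ ≠ W₁ := fun e => hne (Submodule.eq_of_le_of_finrank_eq (inf_eq_right.1 e) hd1)
    obtain ⟨Y, hY, hIY⟩ := (eq_top_or_exists_le_coatom ((W₀ ⊓ W₁).comap W₁.subtype)).resolve_left (fun htop =>
      hI (le_antisymm inf_le_right fun x hx =>
        (show (⟨x, hx⟩ : W₁) ∈ (W₀ ⊓ W₁).comap W₁.subtype from htop ▸ Submodule.mem_top)))
    obtain ⟨⟨c, hcW⟩, -, hcY⟩ := SetLike.exists_of_lt (lt_top_iff_ne_top.2 hY.1)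
    obtain ⟨w₀, hw₀, hw₀'⟩ := SetLike.exists_of_lt (lt_of_le_of_ne (inf_le_left : W₀ ⊓ W₁ ≤ W₀)
      (fun e => hne (Submodule.eq_of_le_of_finrank_eq (inf_eq_left.1 e) hd1.symm).symm))
    have hY' : Y.map W₁.subtype ⊔ Submodule.span F {c} = W₁ := by
      refine le_antisymm (sup_le (Submodule.map_subtype_le _ _) ((Submodule.span_singleton_le_iff_mem _ _).2 hcW)) ?_
      have hs : Y ⊔ Submodule.span F {(⟨c, hcW⟩ : W₁)} = ⊤ := hY.2 _ (lt_of_le_of_ne le_sup_left
        fun e => hcY (e ▸ Submodule.mem_sup_right (Submodule.mem_span_singleton_self _)))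
      intro x hx
      have : (⟨x, hx⟩ : W₁) ∈ Y ⊔ Submodule.span F {(⟨c, hcW⟩ : W₁)} := hs ▸ Submodule.mem_top
      obtain ⟨y, hy, z, hz, e⟩ := Submodule.mem_sup.1 this
      obtain ⟨r, rfl⟩ := Submodule.mem_span_singleton.1 hz
      exact Submodule.mem_sup.2 ⟨y, ⟨y, hy, rfl⟩, r • c, Submodule.smul_mem _ _ (Submodule.mem_span_singleton_self c),
        congrArg Subtype.val e⟩
    set Y' := Y.map W₁.subtype with hY'def
    have hcY' : c ∉ Y' := fun ⟨y, hy, e⟩ => hcY ((Subtype.ext e : y = ⟨c, hcW⟩) ▸ hy)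
    have hw₀W₁ : w₀ ∉ W₁ := fun hh => hw₀' ⟨hw₀, hh⟩
    have hc2 : c ∉ Y' ⊔ Submodule.span F {w₀} := fun hh => by
      obtain ⟨y, hy, z, hz, e⟩ := Submodule.mem_sup.1 hh
      obtain ⟨r, rfl⟩ := Submodule.mem_span_singleton.1 hz
      have hyW : y ∈ W₁ := Submodule.map_subtype_le _ _ hy
      have hr : r • w₀ ∈ W₁ := by
        rw [show r • w₀ = c - y by rw [← e, add_sub_cancel_left]]; exact W₁.sub_mem hcW hyW
      by_cases hr0 : r = 0
      · exact hcY' (by rw [← e, hr0, zero_smul, add_zero]; exact hy)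
      · exact hw₀W₁ ((Submodule.smul_mem_iff _ hr0).1 hr)
    obtain ⟨φ, hφc, hφY⟩ := exists_dual_one _ hc2
    have hφw := hφY w₀ (Submodule.mem_sup_right (Submodule.mem_span_singleton_self _))
    obtain ⟨g, hg⟩ := exists_transvection φ w₀ hφw
    refine ⟨g₁, g * g₁, hg₁K, K.mul_mem (hPK (trans_mem_stab hg hφw (Or.inl hw₀))) hg₁K, ?_⟩
    rw [im_mul, ← hW₁]
    have hfix : ∀ y ∈ Y', g.1 *ᵥ y = y := fun y hy => by
      rw [hg, hφY y (Submodule.mem_sup_left hy), zero_smul, add_zero]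
    have e : W₁ ⊓ im g W₁ = Y' := by
      refine le_antisymm (fun x ⟨hx, hx'⟩ => ?_)
        (le_inf (Submodule.map_subtype_le _ _) fun y hy => ⟨y, Submodule.map_subtype_le _ _ hy, hfix y hy⟩)
      obtain ⟨z, hz, rfl⟩ := hx'
      rw [SetLike.mem_coe, ← hY', Submodule.mem_sup] at hz
      obtain ⟨y, hy, z', hz', rfl⟩ := hz
      obtain ⟨r, rfl⟩ := Submodule.mem_span_singleton.1 hz'
      rw [mulVecLin_apply, mulVec_add, mulVec_smul, hfix y hy, hg, hφc, one_smul, smul_add] at hx ⊢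
      have hr : r • w₀ ∈ W₁ := by
        have := W₁.sub_mem (W₁.sub_mem hx (Submodule.map_subtype_le _ _ hy)) (W₁.smul_mem r hcW)
        simpa using this
      by_cases hr0 : r = 0
      · simp [hr0, hy]
      · exact absurd ((Submodule.smul_mem_iff _ hr0).1 hr) hw₀W₁
    rw [e, ← hd1, ← hY', Submodule.finrank_sup_span_singleton hcY']
  -- every subspace adjacent to W₀ is in the orbit
  set X₀ := im (a⁻¹ * b) W₀ with hX₀
  have hX₀a : finrank F ↥(W₀ ⊓ X₀) + 1 = k := by
    have h := finrank_im a (W₀ ⊓ X₀)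
    rw [im_inf, hX₀, ← im_mul, mul_inv_cancel_left] at h
    rw [hX₀, ← h]; exact hab
  have adj : ∀ X : Submodule F (Fin n → F), finrank F X = k → finrank F ↥(W₀ ⊓ X) + 1 = k →
      ∃ h ∈ K, im h W₀ = X := fun X hX h => by
    obtain ⟨g, hgW, hgX⟩ := exists_adjacent_map hk.symm (finrank_im (a⁻¹ * b) W₀) hX hX₀a h
    exact ⟨g * (a⁻¹ * b), K.mul_mem (hPK (im_eq_iff.2 hgW)) (K.mul_mem (K.inv_mem haK) hbK),
      by rw [im_mul]; exact hgX⟩
  have all : ∀ (d : ℕ) (X : Submodule F (Fin n → F)), finrank F X = k →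
      ∀ h ∈ K, k - finrank F ↥(im h W₀ ⊓ X) = d → ∃ h' ∈ K, im h' W₀ = X := by
    intro d
    induction d using Nat.strong_induction_on with
    | _ d ih =>
      intro X hX h hh hd
      set W := im h W₀ with hWdef
      have hdW : finrank F W = k := finrank_im _ _
      by_cases hWX : W ⊓ X = W
      · exact ⟨h, hh, Submodule.eq_of_le_of_finrank_eq (inf_eq_left.1 hWX) (hdW.trans hX.symm)⟩
      obtain ⟨Y, hY, hIY⟩ := (eq_top_or_exists_le_coatom ((W ⊓ X).comap W.subtype)).resolve_left (fun htop =>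
        hWX (le_antisymm inf_le_left fun x hx =>
          (show (⟨x, hx⟩ : W) ∈ (W ⊓ X).comap W.subtype from htop ▸ Submodule.mem_top)))
      obtain ⟨x, hxX, hxI⟩ := SetLike.exists_of_lt (lt_of_le_of_ne (inf_le_right : W ⊓ X ≤ X)
        (fun e => hWX (Submodule.eq_of_le_of_finrank_eq inf_le_left (by rw [e, hX, hdW]))))
      have hxW : x ∉ W := fun hh' => hxI ⟨hh', hxX⟩
      set Y' := Y.map W.subtype with hY'def
      have hYW : Y' ≤ W := Submodule.map_subtype_le _ _
      have hdY : finrank F Y' + 1 = k := by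
        obtain ⟨c, -, hc⟩ := SetLike.exists_of_lt (lt_top_iff_ne_top.2 hY.1)
        have := Submodule.finrank_sup_span_singleton hc
        rw [hY.2 _ (lt_of_le_of_ne le_sup_left fun e => hc (e ▸ Submodule.mem_sup_right
          (Submodule.mem_span_singleton_self _))), finrank_top, hdW] at this
        rw [hY'def, Submodule.finrank_map_subtype_eq]; omega
      set W' := Y' ⊔ Submodule.span F {x} with hW'def
      have hxY : x ∉ Y' := fun hh' => hxW (hYW hh')
      have hdW' : finrank F W' = k := by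
        rw [hW'def, Submodule.finrank_sup_span_singleton hxY]; omega
      have hWW' : finrank F ↥(W ⊓ W') + 1 = k := by
        have e1 : Y' ≤ W ⊓ W' := le_inf hYW le_sup_left
        have e2 : W ⊓ W' < W' := lt_of_le_of_ne inf_le_right fun e =>
          hxW ((inf_eq_right.1 e) (Submodule.mem_sup_right (Submodule.mem_span_singleton_self x)))
        have := Submodule.finrank_mono e1
        have := Submodule.finrank_lt_finrank_of_lt e2
        omega
      obtain ⟨h₂, hh₂, hW₂⟩ := adj (im h⁻¹ W') (by rw [finrank_im, hdW']) (by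
        have e := finrank_im h (W₀ ⊓ im h⁻¹ W')
        rw [im_inf, ← im_mul, mul_inv_cancel, im_one] at e
        rw [← e]; exact hWW')
      have hgt : W ⊓ X < W' ⊓ X := by
        refine lt_of_le_of_ne (le_inf ?_ inf_le_right) fun e =>
          hxW (e ▸ (⟨Submodule.mem_sup_right (Submodule.mem_span_singleton_self x), hxX⟩ : x ∈ W' ⊓ X) :
            x ∈ W ⊓ X).1
        exact fun z hz => Submodule.mem_sup_left ⟨⟨z, hz.1⟩, hIY (show (⟨z, hz.1⟩ : W) ∈ _ from hz), rfl⟩
      have hgt' := Submodule.finrank_lt_finrank_of_lt hgt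
      have hle : finrank F ↥(W' ⊓ X) ≤ k := hX ▸ Submodule.finrank_mono inf_le_right
      have he : im (h * h₂) W₀ = W' := by rw [im_mul, hW₂, ← im_mul, mul_inv_cancel, im_one]
      exact ih (k - finrank F ↥(W' ⊓ X)) (by omega) X hX (h * h₂) (K.mul_mem hh hh₂) (by rw [he])
  rw [eq_top_iff]
  intro g _
  obtain ⟨h, hh, e⟩ := all _ (im g W₀) (finrank_im _ _) 1 K.one_mem rfl
  have : h⁻¹ * g ∈ stab W₀ := im_eq_iff.2 (by rw [im_mul, ← e, ← im_mul, inv_mul_cancel, im_one])
  have := K.mul_mem hh (hPK this)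
  rwa [mul_inv_cancel_left] at this

/-- Vectors supported on the first k coordinates. -/
def coordSub (F : Type*) [Field F] (n k : ℕ) : Submodule F (Fin n → F) where
  carrier := {v | ∀ i : Fin n, k ≤ (i : ℕ) → v i = 0}
  add_mem' ha hb i hi := by simp [ha i hi, hb i hi]
  zero_mem' i _ := rfl
  smul_mem' c v hv i hi := by simp [hv i hi]

theorem coordSub_ne {k : ℕ} (hk0 : 0 < k) (hkn : k < n) : coordSub F n k ≠ ⊥ ∧ coordSub F n k ≠ ⊤ := by
  refine ⟨fun h => ?_, fun h => ?_⟩
  · have h1 : (Pi.single (⟨0, by omega⟩ : Fin n) (1 : F)) ∈ coordSub F n k := fun i hi =>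
      Pi.single_eq_of_ne (fun e => by simp [e] at hi; omega) _
    rw [h, Submodule.mem_bot] at h1
    have := congrFun h1 ⟨0, by omega⟩
    simp at this
  · have h1 : (Pi.single (⟨k, hkn⟩ : Fin n) (1 : F)) ∈ coordSub F n k := h ▸ Submodule.mem_top
    have := h1 ⟨k, hkn⟩ le_rfl
    simp at this

theorem maps_iff {k : ℕ} (M : Matrix (Fin n) (Fin n) F) :
    (∀ v ∈ coordSub F n k, M *ᵥ v ∈ coordSub F n k) ↔ ∀ i j : Fin n, k ≤ (i : ℕ) → (j : ℕ) < k → M i j = 0 := by
  constructor
  · intro h i j hi hj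
    have := h (Pi.single j 1) (fun l hl => Pi.single_eq_of_ne (fun e => by subst e; omega) _) i hi
    simpa using this
  · intro h v hv i hi
    show ∑ j, M i j * v j = 0
    refine Finset.sum_eq_zero fun j _ => ?_
    by_cases hj : (j : ℕ) < k
    · simp [h i j hi hj]
    · simp [hv j (by omega)]

theorem mem_stab_iff {k : ℕ} (g : GL (Fin n) F) : g ∈ stab (coordSub F n k) ↔
    (∀ i j : Fin n, k ≤ (i : ℕ) → (j : ℕ) < k → g.1 i j = 0) ∧
      ∀ i j : Fin n, k ≤ (i : ℕ) → (j : ℕ) < k → (g⁻¹).1 i j = 0 := by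
  rw [← maps_iff, ← maps_iff]
  constructor
  · exact fun h => ⟨fun v hv => (h v).1 hv, fun v hv => (h _).2 (show g.1 *ᵥ ((g⁻¹).1 *ᵥ v) ∈ coordSub F n k by rw [mulVec_inv]; exact hv)⟩
  · exact fun ⟨h1, h2⟩ v => ⟨h1 v, fun hv => inv_mulVec g v ▸ h2 _ hv⟩

/-- Reversed inverse transpose. -/
def dual : GL (Fin n) F ≃* GL (Fin n) F where
  toFun g := ⟨((g⁻¹).1.submatrix Fin.revPerm Fin.revPerm)ᵀ, (g.1.submatrix Fin.revPerm Fin.revPerm)ᵀ,
    by rw [← transpose_mul, submatrix_mul_equiv, ← Units.val_mul, mul_inv_cancel, Units.val_one,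
      submatrix_one_equiv, transpose_one],
    by rw [← transpose_mul, submatrix_mul_equiv, ← Units.val_mul, inv_mul_cancel, Units.val_one,
      submatrix_one_equiv, transpose_one]⟩
  invFun g := ⟨((g⁻¹).1.submatrix Fin.revPerm Fin.revPerm)ᵀ, (g.1.submatrix Fin.revPerm Fin.revPerm)ᵀ,
    by rw [← transpose_mul, submatrix_mul_equiv, ← Units.val_mul, mul_inv_cancel, Units.val_one,
      submatrix_one_equiv, transpose_one],
    by rw [← transpose_mul, submatrix_mul_equiv, ← Units.val_mul, inv_mul_cancel, Units.val_one,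
      submatrix_one_equiv, transpose_one]⟩
  left_inv g := Units.ext (by ext i j; simp)
  right_inv g := Units.ext (by ext i j; simp)
  map_mul' g h := Units.ext (by
    show ((g * h)⁻¹.1.submatrix _ _)ᵀ = _ * _
    rw [_root_.mul_inv_rev, Units.val_mul, ← submatrix_mul_equiv _ _ _ Fin.revPerm, transpose_mul])

theorem dual_mem {k : ℕ} (hk : k ≤ n) (g : GL (Fin n) F) :
    dual g ∈ stab (coordSub F n (n - k)) ↔ g ∈ stab (coordSub F n k) := by
  rw [mem_stab_iff, mem_stab_iff, and_comm]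
  have key : ∀ M : Matrix (Fin n) (Fin n) F,
      (∀ i j : Fin n, n - k ≤ (i : ℕ) → (j : ℕ) < n - k → (M.submatrix Fin.revPerm Fin.revPerm)ᵀ i j = 0) ↔
        ∀ i j : Fin n, k ≤ (i : ℕ) → (j : ℕ) < k → M i j = 0 := fun M => by
    constructor
    · intro h i j hi hj
      have := h (Fin.rev j) (Fin.rev i) (by rw [Fin.val_rev]; omega) (by rw [Fin.val_rev]; omega)
      simpa using this
    · intro h i j hi hj
      exact h _ _ (by simp [Fin.val_rev]; omega) (by simp [Fin.val_rev]; omega)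
  exact and_congr (key _) (key _)

theorem finrank_coordSub {k : ℕ} (hk : k ≤ n) : finrank F (coordSub F n k) = k := by
  let e : coordSub F n k ≃ₗ[F] (Fin k → F) :=
    { toFun := fun v i => v.1 (Fin.castLE hk i)
      map_add' := fun _ _ => rfl
      map_smul' := fun _ _ => rfl
      invFun := fun w => ⟨fun i => if h : (i : ℕ) < k then w ⟨i, h⟩ else 0,
        fun i hi => dif_neg (Nat.not_lt.2 hi)⟩
      left_inv := fun v => Subtype.ext (funext fun i => by
        by_cases h : (i : ℕ) < k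
        · simp [h]
        · simp [h, v.2 i (Nat.not_lt.1 h)])
      right_inv := fun w => funext fun i => by simp }
  rw [e.finrank_eq, Module.finrank_fin_fun]

theorem map_conj_stab (g : GL (Fin n) F) (W : Submodule F (Fin n → F)) :
    (stab W).map (MulAut.conj g).toMonoidHom = stab (im g W) := by
  ext h
  rw [im_eq_iff]
  constructor
  · rintro ⟨x, hx, rfl⟩
    have hx' : im x W = W := im_eq_iff.1 hx
    show im (g * x * g⁻¹) (im g W) = im g W
    rw [← im_mul, inv_mul_cancel_right, im_mul, hx']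
  · intro hh
    refine ⟨g⁻¹ * h * g, im_eq_iff.2 ?_, by simp [mul_assoc]⟩
    rw [im_mul, im_mul, hh, ← im_mul, inv_mul_cancel, im_one]

theorem stab_dual_inequivalent {k : ℕ} (hk0 : 0 < k) (hkn : k < n) (h2 : 2 * k ≠ n) :
    Nonempty (stab (coordSub F n k) ≃* stab (coordSub F n (n - k))) ∧ ∀ g : GL (Fin n) F,
      (stab (coordSub F n k)).map (MulAut.conj g).toMonoidHom ≠ stab (coordSub F n (n - k)) := by
  refine ⟨⟨(dual.subgroupMap _).trans (MulEquiv.subgroupCongr ?_)⟩, fun g h => h2 ?_⟩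
  · ext x
    obtain ⟨y, rfl⟩ := (dual (F := F) (n := n)).surjective x
    constructor
    · rintro ⟨z, hz, e⟩
      rw [← (dual (F := F) (n := n)).injective e]
      exact (dual_mem hkn.le z).2 hz
    · exact fun h => ⟨y, (dual_mem hkn.le y).1 h, rfl⟩
  · rw [map_conj_stab] at h
    obtain ⟨a0, -⟩ := coordSub_ne (F := F) hk0 hkn
    obtain ⟨b0, b1⟩ := coordSub_ne (F := F) (k := n - k) (n := n) (by omega) (by omega)
    have a0' : im g (coordSub F n k) ≠ ⊥ := fun e => by
      have := finrank_im g (coordSub F n k)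
      rw [e, finrank_bot, finrank_coordSub hkn.le] at this
      omega
    have := congrArg (fun W : Submodule F (Fin n → F) => finrank F W) (eq_of_stab_le a0' b0 b1 h.le)
    simp only [finrank_im, finrank_coordSub hkn.le, finrank_coordSub (Nat.sub_le n k)] at this
    omega

end Cfsg.Agent.Classical.GLPar
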