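import Mathlib
import Cfsg.Prelude.Def_ClassicalGeometry

/-!
The normaliser of the diagonal torus of GL_n and the order of the stabiliser of a coordinate subspace.
-/

set_option autoImplicit false

namespace Cfsg.Agent.Classical

open Matrix

section mono

variable {F : Type*} [Field F] {n : ℕ}

theorem mem_diagTorus {g : GL (Fin n) F} :
    g ∈ ((Units.map (Matrix.diagonalRingHom (Fin n) F).toMonoidHom).range : Subgroup (GL (Fin n) F)) ↔
      ∀ i j, i ≠ j → g.1 i j = 0 := by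
  constructor
  · rintro ⟨d, rfl⟩ i j hij
    exact Matrix.diagonal_apply_ne _ hij
  · intro h
    have hd : g.1 = Matrix.diagonal fun i => g.1 i i := by
      ext i j
      rcases eq_or_ne i j with rfl | hij
      · simp
      · simp [h i j hij, hij]
    have hne : ∀ i, g.1 i i ≠ 0 := fun i hi => by
      have := (Matrix.isUnit_iff_isUnit_det _).1 g.isUnit
      rw [hd, Matrix.det_diagonal] at this
      exact (Finset.prod_ne_zero_iff.1 this.ne_zero) i (Finset.mem_univ _) hi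
    refine ⟨⟨fun i => g.1 i i, fun i => (g.1 i i)⁻¹, funext fun i => mul_inv_cancel₀ (hne i),
      funext fun i => inv_mul_cancel₀ (hne i)⟩, Units.ext ?_⟩
    exact hd.symm

theorem exists_row_ne_zero (g : GL (Fin n) F) (i : Fin n) : ∃ j, g.1 i j ≠ 0 := by
  by_contra h
  push Not at h
  have h1 : (g.1 * (g⁻¹).1) i i = 1 := by rw [← Units.val_mul, mul_inv_cancel]; simp
  rw [Matrix.mul_apply, Finset.sum_eq_zero fun j _ => by rw [h j, zero_mul]] at h1
  exact zero_ne_one h1

theorem monomial_of_normalizes {a : F} (ha0 : a ≠ 0) (ha1 : a ≠ 1) {g : GL (Fin n) F}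
    (hg : ∀ d : GL (Fin n) F, (∀ i j, i ≠ j → d.1 i j = 0) → ∀ i j, i ≠ j → (g * d * g⁻¹).1 i j = 0) :
    ∀ i : Fin n, ∃! j : Fin n, g.1 i j ≠ 0 := by
  intro i
  obtain ⟨j, hj⟩ := exists_row_ne_zero g i
  refine ⟨j, hj, fun k hk => ?_⟩
  by_contra hne
  have hD : (Matrix.diagonal fun t : Fin n => if t = k then a else 1).det ≠ 0 := by
    rw [Matrix.det_diagonal, Finset.prod_ne_zero_iff]
    intro t _
    split_ifs
    exacts [ha0, one_ne_zero]
  obtain ⟨d, hd⟩ : ∃ d : GL (Fin n) F, d.1 = Matrix.diagonal fun t => if t = k then a else 1 :=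
    ⟨Matrix.GeneralLinearGroup.mkOfDetNeZero _ hD, rfl⟩
  have hdd : ∀ i j, i ≠ j → d.1 i j = 0 := fun i j h => by rw [hd, Matrix.diagonal_apply_ne _ h]
  have hall := hg d hdd
  set e := (g * d * g⁻¹).1 with he
  have key : g.1 * d.1 = e * g.1 := by
    rw [he, ← Units.val_mul, ← Units.val_mul, inv_mul_cancel_right]
  have hrow : ∀ t, g.1 i t * (if t = k then a else 1) = e i i * g.1 i t := fun t => by
    have h := congrFun (congrFun key i) t
    rw [hd, Matrix.mul_diagonal, Matrix.mul_apply,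
      Finset.sum_eq_single i (fun s _ hs => by rw [hall i s hs.symm, zero_mul])
        (fun h => absurd (Finset.mem_univ _) h)] at h
    exact h
  have hjk := hrow j
  have hkk := hrow k
  rw [if_neg (Ne.symm hne)] at hjk
  rw [if_pos rfl] at hkk
  have h1 : e i i = 1 := mul_right_cancel₀ hj (by linear_combination -hjk)
  rw [h1] at hkk
  exact ha1 (mul_left_cancel₀ hk (by linear_combination hkk))

theorem normalizes_of_monomial {g : GL (Fin n) F} (hg : ∀ i : Fin n, ∃! j : Fin n, g.1 i j ≠ 0)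
    (d : GL (Fin n) F) :
    (∀ i j, i ≠ j → d.1 i j = 0) ↔ ∀ i j, i ≠ j → (g * d * g⁻¹).1 i j = 0 := by
  choose π hπ hπu using hg
  have hz : ∀ i j, j ≠ π i → g.1 i j = 0 := fun i j h => by_contra fun hne => h (hπu i j hne)
  have hinj : Function.Injective π := fun i i' h => by
    by_contra hne
    let v : Fin n → F := Pi.single i (g.1 i' (π i')) + Pi.single i' (-g.1 i (π i))
    have hv : v ᵥ* g.1 = 0 := by
      funext j
      simp only [v, Matrix.add_vecMul, Matrix.single_vecMul, Pi.add_apply, Pi.zero_apply, Pi.smul_apply,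
        smul_eq_mul, Matrix.row_apply]
      rcases eq_or_ne j (π i) with rfl | hj
      · rw [h]; ring
      · rw [hz i j hj, hz i' j (h ▸ hj), mul_zero, mul_zero, add_zero]
    have h0 := congrArg (fun w => w ᵥ* (g⁻¹).1) hv
    simp only [Matrix.vecMul_vecMul, ← Units.val_mul, mul_inv_cancel, Units.val_one, Matrix.vecMul_one,
      Matrix.zero_vecMul] at h0
    have := congrFun h0 i
    simp [v, hne] at this
    exact hπ i' this
  have hsurj : Function.Surjective π := Finite.surjective_of_injective hinj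
  set e := (g * d * g⁻¹).1 with he
  have key : g.1 * d.1 = e * g.1 := by
    rw [he, ← Units.val_mul, ← Units.val_mul, inv_mul_cancel_right]
  have hent : ∀ i k, g.1 i (π i) * d.1 (π i) (π k) = e i k * g.1 k (π k) := fun i k => by
    have h := congrFun (congrFun key i) (π k)
    rw [Matrix.mul_apply, Matrix.mul_apply,
      Finset.sum_eq_single (π i) (fun s _ hs => by rw [hz i s hs, zero_mul]) (fun h => absurd (Finset.mem_univ _) h),
      Finset.sum_eq_single k (fun s _ hs => by rw [hz s (π k) (fun h => hs (hinj h.symm)), mul_zero])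
        (fun h => absurd (Finset.mem_univ _) h)] at h
    exact h
  refine ⟨fun h i k hik => ?_, fun h s t hst => ?_⟩
  · have := hent i k
    rw [h _ _ fun e' => hik (hinj e'), mul_zero] at this
    exact (mul_eq_zero.1 this.symm).resolve_right (hπ k)
  · obtain ⟨i, rfl⟩ := hsurj s
    obtain ⟨k, rfl⟩ := hsurj t
    have := hent i k
    rw [h i k fun e' => hst (congrArg π e'), zero_mul] at this
    exact (mul_eq_zero.1 this).resolve_left (hπ i)

theorem mem_normalizer_diag_iff (hF : ∃ a : F, a ≠ 0 ∧ a ≠ 1) (g : GL (Fin n) F) :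
    g ∈ Subgroup.normalizer ((Units.map (Matrix.diagonalRingHom (Fin n) F).toMonoidHom).range : Subgroup (GL (Fin n) F))
      ↔ ∀ i : Fin n, ∃! j : Fin n, g.1 i j ≠ 0 := by
  obtain ⟨a, ha0, ha1⟩ := hF
  rw [Subgroup.mem_normalizer_iff]
  refine ⟨fun h => monomial_of_normalizes ha0 ha1 fun d hd => mem_diagTorus.1 ((h d).1 (mem_diagTorus.2 hd)),
    fun h d => ?_⟩
  rw [mem_diagTorus, mem_diagTorus]
  exact normalizes_of_monomial h d

end mono

section parabolic

variable {F : Type*} [Field F]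

theorem upper_invariant {k l : ℕ} (g : GL (Fin k ⊕ Fin l) F) :
    (∀ v : Fin k ⊕ Fin l → F, (∀ j, v (.inr j) = 0) ↔ ∀ j, (g.1 *ᵥ v) (.inr j) = 0) ↔ g.1.toBlocks₂₁ = 0 := by
  constructor
  · intro h
    ext j i
    have hv := (h (Pi.single (.inl i) 1)).1 (fun j => by simp) j
    simpa [Matrix.toBlocks₂₁] using hv
  · intro h v
    have hblk : g.1 = Matrix.fromBlocks g.1.toBlocks₁₁ g.1.toBlocks₁₂ 0 g.1.toBlocks₂₂ := by
      rw [← h, Matrix.fromBlocks_toBlocks]
    have hu : IsUnit g.1.toBlocks₂₂ := by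
      have := g.isUnit
      rw [hblk] at this
      exact (Matrix.isUnit_fromBlocks_zero₂₁.1 this).2
    have hmul : ∀ j, (g.1 *ᵥ v) (.inr j) = (g.1.toBlocks₂₂ *ᵥ (v ∘ Sum.inr)) j := fun j => by
      rw [hblk, Matrix.fromBlocks_mulVec]
      simp
    refine ⟨fun hv j => by rw [hmul, show v ∘ Sum.inr = 0 from funext hv]; simp, fun hv j => ?_⟩
    have : g.1.toBlocks₂₂ *ᵥ (v ∘ Sum.inr) = g.1.toBlocks₂₂ *ᵥ 0 := by
      rw [Matrix.mulVec_zero]
      exact funext fun j => by rw [← hmul]; exact hv j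
    exact congrFun (Matrix.mulVec_injective_of_isUnit hu this) j

theorem card_upper (k l : ℕ) [Fintype F] :
    Nat.card {g : GL (Fin k ⊕ Fin l) F // g.1.toBlocks₂₁ = 0} =
      Nat.card (GL (Fin k) F) * Nat.card (GL (Fin l) F) * Fintype.card F ^ (k * l) := by
  have h1 : Nat.card {g : GL (Fin k ⊕ Fin l) F // g.1.toBlocks₂₁ = 0} =
      Nat.card (GL (Fin k) F × GL (Fin l) F × Matrix (Fin k) (Fin l) F) := by
    refine (Nat.card_congr (Equiv.ofBijective (fun p : GL (Fin k) F × GL (Fin l) F × Matrix (Fin k) (Fin l) F =>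
      (⟨(Matrix.isUnit_fromBlocks_zero₂₁.2 ⟨p.1.isUnit, p.2.1.isUnit⟩ :
          IsUnit (Matrix.fromBlocks p.1.1 p.2.2 0 p.2.1.1)).unit, by
        rw [IsUnit.unit_spec, Matrix.toBlocks_fromBlocks₂₁]⟩ :
        {g : GL (Fin k ⊕ Fin l) F // g.1.toBlocks₂₁ = 0})) ⟨fun p p' h => ?_, fun g => ?_⟩)).symm
    · have h' := congrArg (fun g : {g : GL (Fin k ⊕ Fin l) F // g.1.toBlocks₂₁ = 0} => g.1.1) h
      simp only [IsUnit.unit_spec, Matrix.fromBlocks_inj] at h'
      exact Prod.ext (Units.ext h'.1) (Prod.ext (Units.ext h'.2.2.2) h'.2.1)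
    · have hblk : g.1.1 = Matrix.fromBlocks g.1.1.toBlocks₁₁ g.1.1.toBlocks₁₂ 0 g.1.1.toBlocks₂₂ := by
        exact (Matrix.fromBlocks_toBlocks _).symm.trans
          (congrArg (fun X => Matrix.fromBlocks g.1.1.toBlocks₁₁ g.1.1.toBlocks₁₂ X g.1.1.toBlocks₂₂) g.2)
      have hu := g.1.isUnit
      rw [hblk, Matrix.isUnit_fromBlocks_zero₂₁] at hu
      refine ⟨(hu.1.unit, hu.2.unit, g.1.1.toBlocks₁₂), Subtype.ext (Units.ext ?_)⟩
      simp only [IsUnit.unit_spec]
      exact hblk.symm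
  rw [h1, Nat.card_prod, Nat.card_prod, show Nat.card (Matrix (Fin k) (Fin l) F) = Fintype.card F ^ (k * l) by
    show Nat.card (Fin k → Fin l → F) = _; simp [← pow_mul, mul_comm]]
  ring

theorem card_stab_coordinate [Fintype F] {q : ℕ} (hF : Fintype.card F = q) {n k : ℕ} (hk : k ≤ n) :
    Nat.card ↥(Cfsg.stabilizing (Cfsg.glToMat (Fin n) F) {v : Fin n → F | ∀ i : Fin n, k ≤ (i : ℕ) → v i = 0}) =
      q ^ (k * (n - k)) * (∏ i : Fin k, (q ^ k - q ^ (i : ℕ))) *
        ∏ i : Fin (n - k), (q ^ (n - k) - q ^ (i : ℕ)) := by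
  obtain ⟨l, rfl⟩ := Nat.exists_eq_add_of_le hk
  rw [Nat.add_sub_cancel_left]
  let e : Fin k ⊕ Fin l ≃ Fin (k + l) := finSumFinEquiv
  let ψ : GL (Fin k ⊕ Fin l) F ≃* GL (Fin (k + l)) F :=
    Units.mapEquiv (Matrix.reindexAlgEquiv F F e).toMulEquiv
  have hψ : ∀ g v, (ψ g).1 *ᵥ v = (g.1 *ᵥ (v ∘ e)) ∘ e.symm := fun g v => by
    show Matrix.submatrix g.1 e.symm e.symm *ᵥ v = _
    rw [Matrix.submatrix_mulVec_equiv, Equiv.symm_symm]
  have hset : ∀ v : Fin (k + l) → F,
      v ∈ {v : Fin (k + l) → F | ∀ i : Fin (k + l), k ≤ (i : ℕ) → v i = 0} ↔ ∀ j, (v ∘ e) (.inr j) = 0 := by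
    intro v
    refine ⟨fun h j => h _ (by simp [e]), fun h i hi => ?_⟩
    obtain ⟨x | x, rfl⟩ := e.surjective i
    · exfalso; have := x.2; simp [e] at hi; omega
    · exact h x
  have hmem : ∀ g, ψ g ∈ Cfsg.stabilizing (Cfsg.glToMat (Fin (k + l)) F)
      {v : Fin (k + l) → F | ∀ i : Fin (k + l), k ≤ (i : ℕ) → v i = 0} ↔ g.1.toBlocks₂₁ = 0 := by
    intro g
    rw [← upper_invariant]
    refine ⟨fun h v => ?_, fun h v => ?_⟩
    · have h' : v ∘ e.symm ∈ _ ↔ (ψ g).1 *ᵥ (v ∘ e.symm) ∈ _ := h (v ∘ e.symm)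
      rw [hset, hset, hψ, Function.comp_assoc, Function.comp_assoc, e.symm_comp_self,
        Function.comp_id, Function.comp_id] at h'
      exact h'
    · show v ∈ _ ↔ (ψ g).1 *ᵥ v ∈ _
      rw [hset, hset, hψ, Function.comp_assoc, e.symm_comp_self, Function.comp_id]
      exact h (v ∘ e)
  rw [← Nat.card_congr (ψ.toEquiv.subtypeEquiv fun g => (hmem g).symm), card_upper, hF, Matrix.card_GL_field,
    Matrix.card_GL_field, hF]
  ring

end parabolic

end Cfsg.Agent.Classical
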