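import Mathlib
import Cfsg.Prelude.Def_ClassicalGeometry
import Cfsg.Agent.Classical.IsoStab
import Cfsg.Agent.Classical.HermGroup
import Cfsg.Agent.Classical.HermSimple
import Cfsg.Agent.Classical.BlockSplit

/-!
Orders of stabilisers of totally isotropic subspaces in unitary groups.
-/

set_option autoImplicit false

namespace Cfsg.Agent.Classical.HermStab

open Module Matrix Herm

variable {F : Type*} [Field F]

/-- The order factors of the unitary group. -/
def fac (q i : ℕ) : ℕ := if Even i then q ^ (i + 1) + 1 else q ^ (i + 1) - 1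

/-- Number of non-zero isotropic vectors in dimension `m`. -/
def isoCount (q m : ℕ) : ℕ := fac q (m - 1) * fac q (m - 2)

theorem prod_split (q : ℕ) : ∀ k r : ℕ,
    (∏ i ∈ Finset.range k, q ^ (2 * i) * isoCount q (r + 2 * (k - i))) *
      (q ^ (k * (2 * r + k)) * (q ^ (r * (r - 1) / 2) * ∏ i ∈ Finset.range r, fac q i)) =
      q ^ ((r + 2 * k) * (r + 2 * k - 1) / 2) * ∏ i ∈ Finset.range (r + 2 * k), fac q i := by
  intro k
  induction k with
  | zero => intro r; simp
  | succ k ih =>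
    intro r
    rw [Finset.prod_range_succ, show r + 2 * (k + 1) = r + 2 + 2 * k by ring, ← ih (r + 2)]
    have e1 : ∏ i ∈ Finset.range k, q ^ (2 * i) * isoCount q (r + 2 * (k + 1 - i)) =
        ∏ i ∈ Finset.range k, q ^ (2 * i) * isoCount q (r + 2 + 2 * (k - i)) :=
      Finset.prod_congr rfl fun i hi => by
        rw [Finset.mem_range] at hi
        rw [show r + 2 * (k + 1 - i) = r + 2 + 2 * (k - i) by omega]
    have e2 : (r + 2) * (r + 2 - 1) / 2 = r * (r - 1) / 2 + (2 * r + 1) := by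
      rw [← Nat.add_mul_div_right _ _ (by norm_num : 0 < 2)]
      congr 1
      cases r with
      | zero => rfl
      | succ a => simp only [Nat.add_sub_cancel, show a + 1 + 2 - 1 = a + 2 by omega]; ring
    rw [e1, e2, Finset.prod_range_succ _ (r + 1), Finset.prod_range_succ _ r, show k + 1 - k = 1 by omega]
    simp only [isoCount, show r + 2 * 1 - 1 = r + 1 by omega, show r + 2 * 1 - 2 = r by omega]
    ring

theorem fac_pos (q : ℕ) (hq : 2 ≤ q) (i : ℕ) : 0 < fac q i := by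
  unfold fac
  split
  · positivity
  · exact Nat.sub_pos_of_lt (Nat.one_lt_pow (by omega) hq)

variable {σ : F →+* F}

/-- The number of non-zero isotropic vectors. -/
theorem card_zero_eq [Fintype F] (hσ : IsInvol σ) {q : ℕ} (hq : Nat.card (fixField σ) = q) (m : ℕ) (hm : 2 ≤ m) :
    Nat.card {v : Fin m → F // hermB m σ v v = 0} = isoCount q m + 1 := by
  have hq1 : 1 < q := hq ▸ Finite.one_lt_card
  obtain ⟨a, rfl⟩ : ∃ a, m = a + 2 := ⟨m - 2, by omega⟩
  have h := card_herm_zero hσ hq (a + 2)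
  refine Nat.eq_of_mul_eq_mul_left (by omega : 0 < q) ?_
  have hcast : ((q * Nat.card {v : Fin (a + 2) → F // hermB (a + 2) σ v v = 0} : ℕ) : ℤ) =
      ((q * (isoCount q (a + 2) + 1) : ℕ) : ℤ) := by
    push_cast
    rw [h, isoCount, show a + 2 - 1 = a + 1 by omega, show a + 2 - 2 = a by omega, fac, fac]
    rcases Nat.even_or_odd a with ha | ha
    · have h1 : ¬ Even (a + 1) := by simp [Nat.even_add_one, ha]
      rw [if_neg h1, if_pos ha, Nat.cast_mul, Nat.cast_sub (Nat.one_le_pow _ _ (by omega)),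
        pow_add (-1 : ℤ) a 2, ha.neg_one_pow]
      push_cast; ring
    · have h1 : Even (a + 1) := by simp [Nat.even_add_one, Nat.not_even_iff_odd, ha]
      rw [if_pos h1, if_neg (Nat.not_even_iff_odd.2 ha), Nat.cast_mul,
        Nat.cast_sub (Nat.one_le_pow _ _ (by omega)), pow_add (-1 : ℤ) a 2, ha.neg_one_pow]
      push_cast; ring
  exact_mod_cast hcast

/-- The standard isotropic frame. -/
def st (r : ℕ) (c : F) : ∀ i, Fin i → Fin (r + 2 * i) → F
  | 0 => Fin.elim0
  | i + 1 => Fin.cons (Fin.cons (1 : F) (Fin.cons c 0) : Fin (r + 2 * i + 2) → F)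
      fun j => (Fin.cons (0 : F) (Fin.cons 0 (st r c i j)) : Fin (r + 2 * i + 2) → F)

theorem herm_cons (n : ℕ) (x y x' y' : F) (u u' : Fin n → F) :
    hermB (n + 2) σ (Fin.cons x (Fin.cons y u)) (Fin.cons x' (Fin.cons y' u')) =
      σ x * x' + σ y * y' + hermB n σ u u' := by
  simp only [hermB_apply, Fin.sum_univ_succ, Fin.cons_zero, Fin.cons_succ, add_assoc]

theorem st_form (r : ℕ) {c : F} (hc : c * σ c = -1) :
    ∀ (i : ℕ) (j l : Fin i), hermB (r + 2 * i) σ (st r c i j) (st r c i l) = 0 := by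
  intro i
  induction i with
  | zero => intro j; exact j.elim0
  | succ i ih =>
    intro j l
    show hermB (r + 2 * i + 2) σ (st r c (i + 1) j) (st r c (i + 1) l) = 0
    refine Fin.cases ?_ (fun j => ?_) j <;> refine Fin.cases ?_ (fun l => ?_) l
    · simp only [st, Fin.cons_zero]
      rw [herm_cons, map_one, one_mul, mul_comm, hc]
      simp [hermB_apply]
    · simp only [st, Fin.cons_zero, Fin.cons_succ]
      rw [herm_cons]
      simp [hermB_apply]
    · simp only [st, Fin.cons_zero, Fin.cons_succ]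
      rw [herm_cons]
      simp [hermB_apply]
    · simp only [st, Fin.cons_succ]
      rw [herm_cons, ih]
      simp

theorem st_indep (r : ℕ) (c : F) : ∀ i : ℕ, LinearIndependent F (st r c i) := by
  intro i
  induction i with
  | zero => exact linearIndependent_empty_type
  | succ i ih =>
    refine Fintype.linearIndependent_iff.2 fun g hg => ?_
    have h0 : g 0 = 0 := by
      have h : (∑ j, g j • st r c (i + 1) j : Fin (r + 2 * i + 2) → F) 0 = 0 := congrFun hg _
      simpa [st, Fin.sum_univ_succ, Finset.sum_apply] using h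
    have hrest : ∑ j, g j.succ • st r c i j = 0 := funext fun x => by
      have h : (∑ j, g j • st r c (i + 1) j : Fin (r + 2 * i + 2) → F) x.succ.succ = 0 := congrFun hg _
      simpa [st, Fin.sum_univ_succ, Finset.sum_apply, h0] using h
    exact Fin.cases h0 (Fintype.linearIndependent_iff.1 ih _ hrest)

theorem card_perp_st [Fintype F] (hσ : IsInvol σ) (r : ℕ) {c : F} (hc : c * σ c = -1) : ∀ i : ℕ,
    Nat.card {v : Fin (r + 2 * i) → F // hermB (r + 2 * i) σ v v = 0 ∧ ∀ j, hermB (r + 2 * i) σ (st r c i j) v = 0} =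
      Nat.card F ^ i * Nat.card {v : Fin r → F // hermB r σ v v = 0} := by
  intro i
  induction i with
  | zero =>
    rw [pow_zero, one_mul]
    exact Nat.card_congr (Equiv.subtypeEquivRight fun v => ⟨fun h => h.1, fun h => ⟨h, fun j => j.elim0⟩⟩)
  | succ i ih =>
    rw [pow_succ, mul_comm (Nat.card F ^ i), mul_assoc, ← ih, ← Nat.card_prod]
    show Nat.card {v : Fin (r + 2 * i + 2) → F //
      hermB (r + 2 * i + 2) σ v v = 0 ∧ ∀ j, hermB (r + 2 * i + 2) σ (st r c (i + 1) j) v = 0} = _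
    have key : ∀ (x y : F) (u : Fin (r + 2 * i) → F),
        (hermB (r + 2 * i + 2) σ (Fin.cons x (Fin.cons y u)) (Fin.cons x (Fin.cons y u)) = 0 ∧
          ∀ j, hermB (r + 2 * i + 2) σ (st r c (i + 1) j) (Fin.cons x (Fin.cons y u)) = 0) ↔
        x = -(σ c * y) ∧ (hermB (r + 2 * i) σ u u = 0 ∧ ∀ j, hermB (r + 2 * i) σ (st r c i j) u = 0) := by
      intro x y u
      rw [Fin.forall_fin_succ]
      simp only [st, Fin.cons_zero, Fin.cons_succ, herm_cons, map_one, one_mul, map_zero, zero_mul, zero_add,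
        LinearMap.zero_apply, add_zero]
      constructor
      · rintro ⟨h1, h2, h3⟩
        have hx : x = -(σ c * y) := eq_neg_of_add_eq_zero_left h2
        refine ⟨hx, ?_, h3⟩
        rw [hx] at h1
        simp only [map_neg, map_mul, hσ.invol] at h1
        linear_combination h1 - σ y * y * hc
      · rintro ⟨rfl, h1, h3⟩
        refine ⟨?_, by ring, h3⟩
        simp only [map_neg, map_mul, hσ.invol]
        linear_combination h1 + σ y * y * hc
    have eta : ∀ v : Fin (r + 2 * i + 2) → F, Fin.cons (v 0) (Fin.cons (v 1) (Fin.tail (Fin.tail v))) = v := by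
      intro v
      conv_rhs => rw [← Fin.cons_self_tail v, ← Fin.cons_self_tail (Fin.tail v)]
      rfl
    refine Nat.card_congr
      { toFun := fun v => (v.1 1, ⟨Fin.tail (Fin.tail v.1), ((key (v.1 0) (v.1 1) _).1 (by rw [eta]; exact v.2)).2⟩)
        invFun := fun p => ⟨Fin.cons (-(σ c * p.1)) (Fin.cons p.1 p.2.1), (key _ _ _).2 ⟨rfl, p.2.2⟩⟩
        left_inv := fun v => Subtype.ext (by
          have h := ((key (v.1 0) (v.1 1) _).1 (by rw [eta]; exact v.2)).1
          show Fin.cons _ (Fin.cons (v.1 1) _) = v.1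
          rw [← h, eta])
        right_inv := fun p => rfl }

theorem card_perp_frame [Fintype F] (hσ : IsInvol σ) {n i : ℕ} (hi : 2 * i ≤ n) {s : Fin i → Fin n → F}
    (hs : LinearIndependent F s) (hR : ∀ j l, hermB n σ (s j) (s l) = 0) :
    Nat.card {v : Fin n → F // hermB n σ v v = 0 ∧ ∀ j, hermB n σ (s j) v = 0} =
      Nat.card F ^ i * Nat.card {v : Fin (n - 2 * i) → F // hermB (n - 2 * i) σ v v = 0} := by
  obtain ⟨r, rfl⟩ : ∃ r, n = r + 2 * i := ⟨n - 2 * i, by omega⟩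
  rw [Nat.add_sub_cancel]
  obtain ⟨c, hc⟩ := exists_norm hσ (a := -1) (by simp)
  obtain ⟨g, hg, hgs⟩ := witt_family (hermB_isHerm hσ (r + 2 * i)) _ s (st r c i) rfl hs (st_indep r c i)
    (fun j l => by rw [hR, st_form r hc])
  rw [← card_perp_st hσ r hc i]
  exact Nat.card_congr (g.toEquiv.subtypeEquiv (fun v => by
    show _ ↔ hermB _ σ (g v) (g v) = 0 ∧ ∀ j, hermB _ σ (st r c i j) (g v) = 0
    simp only [← hgs, hg]))

theorem herm_orth (hσ : IsInvol σ) (n : ℕ) : Lines.Orth (F := F) fun u w : Fin n → F => hermB n σ u w = 0 :=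
  ⟨fun {x y} h => (eq_zero_comm (hermB_isHerm hσ n)).1 h,
    fun {x y z} (h : hermB n σ x y = 0) (h' : hermB n σ x z = 0) => by
      show hermB n σ x (y + z) = 0
      rw [map_add, h, h', add_zero],
    fun {x y} c (h : hermB n σ x y = 0) => by
      show hermB n σ x (c • y) = 0
      rw [map_smul, h, smul_zero]⟩

theorem card_herm_frames [Fintype F] (hσ : IsInvol σ) {q : ℕ} (hq : Nat.card (fixField σ) = q) (n : ℕ) {k : ℕ}
    (hk : 2 * k ≤ n) :
    Nat.card (IsoStab.Frames F (fun u w : Fin n → F => hermB n σ u w = 0) k) =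
      ∏ i ∈ Finset.range k, q ^ (2 * i) * isoCount q (n - 2 * i) := by
  have hQ : Nat.card F = q ^ 2 := by rw [← hq, card_eq_fix_sq hσ]
  rw [IsoStab.card_frames (herm_orth hσ n) hQ (fun i => (q ^ 2) ^ i * (isoCount q (n - 2 * i) + 1))
    (fun x => map_zero _) k (fun i hi s hs => ?_) k le_rfl]
  · refine Finset.prod_congr rfl fun i _ => ?_
    rw [← pow_mul]
    simp [mul_add]
  · rw [card_perp_frame hσ (by omega) hs.1 hs.2, hQ, card_zero_eq hσ hq _ (by omega)]

variable {n q : ℕ}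

theorem gu_iso (hσq : ∀ x, σ x = x ^ q) (g : Cfsg.GU n F q) (u v : Fin n → F) :
    hermB n σ (g.1.1 *ᵥ u) (g.1.1 *ᵥ v) = hermB n σ u v := (mem_GU_iff hσq g.1).1 g.2 u v

theorem gu_transitive [Fintype F] (hσ : IsInvol σ) (hσq : ∀ x, σ x = x ^ q) {k : ℕ} {s t : Fin k → Fin n → F}
    (hs : LinearIndependent F s) (ht : LinearIndependent F t)
    (h : ∀ i j, hermB n σ (s i) (s j) = hermB n σ (t i) (t j)) :
    ∃ g : Cfsg.GU n F q, ∀ i, g.1.1 *ᵥ s i = t i := by
  obtain ⟨g, hg, hgs⟩ := witt_family (hermB_isHerm hσ n) _ s t rfl hs ht h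
  refine ⟨⟨glAut.symm g, (mem_GU_iff hσq _).2 fun u v => ?_⟩, fun i => ?_⟩
  · rw [← glAut_apply, ← glAut_apply, MulEquiv.apply_symm_apply, hg]
  · rw [← glAut_apply, MulEquiv.apply_symm_apply, hgs]

/-- The stabiliser of a subspace inside the unitary group. -/
def guStab (n : ℕ) (F : Type*) [Field F] (q : ℕ) (W : Submodule F (Fin n → F)) : Subgroup (GL (Fin n) F) :=
  Cfsg.GU n F q ⊓ Cfsg.stabilizing (Cfsg.glToMat (Fin n) F) (W : Set (Fin n → F))

theorem mem_stab_of_maps (g : GL (Fin n) F) (W : Submodule F (Fin n → F)) (h : ∀ w ∈ W, g.1 *ᵥ w ∈ W) :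
    g ∈ Cfsg.stabilizing (Cfsg.glToMat (Fin n) F) (W : Set (Fin n → F)) := by
  have e : W.map (glAut g).toLinearMap = W :=
    Submodule.eq_of_le_of_finrank_eq (fun x ⟨w, hw, hx⟩ => hx ▸ h w hw) (LinearEquiv.finrank_map_eq _ _)
  intro v
  show v ∈ W ↔ g.1 *ᵥ v ∈ W
  refine ⟨h v, fun hv => ?_⟩
  rw [← e] at hv
  obtain ⟨w, hw, hwv⟩ := hv
  rw [← (glAut g).injective (show glAut g w = glAut g v from hwv)]
  exact hw

theorem card_guStab [Fintype F] (hσ : IsInvol σ) (hσq : ∀ x, σ x = x ^ q) (hq : Nat.card (fixField σ) = q) {k : ℕ}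
    (hk : 2 * k ≤ n) (W : Submodule F (Fin n → F)) (hWk : finrank F W = k)
    (hW : ∀ u ∈ W, ∀ v ∈ W, hermB n σ u v = 0) :
    Nat.card (guStab n F q W) = q ^ (k * (2 * n - 3 * k)) * (∏ i : Fin k, ((q ^ 2) ^ k - (q ^ 2) ^ (i : ℕ))) *
      (q ^ ((n - 2 * k) * ((n - 2 * k) - 1) / 2) * ∏ i ∈ Finset.range (n - 2 * k), fac q i) := by
  classical
  have hQ : Fintype.card F = q ^ 2 := by rw [← hq, ← card_eq_fix_sq hσ, Nat.card_eq_fintype_card]
  let b : Basis (Fin k) F W := Module.finBasisOfFinrankEq F W hWk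
  let s₀ : Fin k → Fin n → F := fun i => (b i : Fin n → F)
  have hs₀ : LinearIndependent F s₀ := b.linearIndependent.map' W.subtype W.ker_subtype
  have hspan : ∀ g : GL (Fin n) F, (∀ i, g.1 *ᵥ s₀ i ∈ W) → ∀ w ∈ W, g.1 *ᵥ w ∈ W := by
    intro g hg w hw
    have e : w = ∑ i, b.repr ⟨w, hw⟩ i • s₀ i := by
      have := congrArg W.subtype (b.sum_repr ⟨w, hw⟩)
      rw [map_sum] at this
      exact this.symm
    rw [e, Matrix.mulVec_sum]
    exact Submodule.sum_mem _ fun i _ => by rw [Matrix.mulVec_smul]; exact W.smul_mem _ (hg i)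
  let L : Set (Fin k → Fin n → F) := {s | LinearIndependent F s ∧ ∀ i, s i ∈ W}
  have hL : Nat.card L = ∏ i : Fin k, ((q ^ 2) ^ k - (q ^ 2) ^ (i : ℕ)) := by
    let e : L ≃ {s : Fin k → W // LinearIndependent F s} :=
      { toFun := fun s => ⟨fun i => ⟨s.1 i, s.2.2 i⟩, LinearIndependent.of_comp W.subtype s.2.1⟩
        invFun := fun s => ⟨fun i => (s.1 i : Fin n → F), s.2.map' W.subtype W.ker_subtype, fun i => (s.1 i).2⟩
        left_inv := fun _ => rfl
        right_inv := fun _ => rfl }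
    rw [Nat.card_congr e, card_linearIndependent hWk.ge, hQ, hWk]
  have hind : ∀ g : Cfsg.GU n F q, LinearIndependent F fun i => g.1.1 *ᵥ s₀ i := fun g =>
    hs₀.map' (glAut g.1).toLinearMap (LinearMap.ker_eq_bot.2 (glAut g.1).injective)
  let M := (Cfsg.glToMat (Fin n) F).comp (Cfsg.GU n F q).subtype
  have key := IsoStab.card_mul_orbit M
    ((Cfsg.stabilizing (Cfsg.glToMat (Fin n) F) (W : Set (Fin n → F))).subgroupOf (Cfsg.GU n F q)) s₀
    (IsoStab.Frames F (fun u w : Fin n → F => hermB n σ u w = 0) k) L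
    (fun s => ⟨fun hs => ?_, ?_⟩) (fun s => ⟨fun hs => ?_, ?_⟩)
    (fun g hg => mem_stab_of_maps g.1 W (hspan g.1 fun i => by
      have : g.1.1 *ᵥ s₀ i = s₀ i := congrFun hg i
      rw [this]; exact (b i).2))
  · have e : Nat.card ((Cfsg.stabilizing (Cfsg.glToMat (Fin n) F) (W : Set (Fin n → F))).subgroupOf (Cfsg.GU n F q)) =
        Nat.card (guStab n F q W) := by
      rw [guStab, inf_comm, ← Subgroup.subgroupOf_map_subtype]
      exact Nat.card_congr (Subgroup.equivMapOfInjective _ _ (Subgroup.subtype_injective _)).toEquiv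
    rw [e, card_herm_frames hσ hq n hk, card_GU_formula hσ hσq hq, hL] at key
    obtain ⟨r, rfl⟩ : ∃ r, n = r + 2 * k := ⟨n - 2 * k, by omega⟩
    have e2 : ∏ i ∈ Finset.range k, q ^ (2 * i) * isoCount q (r + 2 * k - 2 * i) =
        ∏ i ∈ Finset.range k, q ^ (2 * i) * isoCount q (r + 2 * (k - i)) :=
      Finset.prod_congr rfl fun i hi => by
        rw [Finset.mem_range] at hi
        rw [show r + 2 * k - 2 * i = r + 2 * (k - i) by omega]
    have e3 : k * (2 * (r + 2 * k) - 3 * k) = k * (2 * r + k) := by congr 1; omega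
    rw [e2] at key
    rw [e3, Nat.add_sub_cancel]
    have hq1 : 1 < q := hq ▸ Finite.one_lt_card
    refine Nat.eq_of_mul_eq_mul_right (m := ∏ i ∈ Finset.range k, q ^ (2 * i) * isoCount q (r + 2 * (k - i)))
      (Finset.prod_pos fun i _ => Nat.mul_pos (Nat.pow_pos (by omega))
        (Nat.mul_pos (fac_pos q hq1 _) (fac_pos q hq1 _))) (key.trans ?_)
    show q ^ ((r + 2 * k) * (r + 2 * k - 1) / 2) * (∏ i ∈ Finset.range (r + 2 * k), fac q i) * _ = _
    rw [← prod_split q k r]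
    ring
  · obtain ⟨g, hg⟩ := gu_transitive hσ hσq hs₀ hs.1 fun i j => by rw [hW _ (b i).2 _ (b j).2, hs.2 i j]
    exact ⟨g, funext hg⟩
  · rintro ⟨g, rfl⟩
    exact ⟨hind g, fun i j => (gu_iso hσq g _ _).trans (hW _ (b i).2 _ (b j).2)⟩
  · obtain ⟨g, hg⟩ := gu_transitive hσ hσq hs₀ hs.1 fun i j => by
      rw [hW _ (b i).2 _ (b j).2, hW _ (hs.2 i) _ (hs.2 j)]
    exact ⟨g, mem_stab_of_maps g.1 W (hspan g.1 fun i => by rw [hg i]; exact hs.2 i), funext hg⟩
  · rintro ⟨g, hg, rfl⟩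
    exact ⟨hind g, fun i => (hg (s₀ i)).1 (b i).2⟩

/-- A unitary map with given determinant stabilising a totally isotropic subspace. -/
theorem exists_det [Fintype F] (hσ : IsInvol σ) (hσq : ∀ x, σ x = x ^ q) (hn : 1 ≤ n)
    (W : Submodule F (Fin n → F)) (hW : ∀ u ∈ W, ∀ v ∈ W, hermB n σ u v = 0) (ζ : (normHom σ).ker) :
    ∃ g ∈ guStab n F q W, g.1.det = ((ζ.1 : Fˣ) : F) := by
  classical
  have hζ : ((ζ.1 : Fˣ) : F) * σ (ζ.1 : Fˣ) = 1 := congrArg Units.val ζ.2
  by_cases hWb : W = ⊥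
  · refine ⟨diagGL (Function.update 1 ⟨0, hn⟩ ζ.1), ⟨diag_mem hσq _ fun i => ?_, mem_stab_of_maps _ _ fun w hw => ?_⟩, ?_⟩
    · by_cases hi : i = ⟨0, hn⟩
      · subst hi
        rw [Function.update_self]
        exact hζ
      · simp [hi]
    · rw [hWb, Submodule.mem_bot] at hw ⊢
      rw [hw, mulVec_zero]
    · rw [det_diagGL]
      simp [Function.update_apply, apply_ite Units.val, Finset.prod_ite_eq']
  obtain ⟨e, heW, he0⟩ := Submodule.exists_mem_ne_zero_of_ne_bot hWb
  have hH := hermB_isHerm hσ n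
  obtain ⟨f, hff, hef⟩ := Herm.exists_hyp_partner hH he0 (hW e heW e heW)
  have hee := hW e heW e heW
  have hfe : hermB n σ f e = 1 := by rw [← hH.symm, hef, map_one]
  obtain ⟨z, hz0, hz⟩ := exists_conj_quot hσ hζ
  have hσz : σ z ≠ 0 := (map_ne_zero σ).2 hz0
  set a := z - 1 with ha
  set b := (σ z)⁻¹ - 1 with hb
  let U : Matrix (Fin n) (Fin 2) F := Matrix.of fun i j => ![e i, f i] j
  let V : Matrix (Fin 2) (Fin n) F := Matrix.of fun j i => ![a * σ (f i), b * σ (e i)] j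
  have hM : ∀ x, (1 + U * V) *ᵥ x = x + ((a * hermB n σ f x) • e + (b * hermB n σ e x) • f) := by
    intro x
    have hV : V *ᵥ x = ![a * hermB n σ f x, b * hermB n σ e x] := by
      funext j
      fin_cases j <;> simp [V, Matrix.mulVec, dotProduct, hermB_apply, Finset.mul_sum, mul_assoc]
    rw [add_mulVec, one_mulVec, ← mulVec_mulVec, hV]
    funext i
    simp [U, Matrix.mulVec, dotProduct, Fin.sum_univ_two, mul_comm]
  have hVU : (1 + V * U : Matrix (Fin 2) (Fin 2) F) = !![z, 0; 0, (σ z)⁻¹] := by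
    ext i j
    fin_cases i <;> fin_cases j <;>
      simp [U, V, Matrix.mul_apply, mul_assoc, ← Finset.mul_sum, ← hermB_apply, hee, hff, hef, hfe, ha, hb]
  have hdet : (1 + U * V).det = ((ζ.1 : Fˣ) : F) := by
    rw [det_one_add_mul_comm, hVU, det_fin_two_of, ← hz]
    field_simp
    ring
  have hu : IsUnit (1 + U * V).det := by rw [hdet]; exact (ζ.1 : Fˣ).isUnit
  refine ⟨GeneralLinearGroup.mk'' (1 + U * V) hu, ⟨(mem_GU_iff hσq _).2 fun x y => ?_, mem_stab_of_maps _ _ fun w hw => ?_⟩, hdet⟩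
  · show hermB n σ ((1 + U * V) *ᵥ x) ((1 + U * V) *ᵥ y) = _
    rw [hM, hM]
    simp only [map_add, map_smulₛₗ, LinearMap.add_apply, LinearMap.smul_apply, smul_eq_mul, RingHom.id_apply, map_mul,
      hee, hff, hef, hfe, hH.symm, mul_zero, mul_one, add_zero, zero_add]
    have hcan : z * z⁻¹ = 1 := mul_inv_cancel₀ hz0
    have hcan' : σ z * (σ z)⁻¹ = 1 := mul_inv_cancel₀ hσz
    simp only [ha, hb, map_sub, map_one, map_inv₀, hσ.invol]
    linear_combination hermB n σ x e * hermB n σ f y * hcan + hermB n σ x f * hermB n σ e y * hcan'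
  · show (1 + U * V) *ᵥ w ∈ W
    rw [hM, hW e heW w hw, mul_zero, zero_smul, add_zero]
    exact W.add_mem hw (W.smul_mem _ heW)

theorem card_suStab [Fintype F] (hσ : IsInvol σ) (hσq : ∀ x, σ x = x ^ q) (hq : Nat.card (fixField σ) = q)
    (hn : 1 ≤ n) (W : Submodule F (Fin n → F)) (hW : ∀ u ∈ W, ∀ v ∈ W, hermB n σ u v = 0) :
    (q + 1) * Nat.card ↥((Cfsg.stabilizing (Cfsg.slToMat n F) (W : Set (Fin n → F))).subgroupOf (Cfsg.SU n F q)) =
      Nat.card (guStab n F q W) := by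
  classical
  let δ : guStab n F q W →* (normHom σ).ker :=
    (Matrix.GeneralLinearGroup.det.comp (guStab n F q W).subtype).codRestrict _ fun g =>
      Units.ext (det_norm_GU hσq g.2.1)
  have hsurj : Function.Surjective δ := fun ζ => by
    obtain ⟨g, hg, hd⟩ := exists_det hσ hσq hn W hW ζ
    exact ⟨⟨g, hg⟩, Subtype.ext (Units.ext hd)⟩
  have h := δ.ker.index_mul_card
  rw [Subgroup.index_ker, MonoidHom.range_eq_top.2 hsurj, Subgroup.card_top, card_ker_normHom hσ, hq] at h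
  rw [← h]
  congr 1
  refine Nat.card_congr ⟨fun g => ⟨⟨Matrix.SpecialLinearGroup.toGL g.1.1, (mem_GU_iff hσq _).2
      ((mem_SU_iff hσq g.1.1).1 g.1.2), g.2⟩, Subtype.ext (Units.ext g.1.1.2)⟩,
    fun g => ⟨⟨⟨g.1.1.1, congrArg (fun z : (normHom σ).ker => ((z.1 : Fˣ) : F)) g.2⟩,
      (mem_SU_iff hσq _).2 ((mem_GU_iff hσq _).1 g.1.2.1)⟩, g.1.2.2⟩, fun g => rfl,
    fun g => Subtype.ext (Subtype.ext (Units.ext rfl))⟩

theorem card_su_stab [Fintype F] {q : ℕ} (hF : Fintype.card F = q ^ 2) {n k : ℕ} (hn : 1 ≤ n) (hk : 2 * k ≤ n)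
    (W : Submodule F (Fin n → F)) (hWk : finrank F W = k) (hW : ∀ u ∈ W, ∀ v ∈ W, Cfsg.hermForm n F q u v = 0) :
    (q + 1) * Nat.card ↥((Cfsg.stabilizing (Cfsg.slToMat n F) (W : Set (Fin n → F))).subgroupOf (Cfsg.SU n F q)) =
      q ^ (k * (2 * n - 3 * k)) * (∏ i : Fin k, ((q ^ 2) ^ k - (q ^ 2) ^ (i : ℕ))) *
        (q ^ ((n - 2 * k) * ((n - 2 * k) - 1) / 2) * ∏ i ∈ Finset.range (n - 2 * k), fac q i) := by
  obtain ⟨σ, hσq, hσ, hq, -⟩ := exists_powHom hF
  have hW' : ∀ u ∈ W, ∀ v ∈ W, hermB n σ u v = 0 := fun u hu v hv => by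
    rw [← hermForm_eq hσq]; exact hW v hv u hu
  rw [card_suStab hσ hσq hq hn W hW', card_guStab hσ hσq hq hk W hWk hW']

end Cfsg.Agent.Classical.HermStab
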