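import Mathlib
import Cfsg.Prelude.Def_Classical
import Cfsg.Agent.Classical.HermGroup
import Cfsg.Agent.Classical.SympGroup
import Cfsg.Agent.Classical.QuadBasis

/-!
Standard involutions of SL_n and SU_n in characteristic two, and invariant quadratic forms for symplectic
transformations in characteristic two.
-/

set_option autoImplicit false

namespace Cfsg.Agent.Classical

open Matrix Module

variable {F : Type*} [Field F] {n ℓ : ℕ}

/-- The shift of the first ℓ coordinates to the last ℓ. -/
def shiftE (F : Type*) [Field F] (n ℓ : ℕ) : Matrix (Fin n) (Fin n) F :=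
  Matrix.of fun i j : Fin n => if j.val < ℓ ∧ i.val = j.val + (n - ℓ) then (1 : F) else 0

theorem shiftE_mulVec (h2 : 2 * ℓ ≤ n) (v : Fin n → F) (i : Fin n) :
    (shiftE F n ℓ *ᵥ v) i =
      if h : n - ℓ ≤ i.val then v ⟨i.val - (n - ℓ), lt_of_le_of_lt (Nat.sub_le _ _) i.2⟩ else 0 := by
  simp only [shiftE, Matrix.mulVec, dotProduct, Matrix.of_apply, ite_mul, one_mul, zero_mul]
  split_ifs with h
  · rw [Finset.sum_eq_single ⟨i.val - (n - ℓ), lt_of_le_of_lt (Nat.sub_le _ _) i.2⟩]
    · have := i.2
      rw [if_pos]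
      simp only; omega
    · intro j _ hj
      rw [if_neg]
      rintro ⟨-, h'⟩
      exact hj (Fin.ext (by simp only; omega))
    · simp
  · refine Finset.sum_eq_zero fun j _ => ?_
    rw [if_neg]
    omega

/-- Filling vectors from the first coordinates. -/
theorem exists_prefix (hℓ : ℓ ≤ n) (w : Fin ℓ → F) : ∃ v : Fin n → F, ∀ j, v (Fin.castLE hℓ j) = w j :=
  ⟨fun i => if h : i.val < ℓ then w ⟨i.val, h⟩ else 0, fun j => by simp⟩

theorem exists_sl_involution [Finite F] [CharP F 2] (h1 : 1 ≤ ℓ) (h2 : 2 * ℓ ≤ n) :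
    ∃ a : Matrix.SpecialLinearGroup (Fin n) F,
      (a : Matrix (Fin n) (Fin n) F) = 1 + shiftE F n ℓ ∧ orderOf a = 2 ∧
      ((a : Matrix (Fin n) (Fin n) F) - 1).rank = ℓ := by
  have hsq : shiftE F n ℓ * shiftE F n ℓ = 0 := Matrix.ext_of_mulVec_single fun j => funext fun i => by
    rw [← Matrix.mulVec_mulVec, shiftE_mulVec h2]
    split_ifs with h
    · rw [shiftE_mulVec h2, dif_neg]
      · simp
      · have := i.2
        simp only; omega
    · simp
  have hdet : (1 + shiftE F n ℓ).det = 1 := by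
    rw [Matrix.det_of_lowerTriangular]
    · refine Finset.prod_eq_one fun i _ => ?_
      simp [shiftE]
      omega
    · intro i j hij
      have hij' : i < j := hij
      simp [shiftE, Matrix.one_apply, hij'.ne]
      intro _ h
      have : i.val < j.val := hij'
      omega
  let a : Matrix.SpecialLinearGroup (Fin n) F := ⟨1 + shiftE F n ℓ, hdet⟩
  refine ⟨a, rfl, ?_, ?_⟩
  · refine orderOf_eq_prime_iff.2 ⟨Subtype.ext ?_, fun h => ?_⟩
    · rw [pow_two]
      show (1 + shiftE F n ℓ) * (1 + shiftE F n ℓ) = 1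
      rw [mul_add, add_mul, add_mul, hsq, one_mul, mul_one, one_mul]
      ext i j
      simp [Matrix.add_apply, add_assoc, CharTwo.add_self_eq_zero]
    · have h' := congrArg (fun a : Matrix.SpecialLinearGroup (Fin n) F => a.1 ⟨n - ℓ, by omega⟩ ⟨0, by omega⟩) h
      simp [a, shiftE, Matrix.one_apply, Fin.ext_iff, show n - ℓ ≠ 0 by omega, show 0 < ℓ by omega] at h'
  · show ((1 + shiftE F n ℓ) - 1).rank = ℓ
    rw [add_sub_cancel_left, Matrix.rank]
    let ψ : (Fin ℓ → F) →ₗ[F] (Fin n → F) :=
      { toFun := fun w i => if h : n - ℓ ≤ i.val then w ⟨i.val - (n - ℓ), by have := i.2; omega⟩ else 0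
        map_add' := fun w w' => by ext i; by_cases h : n - ℓ ≤ i.val <;> simp [h, -tsub_le_iff_right, -Nat.sub_le_iff_le_add]
        map_smul' := fun c w => by ext i; by_cases h : n - ℓ ≤ i.val <;> simp [h, -tsub_le_iff_right, -Nat.sub_le_iff_le_add] }
    have hψ : Function.Injective ψ := fun w w' h => funext fun k => by
      have h' := congrFun h ⟨k.val + (n - ℓ), by have := k.2; omega⟩
      simpa [ψ, -tsub_le_iff_right, -Nat.sub_le_iff_le_add, show n - ℓ ≤ k.val + (n - ℓ) by omega] using h'
    have e : LinearMap.range (shiftE F n ℓ).mulVecLin = LinearMap.range ψ := by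
      refine le_antisymm ?_ ?_
      · rintro _ ⟨v, rfl⟩
        refine ⟨fun k => v (Fin.castLE (by omega) k), funext fun i => ?_⟩
        rw [Matrix.mulVecLin_apply, shiftE_mulVec h2]
        by_cases h : n - ℓ ≤ i.val <;> simp [ψ, h, -tsub_le_iff_right, -Nat.sub_le_iff_le_add]
      · rintro _ ⟨w, rfl⟩
        obtain ⟨v, hv⟩ := exists_prefix (n := n) (by omega) w
        refine ⟨v, funext fun i => ?_⟩
        rw [Matrix.mulVecLin_apply, shiftE_mulVec h2]
        by_cases h : n - ℓ ≤ i.val
        · have := hv ⟨i.val - (n - ℓ), by have := i.2; omega⟩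
          simpa [ψ, h, -tsub_le_iff_right, -Nat.sub_le_iff_le_add] using this
        · simp [ψ, h, -tsub_le_iff_right, -Nat.sub_le_iff_le_add]
    rw [e, LinearMap.finrank_range_of_inj hψ, Module.finrank_fin_fun]

/-- The involution exchanging the first ℓ coordinates with the last ℓ. -/
def swapPerm (n ℓ : ℕ) (h2 : 2 * ℓ ≤ n) : Equiv.Perm (Fin n) :=
  Function.Involutive.toPerm
    (fun i => if h : i.val < ℓ then ⟨i.val + (n - ℓ), by omega⟩
      else if n - ℓ ≤ i.val then ⟨i.val - (n - ℓ), lt_of_le_of_lt (Nat.sub_le _ _) i.2⟩ else i)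
    fun i => by
      have := i.2
      by_cases h : i.val < ℓ
      · simp only [h, dite_true]
        rw [dif_neg (by omega), if_pos (by omega)]
        exact Fin.ext (by simp)
      · simp only [h, dite_false]
        by_cases h' : n - ℓ ≤ i.val
        · simp only [h', if_true]
          rw [dif_pos (by omega)]
          exact Fin.ext (by simp only; omega)
        · simp only [h', if_false, h, dite_false]

theorem swapPerm_apply (h2 : 2 * ℓ ≤ n) (i : Fin n) : (swapPerm n ℓ h2 i).val =
    if i.val < ℓ then i.val + (n - ℓ) else if n - ℓ ≤ i.val then i.val - (n - ℓ) else i.val := by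
  show (if h : i.val < ℓ then (⟨i.val + (n - ℓ), by omega⟩ : Fin n)
    else if n - ℓ ≤ i.val then ⟨i.val - (n - ℓ), lt_of_le_of_lt (Nat.sub_le _ _) i.2⟩ else i).val = _
  split_ifs <;> rfl

theorem exists_su_involution [Fintype F] [CharP F 2] {q : ℕ} (h1 : 1 ≤ ℓ) (h2 : 2 * ℓ ≤ n) :
    ∃ a : ↥(Cfsg.SU n F q), (((a : Matrix.SpecialLinearGroup (Fin n) F) : Matrix (Fin n) (Fin n) F) =
        Matrix.of (fun i j : Fin n => if (j.val < ℓ ∧ i.val = j.val + (n - ℓ)) ∨
          (i.val < ℓ ∧ j.val = i.val + (n - ℓ)) ∨ (i = j ∧ ℓ ≤ i.val ∧ i.val < n - ℓ) then (1 : F) else 0)) ∧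
      orderOf a = 2 ∧ ((((a : Matrix.SpecialLinearGroup (Fin n) F) : Matrix (Fin n) (Fin n) F)) - 1).rank = ℓ := by
  set π := swapPerm n ℓ h2 with hπ
  have hinv : ∀ i, π (π i) = i := fun i => π.apply_symm_apply i
  let M : Matrix (Fin n) (Fin n) F := π.permMatrix F
  have hM : ∀ v, M *ᵥ v = v ∘ π := fun v => Matrix.permMatrix_mulVec π (v := v)
  have hdet : M.det = 1 := by
    show (π.permMatrix F).det = 1
    rw [Matrix.det_permutation]
    rcases Int.units_eq_one_or (Equiv.Perm.sign π) with h | h <;> simp [h, CharTwo.neg_eq]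
  have hmem : (⟨M, hdet⟩ : Matrix.SpecialLinearGroup (Fin n) F) ∈ Cfsg.SU n F q := by
    intro u v
    show Cfsg.hermForm n F q (M *ᵥ u) (M *ᵥ v) = _
    rw [hM, hM]
    exact Equiv.sum_comp π (fun i => u i * v i ^ q)
  refine ⟨⟨⟨M, hdet⟩, hmem⟩, ?_, ?_, ?_⟩
  · ext i j
    have := i.2
    have := j.2
    show π.permMatrix F i j = _
    simp only [Equiv.Perm.permMatrix, Equiv.toPEquiv_apply, PEquiv.toMatrix_apply, Option.mem_def, Option.some.injEq,
      Matrix.of_apply]
    refine if_congr ?_ rfl rfl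
    rw [Fin.ext_iff, Fin.ext_iff, hπ, swapPerm_apply]
    split_ifs <;> omega
  · rw [orderOf_eq_prime_iff]
    refine ⟨Subtype.ext (Subtype.ext ?_), fun h => ?_⟩
    · rw [pow_two]
      show M * M = 1
      refine Matrix.ext_of_mulVec_single fun j => ?_
      rw [← Matrix.mulVec_mulVec, hM, hM, Matrix.one_mulVec]
      funext i
      simp [hinv]
    · have h' : M = 1 := congrArg (fun a : ↥(Cfsg.SU n F q) => a.1.1) h
      have h'' := congrFun (congrArg (fun T : Matrix (Fin n) (Fin n) F => T *ᵥ Pi.single ⟨0, by omega⟩ 1) h')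
        ⟨0, by omega⟩
      simp only [hM, Matrix.one_mulVec, Function.comp_apply, Pi.single_apply] at h''
      rw [if_neg] at h''
      · simp at h''
      · rw [Fin.ext_iff, hπ, swapPerm_apply, if_pos (show (0 : ℕ) < ℓ by omega)]
        simp only; omega
  · show (M - 1).rank = ℓ
    rw [Matrix.rank]
    let ψ : (Fin ℓ → F) →ₗ[F] (Fin n → F) :=
      { toFun := fun w i => if h : i.val < ℓ then w ⟨i.val, h⟩
          else if h' : n - ℓ ≤ i.val then w ⟨i.val - (n - ℓ), by have := i.2; omega⟩ else 0
        map_add' := fun w w' => by ext i; by_cases h : i.val < ℓ <;> by_cases h' : n - ℓ ≤ i.val <;> simp [h, h', -tsub_le_iff_right, -Nat.sub_le_iff_le_add]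
        map_smul' := fun c w => by ext i; by_cases h : i.val < ℓ <;> by_cases h' : n - ℓ ≤ i.val <;> simp [h, h', -tsub_le_iff_right, -Nat.sub_le_iff_le_add] }
    have hψ : Function.Injective ψ := fun w w' h => funext fun k => by
      have h' := congrFun h ⟨k.val, by have := k.2; omega⟩
      simpa [ψ] using h'
    have e : LinearMap.range (M - 1).mulVecLin = LinearMap.range ψ := by
      refine le_antisymm ?_ ?_
      · rintro _ ⟨v, rfl⟩
        refine ⟨fun k => v ⟨k.val + (n - ℓ), by have := k.2; omega⟩ - v ⟨k.val, by have := k.2; omega⟩,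
          funext fun i => ?_⟩
        have := i.2
        rw [Matrix.mulVecLin_apply, Matrix.sub_mulVec, Matrix.one_mulVec, hM]
        simp only [ψ, LinearMap.coe_mk, AddHom.coe_mk, Pi.sub_apply, Function.comp_apply]
        split_ifs with h h'
        · congr 2
          refine Fin.ext ?_
          rw [hπ, swapPerm_apply, if_pos h]
        · rw [CharTwo.sub_eq_add, CharTwo.sub_eq_add, add_comm (v (π i))]
          congr 2
          · exact Fin.ext (by simp only; omega)
          · refine Fin.ext ?_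
            rw [hπ, swapPerm_apply, if_neg h, if_pos h']
        · rw [show π i = i from Fin.ext (by rw [hπ, swapPerm_apply, if_neg h, if_neg h']), sub_self]
      · rintro _ ⟨w, rfl⟩
        obtain ⟨v, hv⟩ := exists_prefix (n := n) (by omega) w
        let v' : Fin n → F := fun i => if i.val < ℓ then v i else 0
        refine ⟨v', funext fun i => ?_⟩
        have := i.2
        rw [Matrix.mulVecLin_apply, Matrix.sub_mulVec, Matrix.one_mulVec, hM]
        simp only [ψ, LinearMap.coe_mk, AddHom.coe_mk, Pi.sub_apply, Function.comp_apply, v', hπ, swapPerm_apply]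
        split_ifs <;> try omega
        · rw [zero_sub, CharTwo.neg_eq]
          exact hv ⟨i.val, by omega⟩
        · rw [sub_zero, ← hv ⟨i.val - (n - ℓ), by omega⟩]
          congr 1
          refine Fin.ext ?_
          rw [swapPerm_apply]
          simp only [Fin.val_castLE]
          split_ifs; omega
        · rw [sub_self]
    rw [e, LinearMap.finrank_range_of_inj hψ, Module.finrank_fin_fun]

/-- Every symplectic transformation in characteristic two preserves some quadratic form. -/
theorem exists_invariant_form [Fintype F] [CharP F 2] {m : ℕ} (A : Matrix.symplecticGroup (Fin m) F) :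
    ∃ Q : QuadraticForm F (Fin m ⊕ Fin m → F),
      (∀ u v, QuadraticMap.polar ⇑Q u v = Cfsg.sympForm m F u v) ∧ ∀ v, Q (A.1 *ᵥ v) = Q v := by
  have h2 : (2 : F) = 0 := CharTwo.two_eq_zero
  let Q₀ : QuadraticForm F (Fin m ⊕ Fin m → F) :=
    (Quad.hyp (Quad.zeroForm F) m).comp (Quad.plusCoord m).toLinearMap
  have hp : ∀ u v, QuadraticMap.polar ⇑Q₀ u v = sympB m F u v := fun u v => by
    rw [show QuadraticMap.polar ⇑Q₀ u v = QuadraticMap.polar (Quad.hyp (Quad.zeroForm F) m) (Quad.plusCoord m u)
      (Quad.plusCoord m v) from by simp [QuadraticMap.polar, Q₀], Quad.polar_hyp, Quad.plusCoord_apply,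
      Quad.plusCoord_apply, Quad.polar_zeroForm, add_zero, sympB_eq_sum]
    refine Finset.sum_congr rfl fun i _ => ?_
    linear_combination (u (Sum.inl i) * v (Sum.inr i)) * h2
  have hA := (mem_symplectic_iff A.1).1 A.2
  let D : (Fin m ⊕ Fin m → F) → F := fun v => Q₀ (A.1 *ᵥ v) + Q₀ v
  have hDadd : ∀ u v, D (u + v) = D u + D v := fun u v => by
    simp only [D, Matrix.mulVec_add, Quad.map_add' (Q := Q₀), hp, hA]
    linear_combination (sympB m F u v) * h2
  have hDsmul : ∀ (c : F) v, D (c • v) = c * c * D v := fun c v => by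
    simp only [D, Matrix.mulVec_smul, Quad.map_smul' (Q := Q₀)]
    ring
  have hinj : ∀ x y : F, x * x = y * y → x = y := fun x y h => by
    have : (x - y) * (x - y) = 0 := by linear_combination h + (y * y - x * y) * h2
    exact sub_eq_zero.1 (mul_self_eq_zero.1 this)
  choose r hr using fun v => (FiniteField.isSquare_of_char_two ((ringChar.eq F 2).symm ▸ rfl) (D v))
  let ψ : (Fin m ⊕ Fin m → F) →ₗ[F] F :=
    { toFun := r
      map_add' := fun u v => hinj _ _ (by rw [← hr, hDadd, hr u, hr v]; linear_combination -(r u * r v) * h2)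
      map_smul' := fun c v => hinj _ _ (by
        rw [← hr, hDsmul, hr v, RingHom.id_apply, smul_eq_mul]; ring) }
  let T : (Fin m ⊕ Fin m → F) →ₗ[F] (Fin m ⊕ Fin m → F) := Matrix.toLin' A.1 - LinearMap.id
  have hann : ψ ∈ (LinearMap.ker T).dualAnnihilator := by
    refine (Submodule.mem_dualAnnihilator _).2 fun v hv => hinj _ 0 ?_
    have hfix : A.1 *ᵥ v = v := sub_eq_zero.1 (LinearMap.mem_ker.1 hv)
    show r v * r v = _
    rw [← hr]
    simp [D, hfix, CharTwo.add_self_eq_zero]
  rw [← LinearMap.range_dualMap_eq_dualAnnihilator_ker] at hann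
  obtain ⟨φ, hφ⟩ := hann
  refine ⟨Q₀ + QuadraticMap.linMulLin φ φ, fun u v => ?_, fun v => ?_⟩
  · rw [← sympB_apply, ← hp]
    simp only [QuadraticMap.polar, QuadraticMap.add_apply, QuadraticMap.linMulLin_apply, map_add]
    linear_combination (φ u * φ v) * h2
  · have h1 : φ (A.1 *ᵥ v) - φ v = r v := by
      have := LinearMap.congr_fun hφ v
      simpa [T, map_sub, ψ] using this
    have hD : Q₀ (A.1 *ᵥ v) + Q₀ v = r v * r v := hr v
    simp only [QuadraticMap.add_apply, QuadraticMap.linMulLin_apply]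
    rw [← h1] at hD
    linear_combination hD + (φ (A.1 *ᵥ v) * φ (A.1 *ᵥ v) - φ (A.1 *ᵥ v) * φ v - Q₀ v) * h2

end Cfsg.Agent.Classical
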