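import Mathlib

/-!
Lang's theorem for the general linear group: a Frobenius-semilinear bijection of a finite dimensional space over
an algebraically closed field has a basis of fixed vectors.
-/

set_option autoImplicit false

namespace Cfsg.Agent.Classical.LangGL

open Polynomial

variable {K : Type*} [Field K] {n : ℕ} (σ : K →+* K) (g : GL (Fin n) K)

/-- The semilinear map. -/
def phi (v : Fin n → K) : Fin n → K := g.1.mulVec fun i => σ (v i)

theorem phi_add (v w : Fin n → K) : phi σ g (v + w) = phi σ g v + phi σ g w := by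
  rw [phi, phi, phi, ← Matrix.mulVec_add]
  congr 1
  funext i
  simp

theorem phi_zero : phi σ g 0 = 0 := by
  rw [phi, show (fun i => σ ((0 : Fin n → K) i)) = 0 by funext i; simp, Matrix.mulVec_zero]

theorem phi_smul (c : K) (v : Fin n → K) : phi σ g (c • v) = σ c • phi σ g v := by
  rw [phi, phi, ← Matrix.mulVec_smul]
  congr 1
  funext i
  simp

theorem phi_sum {ι : Type*} (s : Finset ι) (f : ι → Fin n → K) :
    phi σ g (∑ i ∈ s, f i) = ∑ i ∈ s, phi σ g (f i) := by
  classical
  induction s using Finset.induction_on with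
  | empty => simpa using phi_zero σ g
  | insert a t ha ih => rw [Finset.sum_insert ha, Finset.sum_insert ha, phi_add, ih]

theorem phi_injective : Function.Injective (phi σ g) := fun v w h => funext fun i =>
  σ.injective (congrFun (Matrix.mulVec_injective_of_isUnit g.isUnit h) i)

/-- The span of the fixed vectors. -/
def fixSpan : Submodule K (Fin n → K) := Submodule.span K {v | phi σ g v = v}

theorem mem_image (hs : Function.Surjective σ) {u : Fin n → K} (hu : u ∈ fixSpan σ g) :
    ∃ u' ∈ fixSpan σ g, phi σ g u' = u := by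
  induction hu using Submodule.span_induction with
  | mem x hx => exact ⟨x, Submodule.subset_span hx, hx⟩
  | zero => exact ⟨0, zero_mem _, phi_zero σ g⟩
  | add x y _ _ hx hy =>
    obtain ⟨a, ha, rfl⟩ := hx
    obtain ⟨b, hb, rfl⟩ := hy
    exact ⟨a + b, add_mem ha hb, phi_add σ g a b⟩
  | smul c x _ hx =>
    obtain ⟨a, ha, rfl⟩ := hx
    obtain ⟨d, rfl⟩ := hs c
    exact ⟨d • a, Submodule.smul_mem _ _ ha, phi_smul σ g d a⟩

variable {q : ℕ}

theorem exists_solve [IsAlgClosed K] (hq : 2 ≤ q) (c : K) : ∃ y : K, y ^ q - y = c := by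
  have hd : (X ^ q - X - C c : K[X]).degree ≠ 0 := by
    rw [sub_sub, degree_sub_eq_left_of_degree_lt]
    · rw [degree_X_pow]; exact_mod_cast (by omega : q ≠ 0)
    · rw [degree_X_pow, degree_X_add_C]; exact_mod_cast hq
  obtain ⟨y, hy⟩ := IsAlgClosed.exists_root _ hd
  exact ⟨y, sub_eq_zero.1 (by simpa using hy)⟩

theorem exists_z [IsAlgClosed K] (hσ : ∀ x, σ x = x ^ q) (hq : 2 ≤ q) {u : Fin n → K} (hu : u ∈ fixSpan σ g) :
    ∃ z ∈ fixSpan σ g, phi σ g z - z = u := by
  suffices ∀ c : K, ∃ z ∈ fixSpan σ g, phi σ g z - z = c • u by simpa using this 1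
  induction hu using Submodule.span_induction with
  | mem x hx =>
    intro c
    obtain ⟨y, hy⟩ := exists_solve hq c
    refine ⟨y • x, Submodule.smul_mem _ _ (Submodule.subset_span hx), ?_⟩
    rw [phi_smul, show phi σ g x = x from hx, hσ, ← sub_smul, hy]
  | zero => exact fun c => ⟨0, zero_mem _, by simp [phi_zero]⟩
  | add x y _ _ hx hy =>
    intro c
    obtain ⟨a, ha, ea⟩ := hx c
    obtain ⟨b, hb, eb⟩ := hy c
    refine ⟨a + b, add_mem ha hb, ?_⟩
    rw [phi_add, smul_add, ← ea, ← eb]; abel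
  | smul d x _ hx =>
    intro c
    obtain ⟨a, ha, ea⟩ := hx (c * d)
    exact ⟨a, ha, by rw [ea, smul_smul]⟩

/-- The recursion polynomials. -/
noncomputable def rec' (a : ℕ → K) (q : ℕ) : ℕ → K[X]
  | 0 => C (a 0) * X
  | j + 1 => rec' a q j ^ q + C (a (j + 1)) * X

theorem natDegree_rec (a : ℕ → K) (hq : 2 ≤ q) (h0 : a 0 ≠ 0) : ∀ j, (rec' a q j).natDegree = q ^ j
  | 0 => by rw [rec', natDegree_C_mul_X _ h0, pow_zero]
  | j + 1 => by
    have hpos : 0 < q ^ j := pow_pos (by omega) j
    rw [rec', natDegree_add_eq_left_of_natDegree_lt, natDegree_pow, natDegree_rec a hq h0 j, pow_succ, mul_comm]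
    refine lt_of_le_of_lt (natDegree_C_mul_le _ _) ?_
    rw [natDegree_X, natDegree_pow, natDegree_rec a hq h0 j]
    calc 1 < q := by omega
      _ = q * 1 := (mul_one q).symm
      _ ≤ q * q ^ j := Nat.mul_le_mul_left _ hpos

theorem derivative_pow_q (hq0 : (q : K) = 0) (P : K[X]) : derivative (P ^ q) = 0 := by
  rw [derivative_pow, hq0, C_0, zero_mul, zero_mul]

theorem exists_root_ne [IsAlgClosed K] (a : ℕ → K) (hq : 2 ≤ q) (hq0 : (q : K) = 0) (h0 : a 0 ≠ 0) (k : ℕ) :
    ∃ y : K, y ≠ 0 ∧ ((rec' a q k).eval y) ^ q = y := by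
  classical
  set P : K[X] := rec' a q k ^ q - X with hP
  have hdeg : P.natDegree = q ^ (k + 1) := by
    rw [hP, natDegree_sub_eq_left_of_natDegree_lt, natDegree_pow, natDegree_rec a hq h0 k, pow_succ, mul_comm]
    rw [natDegree_X, natDegree_pow, natDegree_rec a hq h0 k]
    calc 1 < q := by omega
      _ = q * 1 := (mul_one q).symm
      _ ≤ q * q ^ k := Nat.mul_le_mul_left _ (Nat.one_le_pow _ _ (by omega : 0 < q))
  have hsep : P.Separable := by
    rw [separable_def, hP, derivative_sub, derivative_pow_q hq0, derivative_X, zero_sub]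
    exact isCoprime_one_right.neg_right
  have hne : P ≠ 0 := fun h => by
    rw [h, natDegree_zero] at hdeg
    exact (pow_pos (by omega : 0 < q) (k + 1)).ne hdeg
  have hc : P.roots.toFinset.card = q ^ (k + 1) := by
    rw [Multiset.toFinset_card_of_nodup (nodup_roots hsep), splits_iff_card_roots.1 (IsAlgClosed.splits P), hdeg]
  have hlt : 1 < P.roots.toFinset.card := by
    rw [hc]
    exact lt_of_lt_of_le (by omega : 1 < q) (Nat.le_self_pow (by omega) q)
  obtain ⟨y, hy, hy0⟩ := Finset.exists_mem_ne hlt 0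
  refine ⟨y, hy0, sub_eq_zero.1 ?_⟩
  have := (mem_roots hne).1 (Multiset.mem_toFinset.1 hy)
  simpa [hP, IsRoot] using this

variable [IsAlgClosed K]

theorem fixSpan_eq_top (hσ : ∀ x, σ x = x ^ q) (hq : 2 ≤ q) (hq0 : (q : K) = 0) : fixSpan σ g = ⊤ := by
  classical
  have hs : Function.Surjective σ := fun c => by
    obtain ⟨d, hd⟩ := IsAlgClosed.exists_pow_nat_eq c (by omega : 0 < q)
    exact ⟨d, (hσ d).trans hd⟩
  by_contra hU
  obtain ⟨v, -, hv⟩ := SetLike.exists_of_lt (lt_top_iff_ne_top.2 hU)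
  let w : ℕ → Fin n → K := fun j => (phi σ g)^[j] v
  let L : ℕ → Submodule K (Fin n → K) := fun k => fixSpan σ g ⊔ Submodule.span K (w '' Set.Iio k)
  have hw : ∀ j, phi σ g (w j) = w (j + 1) := fun j => (Function.iterate_succ_apply' _ _ _).symm
  have hex : ∃ k, w k ∈ L k := by
    by_contra hcon
    push Not at hcon
    have key : ∀ k, k ≤ Module.finrank K (L k) := by
      intro k
      induction k with
      | zero => exact Nat.zero_le _
      | succ k ih =>
        refine Nat.succ_le_of_lt (lt_of_le_of_lt ih (Submodule.finrank_lt_finrank_of_lt ?_))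
        refine lt_of_le_of_ne (sup_le_sup_left (Submodule.span_mono (Set.image_mono (Set.Iio_subset_Iio k.le_succ))) _)
          fun e => hcon k ?_
        exact e ▸ Submodule.mem_sup_right (Submodule.subset_span ⟨k, Nat.lt_succ_self k, rfl⟩)
    have h1 := (key (n + 1)).trans (Submodule.finrank_le _)
    simp at h1
  let k := Nat.find hex
  have hk : w k ∈ L k := Nat.find_spec hex
  obtain ⟨k', hk'⟩ : ∃ k', k = k' + 1 := by
    refine Nat.exists_eq_succ_of_ne_zero fun h => hv ?_
    have h1 : w 0 ∈ L 0 := h ▸ hk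
    have hempty : Set.Iio (0 : ℕ) = ∅ := Set.eq_empty_of_forall_notMem fun x hx => Nat.not_lt_zero x hx
    simpa [L, w, hempty] using h1
  have hnot : w k' ∉ L k' := Nat.find_min hex (by omega : k' < k)
  have himg : ∀ j, w '' Set.Iio j = Set.range fun i : Fin j => w i := fun j => by
    ext x; exact ⟨fun ⟨i, hi, e⟩ => ⟨⟨i, hi⟩, e⟩, fun ⟨i, e⟩ => ⟨i, i.2, e⟩⟩
  obtain ⟨u, hu, s, hsm, hus⟩ := Submodule.mem_sup.1 hk
  rw [himg, Submodule.mem_span_range_iff_exists_fun] at hsm
  obtain ⟨c, rfl⟩ := hsm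
  let a : ℕ → K := fun j => if h : j < k then c ⟨j, h⟩ else 0
  have hsum : ∑ i : Fin k, c i • w i = ∑ j ∈ Finset.range k, a j • w j := by
    rw [← Fin.sum_univ_eq_sum_range (fun j => a j • w j) k]
    exact Finset.sum_congr rfl fun i _ => by simp [a, i.2]
  rw [hsum, hk', Finset.sum_range_succ' ] at hus
  have ha0 : a 0 ≠ 0 := by
    intro h0
    rw [h0, zero_smul, add_zero] at hus
    obtain ⟨u', hu', hue⟩ := mem_image σ g hs hu
    choose d hd using fun j => hs (a (j + 1))
    have hpre : phi σ g (w k') = phi σ g (u' + ∑ j ∈ Finset.range k', d j • w j) := by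
      rw [hw, phi_add, hue, phi_sum, ← hus]
      refine congrArg _ (Finset.sum_congr rfl fun j _ => ?_)
      rw [phi_smul, hd, hw]
    refine hnot ?_
    rw [phi_injective σ g hpre]
    exact add_mem (Submodule.mem_sup_left hu') (Submodule.mem_sup_right (Submodule.sum_mem _ fun j hj =>
      Submodule.smul_mem _ _ (Submodule.subset_span ⟨j, Finset.mem_range.1 hj, rfl⟩)))
  obtain ⟨y, hy0, hy⟩ := exists_root_ne a hq hq0 ha0 k'
  let x : ℕ → K := fun j => (rec' a q j).eval y
  let W := ∑ j ∈ Finset.range (k' + 1), x j • w j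
  have hxk : x k' ≠ 0 := fun h => by
    rw [show (rec' a q k').eval y = 0 from h, zero_pow (by omega)] at hy
    exact hy0 hy.symm
  have hW : W ∉ fixSpan σ g := fun hWU => by
    refine hnot ?_
    have e : x k' • w k' = W - ∑ j ∈ Finset.range k', x j • w j := by
      simp only [W, Finset.sum_range_succ]; abel
    have hm : x k' • w k' ∈ L k' := by
      rw [e]
      exact sub_mem (Submodule.mem_sup_left hWU) (Submodule.mem_sup_right (Submodule.sum_mem _ fun j hj =>
        Submodule.smul_mem _ _ (Submodule.subset_span ⟨j, Finset.mem_range.1 hj, rfl⟩)))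
    exact (Submodule.smul_mem_iff _ hxk).1 hm
  have hdiff : phi σ g W - W = y • u := by
    simp only [W]
    rw [phi_sum, Finset.sum_range_succ, Finset.sum_range_succ' (fun j => x j • w j), phi_smul, hw, hσ,
      show x k' ^ q = y from hy, ← hus, smul_add, smul_add, Finset.smul_sum]
    have h1 : ∀ j, x (j + 1) • w (j + 1) = phi σ g (x j • w j) + y • (a (j + 1) • w (j + 1)) := fun j => by
      rw [phi_smul, hw, hσ, smul_smul, ← add_smul]
      congr 1
      simp [x, rec']; ring
    simp only [h1, Finset.sum_add_distrib]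
    rw [show x 0 • w 0 = y • (a 0 • w 0) by rw [smul_smul]; congr 1; simp [x, rec']; ring]
    abel
  obtain ⟨z, hz, hze⟩ := exists_z σ g hσ hq (Submodule.smul_mem _ y hu)
  refine hW ?_
  have hfix : phi σ g (W - z) = W - z := by
    have h2 : phi σ g (W - z) + phi σ g z = phi σ g W := by rw [← phi_add, sub_add_cancel]
    rw [eq_sub_of_add_eq h2, sub_eq_sub_iff_sub_eq_sub, hdiff, hze]
  have := add_mem (Submodule.subset_span hfix : W - z ∈ fixSpan σ g) hz
  rwa [sub_add_cancel] at this

theorem lang (hσ : ∀ x, σ x = x ^ q) (hq : 2 ≤ q) (hq0 : (q : K) = 0) :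
    ∃ x : GL (Fin n) K, g = x * (Matrix.GeneralLinearGroup.map σ x)⁻¹ := by
  obtain ⟨b, hb, hspan, hli⟩ := exists_linearIndependent K {v | phi σ g v = v}
  have htop : Submodule.span K b = ⊤ := hspan.trans (fixSpan_eq_top σ g hσ hq hq0)
  let B := Module.Basis.mk hli (by rw [Subtype.range_coe, htop])
  haveI : Fintype b := FiniteDimensional.fintypeBasisIndex B
  let e : Fin n ≃ b := (Fintype.equivFinOfCardEq (by
    rw [← Module.finrank_eq_card_basis B]; simp)).symm
  let M : Matrix (Fin n) (Fin n) K := Matrix.of fun i j => (e j : Fin n → K) i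
  have hM : IsUnit M := by
    rw [← Matrix.linearIndependent_cols_iff_isUnit]
    have h3 : LinearIndependent K fun j => (e j : Fin n → K) := hli.comp e e.injective
    exact h3
  refine ⟨hM.unit, ?_⟩
  rw [eq_mul_inv_iff_mul_eq]
  apply Units.ext
  ext i j
  show (g.1 * M.map σ) i j = M i j
  have h4 : phi σ g (e j : Fin n → K) = e j := hb (e j).2
  exact congrFun h4 i

end Cfsg.Agent.Classical.LangGL
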