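import Mathlib
import Cfsg.Agent.Classical.OrthBlocks
import Cfsg.Agent.Classical.SympGroup

/-!
In characteristic 2 the orthogonal group in dimension 2m+1 is the symplectic group in dimension 2m.
-/

set_option autoImplicit false

namespace Cfsg.Agent.Classical.Quad

open Module QuadraticMap

section oddTwo

variable {F : Type*} [Field F] {m : ℕ}

/-- x₀² + the plus form. -/
noncomputable def oddTwoQ (F : Type*) [Field F] (m : ℕ) : QuadraticForm F ((Fin m ⊕ Fin m → F) × F) :=
  (plusQ F m).comp (LinearMap.fst F _ F) + (sqForm F).comp (LinearMap.snd F _ F)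

theorem oddTwoQ_apply (x : (Fin m ⊕ Fin m → F) × F) : oddTwoQ F m x = plusQ F m x.1 + x.2 ^ 2 := by
  simp [oddTwoQ, sqForm, pow_two]

variable [Finite F] [CharP F 2]

omit [Finite F] in
theorem sympB_eq_polar (u v : Fin m ⊕ Fin m → F) : sympB m F u v = polar (plusQ F m) u v := by
  rw [sympB_eq_sum, polar_plusQ]
  exact Finset.sum_congr rfl fun i _ => by rw [CharTwo.sub_eq_add]; ring

/-- The linear part of the lift of a symplectic map. -/
noncomputable def liftPart (A : Alt.isoGroup (sympB m F)) : (Fin m ⊕ Fin m → F) →ₗ[F] F where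
  toFun x := (frobeniusEquiv F 2).symm (plusQ F m (A.1 x) + plusQ F m x)
  map_add' x y := by
    rw [← map_add (frobeniusEquiv F 2).symm]
    congr 1
    rw [A.1.map_add, map_add', map_add', ← sympB_eq_polar, ← sympB_eq_polar, A.2]
    linear_combination (CharTwo.two_eq_zero (R := F)) * sympB m F x y
  map_smul' c x := by
    have hc : (frobeniusEquiv F 2).symm (c * c) = c := by
      rw [RingEquiv.symm_apply_eq, frobeniusEquiv_def, pow_two]
    rw [map_smul, map_smul', map_smul', ← mul_add, map_mul, hc]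
    rfl

theorem liftPart_sq (A : Alt.isoGroup (sympB m F)) (x : Fin m ⊕ Fin m → F) :
    liftPart A x ^ 2 = plusQ F m (A.1 x) + plusQ F m x := by
  show ((frobeniusEquiv F 2).symm _) ^ 2 = _
  rw [← frobeniusEquiv_def (R := F) (p := 2), RingEquiv.apply_symm_apply]

theorem eq_of_sq {a b : F} (h : a ^ 2 = b ^ 2) : a = b :=
  (frobeniusEquiv F 2).injective (by rw [frobeniusEquiv_def, frobeniusEquiv_def, h])

/-- The lift of a symplectic map. -/
noncomputable def liftMap (A : Alt.isoGroup (sympB m F)) :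
    ((Fin m ⊕ Fin m → F) × F) →ₗ[F] ((Fin m ⊕ Fin m → F) × F) :=
  LinearMap.prod ((A.1 : (Fin m ⊕ Fin m → F) →ₗ[F] _).comp (LinearMap.fst F _ F))
    (LinearMap.snd F _ F + (liftPart A).comp (LinearMap.fst F _ F))

theorem liftMap_apply (A : Alt.isoGroup (sympB m F)) (x : (Fin m ⊕ Fin m → F) × F) :
    liftMap A x = (A.1 x.1, x.2 + liftPart A x.1) := rfl

theorem liftMap_mul (A B : Alt.isoGroup (sympB m F)) (x : (Fin m ⊕ Fin m → F) × F) :
    liftMap (A * B) x = liftMap A (liftMap B x) := by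
  simp only [liftMap_apply]
  refine Prod.ext rfl (eq_of_sq ?_)
  show (x.2 + liftPart (A * B) x.1) ^ 2 = (x.2 + liftPart B x.1 + liftPart A (B.1 x.1)) ^ 2
  rw [CharTwo.add_sq, CharTwo.add_sq, CharTwo.add_sq, liftPart_sq, liftPart_sq, liftPart_sq,
    show (A * B).1 x.1 = A.1 (B.1 x.1) from rfl]
  linear_combination -(CharTwo.two_eq_zero (R := F)) * plusQ F m (B.1 x.1)

theorem liftMap_one (x : (Fin m ⊕ Fin m → F) × F) : liftMap (1 : Alt.isoGroup (sympB m F)) x = x := by
  rw [liftMap_apply]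
  refine Prod.ext rfl (eq_of_sq ?_)
  show (x.2 + _) ^ 2 = _
  rw [CharTwo.add_sq, liftPart_sq]
  show x.2 ^ 2 + (plusQ F m x.1 + plusQ F m x.1) = _
  rw [CharTwo.add_self_eq_zero, add_zero]

theorem oddTwoQ_liftMap (A : Alt.isoGroup (sympB m F)) (x : (Fin m ⊕ Fin m → F) × F) :
    oddTwoQ F m (liftMap A x) = oddTwoQ F m x := by
  rw [oddTwoQ_apply, oddTwoQ_apply, liftMap_apply, CharTwo.add_sq, liftPart_sq]
  linear_combination (CharTwo.two_eq_zero (R := F)) * plusQ F m (A.1 x.1)

/-- The lift as a homomorphism. -/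
noncomputable def liftO : Alt.isoGroup (sympB m F) →* oG (oddTwoQ F m) :=
  MonoidHom.mk' (fun A => ⟨LinearEquiv.ofLinearMap (liftMap A) (liftMap A⁻¹)
    (LinearMap.ext fun x => by
      rw [LinearMap.comp_apply, ← liftMap_mul, mul_inv_cancel, liftMap_one]; rfl)
    (LinearMap.ext fun x => by
      rw [LinearMap.comp_apply, ← liftMap_mul, inv_mul_cancel, liftMap_one]; rfl), oddTwoQ_liftMap A⟩)
    fun A B => Subtype.ext (LinearEquiv.ext fun x => liftMap_mul A B x)

theorem liftO_apply (A : Alt.isoGroup (sympB m F)) (x : (Fin m ⊕ Fin m → F) × F) :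
    (liftO A).1 x = (A.1 x.1, x.2 + liftPart A x.1) := rfl

theorem liftO_bijective : Function.Bijective (liftO (F := F) (m := m)) := by
  refine ⟨fun A B h => Subtype.ext (LinearEquiv.ext fun x => ?_), fun g => ?_⟩
  · have := congrArg (fun g : oG (oddTwoQ F m) => (g.1 (x, 0)).1) h
    simpa [liftO_apply] using this
  have hp : ∀ u v : (Fin m ⊕ Fin m → F) × F, polar (oddTwoQ F m) u v = polar (plusQ F m) u.1 v.1 := fun u v => by
    simp only [polar, oddTwoQ_apply, Prod.fst_add, Prod.snd_add, CharTwo.add_sq]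
    ring
  have hz : g.1 (0, 1) = (0, 1) := by
    have h1 : (g.1 (0, 1)).1 = 0 := eq_zero_of_polar nondeg_plusQ fun y => by
      obtain ⟨w, hw⟩ := g.1.surjective (y, 0)
      have := polar_eq_of_mem g.2 ((0, 1) : (Fin m ⊕ Fin m → F) × F) w
      rw [hw, hp, hp, polar_zero_left] at this
      exact this
    refine Prod.ext h1 (eq_of_sq ?_)
    have := g.2 ((0, 1) : (Fin m ⊕ Fin m → F) × F)
    rw [oddTwoQ_apply, oddTwoQ_apply, h1, map_zero, zero_add, zero_add] at this
    exact this
  let f : (Fin m ⊕ Fin m → F) →ₗ[F] (Fin m ⊕ Fin m → F) :=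
    (LinearMap.fst F _ F).comp ((g.1 : _ →ₗ[F] _).comp (LinearMap.inl F _ F))
  have hdecomp : ∀ (x : Fin m ⊕ Fin m → F) (t : F), g.1 (x, t) = g.1 (x, 0) + t • ((0, 1) : _ × F) := fun x t => by
    have e : ((x, t) : (Fin m ⊕ Fin m → F) × F) = (x, 0) + t • ((0, 1) : _ × F) := by simp
    rw [e, map_add, map_smul, hz]
  have hinj : Function.Injective f := by
    rw [injective_iff_map_eq_zero]
    intro x hx
    have h2 : g.1 (x, (g.1 (x, 0)).2) = 0 := by
      rw [hdecomp]
      refine Prod.ext ?_ ?_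
      · simpa [f] using hx
      · simp [CharTwo.add_self_eq_zero]
    exact congrArg Prod.fst (g.1.map_eq_zero_iff.1 h2)
  let A : Alt.isoGroup (sympB m F) := ⟨LinearEquiv.ofInjectiveEndo f hinj, fun u v => by
    rw [sympB_eq_polar, sympB_eq_polar]
    have := polar_eq_of_mem g.2 ((u, 0) : (Fin m ⊕ Fin m → F) × F) (v, 0)
    rw [hp, hp] at this
    exact this⟩
  refine ⟨A, Subtype.ext (LinearEquiv.ext fun x => ?_)⟩
  obtain ⟨x, t⟩ := x
  rw [liftO_apply, hdecomp]
  have hA : A.1 x = (g.1 (x, 0)).1 := rfl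
  refine Prod.ext (by simp [hA]) ?_
  show t + liftPart A x = (g.1 (x, 0) + t • ((0, 1) : _ × F)).2
  rw [Prod.snd_add, Prod.smul_snd, smul_eq_mul, mul_one, add_comm t, add_left_inj]
  refine eq_of_sq ?_
  rw [liftPart_sq, hA]
  have := g.2 ((x, 0) : (Fin m ⊕ Fin m → F) × F)
  rw [oddTwoQ_apply, oddTwoQ_apply] at this
  linear_combination -this + (CharTwo.two_eq_zero (R := F)) * plusQ F m (g.1 (x, 0)).1

theorem exists_oddTwo_equiv :
    Nonempty (Cfsg.isometryGroup F (Cfsg.quadFormOdd m F) ≃* Matrix.symplecticGroup (Fin m) F) := by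
  let e : (Unit ⊕ (Fin m ⊕ Fin m) → F) ≃ₗ[F] (Fin m ⊕ Fin m → F) × F :=
    { toFun := fun v => (fun i => v (.inr i), v (.inl ()))
      map_add' := fun _ _ => rfl
      map_smul' := fun _ _ => rfl
      invFun := fun x => Sum.elim (fun _ => x.2) x.1
      left_inv := fun v => by funext i; rcases i with _ | i <;> rfl
      right_inv := fun _ => rfl }
  have he : ∀ v, oddTwoQ F m (e v) = Cfsg.quadFormOdd m F v := fun v => by
    rw [oddTwoQ_apply, plusQ_apply, Cfsg.quadFormOdd, add_comm]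
    rfl
  have hfun : Cfsg.quadFormOdd m F = ⇑((oddTwoQ F m).comp e.toLinearMap) := funext fun x => (he x).symm
  rw [hfun]
  exact ⟨((oEquiv _).trans (oCongr e fun x => rfl)).trans
    ((MulEquiv.ofBijective _ (liftO_bijective (F := F) (m := m))).symm.trans (spEquiv m F).symm)⟩

end oddTwo

end Cfsg.Agent.Classical.Quad
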