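import Mathlib

/-!
Normal frames for self-adjoint square-zero maps of a symplectic space in characteristic two.
-/

set_option autoImplicit false

namespace Cfsg.Agent.Classical.SInv

open Module

variable {F : Type*} [Field F] {V : Type*} [AddCommGroup V] [Module F V]

/-- The data: a non-degenerate alternating form in characteristic two with a self-adjoint square-zero map. -/
structure SData (B : LinearMap.BilinForm F V) (N : V →ₗ[F] V) : Prop where
  two : (2 : F) = 0
  self : ∀ x, B x x = 0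
  symm : ∀ x y, B x y = B y x
  nondeg : ∀ x, (∀ y, B x y = 0) → x = 0
  adj : ∀ x y, B (N x) y = B x (N y)
  sq : ∀ x, N (N x) = 0

variable {B : LinearMap.BilinForm F V} {N : V →ₗ[F] V}

/-- A partial frame: vectors pairing with the images of one another along an involution of the index type. -/
def IsFr (B : LinearMap.BilinForm F V) (N : V →ₗ[F] V) {ι : Type} [DecidableEq ι] (π : ι → ι) (u : ι → V) : Prop :=
  (∀ i j, B (u i) (u j) = 0) ∧ ∀ i j, B (u i) (N (u j)) = if π i = j then 1 else 0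

/-- A partial family of hyperbolic pairs outside a frame. -/
def IsPairs (B : LinearMap.BilinForm F V) (N : V →ₗ[F] V) {ι : Type} (u : ι → V) {s : ℕ} (z z' : Fin s → V) : Prop :=
  (∀ i j, B (z i) (z j) = 0) ∧ (∀ i j, B (z' i) (z' j) = 0) ∧ (∀ i j, B (z i) (z' j) = if i = j then 1 else 0) ∧
    (∀ i j, B (u i) (z j) = 0 ∧ B (u i) (z' j) = 0) ∧ ∀ i j, B (N (u i)) (z j) = 0 ∧ B (N (u i)) (z' j) = 0

/-- Orthogonal to a frame. -/
def Perp (B : LinearMap.BilinForm F V) (N : V →ₗ[F] V) {ι : Type} (u : ι → V) (x : V) : Prop :=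
  ∀ i, B (u i) x = 0 ∧ B (N (u i)) x = 0

/-- The combination map. -/
def comb {ι : Type} [Fintype ι] (N : V →ₗ[F] V) (u : ι → V) {s : ℕ} (z z' : Fin s → V) :
    (ι → F) × (ι → F) × (Fin s → F) × (Fin s → F) →ₗ[F] V :=
  LinearMap.coprod (Fintype.linearCombination F u)
    (LinearMap.coprod (Fintype.linearCombination F fun i => N (u i))
      (LinearMap.coprod (Fintype.linearCombination F z) (Fintype.linearCombination F z')))

/-- The coordinate map. -/
def coord {ι : Type} (B : LinearMap.BilinForm F V) (N : V →ₗ[F] V) (π : ι → ι) (u : ι → V) {s : ℕ} (z z' : Fin s → V) :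
    V →ₗ[F] (ι → F) × (ι → F) × (Fin s → F) × (Fin s → F) :=
  (LinearMap.pi fun i => B (N (u (π i)))).prod ((LinearMap.pi fun i => B (u (π i))).prod
    ((LinearMap.pi fun i => B (z' i)).prod (LinearMap.pi fun i => B (z i))))

theorem comb_apply {ι : Type} [Fintype ι] (u : ι → V) {s : ℕ} (z z' : Fin s → V)
    (c : (ι → F) × (ι → F) × (Fin s → F) × (Fin s → F)) :
    comb N u z z' c = (∑ i, c.1 i • u i) + ((∑ i, c.2.1 i • N (u i)) +
      ((∑ i, c.2.2.1 i • z i) + ∑ i, c.2.2.2 i • z' i)) := by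
  simp [comb, Fintype.linearCombination_apply]

section

variable (D : SData B N) {ι : Type} [Fintype ι] [DecidableEq ι] {π : ι → ι} (hπ : ∀ i, π (π i) = i) {u : ι → V}
include D

omit [Fintype ι] [DecidableEq ι] in
theorem Perp.map {x : V} (hx : Perp B N u x) : Perp B N u (N x) := fun i =>
  ⟨by rw [← D.adj]; exact (hx i).2, by rw [← D.adj, D.sq, map_zero, LinearMap.zero_apply]⟩

omit [Fintype ι] [DecidableEq ι] in
theorem frame_ww (i j : ι) : B (N (u i)) (N (u j)) = 0 := by
  rw [D.adj, D.sq, map_zero]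

include hπ

theorem coord_comb (hu : IsFr B N π u) {s : ℕ} {z z' : Fin s → V} (hz : IsPairs B N u z z')
    (c : (ι → F) × (ι → F) × (Fin s → F) × (Fin s → F)) :
    coord B N π u z z' (comb N u z z' c) = c := by
  obtain ⟨huu, huw⟩ := hu
  obtain ⟨hzz, hzz', hd, huz, hwz⟩ := hz
  have hwu : ∀ i j, B (N (u i)) (u j) = if π i = j then 1 else 0 := fun i j => by rw [D.adj]; exact huw i j
  have h1 : ∀ i j, B (z i) (u j) = 0 := fun i j => by rw [D.symm]; exact (huz j i).1
  have h3 : ∀ i j, B (z' i) (u j) = 0 := fun i j => by rw [D.symm]; exact (huz j i).2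
  have h4 : ∀ i j, B (z i) (N (u j)) = 0 := fun i j => by rw [D.symm]; exact (hwz j i).1
  have h5 : ∀ i j, B (z' i) (N (u j)) = 0 := fun i j => by rw [D.symm]; exact (hwz j i).2
  have h6 : ∀ i j, B (z' i) (z j) = if i = j then 1 else 0 := fun i j => by
    rw [D.symm, hd]; simp [eq_comm]
  refine Prod.ext ?_ (Prod.ext ?_ (Prod.ext ?_ ?_)) <;> funext j <;>
    simp [coord, comb_apply, map_sum, huu, huw, hwu, frame_ww D, hzz, hzz', hd, h6, h1, h3, h4, h5,
      fun i j => (huz i j).1, fun i j => (huz i j).2, fun i j => (hwz i j).1, fun i j => (hwz i j).2, hπ]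

theorem coord_eq_zero {s : ℕ} {z z' : Fin s → V} {x : V} :
    coord B N π u z z' x = 0 ↔ Perp B N u x ∧ ∀ i, B (z i) x = 0 ∧ B (z' i) x = 0 := by
  simp only [coord, LinearMap.prod_apply, Function.prod_apply, Prod.ext_iff, funext_iff, LinearMap.pi_apply,
    Prod.fst_zero, Prod.snd_zero, Pi.zero_apply, Perp]
  constructor
  · rintro ⟨h1, h2, h3, h4⟩
    refine ⟨fun i => ?_, fun i => ⟨h4 i, h3 i⟩⟩
    have a := h2 (π i); have b := h1 (π i)
    rw [hπ] at a b
    exact ⟨a, b⟩
  · rintro ⟨h1, h2⟩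
    exact ⟨fun i => (h1 _).2, fun i => (h1 _).1, fun i => (h2 i).2, fun i => (h2 i).1⟩

/-- A vector orthogonal to a family and to all vectors orthogonal to it vanishes. -/
theorem eq_zero_of_perp (hu : IsFr B N π u) {s : ℕ} {z z' : Fin s → V} (hz : IsPairs B N u z z') {x : V}
    (hx : Perp B N u x ∧ ∀ i, B (z i) x = 0 ∧ B (z' i) x = 0)
    (hy : ∀ y, (Perp B N u y ∧ ∀ i, B (z i) y = 0 ∧ B (z' i) y = 0) → B x y = 0) : x = 0 := by
  refine D.nondeg x fun y => ?_
  set c := coord B N π u z z' y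
  have h0 : coord B N π u z z' (y - comb N u z z' c) = 0 := by
    rw [map_sub, coord_comb D hπ hu hz, sub_self]
  have e1 : B x (y - comb N u z z' c) = 0 := hy _ ((coord_eq_zero D hπ).1 h0)
  have e2 : B x (comb N u z z' c) = 0 := by
    have a1 : ∀ i, B x (u i) = 0 := fun i => by rw [D.symm]; exact (hx.1 i).1
    have a2 : ∀ i, B x (N (u i)) = 0 := fun i => by rw [D.symm]; exact (hx.1 i).2
    have a3 : ∀ i, B x (z i) = 0 := fun i => by rw [D.symm]; exact (hx.2 i).1
    have a4 : ∀ i, B x (z' i) = 0 := fun i => by rw [D.symm]; exact (hx.2 i).2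
    simp [comb_apply, map_sum, a1, a2, a3, a4]
  rw [map_sub, e2, sub_zero] at e1
  exact e1

omit [Fintype ι] [DecidableEq ι] hπ D in
theorem isPairs_empty : IsPairs B N u (Fin.elim0 : Fin 0 → V) Fin.elim0 :=
  ⟨fun i => i.elim0, fun i => i.elim0, fun i => i.elim0, fun _ j => j.elim0, fun _ j => j.elim0⟩

theorem exists_pair_partner (hu : IsFr B N π u) {x : V} (hx : Perp B N u x) (hNx : N x ≠ 0) :
    ∃ y, Perp B N u y ∧ B x (N y) = 1 := by
  obtain ⟨y, hy, hxy⟩ : ∃ y, Perp B N u y ∧ B (N x) y ≠ 0 := by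
    by_contra hc
    push Not at hc
    exact hNx (eq_zero_of_perp D hπ hu (isPairs_empty) ⟨hx.map D, fun i => i.elim0⟩ fun y hy => hc y hy.1)
  refine ⟨(B (N x) y)⁻¹ • y, fun i => ⟨by rw [map_smul, (hy i).1, smul_zero], by rw [map_smul, (hy i).2, smul_zero]⟩, ?_⟩
  rw [map_smul, map_smul, ← D.adj, smul_eq_mul, inv_mul_cancel₀ hxy]

/-- Completing a frame on which `N` vanishes outside. -/
theorem exists_complete [FiniteDimensional F V] (hu : IsFr B N π u) (hQ : ∀ x, Perp B N u x → N x = 0) :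
    ∃ (s : ℕ) (z z' : Fin s → V), IsPairs B N u z z' ∧ (∀ i, N (z i) = 0) ∧ (∀ i, N (z' i) = 0) ∧
      ∀ v, comb N u z z' (coord B N π u z z' v) = v := by
  classical
  have hb : ∀ s, (∃ z z' : Fin s → V, IsPairs B N u z z') → s ≤ finrank F V := by
    rintro s ⟨z, z', hz⟩
    have hinj : Function.Injective (comb N u z z') := fun a b e => by
      rw [← coord_comb D hπ hu hz a, e, coord_comb D hπ hu hz]
    have := LinearMap.finrank_le_finrank_of_injective hinj
    simp at this
    omega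
  have h0 : ∃ z z' : Fin 0 → V, IsPairs B N u z z' := ⟨_, _, isPairs_empty⟩
  have hspec := Nat.findGreatest_spec (P := fun s => ∃ z z' : Fin s → V, IsPairs B N u z z')
    (Nat.zero_le (finrank F V)) h0
  set s := Nat.findGreatest (fun s => ∃ z z' : Fin s → V, IsPairs B N u z z') (finrank F V) with hs
  obtain ⟨z, z', hz⟩ := hspec
  refine ⟨s, z, z', hz, fun i => hQ _ fun j => ⟨(hz.2.2.2.1 j i).1, (hz.2.2.2.2 j i).1⟩,
    fun i => hQ _ fun j => ⟨(hz.2.2.2.1 j i).2, (hz.2.2.2.2 j i).2⟩, fun v => ?_⟩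
  by_contra hv
  set x := v - comb N u z z' (coord B N π u z z' v)
  have hx := (coord_eq_zero D hπ (x := x)).1 (by rw [map_sub, coord_comb D hπ hu hz, sub_self])
  obtain ⟨y, hy, hxy⟩ : ∃ y, (Perp B N u y ∧ ∀ i, B (z i) y = 0 ∧ B (z' i) y = 0) ∧ B x y ≠ 0 := by
    by_contra hc
    push Not at hc
    exact hv (sub_eq_zero.1 (eq_zero_of_perp D hπ hu hz hx hc)).symm
  set y' := (B x y)⁻¹ • y
  have hxy' : B x y' = 1 := by rw [map_smul, smul_eq_mul, inv_mul_cancel₀ hxy]
  have hy' : Perp B N u y' ∧ ∀ i, B (z i) y' = 0 ∧ B (z' i) y' = 0 :=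
    ⟨fun i => ⟨by rw [map_smul, (hy.1 i).1, smul_zero], by rw [map_smul, (hy.1 i).2, smul_zero]⟩,
      fun i => ⟨by rw [map_smul, (hy.2 i).1, smul_zero], by rw [map_smul, (hy.2 i).2, smul_zero]⟩⟩
  obtain ⟨hzz, hzz', hd, huz, hwz⟩ := hz
  have hnew : IsPairs B N u (Fin.snoc z x : Fin (s + 1) → V) (Fin.snoc z' y' : Fin (s + 1) → V) := by
    refine ⟨fun i j => ?_, fun i j => ?_, fun i j => ?_, fun i j => ?_, fun i j => ?_⟩
    · refine Fin.lastCases ?_ (fun i => ?_) i <;> refine Fin.lastCases ?_ (fun j => ?_) j <;>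
        simp [D.self, hzz, fun i => (hx.2 i).1, D.symm x]
    · refine Fin.lastCases ?_ (fun i => ?_) i <;> refine Fin.lastCases ?_ (fun j => ?_) j <;>
        simp [D.self, hzz', fun i => (hy'.2 i).2, D.symm y']
    · refine Fin.lastCases ?_ (fun i => ?_) i <;> refine Fin.lastCases ?_ (fun j => ?_) j <;>
        simp [hd, hxy', fun i => (hy'.2 i).1, D.symm x (z' _), fun i => (hx.2 i).2,
          (Fin.castSucc_lt_last _).ne, (Fin.castSucc_lt_last _).ne']
    · refine Fin.lastCases ?_ (fun j => ?_) j <;> simp [huz, (hx.1 i).1, (hy'.1 i).1]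
    · refine Fin.lastCases ?_ (fun j => ?_) j <;> simp [hwz, (hx.1 i).2, (hy'.1 i).2]
  have := Nat.le_findGreatest (P := fun s => ∃ z z' : Fin s → V, IsPairs B N u z z')
    (hb _ ⟨_, _, hnew⟩) ⟨_, _, hnew⟩
  omega

end

section Steps

variable (D : SData B N)
include D

theorem frame_ww' (x y : V) : B (N x) (N y) = 0 := by
  rw [D.adj, D.sq, map_zero]

theorem frame_bound [FiniteDimensional F V] {ι : Type} [Fintype ι] [DecidableEq ι] {π : ι → ι}
    (hπ : ∀ i, π (π i) = i) {u : ι → V} (hu : IsFr B N π u) : Fintype.card ι ≤ finrank F V := by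
  have hinj : Function.Injective (comb N u (Fin.elim0 : Fin 0 → V) Fin.elim0) := fun a b e => by
    rw [← coord_comb D hπ hu isPairs_empty a, e, coord_comb D hπ hu isPairs_empty]
  have := LinearMap.finrank_le_finrank_of_injective hinj
  simp at this
  omega

/-- The frame in the alternating case. -/
theorem exists_alt [FiniteDimensional F V] (hq : ∀ x, B x (N x) = 0) :
    ∃ (k : ℕ) (u : Fin k × Bool → V), IsFr B N (fun i => (i.1, !i.2)) u ∧ ∀ x, Perp B N u x → N x = 0 := by
  classical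
  have h0 : ∃ u : Fin 0 × Bool → V, IsFr B N (fun i => (i.1, !i.2)) u :=
    ⟨fun i => i.1.elim0, fun i => i.1.elim0, fun i => i.1.elim0⟩
  have hspec := Nat.findGreatest_spec (P := fun k => ∃ u : Fin k × Bool → V, IsFr B N (fun i => (i.1, !i.2)) u)
    (Nat.zero_le (finrank F V)) h0
  set k := Nat.findGreatest (fun k => ∃ u : Fin k × Bool → V, IsFr B N (fun i => (i.1, !i.2)) u) (finrank F V)
    with hk
  obtain ⟨u, hu⟩ := hspec
  refine ⟨k, u, hu, fun x hx => ?_⟩
  by_contra hNx
  have hπ : ∀ i : Fin k × Bool, ((i.1, !(!i.2)) : Fin k × Bool) = i := fun i => by simp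
  obtain ⟨y, hy, hxy⟩ := exists_pair_partner D hπ hu hx hNx
  set y' := y + B x y • N y
  have hy' : Perp B N u y' := fun i => ⟨by simp [y', (hy i).1, ((hy.map D) i).1],
    by simp [y', (hy i).2, ((hy.map D) i).2]⟩
  have hxy1 : B x y' = 0 := by
    simp only [y', map_add, map_smul, hxy, smul_eq_mul, mul_one]
    linear_combination (B x y) * D.two
  have hxy2 : B x (N y') = 1 := by simp [y', hxy, D.sq]
  have hyx2 : B y' (N x) = 1 := by rw [D.symm, D.adj]; exact hxy2
  let u' : Fin (k + 1) × Bool → V := fun i =>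
    (Fin.snoc (fun j => u (j, i.2)) (if i.2 then x else y') : Fin (k + 1) → V) i.1
  have hnew : IsFr B N (fun i : Fin (k + 1) × Bool => (i.1, !i.2)) u' := by
    have a1 : ∀ i, B x (u i) = 0 := fun i => by rw [D.symm]; exact (hx i).1
    have a2 : ∀ i, B y' (u i) = 0 := fun i => by rw [D.symm]; exact (hy' i).1
    have a3 : ∀ i, B x (N (u i)) = 0 := fun i => by rw [D.symm]; exact (hx i).2
    have a4 : ∀ i, B y' (N (u i)) = 0 := fun i => by rw [D.symm]; exact (hy' i).2
    have a5 : ∀ i, B (u i) (N x) = 0 := fun i => ((hx.map D) i).1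
    have a6 : ∀ i, B (u i) (N y') = 0 := fun i => ((hy'.map D) i).1
    constructor
    · rintro ⟨i, a⟩ ⟨j, b⟩
      refine Fin.lastCases ?_ (fun i => ?_) i <;> refine Fin.lastCases ?_ (fun j => ?_) j <;>
        cases a <;> cases b <;>
        simp [u', hu.1, a1, a2, fun i => (hx i).1, fun i => (hy' i).1, hxy1, D.self, D.symm y' x]
    · rintro ⟨i, a⟩ ⟨j, b⟩
      refine Fin.lastCases ?_ (fun i => ?_) i <;> refine Fin.lastCases ?_ (fun j => ?_) j <;>
        cases a <;> cases b <;>
        simp [u', hu.2, a3, a4, a5, a6, hxy2, hyx2, hq,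
          (Fin.castSucc_lt_last _).ne, (Fin.castSucc_lt_last _).ne']
  have hb := frame_bound D (fun i : Fin (k + 1) × Bool => by simp) hnew
  simp at hb
  have := Nat.le_findGreatest (P := fun k => ∃ u : Fin k × Bool → V, IsFr B N (fun i => (i.1, !i.2)) u)
    (show k + 1 ≤ finrank F V by omega) ⟨u', hnew⟩
  omega

/-- The frame in the non-alternating case. -/
theorem exists_diag [Finite F] [FiniteDimensional F V] {x₀ : V} (hq : B x₀ (N x₀) ≠ 0) :
    ∃ (k : ℕ) (u : Fin k → V), IsFr B N id u ∧ ∀ x, Perp B N u x → N x = 0 := by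
  classical
  have : Fintype F := Fintype.ofFinite F
  let P : ℕ → Prop := fun k => ∃ u : Fin k → V, IsFr B N id u ∧
    ((∃ x, Perp B N u x ∧ B x (N x) ≠ 0) ∨ ∀ x, Perp B N u x → N x = 0)
  have h0 : P 0 := ⟨Fin.elim0, ⟨fun i => i.elim0, fun i => i.elim0⟩, Or.inl ⟨x₀, fun i => i.elim0, hq⟩⟩
  have hspec := Nat.findGreatest_spec (P := P) (Nat.zero_le (finrank F V)) h0
  set k := Nat.findGreatest P (finrank F V) with hk
  obtain ⟨u, hu, hor⟩ := hspec
  refine ⟨k, u, hu, ?_⟩
  rcases hor with ⟨x, hx, hxq⟩ | h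
  swap
  · exact h
  exfalso
  have hmk : ∀ a, Perp B N u a → B a (N a) = 1 → IsFr B N id (Fin.snoc u a : Fin (k + 1) → V) := by
    intro a ha ha1
    have a1 : ∀ i, B a (u i) = 0 := fun i => by rw [D.symm]; exact (ha i).1
    have a3 : ∀ i, B a (N (u i)) = 0 := fun i => by rw [D.symm]; exact (ha i).2
    refine ⟨fun i j => ?_, fun i j => ?_⟩
    · refine Fin.lastCases ?_ (fun i => ?_) i <;> refine Fin.lastCases ?_ (fun j => ?_) j <;>
        simp [hu.1, a1, fun i => (ha i).1, D.self]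
    · refine Fin.lastCases ?_ (fun i => ?_) i <;> refine Fin.lastCases ?_ (fun j => ?_) j <;>
        simp [hu.2, a3, fun i => ((ha.map D) i).1, ha1,
          (Fin.castSucc_lt_last _).ne, (Fin.castSucc_lt_last _).ne']
  have hchar : ringChar F = 2 := CharP.ringChar_of_prime_eq_zero Nat.prime_two (by exact_mod_cast D.two)
  obtain ⟨c, hc⟩ := FiniteField.isSquare_of_char_two hchar (B x (N x))⁻¹
  set a := c • x
  have ha : Perp B N u a := fun i => ⟨by simp [a, (hx i).1], by simp [a, (hx i).2]⟩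
  have ha1 : B a (N a) = 1 := by
    simp only [a, map_smul, LinearMap.smul_apply, smul_eq_mul]
    rw [← mul_assoc, ← hc, inv_mul_cancel₀ hxq]
  have hstep : ∀ a', IsFr B N id (Fin.snoc u a' : Fin (k + 1) → V) →
      ((∃ x, Perp B N (Fin.snoc u a' : Fin (k + 1) → V) x ∧ B x (N x) ≠ 0) ∨
        ∀ x, Perp B N (Fin.snoc u a' : Fin (k + 1) → V) x → N x = 0) → False := by
    intro a' hf hor
    have hb := frame_bound D (fun i => rfl) hf
    simp at hb
    have := Nat.le_findGreatest (P := P) (show k + 1 ≤ finrank F V by omega) ⟨_, hf, hor⟩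
    omega
  set u₁ := (Fin.snoc u a : Fin (k + 1) → V)
  by_cases hgood : ∃ x, Perp B N u₁ x ∧ B x (N x) ≠ 0
  · exact hstep a (hmk a ha ha1) (Or.inl hgood)
  by_cases hzero : ∀ x, Perp B N u₁ x → N x = 0
  · exact hstep a (hmk a ha ha1) (Or.inr hzero)
  push Not at hgood hzero
  obtain ⟨b, hb, hNb⟩ := hzero
  obtain ⟨d, hd, hbd⟩ := exists_pair_partner D (fun i => rfl) (hmk a ha ha1) hb hNb
  have old : ∀ y, Perp B N u₁ y → Perp B N u y ∧ B a y = 0 ∧ B (N a) y = 0 := fun y hy =>
    ⟨fun i => by simpa [u₁] using hy i.castSucc, by simpa [u₁] using (hy (Fin.last k)).1,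
      by simpa [u₁] using (hy (Fin.last k)).2⟩
  obtain ⟨hbQ, hab, hab'⟩ := old b hb
  obtain ⟨hdQ, had, had'⟩ := old d hd
  set a' := a + b
  have ha' : Perp B N u a' := fun i => ⟨by simp [a', (ha i).1, (hbQ i).1], by simp [a', (ha i).2, (hbQ i).2]⟩
  have haNb : B a (N b) = 0 := by rw [← D.adj]; exact hab'
  have hbNa : B b (N a) = 0 := by rw [D.symm]; exact hab'
  have haNd : B a (N d) = 0 := by rw [← D.adj]; exact had'
  have hdNa : B d (N a) = 0 := by rw [D.symm]; exact had'
  have hqb := hgood b hb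
  have hqd := hgood d hd
  have ha'1 : B a' (N a') = 1 := by simp [a', ha1, haNb, hbNa, hqb]
  set y := a + d + B b d • N a'
  have hy : Perp B N u y := fun i => ⟨by simp [y, (ha i).1, (hdQ i).1, ((ha'.map D) i).1],
    by simp [y, (ha i).2, (hdQ i).2, ((ha'.map D) i).2]⟩
  refine hstep a' (hmk a' ha' ha'1) (Or.inl ⟨y, fun i => ?_, ?_⟩)
  · refine Fin.lastCases ?_ (fun i => ?_) i
    · simp only [Fin.snoc_last]
      constructor
      · simp only [y, map_add, map_smul, ha'1, smul_eq_mul, mul_one]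
        simp only [a', map_add, LinearMap.add_apply, D.self, had, D.symm b a, hab, zero_add, add_zero]
        linear_combination (B b d) * D.two
      · rw [D.adj]
        simp only [y, map_add, map_smul, D.sq, smul_zero, add_zero]
        simp only [a', map_add, LinearMap.add_apply, ha1, haNd, hbNa, hbd, zero_add, add_zero]
        linear_combination D.two
    · simpa using hy i
  · have e : N y = N a + N d := by simp [y, D.sq]
    rw [e]
    simp only [y, map_add, map_smul, LinearMap.add_apply, LinearMap.smul_apply, ha1, haNd, hdNa, hqd,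
      frame_ww' D, smul_eq_mul, mul_zero, add_zero]
    exact one_ne_zero

end Steps

end Cfsg.Agent.Classical.SInv
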