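import Mathlib
import Cfsg.Prelude.Def_Classical
import Cfsg.Prelude.Def_ClassicalGeometry
import Cfsg.Agent.Classical.SympInvolFrame
import Cfsg.Agent.Classical.OrthBlocks
import Cfsg.Agent.Classical.QuadTypes

/-!
Involutions of an orthogonal group in characteristic two are conjugate as soon as they are conjugate under the
symplectic group of the polar form.
-/

set_option autoImplicit false

namespace Cfsg.Agent.Classical.OInv

open Module QuadraticMap Cfsg.Agent.Classical.Quad Cfsg.Agent.Classical.SInv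

variable {F V : Type*} [Field F] [AddCommGroup V] [Module F V] {Q : QuadraticForm F V} {N : V →ₗ[F] V}

theorem map_sum_orth {κ : Type*} (s : Finset κ) (x : κ → V)
    (hx : ∀ i ∈ s, ∀ j ∈ s, i ≠ j → polar Q (x i) (x j) = 0) : Q (∑ i ∈ s, x i) = ∑ i ∈ s, Q (x i) := by
  classical
  induction s using Finset.induction with
  | empty => simp
  | insert a s ha ih =>
    rw [Finset.sum_insert ha, Finset.sum_insert ha, QuadraticMap.map_add Q, ih fun i hi j hj h =>
      hx i (Finset.mem_insert_of_mem hi) j (Finset.mem_insert_of_mem hj) h]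
    have : polar Q (x a) (∑ i ∈ s, x i) = 0 := by
      rw [← polarBilin_apply_apply, map_sum]
      exact Finset.sum_eq_zero fun i hi =>
        hx a (Finset.mem_insert_self _ _) i (Finset.mem_insert_of_mem hi) fun h => ha (h ▸ hi)
    rw [this, add_zero]

section Modify

variable (D : SData (polarBilin Q) N) {ι : Type} [Fintype ι] [DecidableEq ι] {π : ι → ι} (hπ : ∀ i, π (π i) = i)
  {u : ι → V} (hu : IsFr (polarBilin Q) N π u) (C : ι → ι → F)
include D hπ hu

/-- Adding images to a frame: the effect on the pairing. -/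
theorem pair_right (i : ι) (c : ι → F) : polarBilin Q (u i) (∑ j, c j • N (u j)) = c (π i) := by
  simp [map_sum, map_smul, hu.2]

/-- A symmetric modification of a frame is a frame with the same images and the same perpendicular. -/
theorem modify (hC : ∀ i k, C i (π k) = C k (π i)) :
    IsFr (polarBilin Q) N π (fun i => u i + ∑ j, C i j • N (u j)) ∧
      (∀ i, N (u i + ∑ j, C i j • N (u j)) = N (u i)) ∧
      (∀ x, Perp (polarBilin Q) N (fun i => u i + ∑ j, C i j • N (u j)) x → Perp (polarBilin Q) N u x) := by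
  have hN : ∀ i, N (u i + ∑ j, C i j • N (u j)) = N (u i) := fun i => by simp [map_sum, D.sq]
  have hww : ∀ i j, polarBilin Q (N (u i)) (N (u j)) = 0 := fun i j => by rw [D.adj, D.sq, map_zero]
  refine ⟨⟨fun i k => ?_, fun i k => ?_⟩, hN, fun x hx i => ?_⟩
  · have e1 := pair_right D hπ hu i (C k)
    have e2 : polarBilin Q (∑ j, C i j • N (u j)) (u k) = C i (π k) := by
      rw [D.symm]; exact pair_right D hπ hu k (C i)
    have e3 : polarBilin Q (∑ j, C i j • N (u j)) (∑ j, C k j • N (u j)) = 0 := by
      simp [map_sum, map_smul, hww]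
    simp only [map_add, LinearMap.add_apply, hu.1, e1, e2, e3, hC i k, zero_add, add_zero]
    linear_combination (C k (π i)) * D.two
  · rw [hN]
    simp [map_sum, map_smul, hu.2, hww]
  · have h1 : ∀ j, polarBilin Q (N (u j)) x = 0 := fun j => by
      have := (hx j).2
      rw [hN] at this
      exact this
    refine ⟨?_, h1 i⟩
    have := (hx i).1
    simpa [map_sum, map_smul, h1] using this

end Modify

section Normal

variable (D : SData (polarBilin Q) N) (hNQ : ∀ v, Q (N v) = polarBilin Q v (N v))
include D hNQ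

theorem q_image {ι : Type} [DecidableEq ι] {π : ι → ι} {u : ι → V} (hu : IsFr (polarBilin Q) N π u) (i : ι) :
    Q (N (u i)) = if π i = i then 1 else 0 := by rw [hNQ, hu.2]

/-- The frame of alternating type with singular vectors. -/
theorem normal_alt {ι : Type} [Fintype ι] [DecidableEq ι] {π : ι → ι} (hπ : ∀ i, π (π i) = i)
    (hne : ∀ i, π i ≠ i) {u : ι → V} (hu : IsFr (polarBilin Q) N π u)
    (hQ : ∀ x, Perp (polarBilin Q) N u x → N x = 0) :
    ∃ u' : ι → V, IsFr (polarBilin Q) N π u' ∧ (∀ x, Perp (polarBilin Q) N u' x → N x = 0) ∧ ∀ i, Q (u' i) = 0 := by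
  let C : ι → ι → F := fun i j => if j = π i then Q (u i) else 0
  have hC : ∀ i k, C i (π k) = C k (π i) := by
    intro i k
    simp only [C]
    by_cases h : k = i
    · subst h; rfl
    · have h' : π k ≠ π i := fun e => h (by rw [← hπ k, e, hπ])
      rw [if_neg h', if_neg (Ne.symm h')]
  obtain ⟨h1, h2, h3⟩ := modify D hπ hu C hC
  refine ⟨_, h1, fun x hx => hQ x (h3 x hx), fun i => ?_⟩
  have e : ∑ j, C i j • N (u j) = Q (u i) • N (u (π i)) := by simp [C]
  rw [e, QuadraticMap.map_add Q, QuadraticMap.map_smul, q_image D hNQ hu, if_neg (fun h => hne _ h),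
    smul_zero, add_zero, ← polarBilin_apply_apply, map_smul, hu.2, if_pos rfl, smul_eq_mul, mul_one]
  linear_combination (Q (u i)) * D.two

/-- The frame of diagonal type with all but the last vector singular and the last value normalised. -/
theorem normal_diag [Finite F] {ζ : F} (hζ : ∀ t : F, t ^ 2 + t + ζ ≠ 0) {k : ℕ} {u : Fin (k + 1) → V}
    (hu : IsFr (polarBilin Q) N id u) (hQ : ∀ x, Perp (polarBilin Q) N u x → N x = 0) :
    ∃ u' : Fin (k + 1) → V, IsFr (polarBilin Q) N id u' ∧ (∀ x, Perp (polarBilin Q) N u' x → N x = 0) ∧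
      (∀ i, i ≠ Fin.last k → Q (u' i) = 0) ∧ (Q (u' (Fin.last k)) = 0 ∨ Q (u' (Fin.last k)) = ζ) := by
  classical
  have : Fintype F := Fintype.ofFinite F
  have hchar : ringChar F = 2 := CharP.ringChar_of_prime_eq_zero Nat.prime_two (by exact_mod_cast D.two)
  choose c hc using fun i => FiniteField.isSquare_of_char_two hchar (Q (u i))
  set L := Fin.last k
  set e := Q (u L) + ∑ i ∈ Finset.univ.erase L, c i * c i
  obtain ⟨d, hd⟩ : ∃ d : F, e + d + d * d = 0 ∨ e + d + d * d = ζ := by
    by_contra hcon
    push Not at hcon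
    let f : F → F := fun x => x + x * x
    have hinj : ∀ x y, f x = f y → y = x ∨ y = x + 1 := fun x y h => by
      simp only [f] at h
      have : (y - x) * (y - x + 1) = 0 := by
        linear_combination (-1 : F) * h + (x * x - x * y) * D.two
      rcases mul_eq_zero.1 this with h' | h'
      · exact Or.inl (sub_eq_zero.1 h')
      · exact Or.inr (by linear_combination h' - D.two)
    have h2 : Fintype.card F ≤ 2 * (Finset.univ.image f).card := by
      rw [← Finset.card_univ (α := F)]
      refine Finset.card_le_mul_card_image Finset.univ 2 fun a ha => ?_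
      obtain ⟨x, -, rfl⟩ := Finset.mem_image.1 ha
      refine le_trans (Finset.card_le_card (t := {x, x + 1}) fun y hy => ?_) (Finset.card_le_two)
      have := hinj x y (Finset.mem_filter.1 hy).2.symm
      simpa using this
    have hd1 : Disjoint (Finset.univ.image f) ((Finset.univ.image f).image (fun z => z + ζ)) := by
      rw [Finset.disjoint_left]
      rintro z hz hz'
      obtain ⟨x, -, rfl⟩ := Finset.mem_image.1 hz
      obtain ⟨w, hw, hw'⟩ := Finset.mem_image.1 hz'
      obtain ⟨y, -, rfl⟩ := Finset.mem_image.1 hw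
      refine hζ (x + y) ?_
      simp only [f] at hw'
      linear_combination hw' + (x + x * x + x * y) * D.two
    have hcard := Finset.card_union_of_disjoint hd1
    rw [Finset.card_image_of_injective _ (add_left_injective ζ)] at hcard
    have hu' : Finset.univ.image f ∪ (Finset.univ.image f).image (fun z => z + ζ) = Finset.univ :=
      Finset.eq_univ_of_card _ (le_antisymm (Finset.card_le_univ _) (by omega))
    have hmem : e ∈ Finset.univ.image f ∪ (Finset.univ.image f).image (fun z => z + ζ) := by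
      rw [hu']; exact Finset.mem_univ _
    rcases Finset.mem_union.1 hmem with h | h
    · obtain ⟨x, -, hx⟩ := Finset.mem_image.1 h
      exact (hcon x).1 (by simp only [f] at hx; linear_combination (-1 : F) * hx + (x + x * x) * D.two)
    · obtain ⟨y, hy, hy'⟩ := Finset.mem_image.1 h
      obtain ⟨x, -, rfl⟩ := Finset.mem_image.1 hy
      exact (hcon x).2 (by simp only [f] at hy'; linear_combination (-1 : F) * hy' + (x + x * x) * D.two)
  let C : Fin (k + 1) → Fin (k + 1) → F := fun i j =>
    if i = L then (if j = L then d else c j) else (if j = L then c i else 0)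
  have hC : ∀ i j, C i (id j) = C j (id i) := by
    intro i j
    simp only [C, id]
    by_cases hi : i = L <;> by_cases hj : j = L <;> simp [hi, hj]
  obtain ⟨h1, h2, h3⟩ := modify D (fun _ => rfl) hu C hC
  have hval : ∀ i, Q (u i + ∑ j, C i j • N (u j)) = Q (u i) + C i i + ∑ j, C i j * C i j := by
    intro i
    have e1 : polar Q (u i) (∑ j, C i j • N (u j)) = C i i := pair_right D (fun _ => rfl) hu i (C i)
    have e2 : Q (∑ j, C i j • N (u j)) = ∑ j, C i j * C i j := by
      rw [map_sum_orth _ _ fun a _ b _ _ => ?_]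
      · exact Finset.sum_congr rfl fun j _ => by
          rw [QuadraticMap.map_smul, q_image D hNQ hu, if_pos (by rfl : id j = j), smul_eq_mul, mul_one]
      · rw [← polarBilin_apply_apply, map_smul, map_smul, LinearMap.smul_apply, D.adj, D.sq, map_zero,
          smul_zero, smul_zero]
    rw [QuadraticMap.map_add Q, e1, e2]
    ring
  refine ⟨_, h1, fun x hx => hQ x (h3 x hx), fun i hi => ?_, ?_⟩
  · rw [hval, Finset.sum_eq_single L]
    · simp only [C, hi, ↓reduceIte, add_zero]
      linear_combination hc i + (c i * c i) * D.two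
    · intro j _ hj
      simp [C, hi, hj]
    · simp
  · have hs : ∑ j, C L j * C L j = d * d + ∑ i ∈ Finset.univ.erase L, c i * c i := by
      rw [← Finset.add_sum_erase _ _ (Finset.mem_univ L)]
      congr 1
      · simp [C]
      · exact Finset.sum_congr rfl fun j hj => by simp [C, Finset.ne_of_mem_erase hj]
    rw [hval, hs, show C L L = d by simp [C]]
    simp only [e] at hd
    rcases hd with hd | hd
    · exact Or.inl (by linear_combination hd)
    · exact Or.inr (by linear_combination hd)

end Normal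

section Rank

variable {N : V →ₗ[F] V}

theorem rank_card (D : SData (polarBilin Q) N) {ι : Type} [Fintype ι] [DecidableEq ι] {π : ι → ι}
    (hπ : ∀ i, π (π i) = i) [FiniteDimensional F V] {u : ι → V} (hu : IsFr (polarBilin Q) N π u)
    (hQ : ∀ x, Perp (polarBilin Q) N u x → N x = 0) : finrank F (LinearMap.range N) = Fintype.card ι := by
  obtain ⟨s, z, z', hz, h1, h2, hs⟩ := exists_complete D hπ hu hQ
  have hN : ∀ x, N (comb N u z z' x) = comb N u z z' (0, x.1, 0, 0) := fun x => by
    simp [comb_apply, map_sum, D.sq, h1, h2]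
  let L : (ι → F) →ₗ[F] V := (comb N u z z').comp ((LinearMap.inr F _ _).comp (LinearMap.inl F _ _))
  have hL : ∀ a, L a = comb N u z z' (0, a, 0, 0) := fun a => rfl
  have hinj : Function.Injective L := fun a b e => by
    have := congrArg (coord (polarBilin Q) N π u z z') e
    rw [hL, hL, coord_comb D hπ hu hz, coord_comb D hπ hu hz] at this
    exact congrArg (fun x => x.2.1) this
  have hr : LinearMap.range N = LinearMap.range L := by
    refine le_antisymm ?_ ?_
    · rintro _ ⟨v, rfl⟩
      exact ⟨(coord (polarBilin Q) N π u z z' v).1, by rw [hL, ← hN, hs]⟩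
    · rintro _ ⟨a, rfl⟩
      exact ⟨comb N u z z' (a, 0, 0, 0), by rw [hN, hL]⟩
  rw [hr, LinearMap.finrank_range_of_inj hinj, finrank_fintype_fun_eq_card]

end Rank

section Map

variable [Finite F] [FiniteDimensional F V] (hQn : (polarBilin Q).Nondegenerate)
  {Na Nb : V →ₗ[F] V} (Da : SData (polarBilin Q) Na) (Db : SData (polarBilin Q) Nb)
  (hqa : ∀ v, Q (Na v) = polarBilin Q v (Na v)) (hqb : ∀ v, Q (Nb v) = polarBilin Q v (Nb v))
include hQn Da Db hqa hqb

omit [Finite F] hqa hqb in
/-- Witt's lemma for two families inside frames. -/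
theorem exists_witt {ι : Type} [Fintype ι] [DecidableEq ι] {π : ι → ι} (hπ : ∀ i, π (π i) = i) {a b : ι → V}
    (ha : IsFr (polarBilin Q) Na π a) (hb : IsFr (polarBilin Q) Nb π b) (hq : ∀ i, Q (a i) = Q (b i))
    (hqN : ∀ i, Q (Na (a i)) = Q (Nb (b i))) :
    ∃ g ∈ oG Q, (∀ i, g (a i) = b i) ∧ ∀ i, g (Na (a i)) = Nb (b i) := by
  classical
  let eι := Fintype.equivFin (ι ⊕ ι)
  let A : ι ⊕ ι → V := Sum.elim a fun i => Na (a i)
  let A' : ι ⊕ ι → V := Sum.elim b fun i => Nb (b i)
  have hli : ∀ {N : V →ₗ[F] V} (_ : SData (polarBilin Q) N) (c : ι → V), IsFr (polarBilin Q) N π c →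
      LinearIndependent F (Sum.elim c fun i => N (c i)) := by
    intro N D c hc
    rw [Fintype.linearIndependent_iff]
    intro g hg
    have h0 : comb N c (Fin.elim0 : Fin 0 → V) Fin.elim0 (fun i => g (Sum.inl i), fun i => g (Sum.inr i), 0, 0) = 0 := by
      rw [comb_apply]
      rw [Fintype.sum_sum_type] at hg
      simpa using hg
    have h1 := congrArg (coord (polarBilin Q) N π c (Fin.elim0 : Fin 0 → V) Fin.elim0) h0
    rw [coord_comb D hπ hc isPairs_empty, map_zero] at h1
    rintro (i | i)
    · exact congrFun (congrArg Prod.fst h1) i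
    · exact congrFun (congrArg (fun z => z.2.1) h1) i
  have hqA : ∀ x, Q (A x) = Q (A' x) := by rintro (i | i) <;> simp [A, A', hq, hqN]
  have hpA : ∀ x y, polarBilin Q (A x) (A y) = polarBilin Q (A' x) (A' y) := by
    rintro (i | i) (j | j) <;> simp only [A, A', Sum.elim_inl, Sum.elim_inr]
    · rw [ha.1, hb.1]
    · rw [ha.2, hb.2]
    · rw [Da.adj, Db.adj, ha.2, hb.2]
    · rw [Da.adj, Db.adj, Da.sq, Db.sq, map_zero, map_zero]
  obtain ⟨g, hg, hgA⟩ := witt_family hQn _ (fun i => A (eι.symm i)) (fun i => A' (eι.symm i))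
    ((hli Da a ha).comp _ eι.symm.injective) ((hli Db b hb).comp _ eι.symm.injective)
    (fun i => hqA _) fun i j => hpA _ _
  refine ⟨g, hg, fun i => ?_, fun i => ?_⟩
  · simpa [A, A'] using hgA (eι (Sum.inl i))
  · simpa [A, A'] using hgA (eι (Sum.inr i))

omit [Finite F] in
theorem exists_map {ι : Type} [Fintype ι] [DecidableEq ι] {π : ι → ι} (hπ : ∀ i, π (π i) = i) {a b : ι → V}
    (ha : IsFr (polarBilin Q) Na π a) (hb : IsFr (polarBilin Q) Nb π b) (hq : ∀ i, Q (a i) = Q (b i))
    (hQa : ∀ x, Perp (polarBilin Q) Na a x → Na x = 0) (hQb : ∀ x, Perp (polarBilin Q) Nb b x → Nb x = 0) :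
    ∃ g ∈ oG Q, ∀ x, g (Na x) = Nb (g x) := by
  obtain ⟨g, hg, hga, hgN⟩ := exists_witt hQn Da Db hπ ha hb hq fun i => by rw [hqa, hqb, ha.2, hb.2]
  refine ⟨g, hg, fun x => ?_⟩
  have hpol : ∀ x y, polarBilin Q (g x) (g y) = polarBilin Q x y := fun x y => by
    simp only [polarBilin_apply_apply, polar, ← map_add, show ∀ z, Q (g z) = Q z from hg]
  obtain ⟨c, r, hx, hr⟩ : ∃ c r, x = comb Na a (Fin.elim0 : Fin 0 → V) Fin.elim0 c + r ∧
      Perp (polarBilin Q) Na a r :=
    ⟨coord (polarBilin Q) Na π a (Fin.elim0 : Fin 0 → V) Fin.elim0 x, _, (add_sub_cancel _ _).symm,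
      ((coord_eq_zero Da hπ (z := (Fin.elim0 : Fin 0 → V)) (z' := Fin.elim0)).1
        (by rw [map_sub, coord_comb Da hπ ha isPairs_empty, sub_self])).1⟩
  have hgr : Perp (polarBilin Q) Nb b (g r) := fun i =>
    ⟨by rw [← hga, hpol]; exact (hr i).1, by rw [← hgN, hpol]; exact (hr i).2⟩
  rw [hx]
  simp [comb_apply, map_add, map_sum, hQa r hr, hQb _ hgr, hga, hgN, Da.sq, Db.sq]

/-- Two diagonal normal frames cannot differ in the last value. -/
theorem last_eq {ζ : F} (hζ : ∀ t : F, t ^ 2 + t + ζ ≠ 0) {k : ℕ} {a b : Fin (k + 1) → V}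
    (ha : IsFr (polarBilin Q) Na id a) (hb : IsFr (polarBilin Q) Nb id b)
    (ha0 : ∀ i, i ≠ Fin.last k → Q (a i) = 0) (hb0 : ∀ i, i ≠ Fin.last k → Q (b i) = 0)
    (hk : finrank F V = 2 * (k + 1)) (hla : Q (a (Fin.last k)) = 0) (hlb : Q (b (Fin.last k)) = ζ) : False := by
  classical
  have ha' : IsFr (polarBilin Q) Na id (fun i : Fin k => a i.castSucc) :=
    ⟨fun i j => ha.1 _ _, fun i j => by rw [ha.2]; simp⟩
  have hb' : IsFr (polarBilin Q) Nb id (fun i : Fin k => b i.castSucc) :=
    ⟨fun i j => hb.1 _ _, fun i j => by rw [hb.2]; simp⟩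
  obtain ⟨g, hg, hga, hgN⟩ := exists_witt hQn Da Db (fun _ => rfl) ha' hb'
    (fun i => by rw [ha0 _ (Fin.castSucc_lt_last i).ne, hb0 _ (Fin.castSucc_lt_last i).ne])
    (fun i => by rw [hqa, hqb, ha.2, hb.2])
  have hpol : ∀ x y, polarBilin Q (g x) (g y) = polarBilin Q x y := fun x y => by
    simp only [polarBilin_apply_apply, polar, ← map_add, show ∀ z, Q (g z) = Q z from hg]
  set v := g (a (Fin.last k))
  have hv0 : v ≠ 0 := by
    intro h
    have h0 := ha.2 (Fin.last k) (Fin.last k)
    rw [show a (Fin.last k) = 0 from g.injective (by rw [map_zero]; exact h), map_zero, LinearMap.zero_apply] at h0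
    simp only [id_eq, ↓reduceIte] at h0
    exact one_ne_zero h0.symm
  have hfull : ∀ x, comb Nb b (Fin.elim0 : Fin 0 → V) Fin.elim0
      (coord (polarBilin Q) Nb id b (Fin.elim0 : Fin 0 → V) Fin.elim0 x) = x := by
    have hinj : Function.Injective (comb Nb b (Fin.elim0 : Fin 0 → V) Fin.elim0) := fun p p' e => by
      rw [← coord_comb Db (fun _ => rfl) hb isPairs_empty p, e, coord_comb Db (fun _ => rfl) hb isPairs_empty]
    have hsurj := (LinearMap.injective_iff_surjective_of_finrank_eq_finrank
      (by simp [hk]; ring)).1 hinj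
    intro x
    obtain ⟨p, rfl⟩ := hsurj x
    rw [coord_comb Db (fun _ => rfl) hb isPairs_empty]
  have hperp : ∀ i : Fin k, polarBilin Q (Nb (b i.castSucc)) v = 0 ∧ polarBilin Q (b i.castSucc) v = 0 := by
    intro i
    refine ⟨?_, ?_⟩
    · rw [← hgN, hpol, Da.adj, ha.2]; simp [(Fin.castSucc_lt_last i).ne]
    · rw [← hga, hpol, ha.1]
  set x := polarBilin Q (Nb (b (Fin.last k))) v
  set y := polarBilin Q (b (Fin.last k)) v
  have hv : v = x • b (Fin.last k) + y • Nb (b (Fin.last k)) := by
    conv_lhs => rw [← hfull v]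
    simp [-polarBilin_apply_apply, comb_apply, coord, Fin.sum_univ_castSucc, fun i => (hperp i).1, fun i => (hperp i).2, x, y]
  have hQv : Q v = 0 := by rw [show Q v = Q (a (Fin.last k)) from hg _, hla]
  rw [hv, QuadraticMap.map_add Q, QuadraticMap.map_smul, QuadraticMap.map_smul, hlb, hqb, hb.2,
    ← polarBilin_apply_apply, map_smul, map_smul, LinearMap.smul_apply, hb.2] at hQv
  simp only [id_eq, ↓reduceIte] at hQv
  simp only [smul_eq_mul, mul_one] at hQv
  by_cases hx : x = 0
  · rw [hx] at hQv hv
    simp only [zero_mul, mul_zero, zero_add, add_zero] at hQv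
    rw [mul_self_eq_zero.1 hQv] at hv
    simp at hv
    exact hv0 hv
  · refine hζ (y / x) ?_
    field_simp
    linear_combination hQv

omit hQn Db hqb hqa in
/-- Outside a full frame the last value can be killed. -/
theorem zero_last {k : ℕ} {a : Fin (k + 1) → V} (ha : IsFr (polarBilin Q) Na id a)
    (hQa : ∀ x, Perp (polarBilin Q) Na a x → Na x = 0) (ha0 : ∀ i, i ≠ Fin.last k → Q (a i) = 0)
    (hk : 2 * (k + 1) < finrank F V) :
    ∃ a' : Fin (k + 1) → V, IsFr (polarBilin Q) Na id a' ∧ (∀ x, Perp (polarBilin Q) Na a' x → Na x = 0) ∧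
      ∀ i, Q (a' i) = 0 := by
  classical
  have : Fintype F := Fintype.ofFinite F
  set L := Fin.last k
  obtain ⟨r, hr, hQr⟩ : ∃ r, Perp (polarBilin Q) Na a r ∧ Q r ≠ 0 := by
    by_contra hcon
    push Not at hcon
    have hinj : Function.Injective (coord (polarBilin Q) Na id a (Fin.elim0 : Fin 0 → V) Fin.elim0) := by
      rw [← LinearMap.ker_eq_bot, LinearMap.ker_eq_bot']
      intro x hx
      have hxp := (coord_eq_zero Da (fun _ => rfl)).1 hx
      refine eq_zero_of_perp Da (fun _ => rfl) ha isPairs_empty hxp fun y hy => ?_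
      have hxy : Perp (polarBilin Q) Na a (x + y) := fun i =>
        ⟨by rw [map_add, (hxp.1 i).1, (hy.1 i).1, add_zero], by rw [map_add, (hxp.1 i).2, (hy.1 i).2, add_zero]⟩
      rw [polarBilin_apply_apply, polar, hcon _ hxy, hcon _ hxp.1, hcon _ hy.1, sub_zero, sub_zero]
    have := LinearMap.finrank_le_finrank_of_injective hinj
    simp at this
    omega
  have hchar : ringChar F = 2 := CharP.ringChar_of_prime_eq_zero Nat.prime_two (by exact_mod_cast Da.two)
  obtain ⟨c, hc⟩ := FiniteField.isSquare_of_char_two hchar (Q (a L) * (Q r)⁻¹)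
  set r' := c • r
  have hr' : Perp (polarBilin Q) Na a r' := fun i =>
    ⟨by rw [map_smul, (hr i).1, smul_zero], by rw [map_smul, (hr i).2, smul_zero]⟩
  have hNr : Na r' = 0 := hQa _ hr'
  have hQr' : Q r' = Q (a L) := by
    rw [QuadraticMap.map_smul, ← hc, smul_eq_mul, inv_mul_cancel_right₀ hQr]
  let a' : Fin (k + 1) → V := fun i => a i + if i = L then r' else 0
  have h1 : ∀ i j, polarBilin Q (a i) (if j = L then r' else 0) = 0 := fun i j => by
    split
    · exact (hr' i).1
    · exact map_zero _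
  have h2 : ∀ i j, polarBilin Q (if j = L then r' else 0) (a i) = 0 := fun i j => by
    rw [Da.symm]; exact h1 i j
  have h3 : ∀ i j, polarBilin Q (if i = L then r' else 0) (if j = L then r' else 0) = 0 := fun i j => by
    split <;> split <;> simp only [map_zero, LinearMap.zero_apply, Da.self]
  have h4 : ∀ i, Na (a' i) = Na (a i) := fun i => by
    simp only [a']
    split <;> simp [hNr]
  refine ⟨a', ⟨fun i j => ?_, fun i j => ?_⟩, fun x hx => ?_, fun i => ?_⟩
  · simp only [a', map_add, LinearMap.add_apply, ha.1, h1, h2, h3, add_zero]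
  · rw [h4]
    simp only [a', map_add, LinearMap.add_apply, ha.2]
    have : polarBilin Q (if i = L then r' else 0) (Na (a j)) = 0 := by
      split
      · rw [Da.symm]; exact (hr' j).2
      · rw [map_zero, LinearMap.zero_apply]
    rw [this, add_zero]
  · set t := polarBilin Q r' x
    have hx' : Perp (polarBilin Q) Na a (x + t • Na (a L)) := by
      intro i
      obtain ⟨e1, e2⟩ := hx i
      rw [h4] at e2
      refine ⟨?_, by rw [map_add, map_smul, e2, frame_ww Da, smul_zero, add_zero]⟩
      rw [map_add, map_smul, ha.2]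
      simp only [a', map_add, LinearMap.add_apply] at e1
      by_cases hi : i = L
      · simp only [hi, ↓reduceIte] at e1
        simpa [hi, t] using e1
      · simp only [hi, ↓reduceIte, map_zero, LinearMap.zero_apply, add_zero] at e1
        simp [hi, e1]
    have := hQa _ hx'
    rwa [map_add, map_smul, Da.sq, smul_zero, add_zero] at this
  · by_cases hi : i = L
    · simp only [a', hi, ↓reduceIte]
      rw [QuadraticMap.map_add Q, hQr', ← polarBilin_apply_apply, (hr' L).1, add_zero]
      linear_combination (Q (a L)) * Da.two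
    · simp only [a', hi, ↓reduceIte, add_zero]
      exact ha0 i hi

/-- Conjugacy in the orthogonal group from rank and type. -/
theorem exists_conj (hr : finrank F (LinearMap.range Na) = finrank F (LinearMap.range Nb))
    (hq : (∀ x, polarBilin Q x (Na x) = 0) ↔ ∀ x, polarBilin Q x (Nb x) = 0) :
    ∃ g ∈ oG Q, ∀ x, g (Na x) = Nb (g x) := by
  classical
  by_cases h : ∀ x, polarBilin Q x (Na x) = 0
  · obtain ⟨k, ua, ha, hQa⟩ := exists_alt Da h
    obtain ⟨l, ub, hb, hQb⟩ := exists_alt Db (hq.1 h)
    have e1 := rank_card Da (fun i : Fin k × Bool => by simp) ha hQa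
    have e2 := rank_card Db (fun i : Fin l × Bool => by simp) hb hQb
    obtain rfl : k = l := by simp at e1 e2; omega
    have hne : ∀ i : Fin k × Bool, (i.1, !i.2) ≠ i := fun i => by
      obtain ⟨i, b⟩ := i
      cases b <;> simp
    obtain ⟨a', ha', hQa', hqa'⟩ := normal_alt Da hqa (fun i : Fin k × Bool => by simp) hne ha hQa
    obtain ⟨b', hb', hQb', hqb'⟩ := normal_alt Db hqb (fun i : Fin k × Bool => by simp) hne hb hQb
    exact exists_map hQn Da Db hqa hqb (fun i : Fin k × Bool => by simp) ha' hb'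
      (fun i => by rw [hqa', hqb']) hQa' hQb'
  · have h' := mt hq.2 h
    push Not at h h'
    obtain ⟨x, hx⟩ := h
    obtain ⟨y, hy⟩ := h'
    obtain ⟨k, ua, ha, hQa⟩ := exists_diag Da hx
    obtain ⟨l, ub, hb, hQb⟩ := exists_diag Db hy
    have e1 := rank_card Da (fun i => rfl) ha hQa
    have e2 := rank_card Db (fun i => rfl) hb hQb
    obtain rfl : k = l := by simp at e1 e2; omega
    obtain ⟨ζ, hζ⟩ := exists_rootfree (F := F)
    rcases k with _ | k
    · exact exists_map hQn Da Db hqa hqb (fun i => rfl) ha hb (fun i => i.elim0) hQa hQb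
    obtain ⟨a', ha', hQa', ha0, hla⟩ := normal_diag Da hqa hζ ha hQa
    obtain ⟨b', hb', hQb', hb0, hlb⟩ := normal_diag Db hqb hζ hb hQb
    by_cases hfull : finrank F V = 2 * (k + 1)
    · refine exists_map hQn Da Db hqa hqb (fun i => rfl) ha' hb' (fun i => ?_) hQa' hQb'
      refine Fin.lastCases ?_ (fun i => ?_) i
      · rcases hla with hla | hla <;> rcases hlb with hlb | hlb
        · rw [hla, hlb]
        · exact (last_eq hQn Da Db hqa hqb hζ ha' hb' ha0 hb0 hfull hla hlb).elim
        · exact (last_eq hQn Db Da hqb hqa hζ hb' ha' hb0 ha0 hfull hlb hla).elim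
        · rw [hla, hlb]
      · rw [ha0 _ (Fin.castSucc_lt_last i).ne, hb0 _ (Fin.castSucc_lt_last i).ne]
    · have hle : 2 * (k + 1) ≤ finrank F V := by
        have hinj : Function.Injective (comb Na a' (Fin.elim0 : Fin 0 → V) Fin.elim0) := fun p q e => by
          rw [← coord_comb Da (fun _ => rfl) ha' isPairs_empty p, e, coord_comb Da (fun _ => rfl) ha' isPairs_empty]
        have := LinearMap.finrank_le_finrank_of_injective hinj
        simp at this
        omega
      obtain ⟨a₂, ha₂, hQa₂, hqa₂⟩ := zero_last Da ha' hQa' ha0 (by omega)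
      obtain ⟨b₂, hb₂, hQb₂, hqb₂⟩ := zero_last Db hb' hQb' hb0 (by omega)
      exact exists_map hQn Da Db hqa hqb (fun i => rfl) ha₂ hb₂ (fun i => by rw [hqa₂, hqb₂]) hQa₂ hQb₂

end Map

end Cfsg.Agent.Classical.OInv
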