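import Mathlib
import Cfsg.Prelude.Def_Classical
import Cfsg.Agent.Classical.OrthInvolConj
import Cfsg.Agent.Classical.OrthBlocks

/-!
The matrix form of the conjugacy criterion for orthogonal involutions in characteristic two.
-/

set_option autoImplicit false

namespace Cfsg.Agent.Classical.OInv

open Matrix Module QuadraticMap Cfsg.Agent.Classical.Quad Cfsg.Agent.Classical.SInv

variable {F : Type*} [Field F] [Fintype F] [CharP F 2] {ι : Type} [Fintype ι] [DecidableEq ι]

theorem data {Q : QuadraticForm F (ι → F)} (hn : (polarBilin Q).Nondegenerate) (M : Matrix ι ι F)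
    (hM : ∀ v, Q (M *ᵥ v) = Q v) (hMM : M * M = 1) :
    SData (polarBilin Q) (M + 1).mulVecLin ∧
      ∀ v, Q ((M + 1).mulVecLin v) = polarBilin Q v ((M + 1).mulVecLin v) := by
  have h2 : (2 : F) = 0 := CharP.cast_eq_zero F 2
  have hpol : ∀ x y, polarBilin Q (M *ᵥ x) (M *ᵥ y) = polarBilin Q x y := fun x y => by
    simp only [polarBilin_apply_apply, polar, ← Matrix.mulVec_add, hM]
  have hsym : ∀ x y, polarBilin Q x y = polarBilin Q y x := fun x y => by
    simp only [polarBilin_apply_apply]; exact polar_comm _ _ _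
  have hself : ∀ x, polarBilin Q x x = 0 := fun x => by
    rw [polarBilin_apply_apply, polar_self, nsmul_eq_mul]
    push_cast
    rw [h2, zero_mul]
  have hMMx : ∀ x, M *ᵥ (M *ᵥ x) = x := fun x => by rw [Matrix.mulVec_mulVec, hMM, Matrix.one_mulVec]
  refine ⟨⟨h2, hself, hsym, fun x hx => hn.1 x hx, fun x y => ?_, fun x => ?_⟩, fun v => ?_⟩
  · have e : polarBilin Q (M *ᵥ x) y = polarBilin Q x (M *ᵥ y) := by
      conv_lhs => rw [← hMMx y, hpol]
    show polarBilin Q ((M + 1) *ᵥ x) y = polarBilin Q x ((M + 1) *ᵥ y)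
    simp only [Matrix.add_mulVec, Matrix.one_mulVec, map_add, LinearMap.add_apply, e]
  · show (M + 1) *ᵥ ((M + 1) *ᵥ x) = 0
    simp only [Matrix.add_mulVec, Matrix.one_mulVec, Matrix.mulVec_add, hMMx]
    rw [add_add_add_comm, add_comm (M *ᵥ x) x, ← two_smul F (x + M *ᵥ x), h2, zero_smul]
  · show Q ((M + 1) *ᵥ v) = polarBilin Q v ((M + 1) *ᵥ v)
    simp only [Matrix.add_mulVec, Matrix.one_mulVec]
    rw [QuadraticMap.map_add Q, hM, ← polarBilin_apply_apply, map_add, hself, add_zero, hsym]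
    linear_combination (Q v) * h2

theorem isConj_iff_polar {Q : QuadraticForm F (ι → F)} (hn : (polarBilin Q).Nondegenerate)
    {f : (ι → F) → F} (hf : ⇑Q = f) (t s : ↥(Cfsg.isometryGroup F f)) (ht : orderOf t = 2) (hs : orderOf s = 2) :
    IsConj t s ↔ ∃ g ∈ Cfsg.preserving (Units.coeHom (Matrix ι ι F)) (fun u v => f (u + v) - f u - f v),
      g * ((t : ↥(Cfsg.isometryGroup F f)) : GL ι F) * g⁻¹ = ((s : ↥(Cfsg.isometryGroup F f)) : GL ι F) := by
  subst hf
  constructor
  · intro h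
    obtain ⟨c, hc⟩ := isConj_iff.1 h
    refine ⟨(c : GL ι F), fun u v => ?_, congrArg Subtype.val hc⟩
    have hi : ∀ x, Q ((Units.coeHom (Matrix ι ι F) (c : GL ι F)) *ᵥ x) = Q x := fun x => c.2 x x
    simp only [← Matrix.mulVec_add, hi]
  · rintro ⟨g, hg, hgc⟩
    set G := ((g : GL ι F) : Matrix ι ι F)
    set A := ((t : GL ι F) : Matrix ι ι F)
    set B := ((s : GL ι F) : Matrix ι ι F)
    have hAA : A * A = 1 := by
      have : t * t = 1 := by rw [← _root_.sq, ← ht, pow_orderOf_eq_one]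
      exact congrArg (fun x : ↥(Cfsg.isometryGroup F ⇑Q) => ((x : GL ι F) : Matrix ι ι F)) this
    have hBB : B * B = 1 := by
      have : s * s = 1 := by rw [← _root_.sq, ← hs, pow_orderOf_eq_one]
      exact congrArg (fun x : ↥(Cfsg.isometryGroup F ⇑Q) => ((x : GL ι F) : Matrix ι ι F)) this
    obtain ⟨Da, qa⟩ := data hn A (fun v => t.2 v v) hAA
    obtain ⟨Db, qb⟩ := data hn B (fun v => s.2 v v) hBB
    have hGA : G * A = B * G := by
      have := congrArg (fun x : GL ι F => (x : Matrix ι ι F)) (mul_inv_eq_iff_eq_mul.1 hgc)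
      simpa using this
    have hgB : ∀ x y, polarBilin Q (G *ᵥ x) (G *ᵥ y) = polarBilin Q x y := fun x y => hg x y
    have hu : IsUnit G.det := (Matrix.isUnit_iff_isUnit_det G).1 ⟨g, rfl⟩
    have hGN : G * (A + 1) = (B + 1) * G := by rw [mul_add, mul_one, add_mul, one_mul, hGA]
    have hr : finrank F (LinearMap.range (A + 1).mulVecLin) = finrank F (LinearMap.range (B + 1).mulVecLin) := by
      change (A + 1).rank = (B + 1).rank
      rw [← Matrix.rank_mul_eq_right_of_isUnit_det G (A + 1) hu, hGN,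
        Matrix.rank_mul_eq_left_of_isUnit_det G (B + 1) hu]
    have hGN' : ∀ x, G *ᵥ ((A + 1) *ᵥ x) = (B + 1) *ᵥ (G *ᵥ x) := fun x => by
      rw [Matrix.mulVec_mulVec, Matrix.mulVec_mulVec, hGN]
    have hq : (∀ x, polarBilin Q x ((A + 1).mulVecLin x) = 0) ↔ ∀ x, polarBilin Q x ((B + 1).mulVecLin x) = 0 := by
      simp only [Matrix.mulVecLin_apply]
      constructor
      · intro h x
        have e := h (G⁻¹ *ᵥ x)
        rwa [← hgB, hGN', Matrix.mulVec_mulVec, Matrix.mul_nonsing_inv G hu, Matrix.one_mulVec] at e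
      · intro h x
        rw [← hgB, hGN']
        exact h _
    obtain ⟨h, hh, hhN⟩ := exists_conj hn Da Db qa qb hr hq
    let c := (oEquiv Q).symm ⟨h, hh⟩
    have hc : ∀ x, ((c : GL ι F) : Matrix ι ι F) *ᵥ x = h x := fun x => by
      rw [← oEquiv_apply, MulEquiv.apply_symm_apply]
    refine isConj_iff.2 ⟨c, mul_inv_eq_iff_eq_mul.2 (Subtype.ext (Units.ext ?_))⟩
    change ((c : GL ι F) : Matrix ι ι F) * A = B * ((c : GL ι F) : Matrix ι ι F)
    refine Matrix.ext_of_mulVec_single fun j => ?_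
    have e : h ((A + 1) *ᵥ Pi.single j 1) = (B + 1) *ᵥ h (Pi.single j 1) := hhN (Pi.single j 1)
    simp only [Matrix.add_mulVec, Matrix.one_mulVec, map_add] at e
    rw [← Matrix.mulVec_mulVec, ← Matrix.mulVec_mulVec, hc, hc]
    exact add_right_cancel e

end Cfsg.Agent.Classical.OInv
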