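import Mathlib
import Cfsg.Agent.S0206
import Cfsg.Agent.Classical.QuadStd

/-!
The two-dimensional orthogonal groups are dihedral.
-/

set_option autoImplicit false

namespace Cfsg.Agent.Classical.Quad

open Module QuadraticMap Matrix

/-- Recognition of a finite dihedral group. -/
theorem dihedral_of {G : Type*} [Group G] [Finite G] {r s : G} {n : ℕ} (hr : orderOf r = n) (hn : 1 < n)
    (hs : s * s = 1) (hs1 : s ≠ 1) (hrs : r * s * (r * s) = 1) (hne : r * s ≠ 1)
    (hcard : Nat.card G = 2 * n) : Nonempty (G ≃* DihedralGroup n) := by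
  have hx : orderOf (r * s) = 2 := orderOf_eq_prime (by rw [pow_two]; exact hrs) hne
  have hy : orderOf s = 2 := orderOf_eq_prime (by rw [pow_two]; exact hs) hs1
  have hxy : r * s ≠ s := fun h => by
    have : r = 1 := mul_eq_right.1 h
    rw [this, orderOf_one] at hr
    omega
  obtain ⟨e⟩ := Cfsg.Agent.S0206.result (r * s) s hx hy hxy
  have he : orderOf (r * s * s) = n := by rw [mul_assoc, hs, mul_one, hr]
  rw [he] at e
  have htop : Subgroup.closure ({r * s, s} : Set G) = ⊤ := by
    rw [← Subgroup.card_eq_iff_eq_top, Nat.card_congr e.toEquiv, DihedralGroup.nat_card, hcard]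
  exact ⟨(Subgroup.topEquiv.symm.trans (MulEquiv.subgroupCongr htop.symm)).trans e⟩

variable {F : Type*} [Field F]

instance finite_oG {V : Type*} [AddCommGroup V] [Module F V] [Finite V] (Q : QuadraticForm F V) :
    Finite (oG Q) :=
  Finite.of_injective (fun g x => g.1 x) fun g h e => Subtype.ext (LinearEquiv.ext (congrFun e))

/-- `Cfsg.isometryGroup` in other coordinates. -/
noncomputable def isometryEquiv {V : Type*} [AddCommGroup V] [Module F V] {ι : Type} [Fintype ι] [DecidableEq ι]
    {Q : QuadraticForm F V} {Q' : (ι → F) → F} (e : (ι → F) ≃ₗ[F] V) (he : ∀ x, Q (e x) = Q' x) :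
    Cfsg.isometryGroup F Q' ≃* oG Q :=
  ((MulEquiv.subgroupCongr (congrArg (Cfsg.isometryGroup F)
    (funext fun x => (he x).symm : Q' = ⇑(Q.comp e.toLinearMap)))).trans
      (oEquiv (Q.comp e.toLinearMap))).trans (oCongr e fun _ => rfl)

/-- The hyperbolic plane. -/
def planeForm (F : Type*) [Field F] : QuadraticForm F (F × F) :=
  linMulLin (LinearMap.fst F F F) (LinearMap.snd F F F)

theorem planeForm_apply (x : F × F) : planeForm F x = x.1 * x.2 := rfl

/-- Coordinates of the plus plane. -/
def planeCoord (F : Type*) [Field F] : (Fin 1 ⊕ Fin 1 → F) ≃ₗ[F] F × F where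
  toFun v := (v (.inl 0), v (.inr 0))
  map_add' _ _ := rfl
  map_smul' _ _ := rfl
  invFun x := Sum.elim (fun _ => x.1) (fun _ => x.2)
  left_inv v := by funext i; rcases i with i | i <;> fin_cases i <;> rfl
  right_inv _ := rfl

theorem planeCoord_map (v : Fin 1 ⊕ Fin 1 → F) : planeForm F (planeCoord F v) = Cfsg.quadFormPlus 1 F v := by
  rw [planeForm_apply, Cfsg.quadFormPlus, Fin.sum_univ_one]
  rfl

/-- The diagonal rotations of the hyperbolic plane. -/
def diagRot : Fˣ →* oG (planeForm F) :=
  MonoidHom.mk' (fun c => ⟨(LinearEquiv.smulOfUnit c).prodCongr (LinearEquiv.smulOfUnit c⁻¹), fun x => by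
      rw [planeForm_apply, planeForm_apply]
      show ((c : F) * x.1) * (((c⁻¹ : Fˣ) : F) * x.2) = _
      rw [mul_mul_mul_comm, Units.mul_inv, one_mul]⟩)
    fun c d => Subtype.ext (LinearEquiv.ext fun x => by
      show (((c * d : Fˣ) : F) * x.1, (((c * d)⁻¹ : Fˣ) : F) * x.2) =
        ((c : F) * ((d : F) * x.1), ((c⁻¹ : Fˣ) : F) * (((d⁻¹ : Fˣ) : F) * x.2))
      rw [mul_inv, Units.val_mul, Units.val_mul, mul_assoc, mul_assoc])

theorem diagRot_apply (c : Fˣ) (x : F × F) :
    (diagRot c).1 x = ((c : F) * x.1, ((c⁻¹ : Fˣ) : F) * x.2) := rfl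

/-- The swap of the hyperbolic plane. -/
def swapRot : oG (planeForm F) :=
  ⟨LinearEquiv.prodComm F F F, fun x => by
    rw [planeForm_apply, planeForm_apply, LinearEquiv.prodComm_apply]
    exact mul_comm _ _⟩

theorem swapRot_apply (x : F × F) : (swapRot : oG (planeForm F)).1 x = (x.2, x.1) := rfl

theorem isometryGroup_plus_one_dihedral [Fintype F] {q : ℕ} (hF : Fintype.card F = q) :
    Nonempty (Cfsg.isometryGroup F (Cfsg.quadFormPlus 1 F) ≃* DihedralGroup (q - 1)) := by
  let E := isometryEquiv (planeCoord F) (planeCoord_map (F := F))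
  have hcard : Nat.card (oG (planeForm F)) = 2 * (q - 1) := by
    rw [← Nat.card_congr E.toEquiv, card_isometryGroup_eq (plusCoord 1) (plusCoord_map 1),
      card_oG_plus hF]
    simp
  have hq : 2 ≤ q := hF ▸ Fintype.one_lt_card
  have hswap : (swapRot : oG (planeForm F)) ≠ 1 := fun h => by
    have e : (swapRot : oG (planeForm F)).1 (1, 0) = ((1, 0) : F × F) := by rw [h]; rfl
    rw [swapRot_apply] at e
    exact one_ne_zero (congrArg Prod.fst e).symm
  rcases Nat.lt_or_ge q 3 with h3 | h3
  · obtain rfl : q = 2 := by omega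
    have : Fact (Nat.Prime 2) := ⟨Nat.prime_two⟩
    exact ⟨mulEquivOfPrimeCardEq (p := 2) (by rw [Nat.card_congr E.toEquiv, hcard])
      (by rw [DihedralGroup.nat_card])⟩
  obtain ⟨g, hg⟩ := IsCyclic.exists_generator (α := Fˣ)
  have hinj : Function.Injective (diagRot (F := F)) := fun c d h => Units.ext (by
    have := congrArg (fun k : oG (planeForm F) => (k.1 (1, 0)).1) h
    simpa [diagRot_apply] using this)
  have hord : orderOf (diagRot g) = q - 1 := by
    rw [orderOf_injective _ hinj, orderOf_eq_card_of_forall_mem_zpowers hg, Nat.card_units,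
      Nat.card_eq_fintype_card, hF]
  obtain ⟨e⟩ := dihedral_of (r := diagRot g) (s := swapRot) hord (by omega)
    (Subtype.ext (LinearEquiv.ext fun x => rfl)) hswap
    (Subtype.ext (LinearEquiv.ext fun x => by
      show (diagRot g).1 (swapRot.1 ((diagRot g).1 (swapRot.1 x))) = x
      simp [diagRot_apply, swapRot_apply]))
    (fun h => by
      have e : (diagRot g * swapRot).1 (1, 0) = ((1, 0) : F × F) := by rw [h]; rfl
      have e' : ((diagRot g).1 (swapRot.1 (1, 0))).1 = 1 := congrArg Prod.fst e
      simp [diagRot_apply, swapRot_apply] at e')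
    hcard
  exact ⟨E.trans e⟩

variable {a b : F}

/-- Coordinates of the minus plane. -/
def binCoord (F : Type*) [Field F] : ((Fin 0 ⊕ Fin 0) ⊕ Fin 2 → F) ≃ₗ[F] F × F where
  toFun v := (v (.inr 0), v (.inr 1))
  map_add' _ _ := rfl
  map_smul' _ _ := rfl
  invFun x := Sum.elim (fun _ => 0) ![x.1, x.2]
  left_inv v := by
    funext i
    rcases i with (i | i) | i
    · exact i.elim0
    · exact i.elim0
    · fin_cases i <;> rfl
  right_inv _ := rfl

theorem binCoord_map (v : (Fin 0 ⊕ Fin 0) ⊕ Fin 2 → F) :
    binForm a b (binCoord F v) = Cfsg.quadFormMinus 0 F a b v := by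
  show binForm a b (v (.inr 0), v (.inr 1)) = _
  simp [binForm_apply, Cfsg.quadFormMinus]

theorem isometryGroup_minus_zero_dihedral [Fintype F] {q : ℕ} (hF : Fintype.card F = q)
    (hab : ∀ z₁ z₂ : F, z₁ ^ 2 + a * z₁ * z₂ + b * z₂ ^ 2 = 0 → z₁ = 0 ∧ z₂ = 0) :
    Nonempty (Cfsg.isometryGroup F (Cfsg.quadFormMinus 0 F a b) ≃* DihedralGroup (q + 1)) := by
  classical
  let E := isometryEquiv (binCoord F) (binCoord_map (a := a) (b := b))
  let N := {z : F × F // binForm a b z = 1}
  let S : Subgroup (oG (binForm a b)) :=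
    { carrier := {g | ∃ z : N, g = rotO hab z}
      one_mem' := ⟨⟨(1, 0), by simp [binForm_apply]⟩, ext_basis (by rw [rotO_one_zero]; rfl)
        (by rw [rotO_apply]; simp [qmul])⟩
      mul_mem' := by
        rintro g h ⟨z, rfl⟩ ⟨w, rfl⟩
        refine ⟨⟨qmul a b z.1 w.1, by rw [binForm_qmul, z.2, w.2, mul_one]⟩, ext_basis ?_ ?_⟩ <;>
          simp [Subgroup.coe_mul, LinearEquiv.mul_apply, rotO_apply, qmul] <;>
          constructor <;> ring
      inv_mem' := by
        rintro g ⟨z, rfl⟩
        refine ⟨⟨(z.1.1 + a * z.1.2, -z.1.2), ?_⟩, inv_eq_of_mul_eq_one_right (ext_basis ?_ ?_)⟩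
        · have := z.2
          rw [binForm_apply] at this ⊢
          linear_combination this
        · have := z.2
          rw [binForm_apply] at this
          simp [Subgroup.coe_mul, LinearEquiv.mul_apply, rotO_apply, qmul]
          constructor
          · linear_combination this
          · ring
        · have := z.2
          rw [binForm_apply] at this
          simp [Subgroup.coe_mul, LinearEquiv.mul_apply, rotO_apply, qmul]
          constructor
          · ring
          · linear_combination this }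
  obtain ⟨t, ht⟩ : ∃ t : AlgebraicClosure F,
      t ^ 2 - algebraMap F _ a * t + algebraMap F (AlgebraicClosure F) b = 0 := by
    obtain ⟨t, ht⟩ := IsAlgClosed.exists_root
      (Polynomial.X ^ 2 + Polynomial.C (-(algebraMap F (AlgebraicClosure F) a)) * Polynomial.X
        + Polynomial.C (algebraMap F (AlgebraicClosure F) b)) (by
      rw [show (Polynomial.X : Polynomial (AlgebraicClosure F)) ^ 2 = Polynomial.C 1 * Polynomial.X ^ 2 by simp]
      rw [Polynomial.degree_quadratic one_ne_zero]
      decide)
    refine ⟨t, ?_⟩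
    simp at ht
    linear_combination ht
  let ψ : S →* AlgebraicClosure F :=
    { toFun := fun g => algebraMap F _ (g.1.1 (1, 0)).1 + algebraMap F _ (g.1.1 (1, 0)).2 * t
      map_one' := by simp
      map_mul' := by
        rintro ⟨g, z, rfl⟩ ⟨h, w, rfl⟩
        simp [Subgroup.coe_mul, LinearEquiv.mul_apply, rotO_apply, qmul]
        linear_combination -(algebraMap F _ z.1.2 * algebraMap F _ w.1.2) * ht }
  have hψ : Function.Injective ψ := by
    rintro ⟨g, z, rfl⟩ ⟨h, w, rfl⟩ e
    refine Subtype.ext (congrArg (rotO hab) (Subtype.ext ?_))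
    simp only [ψ, MonoidHom.coe_mk, OneHom.coe_mk, rotO_one_zero] at e
    have e' : algebraMap F (AlgebraicClosure F) (z.1.1 - w.1.1) =
        algebraMap F _ (w.1.2 - z.1.2) * t := by rw [map_sub, map_sub]; linear_combination e
    by_cases hd : w.1.2 - z.1.2 = 0
    · rw [hd, map_zero, zero_mul, map_eq_zero, sub_eq_zero] at e'
      exact Prod.ext e' (sub_eq_zero.1 hd).symm
    · exfalso
      set r := (z.1.1 - w.1.1) / (w.1.2 - z.1.2)
      have hr : algebraMap F (AlgebraicClosure F) r = t := by
        rw [map_div₀, e', mul_div_cancel_left₀ _ (by simpa [sub_eq_zero] using hd)]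
      rw [← hr, ← map_pow, ← map_mul, ← map_sub, ← map_add, map_eq_zero] at ht
      exact one_ne_zero (hab (-r) 1 (by linear_combination ht)).2
  have : IsCyclic S := isCyclic_of_subgroup_isDomain ψ hψ
  obtain ⟨g, hg⟩ := IsCyclic.exists_generator (α := S)
  have hS : Nat.card S = q + 1 := by
    rw [← card_norm_one hab hF]
    refine (Nat.card_congr (Equiv.ofBijective (fun z : N => (⟨rotO hab z, z, rfl⟩ : S))
      ⟨fun z w h => Subtype.ext ?_, fun ⟨x, z, hz⟩ => ⟨z, Subtype.ext hz.symm⟩⟩)).symm
    rw [← rotO_one_zero hab z, ← rotO_one_zero hab w]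
    exact congrArg (fun k : S => k.1.1 (1, 0)) h
  obtain ⟨g, z, rfl⟩ := g
  have hord : orderOf (rotO hab z) = q + 1 := by
    rw [← hS, ← orderOf_eq_card_of_forall_mem_zpowers hg]
    exact Subgroup.orderOf_coe (⟨rotO hab z, z, rfl⟩ : S)
  have hq : 2 ≤ q := hF ▸ Fintype.one_lt_card
  have hz := z.2
  rw [binForm_apply] at hz
  obtain ⟨e⟩ := dihedral_of (r := rotO hab z) (s := flipO a b) hord (by omega)
    (ext_basis (by simp [Subgroup.coe_mul, LinearEquiv.mul_apply, flipO_apply])
      (by simp [Subgroup.coe_mul, LinearEquiv.mul_apply, flipO_apply]))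
    (flipO_ne_one hab)
    (ext_basis
      (by simp [Subgroup.coe_mul, LinearEquiv.mul_apply, flipO_apply, rotO_apply, qmul]
          constructor
          · linear_combination hz
          · ring)
      (by simp [Subgroup.coe_mul, LinearEquiv.mul_apply, flipO_apply, rotO_apply, qmul]
          constructor
          · ring
          · linear_combination hz))
    (fun h => by
      have e1 : (rotO hab z).1 ((flipO a b).1 (1, 0)) = ((1, 0) : F × F) :=
        congrArg (fun k : oG (binForm a b) => k.1 (1, 0)) h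
      rw [flipO_apply] at e1
      simp only [mul_zero, add_zero, neg_zero, rotO_one_zero] at e1
      have : rotO hab z = 1 := ext_basis (by rw [rotO_one_zero, e1]; rfl)
        (by rw [rotO_apply, e1]; simp [qmul])
      rw [this, orderOf_one] at hord
      omega)
    (card_oG_binForm hab hF)
  exact ⟨E.trans e⟩

end Cfsg.Agent.Classical.Quad
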