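import Mathlib
import Cfsg.Agent.Classical.QuadStd
import Cfsg.Agent.Classical.OrthMat

/-!
The rotation group of the three-dimensional quadratic space over the field with three elements is symmetric of degree four.
-/

set_option autoImplicit false

namespace Cfsg.Agent.Classical.SO33

open Matrix

variable {F : Type*} [Field F] [Fintype F]

abbrev Idx := Unit ⊕ (Fin 1 ⊕ Fin 1)

/-- The four singular points. -/
def pt (F : Type*) [Field F] (i : Fin 4) : Idx → F :=
  ![Sum.elim (fun _ => 0) (Sum.elim (fun _ => 1) fun _ => 0), Sum.elim (fun _ => 0) (Sum.elim (fun _ => 0) fun _ => 1),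
    Sum.elim (fun _ => 1) (Sum.elim (fun _ => 1) fun _ => -1), Sum.elim (fun _ => -1) (Sum.elim (fun _ => 1) fun _ => -1)] i

theorem three_cases (hF : Fintype.card F = 3) (a : F) : a = 0 ∨ a = 1 ∨ a = -1 := by
  by_cases ha : a = 0
  · exact Or.inl ha
  · have h := FiniteField.pow_card_sub_one_eq_one a ha
    rw [hF] at h
    exact Or.inr (sq_eq_one_iff.1 h)

theorem three_zero (hF : Fintype.card F = 3) : (3 : F) = 0 := by
  have h : ((3 : ℕ) : F) = 0 := by rw [← hF]; exact Nat.cast_card_eq_zero F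
  exact_mod_cast h

theorem two_ne (hF : Fintype.card F = 3) : (2 : F) ≠ 0 := fun h =>
  one_ne_zero (by linear_combination three_zero hF - h : (1 : F) = 0)

theorem smul_pt_inj (hF : Fintype.card F = 3) {a b : F} {i j : Fin 4} (h : a • pt F i = b • pt F j) (ha : a ≠ 0) :
    i = j := by
  have e1 := congrFun h (.inl ())
  have e2 := congrFun h (.inr (.inl 0))
  have e3 := congrFun h (.inr (.inr 0))
  have h2 := two_ne hF
  have n1 : (-1 : F) ≠ 1 := fun h' => h2 (by linear_combination -h')
  rcases three_cases hF a with rfl | rfl | rfl <;> rcases three_cases hF b with rfl | rfl | rfl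
  all_goals first
    | exact absurd rfl ha
    | (fin_cases i <;> fin_cases j <;> simp [pt, n1, n1.symm] at e1 e2 e3 ⊢; done)

theorem exists_pt (hF : Fintype.card F = 3) {v : Idx → F} (hv : v ≠ 0) (hQ : Cfsg.quadFormOdd 1 F v = 0) :
    ∃ i : Fin 4, ∃ a : F, a ≠ 0 ∧ v = a • pt F i := by
  have h2 := two_ne hF
  obtain ⟨x, hx⟩ : ∃ x, v (.inl ()) = x := ⟨_, rfl⟩
  obtain ⟨y, hy⟩ : ∃ y, v (.inr (.inl 0)) = y := ⟨_, rfl⟩
  obtain ⟨z, hz⟩ : ∃ z, v (.inr (.inr 0)) = z := ⟨_, rfl⟩
  have hv' : v = Sum.elim (fun _ => x) (Sum.elim (fun _ => y) fun _ => z) := by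
    funext s; rcases s with u | i | i
    · exact hx
    · fin_cases i; exact hy
    · fin_cases i; exact hz
  have hQ' : x ^ 2 + y * z = 0 := by
    simpa [Cfsg.quadFormOdd, hx, hy, hz] using hQ
  have hne : ¬ (x = 0 ∧ y = 0 ∧ z = 0) := fun ⟨a, b, c⟩ => hv (by
    rw [hv', a, b, c]; funext s; rcases s with u | i | i <;> rfl)
  have n1 : (-1 : F) ≠ 0 := neg_ne_zero.2 one_ne_zero
  rcases three_cases hF x with rfl | rfl | rfl <;> rcases three_cases hF y with rfl | rfl | rfl <;>
    rcases three_cases hF z with rfl | rfl | rfl <;>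
    first
      | exact absurd ⟨rfl, rfl, rfl⟩ hne
      | (exfalso; exact one_ne_zero (show (1 : F) = 0 by linear_combination hQ'))
      | (exfalso; exact one_ne_zero (show (1 : F) = 0 by linear_combination -hQ'))
      | (exfalso; exact h2 (show (2 : F) = 0 by linear_combination hQ'))
      | (refine ⟨0, 1, one_ne_zero, ?_⟩; rw [hv']; funext s; rcases s with u | i | i <;> simp [pt]; done)
      | (refine ⟨0, -1, n1, ?_⟩; rw [hv']; funext s; rcases s with u | i | i <;> simp [pt]; done)
      | (refine ⟨1, 1, one_ne_zero, ?_⟩; rw [hv']; funext s; rcases s with u | i | i <;> simp [pt]; done)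
      | (refine ⟨1, -1, n1, ?_⟩; rw [hv']; funext s; rcases s with u | i | i <;> simp [pt]; done)
      | (refine ⟨2, 1, one_ne_zero, ?_⟩; rw [hv']; funext s; rcases s with u | i | i <;> simp [pt]; done)
      | (refine ⟨2, -1, n1, ?_⟩; rw [hv']; funext s; rcases s with u | i | i <;> simp [pt]; done)
      | (refine ⟨3, 1, one_ne_zero, ?_⟩; rw [hv']; funext s; rcases s with u | i | i <;> simp [pt]; done)
      | (refine ⟨3, -1, n1, ?_⟩; rw [hv']; funext s; rcases s with u | i | i <;> simp [pt]; done)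

theorem pt_singular (hF : Fintype.card F = 3) (i : Fin 4) : Cfsg.quadFormOdd 1 F (pt F i) = 0 := by
  fin_cases i <;> simp [pt, Cfsg.quadFormOdd]

theorem pt_ne (i : Fin 4) : pt F i ≠ 0 := fun h => by
  have e2 := congrFun h (.inr (.inl 0))
  have e3 := congrFun h (.inr (.inr 0))
  fin_cases i <;> simp [pt] at e2 e3

/-- Matrix of a rotation. -/
abbrev mat (g : Cfsg.isometryGroup F (Cfsg.quadFormOdd 1 F)) : Matrix Idx Idx F := g.1.1

theorem mat_mulVec_inj (g : Cfsg.isometryGroup F (Cfsg.quadFormOdd 1 F)) {v : Idx → F} (hv : mat g *ᵥ v = 0) :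
    v = 0 := by
  have := congrArg ((g.1⁻¹).1 *ᵥ ·) hv
  simpa [mulVec_mulVec, ← Units.val_mul] using this

theorem exists_image (hF : Fintype.card F = 3) (g : Cfsg.isometryGroup F (Cfsg.quadFormOdd 1 F)) (i : Fin 4) :
    ∃ j : Fin 4, ∃ a : F, a ≠ 0 ∧ mat g *ᵥ pt F i = a • pt F j :=
  exists_pt hF (fun h => pt_ne i (mat_mulVec_inj g h)) ((g.2 (pt F i) 0).trans (pt_singular hF i))

theorem eq_scalar (hF : Fintype.card F = 3) (M : Matrix Idx Idx F)
    (h : ∀ i : Fin 4, ∃ a : F, M *ᵥ pt F i = a • pt F i) : ∃ c : F, M = Matrix.scalar Idx c := by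
  have h2 := two_ne hF
  obtain ⟨a, ha⟩ := h 0
  obtain ⟨b, hb⟩ := h 1
  obtain ⟨c, hc⟩ := h 2
  obtain ⟨d, hd⟩ := h 3
  have e : pt F 2 + pt F 3 = (2 : F) • pt F 0 - (2 : F) • pt F 1 := by
    funext s; rcases s with u | i | i <;> simp [pt] <;> ring
  have e' := congrArg (M *ᵥ ·) e
  simp only [mulVec_add, mulVec_sub, mulVec_smul, ha, hb, hc, hd] at e'
  have x1 := congrFun e' (.inl ())
  have x2 := congrFun e' (.inr (.inl 0))
  have x3 := congrFun e' (.inr (.inr 0))
  simp [pt] at x1 x2 x3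
  have hdc : d = c := by linear_combination -x1
  have hac : a = c := mul_left_cancel₀ h2 (by linear_combination -x2 + hdc)
  have hbc : b = c := mul_left_cancel₀ h2 (by linear_combination x3 + hdc)
  rw [hdc] at hd; rw [hac] at ha; rw [hbc] at hb
  refine ⟨c, ?_⟩
  refine Matrix.ext_of_mulVec_single fun j => ?_
  have e0 : Pi.single (Sum.inl () : Idx) (1 : F) = (-1 : F) • (pt F 2 - pt F 3) := by
    funext s; rcases s with u | i | i <;> simp [pt]
    linear_combination three_zero hF
  have e1 : Pi.single (Sum.inr (Sum.inl 0) : Idx) (1 : F) = pt F 0 := by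
    funext s; rcases s with u | i | i <;> simp [pt, Pi.single_apply]
    fin_cases i; simp
  have e2 : Pi.single (Sum.inr (Sum.inr 0) : Idx) (1 : F) = pt F 1 := by
    funext s; rcases s with u | i | i <;> simp [pt, Pi.single_apply]
    fin_cases i; simp
  have sc : ∀ v : Idx → F, Matrix.scalar Idx c *ᵥ v = c • v := fun v => by
    funext i; simp [Matrix.mulVec_diagonal]
  rw [sc]
  rcases j with u | i | i
  · cases u
    rw [e0, mulVec_smul, mulVec_sub, hc, hd, ← smul_sub, smul_comm]
  · fin_cases i; simp only [Fin.zero_eta]; rw [e1, ha]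
  · fin_cases i; simp only [Fin.zero_eta]; rw [e2, hb]

theorem so_three_three (hF : Fintype.card F = 3) :
    Nonempty (↥(Cfsg.specialIsometryGroup F (Cfsg.quadFormOdd 1 F)) ≃* Equiv.Perm (Fin 4)) := by
  classical
  let S := Cfsg.specialIsometryGroup F (Cfsg.quadFormOdd 1 F)
  have him := fun g => exists_image hF g
  choose σ hσ using him
  have uniq : ∀ g i j, ∀ b : F, mat g *ᵥ pt F i = b • pt F j → σ g i = j := fun g i j b hb => by
    obtain ⟨a, ha, e⟩ := hσ g i
    exact smul_pt_inj hF (e.symm.trans hb) ha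
  have hmul : ∀ g h i, σ (g * h) i = σ g (σ h i) := fun g h i => by
    obtain ⟨a, ha, e⟩ := hσ h i
    obtain ⟨b, hb, e'⟩ := hσ g (σ h i)
    refine uniq _ _ _ (a * b) ?_
    show (g.1.1 * h.1.1) *ᵥ pt F i = _
    rw [← mulVec_mulVec, e, mulVec_smul, e', smul_smul]
  have hone : ∀ i, σ 1 i = i := fun i => uniq _ _ _ 1 (by simp [mat])
  let act : MulAction (Cfsg.isometryGroup F (Cfsg.quadFormOdd 1 F)) (Fin 4) :=
    { smul := fun g i => σ g i, one_smul := hone, mul_smul := hmul }
  let f : S →* Equiv.Perm (Fin 4) := (MulAction.toPermHom _ (Fin 4)).comp S.subtype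
  have hf : Function.Injective f := (injective_iff_map_eq_one f).2 fun g hg => by
    have hfix : ∀ i, σ g.1 i = i := fun i => Equiv.congr_fun hg i
    obtain ⟨c, hc⟩ := eq_scalar hF (mat g.1) fun i => by
      obtain ⟨a, -, e⟩ := hσ g.1 i
      rw [hfix] at e
      exact ⟨a, e⟩
    have hd : (g.1.1.1).det = 1 := congrArg Units.val g.2
    rw [show g.1.1.1 = mat g.1 from rfl, hc] at hd
    simp [Matrix.det_diagonal] at hd
    have hc1 : c = 1 := by
      rcases three_cases hF c with rfl | rfl | rfl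
      · simp at hd
      · rfl
      · exfalso; exact two_ne hF (by linear_combination -hd)
    refine Subtype.ext (Subtype.ext (Units.ext ?_))
    rw [show g.1.1.1 = mat g.1 from rfl, hc, hc1, map_one]
    rfl
  have hO : Nat.card (Cfsg.isometryGroup F (Cfsg.quadFormOdd 1 F)) = 48 := by
    rw [Quad.card_isometryGroup_eq (Quad.oddCoord 1) (Quad.oddCoord_map 1), Quad.card_oG_odd hF (two_ne hF) 1]
    rfl
  have hidx : Nat.card S * S.index = 48 := hO ▸ S.card_mul_index
  have hle : S.index ≤ 2 := by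
    show (MonoidHom.ker _).index ≤ 2
    rw [Subgroup.index_ker]
    refine (Nat.card_le_card_of_injective _ Subtype.val_injective).trans ?_
    rw [Nat.card_units, Nat.card_eq_fintype_card, hF]
  have hle' := Nat.card_le_card_of_injective f hf
  rw [Nat.card_perm, Nat.card_fin] at hle'
  have h24 : Nat.card S = Nat.card (Equiv.Perm (Fin 4)) := by
    rw [Nat.card_perm, Nat.card_fin]
    rw [show Nat.factorial 4 = 24 from rfl] at hle' ⊢
    have h3 : Nat.card S * S.index ≤ Nat.card S * 2 := Nat.mul_le_mul_left _ hle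
    omega
  exact ⟨MulEquiv.ofBijective f ((Nat.bijective_iff_injective_and_card f).2 ⟨hf, h24⟩)⟩

end Cfsg.Agent.Classical.SO33
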