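import Mathlib
import Cfsg.Prelude.Def_Classical
import Cfsg.Agent.Classical.HermGroup
import Cfsg.Agent.Classical.UnitarySmall

/-!
Involutions of SU₃(q), q odd, as reflections through unit vectors, and the graph of commuting involutions.
-/

set_option autoImplicit false

namespace Cfsg.Agent.Classical.SUThree

open Matrix Module Herm

variable {F : Type*} [Field F] {σ : F →+* F}

/-- The involution fixing the unit vector `v` and negating its orthogonal. -/
def refMat (σ : F →+* F) (v : Fin 3 → F) : Matrix (Fin 3) (Fin 3) F :=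
  Matrix.of fun i j => 2 * v i * σ (v j) - if i = j then 1 else 0

theorem refMat_mulVec (v x : Fin 3 → F) :
    refMat σ v *ᵥ x = (2 * hermB 3 σ v x) • v - x := by
  funext i
  fin_cases i <;>
    simp [refMat, Matrix.mulVec, dotProduct, Fin.sum_univ_three, hermB_apply] <;> ring

theorem det_refMat {v : Fin 3 → F} (hv : hermB 3 σ v v = 1) : (refMat σ v).det = 1 := by
  rw [hermB_apply, Fin.sum_univ_three] at hv
  rw [Matrix.det_fin_three]
  simp [refMat]
  linear_combination (2 : F) * hv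

theorem hermB_three (x y : Fin 3 → F) :
    hermB 3 σ x y = σ (x 0) * y 0 + σ (x 1) * y 1 + σ (x 2) * y 2 := by
  rw [hermB_apply, Fin.sum_univ_three]

/-- Matrices agreeing on all vectors are equal. -/
theorem mat_ext {M N : Matrix (Fin 3) (Fin 3) F} (h : ∀ x, M *ᵥ x = N *ᵥ x) : M = N :=
  Matrix.toLin'.injective (LinearMap.ext fun x => by simpa using h x)

section

variable (hσ : IsInvol σ)
include hσ

theorem herm_symm (x y : Fin 3 → F) : σ (hermB 3 σ x y) = hermB 3 σ y x :=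
  (hermB_isHerm hσ 3).symm x y

theorem refMat_isometry {v : Fin 3 → F} (hv : hermB 3 σ v v = 1) (x y : Fin 3 → F) :
    hermB 3 σ (refMat σ v *ᵥ x) (refMat σ v *ᵥ y) = hermB 3 σ x y := by
  rw [refMat_mulVec, refMat_mulVec]
  simp only [map_sub, map_smulₛₗ, LinearMap.sub_apply, LinearMap.smul_apply, smul_eq_mul,
    RingHom.id_apply, map_mul, map_ofNat, hv, herm_symm hσ]
  ring

theorem refMat_mul_self {v : Fin 3 → F} (hv : hermB 3 σ v v = 1) :
    refMat σ v * refMat σ v = 1 := by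
  refine mat_ext fun x => ?_
  rw [← Matrix.mulVec_mulVec, refMat_mulVec v x, Matrix.mulVec_sub, Matrix.mulVec_smul, refMat_mulVec v v,
    refMat_mulVec v x, hv, Matrix.one_mulVec]
  module

theorem refMat_eq_iff (h2 : (2 : F) ≠ 0) {u v : Fin 3 → F} (hu : hermB 3 σ u u = 1)
    (hv : hermB 3 σ v v = 1) :
    refMat σ u = refMat σ v ↔ ∃ c : F, c * σ c = 1 ∧ u = c • v := by
  constructor
  · intro h
    have h1 : refMat σ u *ᵥ u = refMat σ v *ᵥ u := by rw [h]
    rw [refMat_mulVec, refMat_mulVec, hu, sub_left_inj, mul_one] at h1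
    have hc : u = hermB 3 σ v u • v := by
      rw [← smul_right_injective _ h2 |>.eq_iff, smul_smul]
      exact h1
    refine ⟨_, ?_, hc⟩
    rw [hc, smul_self (hermB_isHerm hσ 3), hv, mul_one] at hu
    exact hu
  · rintro ⟨c, hc, rfl⟩
    refine mat_ext fun x => ?_
    rw [refMat_mulVec, refMat_mulVec, map_smulₛₗ, LinearMap.smul_apply, smul_eq_mul, smul_smul]
    congr 2
    linear_combination (2 * hermB 3 σ v x) * hc

theorem refMat_commute_iff (h2 : (2 : F) ≠ 0) {u v : Fin 3 → F} (hu : hermB 3 σ u u = 1)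
    (hv : hermB 3 σ v v = 1) :
    refMat σ u * refMat σ v = refMat σ v * refMat σ u ↔
      hermB 3 σ u v = 0 ∨ refMat σ u = refMat σ v := by
  constructor
  · intro h
    rcases eq_or_ne (hermB 3 σ u v) 0 with h0 | h0
    · exact Or.inl h0
    refine Or.inr ?_
    have h1 : refMat σ u *ᵥ (refMat σ v *ᵥ v) = refMat σ v *ᵥ (refMat σ u *ᵥ v) := by
      rw [Matrix.mulVec_mulVec, Matrix.mulVec_mulVec, h]
    rw [show refMat σ v *ᵥ v = v by rw [refMat_mulVec, hv]; module] at h1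
    set w := refMat σ u *ᵥ v with hw
    rw [refMat_mulVec v w] at h1
    have hw2 : w = hermB 3 σ v w • v := by
      rw [← smul_right_injective _ h2 |>.eq_iff, smul_smul, two_smul]
      exact eq_sub_iff_add_eq.1 h1
    set s := hermB 3 σ v w
    rw [refMat_mulVec] at hw
    have hu' : (2 * hermB 3 σ u v) • u = (s + 1) • v := by
      rw [add_smul, one_smul, ← hw2, hw, sub_add_cancel]
    have hne : (2 * hermB 3 σ u v) ≠ 0 := mul_ne_zero h2 h0
    have hu2 : u = ((2 * hermB 3 σ u v)⁻¹ * (s + 1)) • v := by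
      rw [← smul_smul, ← hu', inv_smul_smul₀ hne]
    refine (refMat_eq_iff hσ h2 hu hv).2 ⟨_, ?_, hu2⟩
    have := hu
    rw [hu2, smul_self (hermB_isHerm hσ 3), hv, mul_one] at this
    exact this
  · rintro (h0 | h0)
    · have h0' : hermB 3 σ v u = 0 := by rw [← herm_symm hσ, h0, map_zero]
      refine mat_ext fun x => ?_
      simp only [← Matrix.mulVec_mulVec, refMat_mulVec, map_sub, map_smul, h0, h0', smul_eq_mul]
      module
    · rw [h0]

end

section Group

variable [Fintype F] {q : ℕ} (hσ : IsInvol σ) (hσq : ∀ x, σ x = x ^ q)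
include hσ hσq

/-- The reflection as an element of SU₃. -/
def refSU (v : {v : Fin 3 → F // hermB 3 σ v v = 1}) : ↥(Cfsg.SU 3 F q) :=
  ⟨⟨refMat σ v.1, det_refMat v.2⟩, (mem_SU_iff hσq _).2 (refMat_isometry hσ v.2)⟩

theorem coe_refSU (v : {v : Fin 3 → F // hermB 3 σ v v = 1}) :
    (((refSU hσ hσq v : ↥(Cfsg.SU 3 F q)) : Matrix.SpecialLinearGroup (Fin 3) F) :
      Matrix (Fin 3) (Fin 3) F) = refMat σ v.1 := rfl

omit hσ in
theorem su_ext {g h : ↥(Cfsg.SU 3 F q)}
    (e : ((g : Matrix.SpecialLinearGroup (Fin 3) F) : Matrix (Fin 3) (Fin 3) F) =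
      ((h : Matrix.SpecialLinearGroup (Fin 3) F) : Matrix (Fin 3) (Fin 3) F)) : g = h :=
  Subtype.ext (Subtype.ext e)

theorem refSU_involution (h2 : (2 : F) ≠ 0) (v : {v : Fin 3 → F // hermB 3 σ v v = 1}) :
    refSU hσ hσq v ≠ 1 ∧ refSU hσ hσq v * refSU hσ hσq v = 1 := by
  refine ⟨fun h => ?_, su_ext hσq ?_⟩
  · have h1 : refMat σ v.1 = 1 := congrArg (fun g : ↥(Cfsg.SU 3 F q) =>
      ((g : Matrix.SpecialLinearGroup (Fin 3) F) : Matrix (Fin 3) (Fin 3) F)) h
    have hne : v.1 ≠ 0 := by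
      intro h0
      have := v.2
      rw [h0] at this
      simp at this
    obtain ⟨x, hx, hx0⟩ : ∃ x : Fin 3 → F, hermB 3 σ v.1 x = 0 ∧ x ≠ 0 := by
      by_cases h0 : v.1 0 = 0
      · exact ⟨Pi.single 0 1, by simp [hermB_three, h0], by simp⟩
      · refine ⟨![-σ (v.1 1), σ (v.1 0), 0], by simp [hermB_three]; ring, ?_⟩
        intro hx
        exact h0 (by simpa using congrFun hx 1)
    have h3 := refMat_mulVec (σ := σ) v.1 x
    rw [h1, Matrix.one_mulVec, hx, mul_zero, zero_smul, zero_sub] at h3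
    apply hx0
    have h4 : (2 : F) • x = 0 := by rw [two_smul]; nth_rw 1 [h3]; exact neg_add_cancel x
    exact (smul_eq_zero.1 h4).resolve_left h2
  · change refMat σ v.1 * refMat σ v.1 = 1
    exact refMat_mul_self hσ v.2

theorem exists_refSU (h2 : (2 : F) ≠ 0) (g : ↥(Cfsg.SU 3 F q)) (hg : g ≠ 1) (hg2 : g * g = 1) :
    ∃ v, refSU hσ hσq v = g := by
  classical
  set M : Matrix (Fin 3) (Fin 3) F := ((g : Matrix.SpecialLinearGroup (Fin 3) F) : Matrix (Fin 3) (Fin 3) F) with hM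
  have hMM : M * M = 1 := congrArg (fun g : ↥(Cfsg.SU 3 F q) =>
      ((g : Matrix.SpecialLinearGroup (Fin 3) F) : Matrix (Fin 3) (Fin 3) F)) hg2
  have hdet : M.det = 1 := (g : Matrix.SpecialLinearGroup (Fin 3) F).2
  have hiso : ∀ x y, hermB 3 σ (M *ᵥ x) (M *ᵥ y) = hermB 3 σ x y := (mem_SU_iff hσq _).1 g.2
  have H := hermB_isHerm hσ 3
  have hinv : ∀ x, M *ᵥ (M *ᵥ x) = x := fun x => by rw [Matrix.mulVec_mulVec, hMM, Matrix.one_mulVec]
  obtain ⟨p, hp, hp0⟩ : ∃ p : Fin 3 → F, M *ᵥ p = p ∧ p ≠ 0 := by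
    by_contra hc
    push Not at hc
    have hneg : M = -1 := mat_ext fun x => by
      have h0 := hc (x + M *ᵥ x) (by rw [Matrix.mulVec_add, hinv, add_comm])
      rw [Matrix.neg_mulVec, Matrix.one_mulVec]
      exact eq_neg_of_add_eq_zero_right h0
    rw [hneg, Matrix.det_neg, Matrix.det_one, Fintype.card_fin] at hdet
    exact h2 (by linear_combination (-1 : F) * hdet)
  obtain ⟨v₀, hv₀P, hv₀⟩ : ∃ v ∈ LinearMap.ker (Matrix.toLin' M - 1), hermB 3 σ v v ≠ 0 := by
    obtain ⟨y, hy⟩ : ∃ y, hermB 3 σ p y ≠ 0 := by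
      by_contra hc
      push Not at hc
      exact hp0 (H.nondeg p hc)
    refine exists_anisotropic H _ ⟨p, by simp [hp], y + M *ᵥ y, by simp [Matrix.mulVec_add, hinv, add_comm], ?_⟩
    have e : hermB 3 σ p (M *ᵥ y) = hermB 3 σ p y := by
      conv_lhs => rw [← hp, hiso]
    rw [map_add, e, ← two_mul]
    exact mul_ne_zero h2 hy
  obtain ⟨c, hc⟩ := exists_unit_of_ne_zero H hv₀
  set v := c • v₀
  have hMv : M *ᵥ v = v := by
    have : M *ᵥ v₀ = v₀ := by simpa [sub_eq_zero] using hv₀P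
    rw [Matrix.mulVec_smul, this]
  obtain ⟨b, hb, hb0⟩ := exists_extend H 2 (k := 1) (by simp) (a := ![v]) (fun i j => by
    fin_cases i; fin_cases j; simpa using hc)
  have hbv : b 0 = v := by simpa using hb0 0
  refine ⟨⟨v, hc⟩, su_ext hσq ?_⟩
  change refMat σ v = M
  let P : Matrix (Fin 3) (Fin 3) F := Matrix.of fun i j => b j i
  let P' : Matrix (Fin 3) (Fin 3) F := Matrix.of fun i j => σ (b i j)
  have hP : P' * P = 1 := by
    ext i j
    rw [Matrix.mul_apply, Matrix.one_apply, ← hb i j, hermB_apply]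
    rfl
  have hP' : P * P' = 1 := mul_eq_one_comm.1 hP
  set A := P' * M * P with hA
  have hA00 : ∀ i, A i 0 = if i = 0 then 1 else 0 := by
    intro i
    have : A i 0 = hermB 3 σ (b i) (M *ᵥ b 0) := by
      rw [hA, Matrix.mul_assoc, Matrix.mul_apply, hermB_apply]
      rfl
    rw [this, hbv, hMv, ← hbv, hb]
  have hA0j : ∀ j, A 0 j = if 0 = j then 1 else 0 := by
    intro j
    have : A 0 j = hermB 3 σ (b 0) (M *ᵥ b j) := by
      rw [hA, Matrix.mul_assoc, Matrix.mul_apply, hermB_apply]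
      rfl
    rw [this, hbv]
    conv_lhs => rw [← hMv, hiso]
    rw [← hbv, hb]
  have hAA : A * A = 1 := by
    rw [hA, show P' * M * P * (P' * M * P) = P' * M * (P * P') * M * P by simp only [Matrix.mul_assoc],
      hP', Matrix.mul_one, Matrix.mul_assoc P' M M, hMM, Matrix.mul_one, hP]
  have hAdet : A.det = 1 := by
    rw [hA, Matrix.det_mul, Matrix.det_mul, hdet, mul_one, ← Matrix.det_mul, hP, Matrix.det_one]
  have a10 := hA00 1; have a20 := hA00 2; have a00 := hA00 0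
  have a01 := hA0j 1; have a02 := hA0j 2
  simp only [one_ne_zero, if_false, if_true, show (2 : Fin 3) ≠ 0 by decide, show (0 : Fin 3) ≠ 1 by decide,
    show (0 : Fin 3) ≠ 2 by decide] at a10 a20 a00 a01 a02
  have e11 := congrFun (congrFun hAA 1) 1
  have e12 := congrFun (congrFun hAA 1) 2
  have e21 := congrFun (congrFun hAA 2) 1
  have e22 := congrFun (congrFun hAA 2) 2
  simp only [Matrix.mul_apply, Fin.sum_univ_three, Matrix.one_apply, a10, a20, a01, a02, mul_zero, zero_mul, zero_add,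
    if_true, show (1 : Fin 3) ≠ 2 by decide, show (2 : Fin 3) ≠ 1 by decide, if_false] at e11 e12 e21 e22
  rw [Matrix.det_fin_three, a00, a10, a20, a01, a02] at hAdet
  have hsum : A 1 1 * (A 1 1 + A 2 2) = 2 := by linear_combination e11 + hAdet
  have hne : A 1 1 + A 2 2 ≠ 0 := fun h => h2 (by rw [← hsum, h, mul_zero])
  have h12 : A 1 2 = 0 := (mul_eq_zero.1 (show A 1 2 * (A 1 1 + A 2 2) = 0 by linear_combination e12)).resolve_right hne
  have h21 : A 2 1 = 0 := (mul_eq_zero.1 (show A 2 1 * (A 1 1 + A 2 2) = 0 by linear_combination e21)).resolve_right hne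
  rw [h12, h21, mul_zero, add_zero] at e11
  rw [h12, h21, mul_zero, zero_add] at e22
  have hA22 : A 2 2 = A 1 1 := by
    rw [h12, h21] at hAdet
    linear_combination (A 1 1) * hAdet - (A 2 2) * e11
  rcases mul_self_eq_one_iff.1 e11 with h11 | h11
  · exfalso
    have hA1 : A = 1 := by
      ext i j
      fin_cases i <;> fin_cases j <;> simp [a00, a01, a02, a10, a20, h12, h21, hA22, h11]
    apply hg
    refine su_ext hσq ?_
    change M = 1
    calc M = (P * P') * M * (P * P') := by rw [hP', Matrix.one_mul, Matrix.mul_one]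
      _ = P * A * P' := by simp only [hA, Matrix.mul_assoc]
      _ = 1 := by rw [hA1, Matrix.mul_one, hP']
  · have hR : P' * refMat σ v * P = A := by
      ext i j
      have : (P' * refMat σ v * P) i j = hermB 3 σ (b i) (refMat σ v *ᵥ b j) := by
        rw [Matrix.mul_assoc, Matrix.mul_apply, hermB_apply]
        rfl
      rw [this, refMat_mulVec, ← hbv, map_sub, map_smul, hb, hb, hb]
      fin_cases i <;> fin_cases j <;> simp [a00, a01, a02, a10, a20, h12, h21, hA22, h11] <;> ring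
    calc refMat σ v = (P * P') * refMat σ v * (P * P') := by rw [hP', Matrix.one_mul, Matrix.mul_one]
      _ = P * A * P' := by rw [← hR]; simp only [Matrix.mul_assoc]
      _ = (P * P') * M * (P * P') := by simp only [hA, Matrix.mul_assoc]
      _ = M := by rw [hP', Matrix.one_mul, Matrix.mul_one]

omit hσq in
theorem exists_frame (v : {v : Fin 3 → F // hermB 3 σ v v = 1}) :
    ∃ b : Fin 3 → Fin 3 → F, IsON (hermB 3 σ) b ∧ b 0 = v.1 := by
  obtain ⟨b, hb, hb0⟩ := exists_extend (hermB_isHerm hσ 3) 2 (k := 1) (by simp) (a := ![v.1]) (fun i j => by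
    fin_cases i; fin_cases j; simpa using v.2)
  exact ⟨b, hb, by simpa using hb0 0⟩

omit hσq [Fintype F] in
theorem frame_isometry {b : Fin 3 → Fin 3 → F} (hb : IsON (hermB 3 σ) b) (x y : Fin 3 → F) :
    hermB 3 σ ((Matrix.of fun i j => b j i) *ᵥ x) ((Matrix.of fun i j => b j i) *ᵥ y) = hermB 3 σ x y := by
  have e : ∀ z : Fin 3 → F, (Matrix.of fun i j => b j i) *ᵥ z = z 0 • b 0 + z 1 • b 1 + z 2 • b 2 := fun z => by
    funext i
    simp [Matrix.mulVec, dotProduct, Fin.sum_univ_three]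
    ring
  rw [e x, e y, hermB_three x y]
  simp only [map_add, map_smulₛₗ, LinearMap.add_apply, LinearMap.smul_apply, smul_eq_mul, RingHom.id_apply,
    hb _ _]
  simp
  ring

omit hσq [Fintype F] in
theorem exists_isometry (u v : {v : Fin 3 → F // hermB 3 σ v v = 1}) [Finite F] :
    ∃ N : Matrix (Fin 3) (Fin 3) F, (∀ x y, hermB 3 σ (N *ᵥ x) (N *ᵥ y) = hermB 3 σ x y) ∧
      N *ᵥ u.1 = v.1 := by
  have : Fintype F := Fintype.ofFinite F
  obtain ⟨b, hb, hbu⟩ := exists_frame hσ u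
  obtain ⟨d, hd, hdv⟩ := exists_frame hσ v
  have hP : (Matrix.of fun i j => b j i) * (Matrix.of fun i j => σ (b i j)) = (1 : Matrix (Fin 3) (Fin 3) F) := by
    refine mul_eq_one_comm.1 ?_
    ext i j
    rw [Matrix.mul_apply, Matrix.one_apply, ← hb i j, hermB_apply]
    rfl
  refine ⟨(Matrix.of fun i j => d j i) * (Matrix.of fun i j => σ (b i j)), fun x y => ?_, ?_⟩
  · rw [← Matrix.mulVec_mulVec, ← Matrix.mulVec_mulVec, frame_isometry hσ hd, ← frame_isometry hσ hb,
      Matrix.mulVec_mulVec, Matrix.mulVec_mulVec, hP, Matrix.one_mulVec, Matrix.one_mulVec]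
  · have h1 : (Matrix.of fun i j => σ (b i j)) *ᵥ u.1 = Pi.single 0 1 := by
      funext i
      rw [Pi.single_apply, ← hb i 0, hermB_apply, ← hbu]
      rfl
    rw [← Matrix.mulVec_mulVec, h1, Matrix.mulVec_single_one]
    exact hdv

omit hσq [Fintype F] in
/-- Pseudo-reflections. -/
theorem exists_pseudo {w : Fin 3 → F} (hw : hermB 3 σ w w = 1) {a : F} (ha : a * σ a = 1) :
    ∃ T : Matrix (Fin 3) (Fin 3) F, (∀ x, T *ᵥ x = x + ((a - 1) * hermB 3 σ w x) • w) ∧
      (∀ x y, hermB 3 σ (T *ᵥ x) (T *ᵥ y) = hermB 3 σ x y) ∧ T.det = a := by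
  let T : Matrix (Fin 3) (Fin 3) F := 1 + (a - 1) • Matrix.of (fun i j => w i * σ (w j))
  have hT : ∀ x, T *ᵥ x = x + ((a - 1) * hermB 3 σ w x) • w := by
    intro x
    funext i
    fin_cases i <;> simp [T, Matrix.mulVec, dotProduct, Fin.sum_univ_three, hermB_three] <;> ring
  refine ⟨T, hT, fun x y => ?_, ?_⟩
  · rw [hT, hT]
    simp only [map_add, map_smulₛₗ, LinearMap.add_apply, LinearMap.smul_apply, smul_eq_mul, RingHom.id_apply,
      map_mul, map_sub, map_one, herm_symm hσ, hw]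
    linear_combination (hermB 3 σ x w * hermB 3 σ w y) * ha
  · rw [hermB_three] at hw
    rw [Matrix.det_fin_three]
    simp [T]
    linear_combination (a - 1) * hw

theorem exists_moving {u v : {v : Fin 3 → F // hermB 3 σ v v = 1}} :
    ∃ g : ↥(Cfsg.SU 3 F q), g * refSU hσ hσq u * g⁻¹ = refSU hσ hσq v := by
  classical
  obtain ⟨N, hNiso, hNu⟩ := exists_isometry hσ u v
  obtain ⟨d, hd, hdv⟩ := exists_frame hσ v
  have hNN : N.det * σ N.det = 1 := by
    have := congrArg Matrix.det ((preserves_iff_mul (σ := σ) N).1 hNiso)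
    rwa [Matrix.det_mul, Matrix.det_transpose, Matrix.det_one, ← RingHom.mapMatrix_apply,
      ← RingHom.map_det, mul_comm] at this
  have hδ0 : N.det ≠ 0 := left_ne_zero_of_mul_eq_one hNN
  obtain ⟨T, hT, hTiso, hTdet⟩ := exists_pseudo hσ (w := d 1) (by rw [hd]; simp) (a := N.det⁻¹)
    (by rw [map_inv₀, ← mul_inv, hNN, inv_one])
  have hdet : (T * N).det = 1 := by rw [Matrix.det_mul, hTdet, inv_mul_cancel₀ hδ0]
  have hTN : ∀ x y, hermB 3 σ ((T * N) *ᵥ x) ((T * N) *ᵥ y) = hermB 3 σ x y := fun x y => by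
    rw [← Matrix.mulVec_mulVec, ← Matrix.mulVec_mulVec, hTiso, hNiso]
  obtain ⟨g0, hg0⟩ : ∃ g : Matrix.SpecialLinearGroup (Fin 3) F, (g : Matrix (Fin 3) (Fin 3) F) = T * N :=
    ⟨⟨T * N, hdet⟩, rfl⟩
  have hmem : g0 ∈ Cfsg.SU 3 F q := (mem_SU_iff hσq _).2 (by rw [hg0]; exact hTN)
  refine ⟨⟨g0, hmem⟩, mul_inv_eq_iff_eq_mul.2 (su_ext hσq ?_)⟩
  simp only [Subgroup.coe_mul, Matrix.SpecialLinearGroup.coe_mul, coe_refSU, hg0]
  refine mat_ext fun x => ?_
  have hgu : (T * N) *ᵥ u.1 = v.1 := by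
    rw [← Matrix.mulVec_mulVec, hNu, hT, ← hdv, hd]
    simp
  rw [← Matrix.mulVec_mulVec x (T * N), ← Matrix.mulVec_mulVec x (refMat σ v.1), refMat_mulVec,
    refMat_mulVec, Matrix.mulVec_sub, Matrix.mulVec_smul, hgu]
  congr 3
  rw [← hgu, hTN]

theorem commute_refSU_iff (h2 : (2 : F) ≠ 0) (u v : {v : Fin 3 → F // hermB 3 σ v v = 1}) :
    Commute (refSU hσ hσq u) (refSU hσ hσq v) ↔
      hermB 3 σ u.1 v.1 = 0 ∨ refSU hσ hσq u = refSU hσ hσq v := by
  constructor
  · intro h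
    exact ((refMat_commute_iff hσ h2 u.2 v.2).1 (congrArg (fun g : ↥(Cfsg.SU 3 F q) =>
      ((g : Matrix.SpecialLinearGroup (Fin 3) F) : Matrix (Fin 3) (Fin 3) F)) h)).imp_right fun e =>
        su_ext hσq e
  · rintro (h | h)
    · exact su_ext hσq ((refMat_commute_iff hσ h2 u.2 v.2).2 (Or.inl h))
    · rw [h]

/-- Counting a class of involutions by unit vectors. -/
theorem card_inv_mul (h2 : (2 : F) ≠ 0) (hq : Nat.card (fixField σ) = q) (Q : ↥(Cfsg.SU 3 F q) → Prop) :
    Nat.card {x : ↥(Cfsg.SU 3 F q) // x ≠ 1 ∧ x * x = 1 ∧ Q x} * (q + 1) =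
      Nat.card {v : {v : Fin 3 → F // hermB 3 σ v v = 1} // Q (refSU hσ hσq v)} := by
  classical
  let f : {v : {v : Fin 3 → F // hermB 3 σ v v = 1} // Q (refSU hσ hσq v)} →
      {x : ↥(Cfsg.SU 3 F q) // x ≠ 1 ∧ x * x = 1 ∧ Q x} := fun v =>
    ⟨refSU hσ hσq v.1, (refSU_involution hσ hσq h2 v.1).1, (refSU_involution hσ hσq h2 v.1).2, v.2⟩
  have hfib : ∀ x, Nat.card {v // f v = x} = q + 1 := by
    rintro ⟨x, h1, hxx, hx⟩
    obtain ⟨v, rfl⟩ := exists_refSU hσ hσq h2 x h1 hxx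
    have hN : Nat.card {c : F // c * σ c = 1} = q + 1 := by
      rw [card_norm_fibre hσ (map_one σ) one_ne_zero, hq]
    rw [← hN]
    have hv0 : v.1 ≠ 0 := by
      intro h0
      have := v.2
      rw [h0] at this
      simp at this
    have hsm : ∀ c : {c : F // c * σ c = 1}, hermB 3 σ (c.1 • v.1) (c.1 • v.1) = 1 := fun c => by
      rw [smul_self (hermB_isHerm hσ 3), v.2, mul_one, c.2]
    have hr : ∀ c : {c : F // c * σ c = 1}, refSU hσ hσq ⟨_, hsm c⟩ = refSU hσ hσq v := fun c =>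
      su_ext hσq ((refMat_eq_iff hσ h2 (hsm c) v.2).2 ⟨c.1, c.2, rfl⟩)
    symm
    refine Nat.card_congr (Equiv.ofBijective (fun c =>
      ⟨⟨⟨c.1 • v.1, hsm c⟩, by rw [hr]; exact hx⟩, Subtype.ext (hr c)⟩) ⟨?_, ?_⟩)
    · intro a b h
      exact Subtype.ext (smul_left_injective F hv0 (congrArg (fun z => z.1.1.1) h))
    · rintro ⟨⟨⟨u, hu⟩, hQ⟩, hf⟩
      obtain ⟨c, hc, rfl⟩ := (refMat_eq_iff hσ h2 hu v.2).1 (congrArg (fun z : {x : ↥(Cfsg.SU 3 F q) // _} =>
        ((z.1 : Matrix.SpecialLinearGroup (Fin 3) F) : Matrix (Fin 3) (Fin 3) F)) hf)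
      exact ⟨⟨c, hc⟩, rfl⟩
  rw [Nat.card_congr (Equiv.sigmaFiberEquiv f).symm, Nat.card_sigma]
  simp only [hfib, Finset.sum_const, Finset.card_univ, smul_eq_mul, Nat.card_eq_fintype_card]

/-- The first basis vector. -/
def e0 (F : Type*) [Field F] (σ : F →+* F) : {v : Fin 3 → F // hermB 3 σ v v = 1} :=
  ⟨![1, 0, 0], by simp [hermB_three]⟩

theorem exists_conj_base (h2 : (2 : F) ≠ 0) (t : ↥(Cfsg.SU 3 F q)) (ht : t ≠ 1) (ht2 : t * t = 1) :
    ∃ g : ↥(Cfsg.SU 3 F q), MulAut.conj g (refSU hσ hσq (e0 F σ)) = t := by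
  obtain ⟨v, rfl⟩ := exists_refSU hσ hσq h2 t ht ht2
  exact exists_moving hσ hσq

end Group

end Cfsg.Agent.Classical.SUThree
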