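import Mathlib
import Cfsg.Prelude.Def_Classical
import Cfsg.Agent.Classical.SUThreeInvol

/-!
Counting in the graph of commuting involutions of SU₃(q), q odd, around the reflection through the first basis
vector.
-/

set_option autoImplicit false

namespace Cfsg.Agent.Classical.SUThree

open Matrix Module Herm

/-- Splitting a count by a predicate. -/
theorem card_split {α : Type*} [Finite α] (P Q : α → Prop) :
    Nat.card {x // P x} = Nat.card {x // P x ∧ Q x} + Nat.card {x // P x ∧ ¬ Q x} := by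
  classical
  have : Fintype α := Fintype.ofFinite α
  simp only [Nat.card_eq_fintype_card, Fintype.card_subtype, ← Finset.filter_filter]
  exact (Finset.card_filter_add_card_filter_not Q).symm

variable {F : Type*} [Field F] [Fintype F] {σ : F →+* F} {q : ℕ}
  (hσ : IsInvol σ) (hσq : ∀ x, σ x = x ^ q) (hq : Nat.card (fixField σ) = q) (h2 : (2 : F) ≠ 0)

include hσ hσq h2

/-- The base involution. -/
abbrev t0 : ↥(Cfsg.SU 3 F q) := refSU hσ hσq (e0 F σ)

omit hσ hσq h2 in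
theorem herm_e0 (u : Fin 3 → F) : hermB 3 σ (e0 F σ).1 u = u 0 := by
  simp [e0, hermB_three]

theorem eq_t0_iff (u : {v : Fin 3 → F // hermB 3 σ v v = 1}) :
    refSU hσ hσq u = t0 hσ hσq ↔ u.1 1 = 0 ∧ u.1 2 = 0 := by
  constructor
  · intro h
    obtain ⟨c, -, hc⟩ := (refMat_eq_iff hσ h2 u.2 (e0 F σ).2).1 (congrArg (fun g : ↥(Cfsg.SU 3 F q) =>
      ((g : Matrix.SpecialLinearGroup (Fin 3) F) : Matrix (Fin 3) (Fin 3) F)) h)
    rw [hc]
    simp [e0]
  · rintro ⟨h1, h3⟩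
    refine su_ext hσq ((refMat_eq_iff hσ h2 u.2 (e0 F σ).2).2 ⟨u.1 0, ?_, ?_⟩)
    · have := u.2
      rw [hermB_three, h1, h3] at this
      simpa [mul_comm] using this
    · funext i
      fin_cases i <;> simp [e0, h1, h3]

theorem commute_t0_iff (u : {v : Fin 3 → F // hermB 3 σ v v = 1}) :
    Commute (t0 hσ hσq) (refSU hσ hσq u) ↔ u.1 0 = 0 ∨ (u.1 1 = 0 ∧ u.1 2 = 0) := by
  rw [commute_refSU_iff hσ hσq h2, herm_e0, eq_comm (a := refSU hσ hσq (e0 F σ)), eq_t0_iff hσ hσq h2]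

theorem adj_t0_iff (u : {v : Fin 3 → F // hermB 3 σ v v = 1}) :
    (refSU hσ hσq u ≠ t0 hσ hσq ∧ Commute (t0 hσ hσq) (refSU hσ hσq u)) ↔ u.1 0 = 0 := by
  rw [Ne, eq_t0_iff hσ hσq h2, commute_t0_iff hσ hσq h2]
  constructor
  · tauto
  · intro h
    refine ⟨fun ⟨h1, h3⟩ => ?_, Or.inl h⟩
    have := u.2
    simp [hermB_three, h, h1, h3] at this

theorem no_common_iff (u : {v : Fin 3 → F // hermB 3 σ v v = 1})
    (hu : ¬ Commute (t0 hσ hσq) (refSU hσ hσq u)) :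
    (∀ y : ↥(Cfsg.SU 3 F q), y ≠ 1 → y * y = 1 →
      ¬ (Commute (t0 hσ hσq) y ∧ Commute y (refSU hσ hσq u))) ↔
      σ (u.1 1) * u.1 1 + σ (u.1 2) * u.1 2 = 0 := by
  have H := hermB_isHerm hσ 3
  constructor
  · intro h
    by_contra hs
    let w₀ : Fin 3 → F := ![0, σ (u.1 2), -σ (u.1 1)]
    have hw₀ : hermB 3 σ w₀ w₀ ≠ 0 := by
      intro h0
      apply hs
      simp [w₀, hermB_three, hσ.invol] at h0
      linear_combination h0
    obtain ⟨c, hc⟩ := exists_unit_of_ne_zero H hw₀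
    refine h (refSU hσ hσq ⟨_, hc⟩) (refSU_involution hσ hσq h2 _).1 (refSU_involution hσ hσq h2 _).2
      ⟨(commute_t0_iff hσ hσq h2 _).2 (Or.inl ?_), (commute_refSU_iff hσ hσq h2 _ _).2 (Or.inl ?_)⟩
    · simp [w₀]
    · simp [w₀, hermB_three, hσ.invol]
      ring
  · intro hs y hy hy2 ⟨hty, hyx⟩
    obtain ⟨w, rfl⟩ := exists_refSU hσ hσq h2 y hy hy2
    rw [commute_refSU_iff hσ hσq h2 w u] at hyx
    rcases hyx with hwu | hwu
    swap
    · rw [hwu] at hty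
      exact hu hty
    have hu0 : ¬ (u.1 0 = 0 ∨ (u.1 1 = 0 ∧ u.1 2 = 0)) := fun h => hu ((commute_t0_iff hσ hσq h2 u).2 h)
    rcases (commute_t0_iff hσ hσq h2 w).1 hty with hw | ⟨hw1, hw2⟩
    · have hw' := w.2
      rw [hermB_three, hw] at hw' hwu
      simp only [map_zero, zero_mul, mul_zero, zero_add] at hw' hwu
      have hwu' := congrArg σ hwu
      simp only [map_add, map_mul, map_zero, hσ.invol] at hwu'
      have key : σ (u.1 1) * u.1 1 = 0 := by
        linear_combination (-(σ (u.1 1) * u.1 1)) * hw' + σ (w.1 2) * w.1 2 * hs +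
          (w.1 1 * σ (u.1 1)) * hwu - (σ (w.1 2) * u.1 2) * hwu'
      have h1 : u.1 1 = 0 := by
        rcases mul_eq_zero.1 key with h | h
        · exact (map_eq_zero σ).1 h
        · exact h
      have h3 : u.1 2 = 0 := by
        rw [h1, mul_zero, zero_add] at hs
        rcases mul_eq_zero.1 hs with h | h
        · exact (map_eq_zero σ).1 h
        · exact h
      exact hu0 (Or.inr ⟨h1, h3⟩)
    · have hw' := w.2
      rw [hermB_three, hw1, hw2] at hw' hwu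
      simp only [map_zero, zero_mul, mul_zero, add_zero] at hw' hwu
      exact hu0 (Or.inl ((mul_eq_zero.1 hwu).resolve_left (left_ne_zero_of_mul_eq_one hw')))

include hq

theorem card_units : Nat.card {v : Fin 3 → F // hermB 3 σ v v = 1} = q ^ 2 * (q ^ 3 + 1) := by
  rw [card_herm_one hσ hq, if_neg (by decide)]

theorem card_inv : Nat.card {x : ↥(Cfsg.SU 3 F q) // x ≠ 1 ∧ x * x = 1} = q ^ 2 * (q ^ 2 - q + 1) := by
  have h := card_inv_mul hσ hσq h2 hq fun _ => True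
  rw [Nat.card_congr (Equiv.subtypeUnivEquiv fun _ => trivial), card_units hσ hσq hq h2] at h
  simp only [and_true] at h
  refine Nat.eq_of_mul_eq_mul_right (Nat.succ_pos q) (h.trans ?_)
  have hq2 : q ≤ q ^ 2 := Nat.le_self_pow two_ne_zero q
  obtain ⟨d, hd⟩ := Nat.le.dest hq2
  rw [show q ^ 2 - q = d by omega, mul_assoc]
  congr 1
  zify at hd ⊢
  linear_combination (-((q : ℤ) + 1)) * hd

theorem card_adj : Nat.card {x : ↥(Cfsg.SU 3 F q) // x ≠ 1 ∧ x * x = 1 ∧ x ≠ t0 hσ hσq ∧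
    Commute (t0 hσ hσq) x} = q * (q - 1) := by
  have h := card_inv_mul hσ hσq h2 hq fun x => x ≠ t0 hσ hσq ∧ Commute (t0 hσ hσq) x
  have e : Nat.card {v : {v : Fin 3 → F // hermB 3 σ v v = 1} // v.1 0 = 0} =
      Nat.card {w : Fin 2 → F // hermB 2 σ w w = 1} :=
    Nat.card_congr
      { toFun := fun v => ⟨![v.1.1 1, v.1.1 2], by
          have := v.1.2
          rw [hermB_three, v.2] at this
          simpa [hermB_apply, Fin.sum_univ_two] using this⟩
        invFun := fun w => ⟨⟨![0, w.1 0, w.1 1], by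
          have := w.2
          rw [hermB_apply, Fin.sum_univ_two] at this
          simpa [hermB_three] using this⟩, rfl⟩
        left_inv := fun v => by
          refine Subtype.ext (Subtype.ext (funext fun i => ?_))
          fin_cases i <;> simp [v.2]
        right_inv := fun w => by
          refine Subtype.ext (funext fun i => ?_)
          fin_cases i <;> simp }
  simp only [adj_t0_iff hσ hσq h2] at h
  rw [e, card_herm_one hσ hq, if_pos (by decide)] at h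
  refine Nat.eq_of_mul_eq_mul_right (Nat.succ_pos q) (h.trans ?_)
  rw [show q ^ 2 - 1 = (q + 1) * (q - 1) by rw [← Nat.sq_sub_sq, one_pow], Nat.succ_eq_add_one]
  simp only [show (2 - 1 : ℕ) = 1 from rfl]
  ring

theorem card_far : Nat.card {x : ↥(Cfsg.SU 3 F q) // x ≠ 1 ∧ x * x = 1 ∧ ¬ Commute (t0 hσ hσq) x ∧
    ∀ y : ↥(Cfsg.SU 3 F q), y ≠ 1 → y * y = 1 → ¬ (Commute (t0 hσ hσq) y ∧ Commute y x)} =
      (q + 1) * (q ^ 2 - 1) := by
  have h := card_inv_mul hσ hσq h2 hq fun x => ¬ Commute (t0 hσ hσq) x ∧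
    ∀ y : ↥(Cfsg.SU 3 F q), y ≠ 1 → y * y = 1 → ¬ (Commute (t0 hσ hσq) y ∧ Commute y x)
  have hiff : ∀ v : {v : Fin 3 → F // hermB 3 σ v v = 1},
      (¬ Commute (t0 hσ hσq) (refSU hσ hσq v) ∧ ∀ y : ↥(Cfsg.SU 3 F q), y ≠ 1 → y * y = 1 →
        ¬ (Commute (t0 hσ hσq) y ∧ Commute y (refSU hσ hσq v))) ↔
      (σ (v.1 1) * v.1 1 + σ (v.1 2) * v.1 2 = 0 ∧ ¬ (v.1 1 = 0 ∧ v.1 2 = 0)) := by
    intro v
    constructor
    · rintro ⟨hnc, hall⟩
      exact ⟨(no_common_iff hσ hσq h2 v hnc).1 hall,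
        fun h => hnc ((commute_t0_iff hσ hσq h2 v).2 (Or.inr h))⟩
    · rintro ⟨hs, h0⟩
      have hnc : ¬ Commute (t0 hσ hσq) (refSU hσ hσq v) := fun hc => by
        rcases (commute_t0_iff hσ hσq h2 v).1 hc with h | h
        · have := v.2
          rw [hermB_three, h] at this
          simp only [map_zero, zero_mul, zero_add] at this
          exact one_ne_zero (this.symm.trans hs)
        · exact h0 h
      exact ⟨hnc, (no_common_iff hσ hσq h2 v hnc).2 hs⟩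
  have e : Nat.card {v : {v : Fin 3 → F // hermB 3 σ v v = 1} //
      σ (v.1 1) * v.1 1 + σ (v.1 2) * v.1 2 = 0 ∧ ¬ (v.1 1 = 0 ∧ v.1 2 = 0)} =
      Nat.card ({c : F // c * σ c = 1} × {w : {w : Fin 2 → F // hermB 2 σ w w = 0} // ¬ w.1 = 0}) :=
    Nat.card_congr
      { toFun := fun v => (⟨v.1.1 0, by
          have := v.1.2
          rw [hermB_three, add_assoc, v.2.1, add_zero] at this
          rw [mul_comm]; exact this⟩, ⟨⟨![v.1.1 1, v.1.1 2], by
            simpa [hermB_apply, Fin.sum_univ_two] using v.2.1⟩, fun h =>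
              v.2.2 ⟨by simpa using congrFun h 0, by simpa using congrFun h 1⟩⟩)
        invFun := fun p => ⟨⟨![p.1.1, p.2.1.1 0, p.2.1.1 1], by
            have h := p.2.1.2
            rw [hermB_apply, Fin.sum_univ_two] at h
            simp [hermB_three, add_assoc, h]
            rw [mul_comm]; exact p.1.2⟩, by
          have h := p.2.1.2
          rw [hermB_apply, Fin.sum_univ_two] at h
          exact ⟨by simpa using h, fun hh => p.2.2 (funext fun i => by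
            fin_cases i
            · simpa using hh.1
            · simpa using hh.2)⟩⟩
        left_inv := fun v => by
          refine Subtype.ext (Subtype.ext (funext fun i => ?_))
          fin_cases i <;> simp
        right_inv := fun p => by
          refine Prod.ext (Subtype.ext (by simp)) (Subtype.ext (Subtype.ext (funext fun i => ?_)))
          fin_cases i <;> simp }
  simp only [hiff] at h
  have hz : Nat.card {w : {w : Fin 2 → F // hermB 2 σ w w = 0} // ¬ w.1 = 0} = (q ^ 2 - 1) * (q + 1) := by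
    have hs := card_split (α := {w : Fin 2 → F // hermB 2 σ w w = 0}) (fun _ => True) (fun w => w.1 = 0)
    rw [Nat.card_congr (Equiv.subtypeUnivEquiv fun _ => trivial), card_herm_isotropic hσ hq,
      if_pos (by decide)] at hs
    simp only [true_and] at hs
    have h1 : Nat.card {w : {w : Fin 2 → F // hermB 2 σ w w = 0} // w.1 = 0} = 1 := by
      rw [Nat.card_eq_one_iff_unique]
      exact ⟨⟨fun a b => Subtype.ext (Subtype.ext (a.2.trans b.2.symm))⟩, ⟨⟨⟨0, by simp⟩, rfl⟩⟩⟩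
    simp only [show (2 - 1 : ℕ) = 1 from rfl, pow_one] at hs
    omega
  rw [e, Nat.card_prod, card_norm_fibre hσ (map_one σ) one_ne_zero, hq, hz] at h
  refine Nat.eq_of_mul_eq_mul_right (Nat.succ_pos q) (h.trans ?_)
  rw [Nat.succ_eq_add_one]
  ring

theorem card_mid : Nat.card {x : ↥(Cfsg.SU 3 F q) // x ≠ 1 ∧ x * x = 1 ∧ ¬ Commute (t0 hσ hσq) x ∧
    ∃ y : ↥(Cfsg.SU 3 F q), y ≠ 1 ∧ y * y = 1 ∧ Commute (t0 hσ hσq) y ∧ Commute y x} =
      q * (q - 2) * (q ^ 2 - 1) := by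
  set t := t0 hσ hσq
  have hq1 : 1 < q := hq ▸ Finite.one_lt_card
  have h1 := card_split (fun x : ↥(Cfsg.SU 3 F q) => x ≠ 1 ∧ x * x = 1) (fun x => x = t)
  have h3 := card_split (fun x : ↥(Cfsg.SU 3 F q) => (x ≠ 1 ∧ x * x = 1) ∧ x ≠ t) (fun x => Commute t x)
  have h4 := card_split (fun x : ↥(Cfsg.SU 3 F q) => x ≠ 1 ∧ x * x = 1 ∧ ¬ Commute t x)
    (fun x => ∃ y : ↥(Cfsg.SU 3 F q), y ≠ 1 ∧ y * y = 1 ∧ Commute t y ∧ Commute y x)
  have et : Nat.card {x : ↥(Cfsg.SU 3 F q) // (x ≠ 1 ∧ x * x = 1) ∧ x = t} = 1 := by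
    rw [Nat.card_eq_one_iff_unique]
    exact ⟨⟨fun a b => Subtype.ext (a.2.2.trans b.2.2.symm)⟩, ⟨⟨t, refSU_involution hσ hσq h2 _, rfl⟩⟩⟩
  have e1 : Nat.card {x : ↥(Cfsg.SU 3 F q) // ((x ≠ 1 ∧ x * x = 1) ∧ x ≠ t) ∧ Commute t x} = q * (q - 1) := by
    rw [← card_adj hσ hσq hq h2]
    exact Nat.card_congr (Equiv.subtypeEquivRight fun x => by tauto)
  have e2 : Nat.card {x : ↥(Cfsg.SU 3 F q) // ((x ≠ 1 ∧ x * x = 1) ∧ x ≠ t) ∧ ¬ Commute t x} =
      Nat.card {x : ↥(Cfsg.SU 3 F q) // x ≠ 1 ∧ x * x = 1 ∧ ¬ Commute t x} :=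
    Nat.card_congr (Equiv.subtypeEquivRight fun x =>
      ⟨fun h => ⟨h.1.1.1, h.1.1.2, h.2⟩, fun h => ⟨⟨⟨h.1, h.2.1⟩, fun e => h.2.2 (e ▸ Commute.refl _)⟩, h.2.2⟩⟩)
  have e3 : Nat.card {x : ↥(Cfsg.SU 3 F q) // (x ≠ 1 ∧ x * x = 1 ∧ ¬ Commute t x) ∧
      ¬ ∃ y : ↥(Cfsg.SU 3 F q), y ≠ 1 ∧ y * y = 1 ∧ Commute t y ∧ Commute y x} = (q + 1) * (q ^ 2 - 1) := by
    rw [← card_far hσ hσq hq h2]
    exact Nat.card_congr (Equiv.subtypeEquivRight fun x => by simp only [not_exists, not_and, and_assoc]; tauto)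
  have e4 : Nat.card {x : ↥(Cfsg.SU 3 F q) // (x ≠ 1 ∧ x * x = 1 ∧ ¬ Commute t x) ∧
      ∃ y : ↥(Cfsg.SU 3 F q), y ≠ 1 ∧ y * y = 1 ∧ Commute t y ∧ Commute y x} =
      Nat.card {x : ↥(Cfsg.SU 3 F q) // x ≠ 1 ∧ x * x = 1 ∧ ¬ Commute t x ∧
        ∃ y : ↥(Cfsg.SU 3 F q), y ≠ 1 ∧ y * y = 1 ∧ Commute t y ∧ Commute y x} :=
    Nat.card_congr (Equiv.subtypeEquivRight fun x => by simp only [and_assoc])
  rw [et, card_inv hσ hσq hq h2] at h1
  rw [e1, e2] at h3
  rw [e3, e4] at h4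
  simp only [ne_eq] at h1 h3 h4 ⊢
  generalize hD : Nat.card {x : ↥(Cfsg.SU 3 F q) // ¬x = 1 ∧ x * x = 1 ∧ ¬ Commute t x ∧
    ∃ y : ↥(Cfsg.SU 3 F q), ¬y = 1 ∧ y * y = 1 ∧ Commute t y ∧ Commute y x} = D at h4 ⊢
  rw [h4] at h3
  rw [h3] at h1
  obtain ⟨r, rfl⟩ : ∃ r, q = r + 2 := ⟨q - 2, by omega⟩
  have a1 : (r + 2) ^ 2 - (r + 2) = r ^ 2 + 3 * r + 2 := by
    rw [show (r + 2) ^ 2 = r ^ 2 + 3 * r + 2 + (r + 2) by ring, Nat.add_sub_cancel]
  have a2 : (r + 2) ^ 2 - 1 = r ^ 2 + 4 * r + 3 := by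
    rw [show (r + 2) ^ 2 = r ^ 2 + 4 * r + 3 + 1 by ring, Nat.add_sub_cancel]
  rw [a1, a2, show r + 2 - 1 = r + 1 by omega] at h1
  rw [a2, Nat.add_sub_cancel]
  zify at h1 ⊢
  linear_combination -h1

omit hq in
theorem path_exists (x : ↥(Cfsg.SU 3 F q)) (hx : x ≠ 1) (hx2 : x * x = 1) :
    ∃ y z : ↥(Cfsg.SU 3 F q), y ≠ 1 ∧ y * y = 1 ∧ z ≠ 1 ∧ z * z = 1 ∧
      Commute (t0 hσ hσq) y ∧ Commute y z ∧ Commute z x := by
  obtain ⟨u, rfl⟩ := exists_refSU hσ hσq h2 x hx hx2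
  have H := hermB_isHerm hσ 3
  have hu := u.2
  rw [hermB_three] at hu
  suffices hs : ∃ w z : Fin 3 → F, hermB 3 σ w w = 1 ∧ hermB 3 σ z z ≠ 0 ∧ w 0 = 0 ∧
      ((hermB 3 σ w z = 0 ∨ z = w) ∧ hermB 3 σ z u.1 = 0) by
    obtain ⟨w, z₀, hw, hz₀, hw0, hwz, hzu⟩ := hs
    obtain ⟨c, hc⟩ := exists_unit_of_ne_zero H hz₀
    have hcom : Commute (refSU hσ hσq ⟨w, hw⟩) (refSU hσ hσq ⟨_, hc⟩) := by
      rcases hwz with hwz | rfl
      · exact (commute_refSU_iff hσ hσq h2 _ _).2 (Or.inl (by rw [map_smul, hwz, smul_zero]))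
      · refine (commute_refSU_iff hσ hσq h2 _ _).2 (Or.inr (su_ext hσq
          ((refMat_eq_iff hσ h2 hw hc).2 ⟨c⁻¹, ?_, ?_⟩)))
        · have := hc
          rw [smul_self H, hw, mul_one] at this
          rw [map_inv₀, ← mul_inv, this, inv_one]
        · have hc0 : c ≠ 0 := by rintro rfl; simp at hc
          rw [inv_smul_smul₀ hc0]
    refine ⟨refSU hσ hσq ⟨w, hw⟩, refSU hσ hσq ⟨_, hc⟩, (refSU_involution hσ hσq h2 _).1,
      (refSU_involution hσ hσq h2 _).2, (refSU_involution hσ hσq h2 _).1, (refSU_involution hσ hσq h2 _).2,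
      (commute_t0_iff hσ hσq h2 _).2 (Or.inl hw0), hcom,
      (commute_refSU_iff hσ hσq h2 _ _).2 (Or.inl ?_)⟩
    rw [map_smulₛₗ, LinearMap.smul_apply, hzu, smul_zero]
  by_cases h1 : σ (u.1 1) * u.1 1 = 1
  · by_cases h3 : σ (u.1 2) * u.1 2 = 1
    · have hw₀ : hermB 3 σ ![0, σ (u.1 2), -σ (u.1 1)] ![0, σ (u.1 2), -σ (u.1 1)] ≠ 0 := by
        simp [hermB_three, hσ.invol]
        intro h
        exact h2 (by linear_combination h - h1 - h3)
      obtain ⟨c, hc⟩ := exists_unit_of_ne_zero H hw₀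
      refine ⟨_, _, hc, by rw [hc]; exact one_ne_zero, by simp, Or.inr rfl, ?_⟩
      simp [hermB_three, hσ.invol]
      ring
    · refine ⟨![0, 0, 1], ![σ (u.1 1), -σ (u.1 0), 0], by simp [hermB_three], ?_, rfl,
        Or.inl (by simp [hermB_three]), ?_⟩
      · simp [hermB_three, hσ.invol]
        intro h
        exact h3 (by linear_combination hu - h)
      · simp [hermB_three, hσ.invol]
        ring
  · refine ⟨![0, 1, 0], ![σ (u.1 2), 0, -σ (u.1 0)], by simp [hermB_three], ?_, rfl,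
      Or.inl (by simp [hermB_three]), ?_⟩
    · simp [hermB_three, hσ.invol]
      intro h
      exact h1 (by linear_combination hu - h)
    · simp [hermB_three, hσ.invol]
      ring

end Cfsg.Agent.Classical.SUThree
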