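import Mathlib
import Cfsg.Prelude.Def_ClassicalGeometry
import Cfsg.Agent.Classical.SympGroup
import Cfsg.Agent.Classical.IsoStab

/-!
The normaliser of the diagonal torus of Sp_2m.
-/

set_option autoImplicit false

namespace Cfsg.Agent.Classical.SpTorus

open Matrix Module

variable {F : Type*} [Field F] {m : ℕ}

/-- Coordinate vectors. -/
abbrev E (F : Type*) [Field F] {m : ℕ} (s : Fin m ⊕ Fin m) : Fin m ⊕ Fin m → F := Pi.single s 1

/-- Values of the form on coordinate vectors. -/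
def jj (F : Type*) [Field F] {m : ℕ} : Fin m ⊕ Fin m → Fin m ⊕ Fin m → F
  | Sum.inl i, Sum.inr j => if i = j then -1 else 0
  | Sum.inr i, Sum.inl j => if i = j then 1 else 0
  | _, _ => 0

theorem sympB_E (s t : Fin m ⊕ Fin m) : sympB m F (E F s) (E F t) = jj F s t := by
  rw [sympB_eq_sum]
  cases s <;> cases t <;> simp [jj, Pi.single_apply, Finset.sum_ite_eq', eq_comm] <;> split_ifs <;> simp_all

theorem jj_ne_zero {s t : Fin m ⊕ Fin m} : jj F s t ≠ 0 ↔ t = s.swap := by
  cases s <;> cases t <;> simp [jj, eq_comm]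

/-- The group of elements fixing every coordinate axis. -/
def T (m : ℕ) (F : Type*) [Field F] : Subgroup (Matrix.symplecticGroup (Fin m) F) :=
  ⨅ i : Fin m ⊕ Fin m, Cfsg.stabilizing (Cfsg.spToMat m F)
    ((Submodule.span F {(Pi.single i (1 : F) : Fin m ⊕ Fin m → F)} : Submodule F (Fin m ⊕ Fin m → F)) :
      Set (Fin m ⊕ Fin m → F))

theorem mem_T {g : Matrix.symplecticGroup (Fin m) F} : g ∈ T m F ↔ ∀ s, ∃ c : F, g.1 *ᵥ E F s = c • E F s := by
  rw [T, Subgroup.mem_iInf]
  refine forall_congr' fun s => ⟨fun h => ?_, fun ⟨c, hc⟩ => IsoStab.mem_stab_of_maps g _ fun w hw => ?_⟩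
  · obtain ⟨c, hc⟩ := Submodule.mem_span_singleton.1 ((h (E F s)).1 (Submodule.mem_span_singleton_self _))
    exact ⟨c, hc.symm⟩
  · obtain ⟨d, rfl⟩ := Submodule.mem_span_singleton.1 hw
    rw [Matrix.mulVec_smul, hc]
    exact Submodule.smul_mem _ _ (Submodule.smul_mem _ _ (Submodule.mem_span_singleton_self _))

/-- Monomial symplectic matrices with given data. -/
theorem exists_mono (π : Fin m ⊕ Fin m → Fin m ⊕ Fin m) (w : Fin m ⊕ Fin m → F)
    (h : ∀ s t, w s * w t * jj F (π s) (π t) = jj F s t) :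
    ∃ g : Matrix.symplecticGroup (Fin m) F, ∀ s, g.1 *ᵥ E F s = w s • E F (π s) := by
  classical
  let M : Matrix (Fin m ⊕ Fin m) (Fin m ⊕ Fin m) F := Matrix.of fun r s => if r = π s then w s else 0
  have hM : ∀ s, M *ᵥ E F s = w s • E F (π s) := fun s => by
    funext r
    by_cases hr : r = π s <;> simp [M, E, hr]
  refine ⟨⟨M, (mem_symplectic_iff M).2 fun u v => ?_⟩, hM⟩
  have e : (sympB m F).comp (Matrix.toLin' M) (Matrix.toLin' M) = sympB m F :=
    LinearMap.BilinForm.ext_basis (Pi.basisFun F _) fun s t => by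
      rw [LinearMap.BilinForm.comp_apply, Pi.basisFun_apply, Pi.basisFun_apply, Matrix.toLin'_apply,
        Matrix.toLin'_apply, hM, hM, LinearMap.map_smul₂, map_smul, smul_eq_mul, smul_eq_mul, sympB_E, sympB_E,
        ← mul_assoc, h]
  exact LinearMap.congr_fun (LinearMap.congr_fun e u) v

theorem exists_sq_ne_one [Fintype F] (hq : 4 ≤ Fintype.card F) : ∃ a : F, a ≠ 0 ∧ a * a ≠ 1 := by
  classical
  obtain ⟨a, ha⟩ : ∃ a : F, a ∉ ({0, 1, -1} : Finset F) := by
    by_contra hcon
    push_neg at hcon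
    have : Fintype.card F ≤ ({0, 1, -1} : Finset F).card := Finset.card_le_card fun x _ => hcon x
    have := Finset.card_le_three (a := (0 : F)) (b := 1) (c := -1)
    omega
  simp only [Finset.mem_insert, Finset.mem_singleton, not_or] at ha
  exact ⟨a, ha.1, fun h => by
    rcases mul_self_eq_one_iff.1 h with h1 | h1
    exacts [ha.2.1 h1, ha.2.2 h1]⟩

/-- Torus elements separate the coordinates. -/
theorem exists_sep [Fintype F] (hq : 4 ≤ Fintype.card F) {r r' : Fin m ⊕ Fin m} (hne : r ≠ r') :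
    ∃ (g : Matrix.symplecticGroup (Fin m) F) (w : Fin m ⊕ Fin m → F),
      (∀ s, g.1 *ᵥ E F s = w s • E F s) ∧ w r ≠ w r' := by
  classical
  obtain ⟨a, ha0, ha⟩ := exists_sq_ne_one hq
  have ha1 : a ≠ 1 := fun h => ha (by rw [h, mul_one])
  let i₀ : Fin m := Sum.elim id id r
  let w : Fin m ⊕ Fin m → F := Sum.elim (fun i => if i = i₀ then a else 1) (fun i => if i = i₀ then a⁻¹ else 1)
  obtain ⟨g, hg⟩ := exists_mono id w fun s t => by
    cases s <;> cases t <;> simp only [w, jj, Sum.elim_inl, Sum.elim_inr, id, mul_zero] <;> split_ifs <;>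
      simp_all
  refine ⟨g, w, hg, ?_⟩
  have hai : a⁻¹ ≠ 1 := fun h => ha1 (inv_eq_one.1 h)
  have haa : a ≠ a⁻¹ := fun h => ha (by rw [h]; exact mul_inv_cancel₀ ha0 ▸ (by rw [← h]))
  cases r <;> cases r' <;> simp only [w, i₀, Sum.elim_inl, Sum.elim_inr, id, if_pos rfl] <;> split_ifs <;>
    simp_all [Ne.symm]

theorem mul_mulVec' (g h : Matrix.symplecticGroup (Fin m) F) (v : Fin m ⊕ Fin m → F) :
    (g * h).1 *ᵥ v = g.1 *ᵥ (h.1 *ᵥ v) := (mulVec_mulVec _ _ _).symm

theorem mono_of_normalizer [Fintype F] (hq : 4 ≤ Fintype.card F) {g : Matrix.symplecticGroup (Fin m) F}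
    (hg : g ∈ Subgroup.normalizer (T m F : Set (Matrix.symplecticGroup (Fin m) F))) (s : Fin m ⊕ Fin m) :
    ∃ (r : Fin m ⊕ Fin m) (c : F), c ≠ 0 ∧ g.1 *ᵥ E F s = c • E F r := by
  classical
  set v := g.1 *ᵥ E F s with hv
  have hv0 : v ≠ 0 := fun h => by
    have hE : E F s = 0 := IsoStab.symp_inj g (show g.1 *ᵥ E F s = g.1 *ᵥ 0 by rw [← hv, h, mulVec_zero])
    simpa [E] using congrFun hE s
  obtain ⟨r, hr⟩ := Function.ne_iff.1 hv0
  refine ⟨r, v r, hr, funext fun r' => ?_⟩
  rcases eq_or_ne r' r with rfl | hne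
  · simp [E]
  suffices v r' = 0 by simp [E, hne, this]
  by_contra hr'
  obtain ⟨t', w, ht', hw⟩ := exists_sep (F := F) hq hne
  have ht'T : t' ∈ T m F := mem_T.2 fun x => ⟨w x, ht' x⟩
  have ht : g⁻¹ * t' * g ∈ T m F := by
    have := (Subgroup.mem_normalizer_iff.1 (Subgroup.inv_mem _ hg) t').1 ht'T
    simpa using this
  obtain ⟨c, hc⟩ := mem_T.1 ht s
  have e1 : t'.1 *ᵥ v = c • v := by
    have h2 := congrArg (fun x => g.1 *ᵥ x) hc
    simp only [Matrix.mulVec_smul, ← hv] at h2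
    rw [← h2, hv, ← mul_mulVec', ← mul_mulVec', show g * (g⁻¹ * t' * g) = t' * g by group]
  have e2 : ∀ x, (t'.1 *ᵥ v) x = w x * v x := fun x => by
    have hexp : v = ∑ y, v y • E F y := by
      funext y; simp [E, Finset.sum_apply, Pi.single_apply]
    conv_lhs => rw [hexp]
    simp only [Matrix.mulVec_sum, Matrix.mulVec_smul, ht', Finset.sum_apply, Pi.smul_apply, smul_eq_mul]
    rw [Finset.sum_eq_single x]
    · simp [E, mul_comm]
    · intro y _ hy; simp [E, Ne.symm hy]
    · simp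
  have h1 := congrFun e1 r
  have h2 := congrFun e1 r'
  rw [e2, Pi.smul_apply, smul_eq_mul] at h1 h2
  exact hw ((mul_right_cancel₀ hr' h2).trans (mul_right_cancel₀ hr h1).symm)

theorem normalizer_of_mono [Finite F] {g : Matrix.symplecticGroup (Fin m) F} (π : Fin m ⊕ Fin m → Fin m ⊕ Fin m)
    (w : Fin m ⊕ Fin m → F) (hg : ∀ s, g.1 *ᵥ E F s = w s • E F (π s)) (hw : ∀ s, w s ≠ 0)
    (hπ : Function.Surjective π) :
    g ∈ Subgroup.normalizer (T m F : Set (Matrix.symplecticGroup (Fin m) F)) := by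
  classical
  have hle : (T m F).map (MulAut.conj g).toMonoidHom ≤ T m F := by
    rintro x ⟨t, ht, rfl⟩
    refine mem_T.2 fun r => ?_
    obtain ⟨s, rfl⟩ := hπ r
    obtain ⟨c, hc⟩ := mem_T.1 ht s
    refine ⟨c, ?_⟩
    have h1 : (g⁻¹).1 *ᵥ E F (π s) = (w s)⁻¹ • E F s := by
      have h2 : E F (π s) = (w s)⁻¹ • (g.1 *ᵥ E F s) := by rw [hg, inv_smul_smul₀ (hw s)]
      rw [h2, Matrix.mulVec_smul, ← mul_mulVec', inv_mul_cancel, OneMemClass.coe_one, Matrix.one_mulVec]
    show (g * t * g⁻¹).1 *ᵥ E F (π s) = _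
    rw [mul_mulVec', mul_mulVec', h1, Matrix.mulVec_smul, Matrix.mulVec_smul, hc, Matrix.mulVec_smul, hg,
      smul_comm c, inv_smul_smul₀ (hw s)]
  have heq : (T m F).map (MulAut.conj g).toMonoidHom = T m F :=
    Subgroup.eq_of_le_of_card_ge hle (Subgroup.card_map_of_injective (MulAut.conj g).injective).ge
  rw [Subgroup.mem_normalizer_iff]
  intro t
  constructor
  · intro ht; rw [← heq]; exact ⟨t, ht, rfl⟩
  · intro ht
    rw [← heq] at ht
    obtain ⟨t', ht', he⟩ := ht
    rw [← (MulAut.conj g).injective (he : MulAut.conj g t' = MulAut.conj g t)]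
    exact ht'

/-- Image of `inl i` for the data `(σ, ε)`. -/
def img (σ : Equiv.Perm (Fin m)) (ε : Fin m → Bool) (i : Fin m) : Fin m ⊕ Fin m :=
  if ε i then Sum.inr (σ i) else Sum.inl (σ i)

/-- The permutation of coordinates. -/
def perm (σ : Equiv.Perm (Fin m)) (ε : Fin m → Bool) : Fin m ⊕ Fin m → Fin m ⊕ Fin m :=
  Sum.elim (img σ ε) fun i => (img σ ε i).swap

/-- The scalars. -/
def coef (ε : Fin m → Bool) (c : Fin m → Fˣ) : Fin m ⊕ Fin m → F :=
  Sum.elim (fun i => (c i : F)) fun i => if ε i then -(c i : F)⁻¹ else (c i : F)⁻¹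

theorem coef_ne (ε : Fin m → Bool) (c : Fin m → Fˣ) (s : Fin m ⊕ Fin m) : coef ε c s ≠ 0 := by
  cases s <;> simp [coef] <;> split_ifs <;> simp

theorem perm_surj (σ : Equiv.Perm (Fin m)) (ε : Fin m → Bool) : Function.Surjective (perm σ ε) := by
  intro r
  obtain ⟨i, hi⟩ := σ.surjective (Sum.elim id id r)
  by_cases h : img σ ε i = r
  · exact ⟨Sum.inl i, h⟩
  · refine ⟨Sum.inr i, ?_⟩
    cases r <;> cases hε : ε i <;> simp_all [perm, img]

theorem compat (σ : Equiv.Perm (Fin m)) (ε : Fin m → Bool) (c : Fin m → Fˣ) (s t : Fin m ⊕ Fin m) :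
    coef ε c s * coef ε c t * jj F (perm σ ε s) (perm σ ε t) = jj F s t := by
  rcases s with i | i <;> rcases t with j | j <;> by_cases hij : i = j
  all_goals first
    | (subst hij; cases hε : ε i <;> simp [coef, perm, img, jj, hε])
    | (cases hεi : ε i <;> cases hεj : ε j <;> simp [coef, perm, img, jj, hεi, hεj, hij])

theorem smul_E_inj {c d : F} {r r' : Fin m ⊕ Fin m} (hc : c ≠ 0) (h : c • E F r = d • E F r') : r = r' ∧ c = d := by
  have h1 := congrFun h r
  by_cases hr : r = r'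
  · subst hr; exact ⟨rfl, by simpa [E] using h1⟩
  · simp [E, hr, hc] at h1

theorem card_normalizer [Fintype F] {q : ℕ} (hF : Fintype.card F = q) (hq : 4 ≤ q) :
    Nat.card (Subgroup.normalizer (T m F : Set (Matrix.symplecticGroup (Fin m) F))) =
      2 ^ m * Nat.factorial m * (q - 1) ^ m := by
  classical
  have hq' : 4 ≤ Fintype.card F := by rw [hF]; exact hq
  choose G hG using fun p : Equiv.Perm (Fin m) × (Fin m → Bool) × (Fin m → Fˣ) =>
    exists_mono (perm p.1 p.2.1) (coef p.2.1 p.2.2) (compat p.1 p.2.1 p.2.2)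
  let Φ : Equiv.Perm (Fin m) × (Fin m → Bool) × (Fin m → Fˣ) →
      Subgroup.normalizer (T m F : Set (Matrix.symplecticGroup (Fin m) F)) := fun p =>
    ⟨G p, normalizer_of_mono _ _ (hG p) (coef_ne _ _) (perm_surj _ _)⟩
  have hinj : Function.Injective Φ := by
    intro p p' h
    have hi : ∀ i, img p.1 p.2.1 i = img p'.1 p'.2.1 i ∧ (p.2.2 i : F) = (p'.2.2 i : F) := fun i =>
      smul_E_inj (p.2.2 i).ne_zero (by
        have h1 := hG p (Sum.inl i)
        rw [show G p = G p' from congrArg Subtype.val h, hG p' (Sum.inl i)] at h1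
        exact h1.symm)
    have hb : ∀ i, p.2.1 i = p'.2.1 i ∧ p.1 i = p'.1 i := fun i => by
      have := (hi i).1
      simp only [img] at this
      cases h1 : p.2.1 i <;> cases h2 : p'.2.1 i <;> simp_all
    exact Prod.ext (Equiv.ext fun i => (hb i).2)
      (Prod.ext (funext fun i => (hb i).1) (funext fun i => Units.ext (hi i).2))
  have hsurj : Function.Surjective Φ := by
    rintro ⟨g, hg⟩
    choose π w hw hgw using mono_of_normalizer hq' hg
    have hB : ∀ s t, w s * w t * jj F (π s) (π t) = jj F s t := fun s t => by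
      have := IsoStab.form_move g (E F s) (E F t)
      rwa [hgw, hgw, LinearMap.map_smul₂, map_smul, smul_eq_mul, smul_eq_mul, sympB_E, sympB_E, ← mul_assoc] at this
    have hswap : ∀ s, π s.swap = (π s).swap := fun s => by
      have h1 : jj F s s.swap ≠ 0 := jj_ne_zero.2 rfl
      rw [← hB] at h1
      exact jj_ne_zero.1 (right_ne_zero_of_mul h1)
    let f : Fin m → Fin m := fun i => Sum.elim id id (π (Sum.inl i))
    have hf : Function.Injective f := fun i j hij => by
      by_contra hne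
      rcases eq_or_ne (π (Sum.inl j)) (π (Sum.inl i)).swap with h | h
      · have h1 := hB (Sum.inl i) (Sum.inl j)
        rw [h] at h1
        exact mul_ne_zero (mul_ne_zero (hw _) (hw _)) (jj_ne_zero.2 rfl) (h1.trans rfl)
      · have h2 : π (Sum.inl j) = π (Sum.inl i) := by
          have aux : ∀ a b : Fin m ⊕ Fin m, Sum.elim id id a = Sum.elim id id b → b ≠ a.swap → b = a := by
            rintro (a | a) (b | b) h5 h6 <;> simp at h5 h6 ⊢ <;> simp [h5] at h6 ⊢
          exact aux _ _ hij h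
        have h3 := hB (Sum.inl i) (Sum.inr j)
        rw [show (Sum.inr j : Fin m ⊕ Fin m) = (Sum.inl j : Fin m ⊕ Fin m).swap from rfl, hswap, h2] at h3
        have h4 : jj F (Sum.inl i : Fin m ⊕ Fin m) (Sum.inr j) ≠ 0 := by
          rw [show (Sum.inr j : Fin m ⊕ Fin m) = (Sum.inl j : Fin m ⊕ Fin m).swap from rfl, ← h3]
          exact mul_ne_zero (mul_ne_zero (hw _) (hw _)) (jj_ne_zero.2 rfl)
        exact hne (Sum.inr_injective (jj_ne_zero.1 h4 : Sum.inr j = Sum.inr i)).symm
    let σ : Equiv.Perm (Fin m) := Equiv.ofBijective f (Finite.injective_iff_bijective.1 hf)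
    let ε : Fin m → Bool := fun i => (π (Sum.inl i)).isRight
    let c : Fin m → Fˣ := fun i => Units.mk0 _ (hw (Sum.inl i))
    have himg : ∀ i, img σ ε i = π (Sum.inl i) := fun i => by
      cases ha : π (Sum.inl i) <;> simp [img, σ, ε, f, ha]
    have hcoef : ∀ i, w (Sum.inr i) = coef ε c (Sum.inr i) := fun i => by
      have h1 := hB (Sum.inl i) (Sum.inl i : Fin m ⊕ Fin m).swap
      rw [hswap] at h1
      have hne := hw (Sum.inl i)
      obtain ⟨x, hx⟩ : ∃ x, π (Sum.inl i) = x := ⟨_, rfl⟩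
      have hεx : ε i = x.isRight := congrArg Sum.isRight hx
      rw [hx] at h1
      simp only [coef, Sum.elim_inr, hεx, c, Units.val_mk0]
      cases x <;> simp [jj] at h1 ⊢ <;> field_simp
      · linear_combination h1
      · linear_combination h1
    refine ⟨(σ, ε, c), Subtype.ext (Subtype.ext (Matrix.ext_of_mulVec_single fun s => ?_))⟩
    refine (hG (σ, ε, c) s).trans ?_
    rw [hgw]
    cases s with
    | inl i => simp [perm, coef, himg, c]
    | inr i =>
      show coef ε c (Sum.inr i) • E F (img σ ε i).swap = _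
      rw [← hcoef, himg, ← hswap]
      rfl
  rw [← Nat.card_eq_of_bijective Φ ⟨hinj, hsurj⟩]
  rw [Nat.card_prod, Nat.card_prod, Nat.card_perm, Nat.card_fun, Nat.card_fun, Nat.card_units]
  simp only [Nat.card_eq_fintype_card, Fintype.card_bool, Fintype.card_fin, hF]
  ring

end Cfsg.Agent.Classical.SpTorus
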