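import Mathlib

/-!
Tables for the subgroup of order 120 generated by two transvections in SL(2,9).
-/

set_option autoImplicit false

namespace Cfsg.Agent.Classical.TwoTrans

/-- Table. -/
def codes : List ℕ :=
  [730, 811, 757, 892, 3025, 841, 784, 5293, 3352, 5239, 925, 3073, 871, 5620, 3133, 3436, 481, 5812, 5335, 3393,
   5197, 949, 3013, 5461, 6394, 3220, 4201, 477, 6250, 5404, 4309, 5657, 3103, 3482, 5765, 5287, 3338, 5236, 394,
   6309, 4873, 3541, 2446, 3875, 2698, 485, 5927, 4639, 3743, 700, 5490, 6350, 3183, 4166, 5358, 4352, 5610, 3118,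
   3417, 5796, 392, 3994, 5993, 4631, 6421, 2690, 3940, 4032, 1652, 2211, 6272, 6330, 1598, 4395, 6115, 3903, 693,
   387, 4883, 3509, 2436, 3836, 4620, 3782, 698, 5450, 3203, 4155, 5396, 4338, 4001, 1574, 4386, 6134, 6096, 607,
   2202, 6017, 2456, 2193, 5942, 4863, 1514, 3776, 6038, 6461, 2679, 1622, 4377, 3950, 3519, 3833, 1487, 6050, 611,
   1541, 1682, 6435, 1460, 603]

/-- Table. -/
def next1 : List ℕ :=
  [1, 3, 5, 0, 8, 10, 12, 13, 15, 17, 2, 19, 21, 23, 25, 4, 27, 29, 31, 33, 34, 6, 36, 7, 39, 41, 43, 45, 46, 9,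
   48, 50, 52, 11, 54, 56, 58, 59, 60, 62, 63, 14, 65, 67, 69, 16, 71, 73, 75, 76, 18, 70, 79, 81, 20, 83, 85, 86,
   22, 88, 77, 87, 24, 92, 94, 96, 89, 26, 91, 98, 100, 28, 102, 78, 104, 30, 84, 38, 47, 32, 106, 90, 108, 109,
   49, 35, 110, 111, 37, 103, 53, 112, 40, 113, 97, 114, 42, 64, 44, 80, 51, 82, 116, 66, 117, 93, 99, 115, 101,
   55, 57, 61, 68, 105, 119, 118, 72, 74, 107, 95]

/-- Table. -/
def next2 : List ℕ :=
  [2, 4, 6, 7, 9, 11, 0, 14, 16, 1, 18, 20, 22, 24, 3, 26, 28, 30, 32, 27, 5, 35, 37, 38, 40, 42, 44, 39, 8, 47,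
   49, 51, 10, 53, 55, 57, 45, 12, 61, 19, 13, 64, 66, 68, 15, 70, 72, 74, 62, 17, 77, 78, 80, 65, 82, 84, 71, 21,
   87, 89, 90, 23, 91, 93, 95, 33, 25, 50, 97, 99, 36, 101, 103, 92, 29, 52, 59, 67, 31, 105, 75, 107, 94, 100, 34,
   60, 98, 106, 63, 76, 85, 48, 108, 88, 54, 41, 69, 43, 109, 96, 115, 56, 112, 46, 111, 114, 58, 113, 73, 86, 117,
   116, 118, 81, 79, 83, 104, 119, 102, 110]

/-- Table. -/
def parent : List ℕ :=
  [0, 0, 0, 1, 1, 2, 2, 3, 4, 4, 5, 5, 6, 7, 7, 8, 8, 9, 10, 11, 11, 12, 12, 13, 13, 14, 15, 16, 16, 17, 17, 18,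
   18, 19, 20, 21, 22, 22, 23, 24, 24, 25, 25, 26, 26, 27, 28, 29, 30, 30, 31, 31, 32, 33, 34, 34, 35, 35, 36, 37,
   38, 38, 39, 40, 41, 42, 42, 43, 43, 44, 45, 46, 46, 47, 47, 48, 49, 50, 51, 52, 52, 53, 54, 55, 55, 56, 57, 58,
   59, 59, 60, 62, 63, 63, 64, 64, 65, 68, 69, 69, 70, 71, 72, 72, 74, 79, 80, 81, 82, 83, 86, 87, 91, 93, 95, 100,
   102, 104, 112, 114]

/-- Table. -/
def genBit : List ℕ :=
  [0, 0, 1, 0, 1, 0, 1, 1, 0, 1, 0, 1, 0, 0, 1, 0, 1, 0, 1, 0, 1, 0, 1, 0, 1, 0, 1, 0, 1, 0, 1, 0, 1, 0, 0, 1, 0,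
   1, 1, 0, 1, 0, 1, 0, 1, 0, 0, 1, 0, 1, 0, 1, 0, 1, 0, 1, 0, 1, 0, 0, 0, 1, 0, 0, 1, 0, 1, 0, 1, 0, 1, 0, 1, 0,
   1, 0, 0, 1, 1, 0, 1, 0, 1, 0, 1, 0, 0, 1, 0, 1, 1, 1, 0, 1, 0, 1, 0, 1, 0, 1, 0, 1, 0, 1, 0, 1, 0, 1, 0, 0, 0,
   0, 0, 0, 0, 1, 0, 0, 1, 0]

/-- Elements of the field with nine elements as pairs. -/
abbrev K9 : Type := ZMod 3 × ZMod 3

/-- Multiplication with `i² = -1`. -/
def kmul (x y : K9) : K9 := (x.1 * y.1 - x.2 * y.2, x.1 * y.2 + x.2 * y.1)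

/-- Matrices as four entries. -/
abbrev M9 : Type := K9 × K9 × K9 × K9

/-- The product of two matrices. -/
def mmul (A B : M9) : M9 :=
  (kmul A.1 B.1 + kmul A.2.1 B.2.2.1, kmul A.1 B.2.1 + kmul A.2.1 B.2.2.2,
   kmul A.2.2.1 B.1 + kmul A.2.2.2 B.2.2.1, kmul A.2.2.1 B.2.1 + kmul A.2.2.2 B.2.2.2)

/-- Decoding. -/
def dig (n : ℕ) : ZMod 3 := ((n % 3 : ℕ) : ZMod 3)

/-- Decoding of a code. -/
def decode (n : ℕ) : M9 :=
  ((dig n, dig (n / 3)), (dig (n / 9), dig (n / 27)), (dig (n / 81), dig (n / 243)), (dig (n / 729), dig (n / 2187)))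

/-- Encoding. -/
def encode (A : M9) : ℕ :=
  A.1.1.val + 3 * A.1.2.val + 9 * A.2.1.1.val + 27 * A.2.1.2.val + 81 * A.2.2.1.1.val + 243 * A.2.2.1.2.val +
    729 * A.2.2.2.1.val + 2187 * A.2.2.2.2.val

/-- The listed matrices. -/
def el (i : ℕ) : M9 := decode (codes.getD i 0)

/-- The identity. -/
def e₀ : M9 := ((1, 0), (0, 0), (0, 0), (1, 0))

/-- The first generator. -/
def g₁ : M9 := ((1, 0), (0, 0), (1, 0), (1, 0))

/-- The second generator. -/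
def g₂ : M9 := ((1, 0), (0, 1), (0, 0), (1, 0))

theorem el_zero : el 0 = e₀ := by decide +kernel

theorem el_next1 : ∀ i < 120, next1.getD i 0 < 120 ∧ mmul (el i) g₁ = el (next1.getD i 0) := by decide +kernel

theorem el_next2 : ∀ i < 120, next2.getD i 0 < 120 ∧ mmul (el i) g₂ = el (next2.getD i 0) := by decide +kernel

theorem el_parent : ∀ i < 120, i = 0 ∨ parent.getD i 0 < i ∧
    el i = mmul (el (parent.getD i 0)) (if genBit.getD i 0 = 0 then g₁ else g₂) := by decide +kernel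

theorem codes_nodup : codes.Nodup := by decide +kernel

theorem encode_el : ∀ i < 120, encode (el i) = codes.getD i 0 := by decide +kernel

theorem el_injective {i j : ℕ} (hi : i < 120) (hj : j < 120) (h : el i = el j) : i = j := by
  have h1 := congrArg encode h
  rw [encode_el i hi, encode_el j hj] at h1
  have hl : codes.length = 120 := rfl
  rw [List.getD_eq_getElem _ _ (hl ▸ hi), List.getD_eq_getElem _ _ (hl ▸ hj)] at h1
  exact (List.Nodup.getElem_inj_iff codes_nodup).1 h1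

end Cfsg.Agent.Classical.TwoTrans
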