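import Mathlib
import Cfsg.Agent.RootSub.Dickson.Main
import Cfsg.Agent.QdFree.SL2Three
import Cfsg.Agent.Classical.TwoTransTables

/-!
The subgroup of SL(2,F) generated by a lower and an upper transvection, with the exceptional case |F| = 9.
-/

set_option autoImplicit false

namespace Cfsg.Agent.Classical.TwoTrans

open Matrix
open Cfsg.Agent.RootSub.Dickson
open scoped MatrixGroups

theorem zmod_three_cases : ∀ u : ZMod 3, u = 0 ∨ u = 1 ∨ u = -1 := by decide

variable {F : Type*} [Field F]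

/-- The Weyl element. -/
def wSL (F : Type*) [Field F] : SL(2, F) := ⟨!![0, 1; -1, 0], by simp [Matrix.det_fin_two]⟩

theorem coe_wSL : ((wSL F : SL(2, F)) : Matrix (Fin 2) (Fin 2) F) = !![0, 1; -1, 0] := rfl

theorem wSL_upR (t : F) : wSL F * upR t = lowR (-t) * wSL F := by
  apply ext_entries <;> simp [coe_wSL, coe_upR, coe_lowR, Matrix.SpecialLinearGroup.coe_mul, Matrix.mul_apply, Fin.sum_univ_two]

theorem wSL_lowR (t : F) : wSL F * lowR t = upR (-t) * wSL F := by
  apply ext_entries <;> simp [coe_wSL, coe_upR, coe_lowR, Matrix.SpecialLinearGroup.coe_mul, Matrix.mul_apply, Fin.sum_univ_two]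

theorem gen_set (lam : F) :
    {g : Matrix.SpecialLinearGroup (Fin 2) F | (g : Matrix (Fin 2) (Fin 2) F) = !![1, 0; 1, 1] ∨
      (g : Matrix (Fin 2) (Fin 2) F) = !![1, lam; 0, 1]} = {lowR 1, upR lam} := by
  ext g
  exact ⟨fun h => h.imp Subtype.ext Subtype.ext, fun h => h.imp (congrArg Subtype.val) (congrArg Subtype.val)⟩

theorem upR_natCast (r : F) (n : ℕ) : upR ((n : F) * r) = upR r ^ n := by
  induction n with
  | zero => simp [upR_zero]
  | succ n ih => rw [Nat.cast_succ, add_one_mul, upR_add, ih, pow_succ]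

theorem lowR_natCast (r : F) (n : ℕ) : lowR ((n : F) * r) = lowR r ^ n := by
  induction n with
  | zero => simp [lowR_zero]
  | succ n ih => rw [Nat.cast_succ, add_one_mul, lowR_add, ih, pow_succ]

theorem closure_top_of_dickson (p : ℕ) [Fact p.Prime] [Algebra (ZMod p) F] {lam : F}
    (h : dicksonGroup (ZMod p) lam = ⊤) : Subgroup.closure ({lowR 1, upR lam} : Set SL(2, F)) = ⊤ := by
  set C := Subgroup.closure ({lowR 1, upR lam} : Set SL(2, F)) with hC
  have hle : dicksonGroup (ZMod p) lam ≤ C.comap (MulAut.conj (wSL F)).toMonoidHom := by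
    rw [dicksonGroup, Subgroup.closure_le]
    have hnat : ∀ t : ZMod p, algebraMap (ZMod p) F t = (t.val : F) := fun t => by
      conv_lhs => rw [← ZMod.natCast_zmod_val t, map_natCast]
    rintro g (⟨t, rfl⟩ | ⟨t, rfl⟩)
    · show wSL F * upR (algebraMap (ZMod p) F t) * (wSL F)⁻¹ ∈ C
      rw [wSL_upR, mul_inv_cancel_right, hnat, ← lowR_inv, ← mul_one ((t.val : F)), lowR_natCast]
      exact C.inv_mem (C.pow_mem (Subgroup.subset_closure (Set.mem_insert _ _)) _)
    · show wSL F * lowR (algebraMap (ZMod p) F t * lam) * (wSL F)⁻¹ ∈ C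
      rw [wSL_lowR, mul_inv_cancel_right, hnat, ← upR_inv, upR_natCast]
      exact C.inv_mem (C.pow_mem (Subgroup.subset_closure (Set.mem_insert_of_mem _ (Set.mem_singleton _))) _)
  refine eq_top_iff.2 fun g _ => ?_
  have h1 : (MulAut.conj (wSL F)).symm g ∈ C.comap (MulAut.conj (wSL F)).toMonoidHom :=
    hle (by rw [h]; exact Subgroup.mem_top _)
  simpa only [Subgroup.mem_comap, MulEquiv.coe_toMonoidHom, MulEquiv.apply_symm_apply] using h1

variable [Fintype F]

theorem adjoin_eq_top (p : ℕ) [Fact p.Prime] [Algebra (ZMod p) F] {lam : F}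
    (hgen : Subfield.closure ({lam} : Set F) = ⊤) : Algebra.adjoin (ZMod p) ({lam} : Set F) = ⊤ := by
  let A := Algebra.adjoin (ZMod p) ({lam} : Set F)
  let K : Subfield F :=
    { A.toSubring with
      inv_mem' := fun x hx => by
        rcases eq_or_ne x 0 with rfl | hx0
        · rw [_root_.inv_zero]; exact hx
        · have h2 : x⁻¹ = x ^ (Fintype.card F - 2) := by
            refine inv_eq_of_mul_eq_one_right ?_
            rw [← pow_succ', show Fintype.card F - 2 + 1 = Fintype.card F - 1 by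
              have := Fintype.one_lt_card (α := F); omega, FiniteField.pow_card_sub_one_eq_one x hx0]
          rw [h2]; exact pow_mem (show x ∈ A from hx) _ }
  refine eq_top_iff.2 fun x _ => ?_
  have h : Subfield.closure ({lam} : Set F) ≤ K :=
    Subfield.closure_le.2 fun y hy => Algebra.subset_adjoin (R := ZMod p) hy
  exact h (by rw [hgen]; exact Subfield.mem_top x)

theorem top_of_prime_field (p : ℕ) [Fact p.Prime] [Algebra (ZMod p) F] {lam : F} (hlam : lam ≠ 0)
    (hs : Function.Surjective (algebraMap (ZMod p) F)) : dicksonGroup (ZMod p) lam = ⊤ := by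
  refine eq_top_of_trans (fun r => ?_) (fun r => ?_)
  · obtain ⟨t, rfl⟩ := hs r
    exact upR_mem _ _ _
  · obtain ⟨t, ht⟩ := hs (r / lam)
    have := lowR_mem (ZMod p) lam t
    rwa [ht, div_mul_cancel₀ _ hlam] at this

theorem pow_nine_three [CharP F 3] (a b : F) :
    (a + b) ^ 9 = a ^ 9 + b ^ 9 := by
  haveI : Fact (Nat.Prime 3) := ⟨by norm_num⟩
  rw [show (9 : ℕ) = 3 ^ 2 by norm_num, add_pow_char_pow]

theorem all_pow_eq [CharP F 3] (n : ℕ) {lam : F} (hl : lam ^ 3 ^ n = lam)
    (hgen : Subfield.closure ({lam} : Set F) = ⊤) (x : F) : x ^ 3 ^ n = x := by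
  haveI : Fact (Nat.Prime 3) := ⟨by norm_num⟩
  have h : Subfield.closure ({lam} : Set F) ≤ RingHom.eqLocusField (iterateFrobenius F 3 n) (RingHom.id F) :=
    Subfield.closure_le.2 fun y hy => by
      rw [Set.mem_singleton_iff] at hy
      subst hy
      show iterateFrobenius F 3 n y = y
      rw [iterateFrobenius_def, hl]
  have hx : iterateFrobenius F 3 n x = x := h (by rw [hgen]; exact Subfield.mem_top x)
  rwa [iterateFrobenius_def] at hx

theorem card_le_of_pow_eq {m : ℕ} (hm : 1 < m) (h : ∀ x : F, x ^ m = x) : Fintype.card F ≤ m := by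
  obtain ⟨g, hg⟩ := IsCyclic.exists_generator (α := Fˣ)
  have h2 : g ^ (m - 1) = 1 := Units.ext (mul_right_cancel₀ g.ne_zero (by
    rw [Units.val_pow_eq_pow_val, ← pow_succ, Nat.sub_add_cancel hm.le, h, Units.val_one, one_mul]))
  have h3 := orderOf_le_of_pow_eq_one (by omega) h2
  rw [orderOf_eq_card_of_forall_mem_zpowers hg, Nat.card_units, Nat.card_eq_fintype_card] at h3
  omega

theorem card_of_exceptional [CharP F 3] {lam : F} (hgen : Subfield.closure ({lam} : Set F) = ⊤)
    (h : lam ^ 2 = -1) : Fintype.card F = 9 := by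
  haveI : Fact (Nat.Prime 3) := ⟨by norm_num⟩
  have h9 : lam ^ 3 ^ 2 = lam := by norm_num; linear_combination (lam ^ 7 - lam ^ 5 + lam ^ 3 - lam) * h
  have hle := card_le_of_pow_eq (F := F) (m := 9) (by norm_num) (all_pow_eq 2 h9 hgen)
  obtain ⟨n, -, hn⟩ := FiniteField.card F 3
  have hn3 : (n : ℕ) ≠ 1 := fun h1 => by
    rw [h1, pow_one] at hn
    have h3 : lam ^ 3 = lam := by rw [← hn]; exact FiniteField.pow_card lam
    have : (3 : F) = 0 := by exact_mod_cast CharP.cast_eq_zero F 3
    have hl : lam = 0 := by linear_combination h3 - lam * h + lam * this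
    rw [hl] at h
    norm_num at h
  have hn2 : (n : ℕ) ≤ 2 := by
    by_contra hc
    have : 3 ^ 3 ≤ 3 ^ (n : ℕ) := Nat.pow_le_pow_right (by norm_num) (by omega)
    omega
  have := n.pos
  rw [hn, show (n : ℕ) = 2 by omega]
  norm_num

theorem top_of_golden [CharP F 3] [Algebra (ZMod 3) F] {lam μ : F} (hlam : lam ≠ 0) (hμ : μ = lam ∨ μ = -lam)
    (h : μ ^ 2 + μ = 1) (hgen : Algebra.adjoin (ZMod 3) ({lam} : Set F) = ⊤) :
    dicksonGroup (ZMod 3) lam = ⊤ := by
  haveI : Fact (Nat.Prime 3) := ⟨by norm_num⟩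
  have h3 : (3 : F) = 0 := by exact_mod_cast CharP.cast_eq_zero F 3
  have h2 : (2 : F) ≠ 0 := fun h => one_ne_zero (α := F) (by linear_combination h3 - h)
  set P := dicksonGroup (ZMod 3) lam with hP
  have hu : upR (1 : F) ∈ P := by simpa using upR_mem (ZMod 3) lam 1
  have hl : lowR μ ∈ P := by
    rcases hμ with rfl | rfl
    · simpa using lowR_mem (ZMod 3) μ 1
    · simpa using lowR_mem (ZMod 3) lam (-1)
  have hw : lowR μ * upR 1 * lowR μ * upR (-1) * lowR μ * upR 1 * lowR (-μ) * upR (-1) * lowR (-μ) =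
      upR (1 + μ) := by
    apply ext_entries <;> simp [coe_upR, coe_lowR, Matrix.mul_apply, Fin.sum_univ_two]
    all_goals grind
  have hμP : upR (1 + μ) ∈ P := by
    rw [← hw, ← upR_inv, ← lowR_inv]
    exact mul_mem (mul_mem (mul_mem (mul_mem (mul_mem (mul_mem (mul_mem (mul_mem hl hu) hl) (inv_mem hu)) hl) hu)
      (inv_mem hl)) (inv_mem hu)) (inv_mem hl)
  set f := algebraMap (ZMod 3) F
  have hnot : ∀ t : ZMod 3, μ ≠ f t := fun t ht => by
    have ht' := zmod_three_cases t
    rcases ht' with rfl | rfl | rfl <;> simp [f] at ht <;> subst ht <;> norm_num at h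
    all_goals exact one_ne_zero (α := F) (by first | linear_combination h | linear_combination -h | linear_combination h3 - h | linear_combination h3 + h)
  refine dicksonGroup_eq_top_of_five h2 hlam ?_ hgen
  have hmem : ∀ q : ZMod 3 × ZMod 3, f q.1 + f q.2 * (1 + μ) ∈ transGroup P := fun q => by
    refine AddSubgroup.add_mem _ (upR_mem (ZMod 3) lam q.1) ?_
    show upR (f q.2 * (1 + μ)) ∈ P
    rw [show f q.2 = (q.2.val : F) by conv_lhs => rw [← ZMod.natCast_zmod_val q.2, map_natCast], upR_natCast]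
    exact P.pow_mem hμP _
  have hinj : Function.Injective fun q : ZMod 3 × ZMod 3 => (⟨_, hmem q⟩ : transGroup P) := by
    rintro ⟨a, b⟩ ⟨a', b'⟩ he
    have he' : f a + f b * (1 + μ) = f a' + f b' * (1 + μ) := congrArg Subtype.val he
    by_cases hb : b = b'
    · subst hb
      rw [f.injective (add_right_cancel he')]
    · exfalso
      have hbf : f (b - b') ≠ 0 := (map_ne_zero f).2 (sub_ne_zero.2 hb)
      refine hnot ((a' - a) / (b - b') - 1) ?_
      rw [map_sub, map_div₀, map_one, eq_sub_iff_add_eq, eq_div_iff hbf, map_sub, map_sub]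
      linear_combination he'
  calc 5 ≤ Nat.card (ZMod 3 × ZMod 3) := by rw [Nat.card_prod, Nat.card_zmod]; norm_num
    _ ≤ _ := Nat.card_le_card_of_injective _ hinj

theorem top_of_not_exceptional (h2 : (2 : F) ≠ 0) {lam : F} (hlam : lam ≠ 0)
    (hgen : Subfield.closure ({lam} : Set F) = ⊤) (hne : ¬ (Fintype.card F = 9 ∧ lam ^ 2 = -1)) :
    Subgroup.closure ({lowR 1, upR lam} : Set SL(2, F)) = ⊤ := by
  obtain ⟨p, hp⟩ := CharP.exists F
  haveI : Fact p.Prime := ⟨CharP.char_is_prime F p⟩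
  letI := ZMod.algebra F p
  refine closure_top_of_dickson p ?_
  have hgen' := adjoin_eq_top p hgen
  have h2k : (2 : ZMod p) ≠ 0 := fun h => h2 (by
    have := congrArg (algebraMap (ZMod p) F) h
    simpa [map_ofNat] using this)
  by_cases hp3 : p = 3
  · subst hp3
    rcases Cfsg.Agent.QdFree.dicksonGroup_three hlam hgen' with h | h
    · exact h
    have h3 : (3 : F) = 0 := by exact_mod_cast CharP.cast_eq_zero F 3
    have e : (lam ^ 2 - 1) * ((lam ^ 2 + 1) * ((lam ^ 2 + lam - 1) * (lam ^ 2 - lam - 1))) = 0 := by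
      linear_combination h + (lam ^ 2 - lam ^ 6) * h3
    rcases mul_eq_zero.1 e with h1 | h1
    · have hl3 : lam ^ 3 ^ 1 = lam := by norm_num; linear_combination lam * h1
      have hle := card_le_of_pow_eq (F := F) (m := 3) (by norm_num) (all_pow_eq 1 hl3 hgen)
      refine top_of_prime_field 3 hlam ?_
      refine ((Nat.bijective_iff_injective_and_card _).2 ⟨(algebraMap (ZMod 3) F).injective, ?_⟩).2
      refine le_antisymm (Nat.card_le_card_of_injective _ (algebraMap (ZMod 3) F).injective) ?_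
      rw [Nat.card_eq_fintype_card, Nat.card_zmod]; exact hle
    rcases mul_eq_zero.1 h1 with h1 | h1
    · have h4 : lam ^ 2 = -1 := eq_neg_of_add_eq_zero_left h1
      exact absurd ⟨card_of_exceptional hgen h4, h4⟩ hne
    rcases mul_eq_zero.1 h1 with h1 | h1
    · exact top_of_golden hlam (Or.inl rfl) (sub_eq_zero.1 h1) hgen'
    · exact top_of_golden hlam (μ := -lam) (Or.inr rfl) (by linear_combination h1) hgen'
  · exact dicksonGroup_eq_top h2k (by rw [Nat.card_zmod]; exact hp3) hlam hgen'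

section exceptional

variable [CharP F 3] (lam : F)

/-- Evaluation of a pair. -/
def ev (x : K9) : F := ZMod.castHom dvd_rfl F x.1 + ZMod.castHom dvd_rfl F x.2 * lam

/-- Evaluation of a matrix. -/
def evM (A : M9) : Matrix (Fin 2) (Fin 2) F := !![ev lam A.1, ev lam A.2.1; ev lam A.2.2.1, ev lam A.2.2.2]

omit [Fintype F] in
theorem ev_add (x y : K9) : ev lam (x + y) = ev lam x + ev lam y := by
  simp only [ev, Prod.fst_add, Prod.snd_add, map_add]; ring

omit [Fintype F] in
theorem ev_mul (hl : lam ^ 2 = -1) (x y : K9) : ev lam (kmul x y) = ev lam x * ev lam y := by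
  simp only [ev, kmul, map_add, map_sub, map_mul]
  linear_combination -(ZMod.castHom dvd_rfl F x.2 * ZMod.castHom dvd_rfl F y.2) * hl

omit [Fintype F] in
theorem evM_mul (hl : lam ^ 2 = -1) (A B : M9) : evM lam (mmul A B) = evM lam A * evM lam B := by
  simp only [evM, mmul, ev_add, ev_mul lam hl, Matrix.mul_fin_two]

theorem evM_injective (hl : lam ^ 2 = -1) : Function.Injective (evM lam : M9 → Matrix (Fin 2) (Fin 2) F) := by
  haveI : Fact (Nat.Prime 3) := ⟨by norm_num⟩
  have h3 : (3 : F) = 0 := by exact_mod_cast CharP.cast_eq_zero F 3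
  have hnot : ∀ t : ZMod 3, lam ≠ ZMod.castHom dvd_rfl F t := fun t ht => by
    have ht' := zmod_three_cases t
    have h2 : (2 : F) ≠ 0 := fun h => one_ne_zero (α := F) (by linear_combination h3 - h)
    rcases ht' with rfl | rfl | rfl <;> simp only [map_zero, map_one, map_neg] at ht <;> subst ht
    · norm_num at hl
    · exact h2 (by linear_combination hl)
    · exact h2 (by linear_combination hl)
  have hev : Function.Injective (ev lam : K9 → F) := by
    rintro ⟨a, b⟩ ⟨a', b'⟩ he
    simp only [ev] at he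
    set f := ZMod.castHom (dvd_refl 3) F
    by_cases hb : b = b'
    · subst hb; rw [f.injective (add_right_cancel he)]
    · exfalso
      have hbf : f (b - b') ≠ 0 := (map_ne_zero f).2 (sub_ne_zero.2 hb)
      refine hnot ((a' - a) / (b - b')) ?_
      rw [map_div₀, eq_div_iff hbf, map_sub, map_sub]
      linear_combination he
  rintro ⟨a, b, c, d⟩ ⟨a', b', c', d'⟩ h
  have h00 := congrFun (congrFun h 0) 0
  have h01 := congrFun (congrFun h 0) 1
  have h10 := congrFun (congrFun h 1) 0
  have h11 := congrFun (congrFun h 1) 1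
  simp only [evM, Matrix.of_apply, Matrix.cons_val', Matrix.cons_val_zero, Matrix.cons_val_one] at h00 h01 h10 h11
  rw [hev h00, hev h01, hev h10, hev h11]

theorem card_exceptional (hl : lam ^ 2 = -1) :
    Nat.card ↥(Subgroup.closure ({lowR 1, upR lam} : Set SL(2, F))) = 120 := by
  classical
  set C := Subgroup.closure ({lowR 1, upR lam} : Set SL(2, F))
  have e1 : evM lam g₁ = (lowR 1 : SL(2, F)).1 := by simp [evM, g₁, ev, coe_lowR]
  have e2 : evM lam g₂ = (upR lam : SL(2, F)).1 := by simp [evM, g₂, ev, coe_upR]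
  have e0 : evM lam (el 0) = 1 := by rw [el_zero]; simp [evM, e₀, ev, Matrix.one_fin_two]
  have hex : ∀ i < 120, ∃ g ∈ C, g.1 = evM lam (el i) := by
    intro i
    induction i using Nat.strong_induction_on with
    | _ i ih => ?_
    intro hi
    rcases el_parent i hi with rfl | ⟨hlt, he⟩
    · exact ⟨1, C.one_mem, e0.symm⟩
    obtain ⟨g, hg, hgv⟩ := ih _ hlt (by omega)
    rw [he, evM_mul lam hl]
    split_ifs
    · exact ⟨g * lowR 1, C.mul_mem hg (Subgroup.subset_closure (Set.mem_insert _ _)), by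
        rw [Matrix.SpecialLinearGroup.coe_mul, hgv, e1]⟩
    · exact ⟨g * upR lam, C.mul_mem hg (Subgroup.subset_closure (Set.mem_insert_of_mem _ (Set.mem_singleton _))), by
        rw [Matrix.SpecialLinearGroup.coe_mul, hgv, e2]⟩
  let X : Set SL(2, F) := {g | ∃ i < 120, g.1 = evM lam (el i)}
  have hstep : ∀ g ∈ X, g * lowR 1 ∈ X ∧ g * upR lam ∈ X := by
    rintro g ⟨i, hi, hg⟩
    obtain ⟨a1, b1⟩ := el_next1 i hi
    obtain ⟨a2, b2⟩ := el_next2 i hi
    exact ⟨⟨_, a1, by rw [← b1, evM_mul lam hl, e1, Matrix.SpecialLinearGroup.coe_mul, hg]⟩,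
      ⟨_, a2, by rw [← b2, evM_mul lam hl, e2, Matrix.SpecialLinearGroup.coe_mul, hg]⟩⟩
  have hpow : ∀ g ∈ X, ∀ n : ℕ, g * lowR 1 ^ n ∈ X ∧ g * upR lam ^ n ∈ X := by
    intro g hg n
    induction n with
    | zero => simpa using hg
    | succ n ih => rw [pow_succ, pow_succ, ← mul_assoc, ← mul_assoc]; exact ⟨(hstep _ ih.1).1, (hstep _ ih.2).2⟩
  have hsub : ∀ g ∈ C, g ∈ X := by
    have hinv : ∀ a : SL(2, F), a⁻¹ = a ^ (orderOf a - 1) := fun a => by
      refine inv_eq_of_mul_eq_one_right ?_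
      rw [← pow_succ', Nat.sub_add_cancel (orderOf_pos a), pow_orderOf_eq_one]
    intro g hg
    induction hg using Subgroup.closure_induction_right with
    | one => exact ⟨0, by norm_num, e0.symm⟩
    | mul_right x hx y hy ih =>
      rcases hy with rfl | rfl
      exacts [(hstep _ ih).1, (hstep _ ih).2]
    | mul_inv_cancel x hx y hy ih =>
      rcases hy with rfl | rfl
      · rw [hinv]; exact (hpow _ ih _).1
      · rw [hinv]; exact (hpow _ ih _).2
  choose G hGC hG using hex
  let e : Fin 120 ≃ C := Equiv.ofBijective (fun i => ⟨G i.1 i.2, hGC i.1 i.2⟩) ⟨fun i j h => by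
      refine Fin.ext (el_injective i.2 j.2 (evM_injective lam hl ?_))
      rw [← hG i.1 i.2, ← hG j.1 j.2, show G i.1 i.2 = G j.1 j.2 from congrArg Subtype.val h],
    fun g => by
      obtain ⟨i, hi, hg⟩ := hsub g.1 g.2
      exact ⟨⟨i, hi⟩, Subtype.ext (Subtype.ext ((hG i hi).trans hg.symm))⟩⟩
  rw [← Nat.card_congr e, Nat.card_fin]

end exceptional

theorem main (h2 : (2 : F) ≠ 0) (lam : F) (hlam : lam ≠ 0) (hgen : Subfield.closure ({lam} : Set F) = ⊤) :
    (Subgroup.closure ({lowR 1, upR lam} : Set SL(2, F)) = ⊤ ∧ ¬ (Fintype.card F = 9 ∧ lam ^ 2 = -1)) ∨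
      (Fintype.card F = 9 ∧ lam ^ 2 = -1 ∧
        Nat.card ↥(Subgroup.closure ({lowR 1, upR lam} : Set SL(2, F))) = 120) := by
  by_cases h : Fintype.card F = 9 ∧ lam ^ 2 = -1
  · right
    obtain ⟨p, hp⟩ := CharP.exists F
    obtain ⟨n, hpp, hn⟩ := FiniteField.card F p
    have h3 : p = 3 := by
      rw [h.1] at hn
      have : p ∣ 3 ^ 2 := by rw [show 3 ^ 2 = p ^ (n : ℕ) from hn]; exact dvd_pow_self p n.ne_zero
      exact (Nat.prime_dvd_prime_iff_eq hpp (by norm_num)).1 (hpp.dvd_of_dvd_pow this)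
    subst h3
    exact ⟨h.1, h.2, card_exceptional lam h.2⟩
  · exact Or.inl ⟨top_of_not_exceptional h2 hlam hgen h, h⟩

end Cfsg.Agent.Classical.TwoTrans
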