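import Mathlib

/-!
The fixed-space flag of a p-subgroup of SL_n in characteristic p, and the centraliser of a regular unipotent
element of GL_n.
-/

set_option autoImplicit false

namespace Cfsg.Agent.Classical

open Matrix Module

variable {F : Type*} [Field F] {n : ℕ}

/-- The ascending flag of a set of matrices. -/
def fixFlag (S : Set (Matrix (Fin n) (Fin n) F)) : ℕ → Submodule F (Fin n → F)
  | 0 => ⊥
  | i + 1 => ⨅ u ∈ S, (fixFlag S i).comap (Matrix.mulVecLin u - LinearMap.id)

theorem mem_fixFlag_succ {S : Set (Matrix (Fin n) (Fin n) F)} {i : ℕ} {v : Fin n → F} :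
    v ∈ fixFlag S (i + 1) ↔ ∀ u ∈ S, u *ᵥ v - v ∈ fixFlag S i := by
  simp [fixFlag]

theorem fixFlag_le_succ (S : Set (Matrix (Fin n) (Fin n) F)) : ∀ i, fixFlag S i ≤ fixFlag S (i + 1) := by
  intro i
  induction i with
  | zero => exact bot_le
  | succ i ih => exact fun v hv => mem_fixFlag_succ.2 fun u hu => ih (mem_fixFlag_succ.1 hv u hu)

theorem exists_fixFlag [Finite F] (p : ℕ) [Fact p.Prime] [CharP F p]
    (U : Subgroup (Matrix.SpecialLinearGroup (Fin n) F)) (hU : IsPGroup p U) (hne : U ≠ ⊥) :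
    ∃ (k : ℕ) (V : Fin (k + 2) → Submodule F (Fin n → F)), 1 ≤ k ∧ StrictMono V ∧ V 0 = ⊥ ∧
      V (Fin.last (k + 1)) = ⊤ ∧
      (∀ g ∈ Subgroup.normalizer (U : Set (Matrix.SpecialLinearGroup (Fin n) F)), ∀ i,
        (V i).map (Matrix.mulVecLin (g : Matrix (Fin n) (Fin n) F)) = V i) ∧
      (∀ u ∈ U, ∀ i : Fin (k + 1), ∀ v ∈ V i.succ,
        (u : Matrix (Fin n) (Fin n) F).mulVec v - v ∈ V (Fin.castSucc i)) := by
  classical
  let S : Set (Matrix (Fin n) (Fin n) F) := (fun u : Matrix.SpecialLinearGroup (Fin n) F => (u : Matrix (Fin n) (Fin n) F)) '' (U : Set (Matrix.SpecialLinearGroup (Fin n) F))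
  have hmem : ∀ u ∈ U, ∀ i, ∀ v ∈ fixFlag S i, (u : Matrix (Fin n) (Fin n) F) *ᵥ v ∈ fixFlag S i := by
    intro u hu i
    induction i with
    | zero => intro v hv; rw [show v = 0 from (Submodule.mem_bot F).1 hv, Matrix.mulVec_zero]; exact zero_mem _
    | succ i ih =>
      intro v hv
      have h1 := mem_fixFlag_succ.1 hv (u : Matrix (Fin n) (Fin n) F) ⟨u, hu, rfl⟩
      have h2 := (fixFlag S (i + 1)).add_mem (fixFlag_le_succ S i h1) hv
      rwa [sub_add_cancel] at h2
  have step : ∀ i, fixFlag S i ≠ ⊤ → fixFlag S i < fixFlag S (i + 1) := by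
    intro i hi
    let W := fixFlag S i
    let Q := (Fin n → F) ⧸ W
    let T : U → Q →ₗ[F] Q := fun u => W.mapQ W (Matrix.mulVecLin (u.1 : Matrix (Fin n) (Fin n) F))
      fun v hv => hmem u.1 u.2 i v hv
    letI act : MulAction U Q :=
      { smul := fun u x => T u x
        one_smul := fun x => by
          induction x using Submodule.Quotient.induction_on with | H v => ?_
          show T 1 (Submodule.Quotient.mk v) = _
          simp [T]
        mul_smul := fun a b x => by
          induction x using Submodule.Quotient.induction_on with | H v => ?_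
          show T (a * b) (Submodule.Quotient.mk v) = T a (T b (Submodule.Quotient.mk v))
          show (Submodule.Quotient.mk ((((a * b : U) : Matrix.SpecialLinearGroup (Fin n) F) :
              Matrix (Fin n) (Fin n) F) *ᵥ v) : Q) =
            Submodule.Quotient.mk (((a : Matrix.SpecialLinearGroup (Fin n) F) : Matrix (Fin n) (Fin n) F) *ᵥ
              (((b : Matrix.SpecialLinearGroup (Fin n) F) : Matrix (Fin n) (Fin n) F) *ᵥ v))
          rw [Matrix.mulVec_mulVec]
          rfl }
    have hcard : p ∣ Nat.card Q := by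
      have : Fintype F := Fintype.ofFinite F
      have hpos : 0 < finrank F Q := by
        have h1 := Submodule.finrank_quotient_add_finrank W
        have h2 : finrank F W < finrank F (Fin n → F) := Submodule.finrank_lt hi
        change 0 < finrank F ((Fin n → F) ⧸ W)
        omega
      rw [Nat.card_eq_fintype_card (α := Q), Module.card_eq_pow_finrank (K := F)]
      obtain ⟨e, -, he⟩ := FiniteField.card F p
      exact dvd_pow (he ▸ dvd_pow_self p e.ne_zero) hpos.ne'
    have : Finite Q := Finite.of_surjective _ (Submodule.Quotient.mk_surjective W)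
    have h0 : (0 : Q) ∈ MulAction.fixedPoints U Q := fun u => map_zero (T u)
    obtain ⟨x, hx, hx0⟩ := hU.exists_fixed_point_of_prime_dvd_card_of_fixed_point Q hcard h0
    obtain ⟨v, rfl⟩ := Submodule.Quotient.mk_surjective W x
    refine lt_of_le_of_ne (fixFlag_le_succ S i) fun he => hx0 ?_
    rw [eq_comm, Submodule.Quotient.mk_eq_zero]
    show v ∈ fixFlag S i
    rw [he]
    refine mem_fixFlag_succ.2 ?_
    rintro _ ⟨u, hu, rfl⟩
    exact (Submodule.Quotient.eq W).1 (hx ⟨u, hu⟩)
  have hex : ∃ r, fixFlag S r = ⊤ := by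
    by_contra h
    push Not at h
    have hgrow : ∀ r, r ≤ finrank F (fixFlag S r) := by
      intro r
      induction r with
      | zero => exact Nat.zero_le _
      | succ r ih => have := Submodule.finrank_lt_finrank_of_lt (step r (h r)); omega
    have := hgrow (n + 1)
    have := Submodule.finrank_le (fixFlag S (n + 1))
    rw [Module.finrank_fin_fun] at this
    omega
  set r := Nat.find hex with hr
  have hr2 : 2 ≤ r := by
    have hU1 : ∃ u ∈ U, ∃ v : Fin n → F, (u : Matrix (Fin n) (Fin n) F) *ᵥ v ≠ v := by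
      by_contra h
      push Not at h
      refine hne ((Subgroup.eq_bot_iff_forall U).2 fun u hu => Subtype.ext (Matrix.ext_of_mulVec_single fun j => ?_))
      show (u : Matrix (Fin n) (Fin n) F) *ᵥ Pi.single j 1 = (1 : Matrix (Fin n) (Fin n) F) *ᵥ Pi.single j 1
      rw [h u hu, Matrix.one_mulVec]
    obtain ⟨u, hu, v, hv⟩ := hU1
    by_contra hlt
    have hm : v ∈ fixFlag S r := by rw [hr, Nat.find_spec hex]; trivial
    interval_cases r
    · exact hv (by rw [show v = 0 from (Submodule.mem_bot F).1 hm, Matrix.mulVec_zero])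
    · exact hv (sub_eq_zero.1 ((Submodule.mem_bot F).1 (mem_fixFlag_succ.1 hm _ ⟨u, hu, rfl⟩)))
  obtain ⟨k, hk⟩ : ∃ k, r = k + 1 := ⟨r - 1, by omega⟩
  refine ⟨k, fun i => fixFlag S i.val, by omega, ?_, rfl, ?_, ?_, ?_⟩
  · refine Fin.strictMono_iff_lt_succ.2 fun i => ?_
    exact step i.val (Nat.find_min hex (show i.val < Nat.find hex by rw [← hr, hk]; exact i.2))
  · show fixFlag S (k + 1) = ⊤
    rw [← hk, hr]
    exact Nat.find_spec hex
  · intro g hg i
    have key : ∀ g ∈ Subgroup.normalizer (U : Set (Matrix.SpecialLinearGroup (Fin n) F)), ∀ j, ∀ v ∈ fixFlag S j,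
        (g : Matrix (Fin n) (Fin n) F) *ᵥ v ∈ fixFlag S j := by
      intro g hg j
      induction j with
      | zero => intro v hv; rw [show v = 0 from (Submodule.mem_bot F).1 hv, Matrix.mulVec_zero]; exact zero_mem _
      | succ j ih =>
        intro v hv
        refine mem_fixFlag_succ.2 ?_
        rintro _ ⟨u, hu, rfl⟩
        have hu' : g⁻¹ * u * g ∈ U := by
          have := (Subgroup.mem_normalizer_iff.1 (inv_mem hg) u).1 hu
          rwa [inv_inv] at this
        have h := ih _ (mem_fixFlag_succ.1 hv _ ⟨_, hu', rfl⟩)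
        rwa [Matrix.mulVec_sub, Matrix.mulVec_mulVec, ← Matrix.SpecialLinearGroup.coe_mul, ← mul_assoc, ← mul_assoc,
          mul_inv_cancel, one_mul, Matrix.SpecialLinearGroup.coe_mul, ← Matrix.mulVec_mulVec] at h
    refine le_antisymm ?_ fun v hv => ⟨(g⁻¹ : Matrix.SpecialLinearGroup (Fin n) F).1 *ᵥ v,
      key _ (inv_mem hg) _ v hv, ?_⟩
    · rintro _ ⟨v, hv, rfl⟩
      exact key g hg _ v hv
    · rw [Matrix.mulVecLin_apply, Matrix.mulVec_mulVec, ← Matrix.SpecialLinearGroup.coe_mul, mul_inv_cancel,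
        Matrix.SpecialLinearGroup.coe_one, Matrix.one_mulVec]
  · intro u hu i v hv
    exact mem_fixFlag_succ.1 hv _ ⟨u, hu, rfl⟩

theorem pow_succ_mulVec (N : Matrix (Fin n) (Fin n) F) (k : ℕ) (v : Fin n → F) :
    (N ^ (k + 1)) *ᵥ v = N *ᵥ ((N ^ k) *ᵥ v) := by rw [Matrix.mulVec_mulVec, ← pow_succ']

/-- Centraliser of a regular unipotent element. -/
theorem card_centralizer_regular [Fintype F] {q : ℕ} (hF : Fintype.card F = q) (hn : 1 ≤ n) (u : GL (Fin n) F)
    (hnil : ((u : Matrix (Fin n) (Fin n) F) - 1) ^ n = 0)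
    (hreg : ((u : Matrix (Fin n) (Fin n) F) - 1).rank = n - 1) :
    Nat.card (Subgroup.centralizer ({u} : Set (GL (Fin n) F))) = (q - 1) * q ^ (n - 1) := by
  classical
  set N := (u : Matrix (Fin n) (Fin n) F) - 1 with hN
  let R := LinearMap.range N.mulVecLin
  have hR : finrank F R = n - 1 := hreg
  obtain ⟨e, he⟩ : ∃ e, e ∉ R := by
    by_contra h
    push Not at h
    rw [Submodule.eq_top_iff'.2 h, finrank_top, Module.finrank_fin_fun] at hR
    omega
  have hcover : ∀ w, w ∉ R → Submodule.span F (Set.range fun k : Fin n => (N ^ k.val) *ᵥ w) = ⊤ := by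
    intro w hw
    set M := Submodule.span F (Set.range fun k : Fin n => (N ^ k.val) *ᵥ w) with hM
    have hgen : ∀ k, (N ^ k) *ᵥ w ∈ M := fun k => by
      by_cases hk : k < n
      · exact Submodule.subset_span ⟨⟨k, hk⟩, rfl⟩
      · rw [← Nat.add_sub_cancel' (not_lt.1 hk), pow_add, hnil, zero_mul, Matrix.zero_mulVec]; exact zero_mem _
    have hNM : ∀ v ∈ M, N *ᵥ v ∈ M := fun v hv => by
      induction hv using Submodule.span_induction with
      | mem x hx =>
        obtain ⟨k, rfl⟩ := hx
        rw [← pow_succ_mulVec]; exact hgen _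
      | zero => rw [Matrix.mulVec_zero]; exact zero_mem _
      | add x y _ _ hx hy => rw [Matrix.mulVec_add]; exact M.add_mem hx hy
      | smul c x _ hx => rw [Matrix.mulVec_smul]; exact M.smul_mem _ hx
    have hsup : Submodule.span F {w} ⊔ R = ⊤ := by
      have h1 : R < Submodule.span F {w} ⊔ R :=
        lt_of_le_of_ne le_sup_right fun h => hw (h ▸ Submodule.mem_sup_left (Submodule.mem_span_singleton_self w))
      have h2 := Submodule.finrank_lt_finrank_of_lt h1
      refine Submodule.eq_top_of_finrank_eq (le_antisymm (Submodule.finrank_le _) ?_)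
      rw [Module.finrank_fin_fun]
      omega
    have key : ∀ k v, ∃ m ∈ M, ∃ y, v = m + (N ^ k) *ᵥ y := by
      intro k
      induction k with
      | zero => exact fun v => ⟨0, zero_mem _, v, by simp⟩
      | succ k ih =>
        intro v
        obtain ⟨m, hm, y, rfl⟩ := ih v
        obtain ⟨s, hs, t, ht, rfl⟩ := Submodule.mem_sup.1 (hsup.symm ▸ Submodule.mem_top (x := y))
        obtain ⟨c, rfl⟩ := Submodule.mem_span_singleton.1 hs
        obtain ⟨z, rfl⟩ := ht
        refine ⟨m + c • ((N ^ k) *ᵥ w), M.add_mem hm (M.smul_mem _ (hgen k)), z, ?_⟩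
        rw [Matrix.mulVec_add, Matrix.mulVec_smul, Matrix.mulVecLin_apply, pow_succ, ← Matrix.mulVec_mulVec, add_assoc]
    refine Submodule.eq_top_iff'.2 fun v => ?_
    obtain ⟨m, hm, y, rfl⟩ := key n v
    rwa [hnil, Matrix.zero_mulVec, add_zero]
  have hind : ∀ w, w ∉ R → LinearIndependent F fun k : Fin n => (N ^ k.val) *ᵥ w := fun w hw =>
    linearIndependent_of_top_le_span_of_card_eq_finrank (hcover w hw).ge (by simp)
  let b : Basis (Fin n) F (Fin n → F) := Basis.mk (hind e he) (hcover e he).ge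
  have hcomm : ∀ g : GL (Fin n) F, g ∈ Subgroup.centralizer ({u} : Set (GL (Fin n) F)) ↔ g.1 * N = N * g.1 := by
    intro g
    rw [Subgroup.mem_centralizer_singleton_iff, Units.ext_iff, Units.val_mul, Units.val_mul, hN, mul_sub, sub_mul,
      mul_one, one_mul, sub_left_inj]
  have hpow : ∀ {g : Matrix (Fin n) (Fin n) F}, g * N = N * g → ∀ k v, g *ᵥ ((N ^ k) *ᵥ v) = (N ^ k) *ᵥ (g *ᵥ v) := by
    intro g hg k v
    rw [Matrix.mulVec_mulVec, Matrix.mulVec_mulVec, (Commute.pow_right hg k).eq]
  have hout : ∀ g : GL (Fin n) F, g ∈ Subgroup.centralizer ({u} : Set (GL (Fin n) F)) → g.1 *ᵥ e ∉ R := by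
    rintro g hg ⟨y, hy⟩
    refine he ⟨g⁻¹.1 *ᵥ y, ?_⟩
    rw [Matrix.mulVecLin_apply] at hy ⊢
    rw [Matrix.mulVec_mulVec, ← (hcomm _).1 (inv_mem hg), ← Matrix.mulVec_mulVec, hy, Matrix.mulVec_mulVec,
      ← Units.val_mul, inv_mul_cancel, Units.val_one, Matrix.one_mulVec]
  let f : Subgroup.centralizer ({u} : Set (GL (Fin n) F)) → {w : Fin n → F // w ∉ R} := fun g =>
    ⟨g.1.1 *ᵥ e, hout g.1 g.2⟩
  have hf : Function.Bijective f := by
    refine ⟨fun g g' h => ?_, fun w => ?_⟩
    · refine Subtype.ext (Units.ext (Matrix.toLin'.injective (b.ext fun k => ?_)))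
      have h' : g.1.1 *ᵥ e = g'.1.1 *ᵥ e := congrArg Subtype.val h
      simp only [Matrix.toLin'_apply, b, Basis.coe_mk]
      rw [hpow ((hcomm _).1 g.2), hpow ((hcomm _).1 g'.2), h']
    · let b' : Basis (Fin n) F (Fin n → F) := Basis.mk (hind w.1 w.2) (hcover w.1 w.2).ge
      let E : (Fin n → F) ≃ₗ[F] (Fin n → F) := b.equiv b' (Equiv.refl _)
      let G := LinearMap.toMatrix' (E : (Fin n → F) →ₗ[F] (Fin n → F))
      have hG : ∀ v, G *ᵥ v = E v := fun v => LinearMap.toMatrix'_mulVec _ _
      have hGu : IsUnit G.det := by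
        rw [show G.det = LinearMap.det (E : (Fin n → F) →ₗ[F] (Fin n → F)) from LinearMap.det_toMatrix' _]
        exact LinearEquiv.isUnit_det' E
      have hk : ∀ k, E ((N ^ k) *ᵥ e) = (N ^ k) *ᵥ w.1 := fun k => by
        by_cases hk : k < n
        · have h := b.equiv_apply ⟨k, hk⟩ b' (Equiv.refl _)
          simpa [b, b', Basis.coe_mk, E] using h
        · rw [← Nat.add_sub_cancel' (not_lt.1 hk), pow_add, hnil, zero_mul, Matrix.zero_mulVec, Matrix.zero_mulVec,
            map_zero]
      have hGN : G * N = N * G := Matrix.toLin'.injective (b.ext fun k => by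
        simp only [Matrix.toLin'_apply, b, Basis.coe_mk, ← Matrix.mulVec_mulVec, hG]
        rw [← pow_succ_mulVec, hk, hk, pow_succ_mulVec])
      refine ⟨⟨Matrix.GeneralLinearGroup.mk'' G hGu, (hcomm _).2 hGN⟩, Subtype.ext ?_⟩
      show G *ᵥ e = w.1
      have := hk 0
      simp only [pow_zero, Matrix.one_mulVec] at this
      rw [hG, this]
  rw [Nat.card_congr (Equiv.ofBijective f hf), Nat.card_eq_fintype_card,
    Fintype.card_subtype_compl, Fintype.card_fun, Fintype.card_fin, hF, ← Nat.card_eq_fintype_card,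
    show Nat.card {x // x ∈ R} = q ^ (n - 1) by rw [Nat.card_eq_fintype_card, Module.card_eq_pow_finrank (K := F), hF, hR]]
  rw [Nat.sub_mul, one_mul, ← pow_succ', Nat.sub_add_cancel hn]

end Cfsg.Agent.Classical
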