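import Mathlib

/-!
The norm-one elements of a congruence group `1 + J` under a semilinear anti-involution: `J` is a subspace closed
under multiplication, consisting of nilpotent elements and stable under the anti-involution.
-/

set_option autoImplicit false

namespace Cfsg.Agent.Classical.UnitKernel

variable {F : Type*} [Field F] {R : Type*} [Ring R] [Algebra F R] {σ : F →+* F}

/-- A semilinear anti-involution. -/
structure IsAnti (σ : F →+* F) (τ : R → R) : Prop where
  add : ∀ a b, τ (a + b) = τ a + τ b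
  smul : ∀ (c : F) a, τ (c • a) = σ c • τ a
  mul : ∀ a b, τ (a * b) = τ b * τ a
  invol : ∀ a, τ (τ a) = a

variable {τ : R → R} (hτ : IsAnti σ τ)

include hτ in
theorem map_one : τ 1 = 1 := by
  have h := hτ.mul 1 (τ 1)
  rw [one_mul, hτ.invol, one_mul] at h
  exact h.symm

include hτ in
theorem map_zero : τ 0 = 0 := by
  have h := hτ.add 0 0
  rw [add_zero] at h
  exact add_eq_left.1 h.symm

include hτ in
theorem map_sub (a b : R) : τ (a - b) = τ a - τ b := by
  have h := hτ.add (a - b) b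
  rw [sub_add_cancel] at h
  exact eq_sub_of_add_eq h.symm

include hτ in
theorem map_inv (u : Rˣ) : τ (u⁻¹ : Rˣ).1 * τ u.1 = 1 := by
  rw [← hτ.mul, Units.mul_inv, map_one hτ]

variable (J : Submodule F R) (hmul : ∀ a ∈ J, ∀ b ∈ J, a * b ∈ J)
  (hnil : ∀ a ∈ J, IsNilpotent a) (hJτ : ∀ a ∈ J, τ a ∈ J)

/-- The congruence group `1 + J`. -/
def congUnits (hmul : ∀ a ∈ J, ∀ b ∈ J, a * b ∈ J) [Finite R] : Subgroup Rˣ where
  carrier := {u | (u : R) - 1 ∈ J}
  one_mem' := by simp
  mul_mem' := by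
    intro a b ha hb
    simp only [Set.mem_setOf_eq, Units.val_mul] at ha hb ⊢
    have e : (a : R) * b - 1 = ((a : R) - 1) * ((b : R) - 1) + ((a : R) - 1) + ((b : R) - 1) := by
      noncomm_ring
    rw [e]
    exact J.add_mem (J.add_mem (hmul _ ha _ hb) ha) hb
  inv_mem' := by
    intro a ha
    obtain ⟨k, hk⟩ : ∃ k, orderOf a = k + 1 := ⟨orderOf a - 1, by have := orderOf_pos a; omega⟩
    have e : a⁻¹ = a ^ k := by
      rw [inv_eq_iff_mul_eq_one, ← pow_succ', ← hk, pow_orderOf_eq_one]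
    rw [e]
    clear hk e
    induction k with
    | zero => simp
    | succ k ih =>
      simp only [Set.mem_setOf_eq, pow_succ, Units.val_mul] at ih ha ⊢
      have e : ((a ^ k : Rˣ) : R) * a - 1
          = (((a ^ k : Rˣ) : R) - 1) * ((a : R) - 1) + (((a ^ k : Rˣ) : R) - 1) + ((a : R) - 1) := by
        noncomm_ring
      rw [e]
      exact J.add_mem (J.add_mem (hmul _ ih _ ha) ih) ha

variable [Finite R]

theorem mem_congUnits {u : Rˣ} : u ∈ congUnits J hmul ↔ (u : R) - 1 ∈ J := Iff.rfl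

include hnil in
theorem exists_unit {a : R} (ha : a ∈ J) : ∃ u : Rˣ, u ∈ congUnits J hmul ∧ (u : R) = 1 + a := by
  obtain ⟨u, hu⟩ := (hnil a ha).isUnit_one_add
  exact ⟨u, by rw [mem_congUnits, hu, add_sub_cancel_left]; exact ha, hu⟩

variable (htr : ∃ c : F, c + σ c = 1) (hσ : ∀ x, σ (σ x) = x)

include hτ hnil hJτ htr hσ in
theorem exists_norm {j : R} (hj : j ∈ J) (hs : τ j = j) :
    ∃ y : Rˣ, y ∈ congUnits J hmul ∧ τ y.1 * y.1 = 1 + j := by
  obtain ⟨m, hm⟩ := hnil j hj
  induction m using Nat.strong_induction_on generalizing j with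
  | _ m ih =>
    rcases Nat.lt_or_ge m 2 with h2 | h2
    · have hj0 : j = 0 := by
        rcases Nat.lt_or_ge m 1 with h1 | h1
        · obtain rfl : m = 0 := by omega
          rw [pow_zero] at hm
          rw [← mul_one j, hm, mul_zero]
        · obtain rfl : m = 1 := by omega
          rwa [pow_one] at hm
      refine ⟨1, one_mem _, ?_⟩
      simp [hj0, map_one hτ]
    obtain ⟨l, hl⟩ := htr
    set c := σ l * l with hc
    obtain ⟨y₀, hy₀, hy₀'⟩ := exists_unit J hmul hnil (J.smul_mem l hj)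
    have hcj : c • (j * j) ∈ J := J.smul_mem c (hmul _ hj _ hj)
    obtain ⟨s₀, hs₀, hs₀'⟩ := exists_unit J hmul hnil (J.add_mem hj hcj)
    have hcomm : Commute j s₀.1 := by
      rw [hs₀']
      exact ((Commute.one_right j).add_right ((Commute.refl j).add_right
        (((Commute.refl j).mul_right (Commute.refl j)).smul_right c)))
    have hcomm' : Commute j (s₀⁻¹ : Rˣ).1 := hcomm.units_inv_right
    set j' : R := (-c) • (j * j * (s₀⁻¹ : Rˣ).1) with hj'
    have hinvmem : (s₀⁻¹ : Rˣ).1 - 1 ∈ J := (congUnits J hmul).inv_mem hs₀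
    have hj'mem : j' ∈ J := by
      refine J.smul_mem _ ?_
      have e : j * j * (s₀⁻¹ : Rˣ).1 = j * j * ((s₀⁻¹ : Rˣ).1 - 1) + j * j := by noncomm_ring
      rw [e]
      exact J.add_mem (hmul _ (hmul _ hj _ hj) _ hinvmem) (hmul _ hj _ hj)
    have hfix : σ c = c := by rw [hc, map_mul, hσ, mul_comm]
    have hτs₀ : τ s₀.1 = s₀.1 := by
      rw [hs₀', hτ.add, hτ.add, hτ.smul, hτ.mul, map_one hτ, hs, hfix]
    have hτinv : τ (s₀⁻¹ : Rˣ).1 = (s₀⁻¹ : Rˣ).1 := by
      have h := map_inv hτ s₀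
      rw [hτs₀] at h
      exact (Units.eq_inv_of_mul_eq_one_right h).trans rfl
    have hj's : τ j' = j' := by
      rw [hj', hτ.smul, hτ.mul, hτ.mul, hs, hτinv, map_neg, hfix]
      congr 1
      exact ((hcomm'.mul_left hcomm')).eq.symm
    have hj'pow : j' ^ ((m + 1) / 2) = 0 := by
      have hjj : Commute (j * j) (s₀⁻¹ : Rˣ).1 := hcomm'.mul_left hcomm'
      rw [hj', smul_pow, hjj.mul_pow, ← pow_two, ← pow_mul,
        pow_eq_zero_of_le (by omega) hm, zero_mul, smul_zero]
    obtain ⟨y₁, hy₁, hy₁'⟩ := ih ((m + 1) / 2) (by omega) hj'mem hj's hj'pow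
    refine ⟨y₁ * y₀, (congUnits J hmul).mul_mem hy₁ hy₀, ?_⟩
    have hτy₀ : τ y₀.1 = 1 + σ l • j := by rw [hy₀', hτ.add, hτ.smul, map_one hτ, hs]
    have hjj' : Commute j j' := by
      rw [hj']
      exact (((Commute.refl j).mul_right (Commute.refl j)).mul_right hcomm').smul_right _
    have hc1 : Commute (1 + j') y₀.1 := by
      rw [hy₀']
      exact (Commute.one_left _).add_left ((Commute.one_right _).add_right (hjj'.symm.smul_right l))
    have hys : τ y₀.1 * y₀.1 = s₀.1 := by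
      rw [hτy₀, hy₀', hs₀']
      have e : (1 + σ l • j) * (1 + l • j) = 1 + ((l + σ l) • j + (σ l * l) • (j * j)) := by
        simp only [mul_add, add_mul, one_mul, mul_one, smul_mul_assoc, mul_smul_comm, smul_smul,
          add_smul, smul_add]
        rw [mul_comm l (σ l)]
        abel
      rw [e, hl, one_smul]
    calc τ (y₁ * y₀).1 * (y₁ * y₀).1
        = τ y₀.1 * (τ y₁.1 * y₁.1) * y₀.1 := by rw [Units.val_mul, hτ.mul]; noncomm_ring
      _ = τ y₀.1 * y₀.1 * (1 + j') := by rw [hy₁', mul_assoc, hc1.eq, ← mul_assoc]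
      _ = s₀.1 * (1 + j') := by rw [hys]
      _ = 1 + j := by
        have hsj : Commute s₀.1 (j * j) := (hcomm.symm).mul_right hcomm.symm
        rw [mul_add, mul_one, hj', mul_smul_comm, ← mul_assoc, hsj.eq, mul_assoc, Units.mul_inv,
          mul_one, hs₀', neg_smul]
        abel

variable (hne : ∃ b : F, σ b ≠ b)

include hτ hnil hJτ htr hσ hne in
/-- The norm-one elements of `1 + J` form a set whose square has the size of `J`. -/
theorem card_normOne :
    Nat.card {u : Rˣ // u ∈ congUnits J hmul ∧ τ u.1 * u.1 = 1} ^ 2 = Nat.card J := by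
  classical
  let S := {j : R // j ∈ J ∧ τ j = j}
  let K := {u : Rˣ // u ∈ congUnits J hmul ∧ τ u.1 * u.1 = 1}
  have hsec : ∀ s : S, ∃ y : Rˣ, y ∈ congUnits J hmul ∧ τ y.1 * y.1 = 1 + s.1 :=
    fun s => exists_norm hτ J hmul hnil hJτ htr hσ s.2.1 s.2.2
  choose sec hsec1 hsec2 using hsec
  have hτmem : ∀ x : Rˣ, x ∈ congUnits J hmul → τ x.1 - 1 ∈ J := fun x hx => by
    have := hJτ _ hx
    rwa [map_sub hτ, map_one hτ] at this
  let f : congUnits J hmul → S := fun x => ⟨τ x.1.1 * x.1.1 - 1, by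
    have e : τ x.1.1 * x.1.1 - 1
        = (τ x.1.1 - 1) * (x.1.1 - 1) + (τ x.1.1 - 1) + (x.1.1 - 1) := by noncomm_ring
    rw [e]
    exact J.add_mem (J.add_mem (hmul _ (hτmem _ x.2) _ x.2) (hτmem _ x.2)) x.2, by
    rw [map_sub hτ, hτ.mul, hτ.invol, map_one hτ]⟩
  have hfsec : ∀ (s : S) (k : K), f ⟨k.1 * sec s, (congUnits J hmul).mul_mem k.2.1 (hsec1 s)⟩ = s := by
    intro s k
    refine Subtype.ext ?_
    simp only [f, Units.val_mul, hτ.mul]
    calc τ (sec s).1 * τ k.1.1 * (k.1.1 * (sec s).1) - 1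
        = τ (sec s).1 * (τ k.1.1 * k.1.1) * (sec s).1 - 1 := by noncomm_ring
      _ = s.1 := by rw [k.2.2, mul_one, hsec2, add_sub_cancel_left]
  let e : congUnits J hmul ≃ S × K :=
    { toFun := fun x => (f x, ⟨x.1 * (sec (f x))⁻¹,
        (congUnits J hmul).mul_mem x.2 ((congUnits J hmul).inv_mem (hsec1 _)), by
          have h1 : τ x.1.1 * x.1.1 = τ (sec (f x)).1 * (sec (f x)).1 := by
            rw [hsec2]; simp [f]
          rw [Units.val_mul, hτ.mul]
          calc τ ((sec (f x))⁻¹ : Rˣ).1 * τ x.1.1 * (x.1.1 * ((sec (f x))⁻¹ : Rˣ).1)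
              = τ ((sec (f x))⁻¹ : Rˣ).1 * (τ x.1.1 * x.1.1) * ((sec (f x))⁻¹ : Rˣ).1 := by noncomm_ring
            _ = (τ ((sec (f x))⁻¹ : Rˣ).1 * τ (sec (f x)).1) * ((sec (f x)).1 * ((sec (f x))⁻¹ : Rˣ).1) := by
                rw [h1]; noncomm_ring
            _ = 1 := by rw [map_inv hτ, Units.mul_inv, one_mul]⟩)
      invFun := fun z => ⟨z.2.1 * sec z.1, (congUnits J hmul).mul_mem z.2.2.1 (hsec1 _)⟩
      left_inv := fun x => Subtype.ext (by simp)
      right_inv := fun z => by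
        refine Prod.ext (hfsec z.1 z.2) (Subtype.ext ?_)
        simp only [hfsec z.1 z.2]
        simp }
  have eJ : congUnits J hmul ≃ J :=
    Equiv.ofBijective (fun x => ⟨x.1.1 - 1, x.2⟩) ⟨fun a b h => Subtype.ext (Units.ext (by
      simpa using congrArg Subtype.val h)), fun a => by
        obtain ⟨u, hu, hu'⟩ := exists_unit J hmul hnil a.2
        exact ⟨⟨u, hu⟩, Subtype.ext (by simp [hu'])⟩⟩
  obtain ⟨b, hb⟩ := hne
  have hb' : b - σ b ≠ 0 := sub_ne_zero.2 (Ne.symm hb)
  have hd : σ (b - σ b)⁻¹ = -(b - σ b)⁻¹ := by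
    rw [map_inv₀, RingHom.map_sub, hσ, ← neg_sub b, inv_neg]
  let eS : J ≃ S × S :=
    { toFun := fun a =>
        (⟨a.1 - (b * (b - σ b)⁻¹) • (a.1 - τ a.1),
            J.sub_mem a.2 (J.smul_mem _ (J.sub_mem a.2 (hJτ _ a.2))), by
            rw [map_sub hτ, hτ.smul, map_sub hτ, hτ.invol, map_mul, hd]
            have e : σ b * -(b - σ b)⁻¹ = 1 - b * (b - σ b)⁻¹ := by field_simp; ring
            rw [e]
            simp only [sub_smul, one_smul, smul_sub]
            abel⟩,
          ⟨(b - σ b)⁻¹ • (a.1 - τ a.1), J.smul_mem _ (J.sub_mem a.2 (hJτ _ a.2)), by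
            rw [hτ.smul, map_sub hτ, hτ.invol, hd, neg_smul, ← smul_neg, neg_sub]⟩)
      invFun := fun z => ⟨z.1.1 + b • z.2.1, J.add_mem z.1.2.1 (J.smul_mem _ z.2.2.1)⟩
      left_inv := fun a => Subtype.ext (by simp [smul_smul])
      right_inv := by
        rintro ⟨⟨x, hx, hxs⟩, ⟨y, hy, hys⟩⟩
        have e : x + b • y - τ (x + b • y) = (b - σ b) • y := by
          rw [hτ.add, hτ.smul, hxs, hys, sub_smul]; abel
        refine Prod.ext (Subtype.ext ?_) (Subtype.ext ?_)
        · simp only [e, smul_smul, mul_assoc, inv_mul_cancel₀ hb', mul_one, add_sub_cancel_right]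
        · simp only [e, smul_smul, inv_mul_cancel₀ hb', one_smul] }
  have h1 : Nat.card J = Nat.card S * Nat.card K := by
    rw [← Nat.card_congr eJ, Nat.card_congr e, Nat.card_prod]
  have h2 : Nat.card J = Nat.card S * Nat.card S := by rw [Nat.card_congr eS, Nat.card_prod]
  have hpos : 0 < Nat.card S := by
    haveI : Nonempty S := ⟨⟨0, J.zero_mem, map_zero hτ⟩⟩
    exact Nat.card_pos
  have h3 : Nat.card K = Nat.card S := Nat.eq_of_mul_eq_mul_left hpos (h1.symm.trans h2)
  change Nat.card K ^ 2 = _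
  rw [sq, h3, h2]

end Cfsg.Agent.Classical.UnitKernel
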