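import Cfsg.Agent.S2581
import Cfsg.Agent.Classical.UnitKernel
import Cfsg.Agent.MatModule.InvariantHerm
import Cfsg.Agent.Classical.HermGroup

/-!
Centralisers of unipotent isometries of a Hermitian form, in the coordinates of the Jordan type.
-/

set_option autoImplicit false

namespace Cfsg.Agent.Classical.UnipotentUnit

open Matrix Cfsg.Agent.S2581

variable {F : Type*} [Field F] {σ : F →+* F} {t : ℕ} {d : Fin t → ℕ}

/-- The conjugate transpose. -/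
def adjM {α β : Type*} (σ : F →+* F) (M : Matrix α β F) : Matrix β α F := (M.map σ)ᵀ

theorem adjM_mul {α β γ : Type*} [Fintype β] (M : Matrix α β F) (N : Matrix β γ F) :
    adjM σ (M * N) = adjM σ N * adjM σ M := by
  simp [adjM, Matrix.map_mul, Matrix.transpose_mul]

theorem adjM_add {α β : Type*} (M N : Matrix α β F) : adjM σ (M + N) = adjM σ M + adjM σ N := by
  simp [adjM, Matrix.map_add]

theorem adjM_sub {α β : Type*} (M N : Matrix α β F) : adjM σ (M - N) = adjM σ M - adjM σ N := by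
  ext i j; simp [adjM]

theorem adjM_one {α : Type*} [DecidableEq α] : adjM σ (1 : Matrix α α F) = 1 := by simp [adjM]

theorem adjM_smul {α β : Type*} (c : F) (M : Matrix α β F) : adjM σ (c • M) = σ c • adjM σ M := by
  ext i j; simp [adjM]

theorem adjM_adjM {α β : Type*} (hσ : ∀ x, σ (σ x) = x) (M : Matrix α β F) :
    adjM σ (adjM σ M) = M := by
  ext i j; simp [adjM, hσ]

theorem nilPow_apply (j : ℕ) : ∀ (k : Fin t) (i : Fin (d k)) (y : Ix d),
    (nilPart d F ^ j) ⟨k, i⟩ y = if k = y.1 ∧ (i : ℕ) = (y.2 : ℕ) + j then 1 else 0 := by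
  induction j with
  | zero =>
    rintro k i ⟨l, m⟩
    rw [pow_zero, Matrix.one_apply]
    by_cases hkl : k = l
    · subst hkl; simp [Fin.ext_iff]
    · simp [hkl]
  | succ j ih =>
    intro k i y
    rw [pow_succ', nil_mul_apply]
    split_ifs with h0 h1 h1
    · rw [ih, if_pos ⟨h1.1, by simp only; omega⟩]
    · rw [ih, if_neg (fun h => h1 ⟨h.1, by simp only at h; omega⟩)]
    · omega
    · rfl

variable (d σ) in
/-- A Hermitian form invariant under the unipotent of type `d`. -/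
structure Datum where
  hd : ∀ k, 1 ≤ d k
  invol : ∀ x, σ (σ x) = x
  H : (Matrix (Ix d) (Ix d) F)ˣ
  Ju : (Matrix (Ix d) (Ix d) F)ˣ
  Ju_eq : (Ju : Matrix (Ix d) (Ix d) F) = 1 + nilPart d F
  herm : adjM σ H.1 = H.1
  inv : adjM σ Ju.1 * H.1 * Ju.1 = H.1

variable (D : Datum σ d)

/-- The adjoint with respect to the form. -/
def Datum.tau (C : Matrix (Ix d) (Ix d) F) : Matrix (Ix d) (Ix d) F :=
  (D.H⁻¹ : (Matrix (Ix d) (Ix d) F)ˣ).1 * adjM σ C * D.H.1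

theorem Datum.adjM_H_inv : adjM σ (D.H⁻¹ : (Matrix (Ix d) (Ix d) F)ˣ).1 = (D.H⁻¹ : (Matrix (Ix d) (Ix d) F)ˣ).1 := by
  refine Units.eq_inv_of_mul_eq_one_left ?_
  have h := congrArg (adjM σ) D.H.inv_mul
  rw [adjM_mul, D.herm, adjM_one] at h
  exact h

theorem Datum.isAnti : UnitKernel.IsAnti σ D.tau where
  add a b := by simp [Datum.tau, adjM_add, mul_add, add_mul]
  smul c a := by simp [Datum.tau, adjM_smul]
  mul a b := by simp [Datum.tau, adjM_mul, mul_assoc]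
  invol a := by
    simp only [Datum.tau, adjM_mul, adjM_adjM D.invol, D.adjM_H_inv, D.herm]
    simp [← mul_assoc]

theorem Datum.commute_Ju {C : Matrix (Ix d) (Ix d) F} :
    Commute C (nilPart d F) ↔ Commute C D.Ju.1 := by
  rw [D.Ju_eq]
  refine ⟨fun h => (Commute.one_right C).add_right h, fun h => ?_⟩
  simpa using h.sub_right (Commute.one_right C)

theorem Datum.adjM_Ju : adjM σ D.Ju.1 * D.H.1 = D.H.1 * (D.Ju⁻¹ : (Matrix (Ix d) (Ix d) F)ˣ).1 :=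
  (Units.eq_mul_inv_iff_mul_eq (c := D.Ju)).2 D.inv

theorem Datum.commute_tau {C : Matrix (Ix d) (Ix d) F} (h : Commute C (nilPart d F)) :
    Commute (D.tau C) (nilPart d F) := by
  rw [D.commute_Ju] at h ⊢
  have h1 : Commute (adjM σ C) (adjM σ D.Ju.1) := by
    rw [Commute, SemiconjBy, ← adjM_mul, ← adjM_mul, h.eq]
  have h2 : adjM σ D.Ju.1 = D.H.1 * (D.Ju⁻¹ : (Matrix (Ix d) (Ix d) F)ˣ).1 *
      (D.H⁻¹ : (Matrix (Ix d) (Ix d) F)ˣ).1 := by rw [← D.adjM_Ju]; simp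
  have h3 : Commute (D.tau C) (D.Ju⁻¹ : (Matrix (Ix d) (Ix d) F)ˣ).1 := by
    have e := h1.eq
    rw [h2] at e
    show _ = _
    calc D.tau C * (D.Ju⁻¹ : (Matrix (Ix d) (Ix d) F)ˣ).1
        = (D.H⁻¹ : (Matrix (Ix d) (Ix d) F)ˣ).1 * (adjM σ C *
          (D.H.1 * (D.Ju⁻¹ : (Matrix (Ix d) (Ix d) F)ˣ).1 * (D.H⁻¹ : (Matrix (Ix d) (Ix d) F)ˣ).1)) * D.H.1 := by
            simp [Datum.tau, mul_assoc]
      _ = (D.Ju⁻¹ : (Matrix (Ix d) (Ix d) F)ˣ).1 * D.tau C := by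
            rw [e]; simp [Datum.tau, mul_assoc]
  simpa using h3.units_inv_right (u := D.Ju⁻¹)

/-- The twisted nilpotent. -/
theorem Datum.adjM_nilPow (i : ℕ) :
    adjM σ (nilPart d F ^ i) * D.H.1 =
      D.H.1 * ((-(D.Ju⁻¹ : (Matrix (Ix d) (Ix d) F)ˣ).1) ^ i * nilPart d F ^ i) := by
  have h1 : adjM σ (nilPart d F) * D.H.1 =
      D.H.1 * (-(D.Ju⁻¹ : (Matrix (Ix d) (Ix d) F)ˣ).1 * nilPart d F) := by
    have e : nilPart d F = D.Ju.1 - 1 := by rw [D.Ju_eq, add_sub_cancel_left]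
    rw [e, adjM_sub, adjM_one, sub_mul, one_mul,
      D.adjM_Ju, neg_mul, mul_sub, Units.inv_mul, mul_one, neg_sub, mul_sub, mul_one]
  have hc : Commute (-(D.Ju⁻¹ : (Matrix (Ix d) (Ix d) F)ˣ).1) (nilPart d F) :=
    ((D.commute_Ju.1 (Commute.refl _)).units_inv_right.symm).neg_left
  induction i with
  | zero => simp [adjM_one]
  | succ i ih =>
    rw [pow_succ, adjM_mul, mul_assoc, ih, ← mul_assoc, h1, pow_succ',
      mul_assoc D.H.1, mul_assoc (-_) (nilPart d F), ← mul_assoc (nilPart d F),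
      (hc.symm.pow_right i).eq]
    simp only [mul_assoc, ← pow_succ' (nilPart d F) i, ← pow_succ (nilPart d F) i]

variable [Fintype F] in
theorem mul_nilPow_col (M : Matrix (Ix d) (Ix d) F) (x : Ix d) (l : Fin t) (j : ℕ) (hl : 0 < d l) :
    (M * nilPart d F ^ j) x ⟨l, ⟨0, hl⟩⟩ = if h : j < d l then M x ⟨l, ⟨j, h⟩⟩ else 0 := by
  rw [Matrix.mul_apply]
  split_ifs with h
  · rw [Finset.sum_eq_single ⟨l, ⟨j, h⟩⟩]
    · simp [nilPow_apply]
    · rintro ⟨k, i⟩ _ hne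
      rw [nilPow_apply, if_neg, mul_zero]
      rintro ⟨rfl, hi⟩
      exact hne (Sigma.ext rfl (heq_of_eq (Fin.ext (by simpa using hi))))
    · exact fun h => absurd (Finset.mem_univ _) h
  · refine Finset.sum_eq_zero fun z _ => ?_
    obtain ⟨k, i⟩ := z
    rw [nilPow_apply, if_neg, mul_zero]
    rintro ⟨rfl, hi⟩
    simp only at hi
    omega

variable [Fintype F] in
theorem adjM_nilPow_row (M : Matrix (Ix d) (Ix d) F) (y : Ix d) (k : Fin t) (i : Fin (d k)) :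
    (adjM σ (nilPart d F ^ (i : ℕ)) * M) ⟨k, ⟨0, i.pos⟩⟩ y = M ⟨k, i⟩ y := by
  rw [Matrix.mul_apply, Finset.sum_eq_single (⟨k, i⟩ : Ix d)]
  · simp [adjM, nilPow_apply]
  · rintro ⟨l, j⟩ _ hne
    simp only [adjM, Matrix.transpose_apply, Matrix.map_apply, nilPow_apply]
    rw [if_neg, map_zero, zero_mul]
    rintro ⟨rfl, hi⟩
    exact hne (Sigma.ext rfl (heq_of_eq (Fin.ext (by simpa using hi))))
  · exact fun h => absurd (Finset.mem_univ _) h

variable [Fintype F]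

theorem Datum.H_zero {k l : Fin t} (i : Fin (d k)) (j : Fin (d l)) (h : d l ≤ (i : ℕ) + j) :
    D.H.1 ⟨k, i⟩ ⟨l, j⟩ = 0 := by
  have e1 := mul_nilPow_col D.H.1 (⟨k, i⟩ : Ix d) l j j.pos
  rw [dif_pos j.2] at e1
  have e2 := adjM_nilPow_row (σ := σ) (D.H.1 * nilPart d F ^ (j : ℕ)) ⟨l, ⟨0, j.pos⟩⟩ k i
  have e3 : adjM σ (nilPart d F ^ (i : ℕ)) * (D.H.1 * nilPart d F ^ (j : ℕ)) =
      D.H.1 * (-(D.Ju⁻¹ : (Matrix (Ix d) (Ix d) F)ˣ).1) ^ (i : ℕ) * nilPart d F ^ ((i : ℕ) + j) := by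
    rw [← mul_assoc, D.adjM_nilPow, pow_add]
    simp only [mul_assoc]
  rw [e1, e3, mul_nilPow_col, dif_neg (by omega)] at e2
  exact e2.symm

theorem Datum.H_symm (x y : Ix d) : σ (D.H.1 x y) = D.H.1 y x := by
  have h := congrFun (congrFun D.herm y) x
  simpa [adjM] using h

theorem Datum.H_zero' {k l : Fin t} (i : Fin (d k)) (j : Fin (d l)) (h : d k ≤ (i : ℕ) + j) :
    D.H.1 ⟨k, i⟩ ⟨l, j⟩ = 0 := by
  rw [← D.H_symm, D.H_zero j i (by omega), map_zero]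

/-- The leading block of size `v`. -/
def lblk (hd : ∀ k, 1 ≤ d k) (C : Matrix (Ix d) (Ix d) F) (v : ℕ) :
    Matrix {k : Fin t // d k = v} {k : Fin t // d k = v} F :=
  C.submatrix (fun k => ⟨k.1, ⟨0, hd _⟩⟩) (fun k => ⟨k.1, ⟨0, hd _⟩⟩)

/-- The form on the leading block of size `v`. -/
def Datum.Hv (v : ℕ) : Matrix {k : Fin t // d k = v} {k : Fin t // d k = v} F :=
  Matrix.of fun k l => D.H.1 ⟨k.1, ⟨v - 1, by have := D.hd k.1; have := k.2; omega⟩⟩ ⟨l.1, ⟨0, D.hd _⟩⟩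

theorem comm_zero {C : Matrix (Ix d) (Ix d) F} (hd : ∀ k, 1 ≤ d k) (hC : Commute C (nilPart d F))
    {k l : Fin t} (i : Fin (d k)) (j : Fin (d l))
    (h : ¬ ((j : ℕ) ≤ (i : ℕ) ∧ d k - min (d k) (d l) ≤ (i : ℕ) - j)) : C ⟨k, i⟩ ⟨l, j⟩ = 0 := by
  rw [← ofPar_toPar hd hC.eq]
  simp only [ofPar, Matrix.of_apply]
  rw [dif_neg h]

theorem sum_ix {v : ℕ} (hv : ∀ m, d m = v → ∀ i : ℕ, i < v → i < d m) {i₀ : ℕ} (hi₀ : ∀ m, d m = v → i₀ < d m)
    (f : Ix d → F) (h0 : ∀ m (i : Fin (d m)), ¬ (d m = v ∧ (i : ℕ) = i₀) → f ⟨m, i⟩ = 0) :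
    ∑ x, f x = ∑ m : {m : Fin t // d m = v}, f ⟨m.1, ⟨i₀, hi₀ _ m.2⟩⟩ := by
  symm
  refine Fintype.sum_of_injective (fun m : {m : Fin t // d m = v} => (⟨m.1, ⟨i₀, hi₀ _ m.2⟩⟩ : Ix d))
    (fun a b h => Subtype.ext (congrArg Sigma.fst h)) _ _ ?_ (fun _ => rfl)
  rintro ⟨m, i⟩ hx
  refine h0 m i fun h => hx ⟨⟨m, h.1⟩, ?_⟩
  refine Sigma.ext rfl (heq_of_eq (Fin.ext ?_))
  exact h.2.symm

theorem lblk_mul (hd : ∀ k, 1 ≤ d k) {C E : Matrix (Ix d) (Ix d) F}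
    (hC : Commute C (nilPart d F)) (hE : Commute E (nilPart d F)) (v : ℕ) :
    lblk hd (C * E) v = lblk hd C v * lblk hd E v := by
  ext ⟨k, hk⟩ ⟨l, hl⟩
  simp only [lblk, Matrix.submatrix_apply, Matrix.mul_apply]
  refine sum_ix (v := v) (fun m hm i hi => by omega) (fun m _ => hd m) _ fun m i h => ?_
  by_cases hi : (i : ℕ) = 0
  · have hm : d m ≠ v := fun e => h ⟨e, hi⟩
    rcases Nat.lt_or_gt_of_ne hm with h1 | h1
    · rw [comm_zero hd hC, zero_mul]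
      simp only; omega
    · rw [comm_zero hd hE i, mul_zero]
      simp only; omega
  · rw [comm_zero hd hC, zero_mul]
    simp only; omega

theorem lblk_one (hd : ∀ k, 1 ≤ d k) (v : ℕ) : lblk hd (1 : Matrix (Ix d) (Ix d) F) v = 1 :=
  Matrix.submatrix_one _ fun _ _ h => Subtype.ext (congrArg Sigma.fst h)

theorem Datum.key {C : Matrix (Ix d) (Ix d) F} (hC : Commute C (nilPart d F)) (v : ℕ) :
    D.Hv v * lblk D.hd (D.tau C) v = adjM σ (lblk D.hd C v) * D.Hv v := by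
  have hC' := D.commute_tau hC
  have hHt : D.H.1 * D.tau C = adjM σ C * D.H.1 := by simp [Datum.tau, ← mul_assoc]
  ext ⟨k, hk⟩ ⟨l, hl⟩
  have hk1 := D.hd k
  have h := congrFun (congrFun hHt ⟨k, ⟨v - 1, by omega⟩⟩) ⟨l, ⟨0, D.hd l⟩⟩
  rw [Matrix.mul_apply, Matrix.mul_apply,
    sum_ix (v := v) (fun m hm i hi => by omega) (i₀ := 0) (fun m _ => D.hd m),
    sum_ix (v := v) (fun m hm i hi => by omega) (i₀ := v - 1) (fun m _ => by have := D.hd m; omega)] at h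
  · simp only [Matrix.mul_apply, Datum.Hv, lblk, adjM, Matrix.of_apply, Matrix.submatrix_apply,
      Matrix.transpose_apply, Matrix.map_apply] at h ⊢
    rw [h]
    refine Finset.sum_congr rfl fun m _ => ?_
    congr 2
    rw [toeplitz hC.eq, if_pos (by omega)]
    congr 2
    exact Fin.ext (by simp only; omega)
  · intro m i h
    simp only [adjM, Matrix.transpose_apply, Matrix.map_apply]
    rcases Nat.lt_or_ge (i : ℕ) v with h1 | h1
    · rw [comm_zero D.hd hC, map_zero, zero_mul]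
      simp only
      have := i.2
      omega
    · rw [D.H_zero i, mul_zero]
      simp only; omega
  · intro m i h
    by_cases hi : (i : ℕ) = 0
    · have hm : d m ≠ v := fun e => h ⟨e, hi⟩
      rcases Nat.lt_or_gt_of_ne hm with h1 | h1
      · rw [D.H_zero, zero_mul]
        simp only; omega
      · rw [comm_zero D.hd hC' i, mul_zero]
        simp only; omega
    · rw [D.H_zero', zero_mul]
      simp only; omega

theorem Datum.Hv_symm (v : ℕ) : adjM σ (D.Hv v) = (-1 : F) ^ (v - 1) • D.Hv v := by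
  ext ⟨k, hk⟩ ⟨l, hl⟩
  have hk1 := D.hd k
  simp only [adjM, Matrix.transpose_apply, Matrix.map_apply, Datum.Hv, Matrix.of_apply, D.H_symm,
    Matrix.smul_apply, smul_eq_mul]
  set i : Fin (d k) := ⟨v - 1, by omega⟩ with hi
  set w := v - 1 with hw
  have hJw : ∀ (j : ℕ) (m : Fin t) (y : Ix d),
      (D.Ju.1 ^ j) ⟨m, ⟨0, D.hd m⟩⟩ y = (1 : Matrix (Ix d) (Ix d) F) ⟨m, ⟨0, D.hd m⟩⟩ y := by
    intro j
    induction j with
    | zero => intro m y; rw [pow_zero]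
    | succ j ih =>
      intro m y
      rw [pow_succ', D.Ju_eq, add_mul, one_mul, Matrix.add_apply, nil_mul_apply, dif_neg (by simp),
        add_zero, ← D.Ju_eq, ih]
  have hcN : Commute D.Ju.1 (nilPart d F) := (D.commute_Ju.1 (Commute.refl _)).symm
  have e1 : D.H.1 * nilPart d F ^ w =
      (-1 : F) ^ w • (adjM σ (nilPart d F ^ w) * D.H.1 * D.Ju.1 ^ w) := by
    have hneg : (-(D.Ju⁻¹ : (Matrix (Ix d) (Ix d) F)ˣ).1) ^ w =
        (-1 : F) ^ w • ((D.Ju⁻¹) ^ w : (Matrix (Ix d) (Ix d) F)ˣ).1 := by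
      rw [Units.val_pow_eq_pow_val, ← smul_pow, neg_one_smul]
    rw [D.adjM_nilPow, hneg, smul_mul_assoc, mul_smul_comm, smul_mul_assoc, smul_smul, ← mul_pow,
      neg_mul_neg, one_mul, one_pow, one_smul, mul_assoc D.H.1, mul_assoc (((D.Ju⁻¹) ^ w : (Matrix (Ix d) (Ix d) F)ˣ).1),
      ← (hcN.pow_pow w w).eq, ← mul_assoc (((D.Ju⁻¹) ^ w : (Matrix (Ix d) (Ix d) F)ˣ).1), inv_pow,
      ← Units.val_pow_eq_pow_val D.Ju w, Units.inv_mul, one_mul]
  have e2 := mul_nilPow_col D.H.1 (⟨k, ⟨0, D.hd k⟩⟩ : Ix d) l w (D.hd l)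
  rw [dif_pos (by omega), e1, Matrix.smul_apply, smul_eq_mul, mul_assoc (adjM σ _),
    adjM_nilPow_row _ _ k i, Matrix.mul_apply, Finset.sum_eq_single ⟨l, ⟨0, D.hd l⟩⟩, hJw,
    Matrix.one_apply_eq, mul_one] at e2
  · exact e2.symm
  · rintro ⟨m, j⟩ _ hne
    by_cases hj : (j : ℕ) = 0
    · have hj' : j = ⟨0, D.hd m⟩ := Fin.ext hj
      subst hj'
      rw [hJw, Matrix.one_apply_ne hne, mul_zero]
    · rw [D.H_zero', zero_mul]
      simp only [hi]; omega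
  · exact fun h => absurd (Finset.mem_univ _) h

theorem lblk_ofPar (hd : ∀ k, 1 ≤ d k) (c : Par d → F) (v : ℕ) (k l : {k : Fin t // d k = v}) :
    lblk hd (ofPar c) v k l = c ⟨(k.1, l.1), ⟨0, lt_min (hd _) (hd _)⟩⟩ := by
  simp only [lblk, Matrix.submatrix_apply, ofPar, Matrix.of_apply]
  rw [dif_pos ⟨Nat.le_refl 0, by have := k.2; have := l.2; omega⟩]
  congr 2
  exact Fin.ext (by simp only; omega)

/-- The commuting matrix of given leading blocks. -/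
def liftLead (hd : ∀ k, 1 ≤ d k)
    (A : (v : Fin (Finset.univ.sup d + 1)) → Matrix {k : Fin t // d k = (v : ℕ)} {k : Fin t // d k = (v : ℕ)} F) :
    Matrix (Ix d) (Ix d) F :=
  ofPar fun r => if h : Lead d r then
    A (leadEquiv hd ⟨r, h⟩).1 (leadEquiv hd ⟨r, h⟩).2.1 (leadEquiv hd ⟨r, h⟩).2.2 else 0

theorem lblk_liftLead (hd : ∀ k, 1 ≤ d k)
    (A : (v : Fin (Finset.univ.sup d + 1)) → Matrix {k : Fin t // d k = (v : ℕ)} {k : Fin t // d k = (v : ℕ)} F)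
    (v : Fin (Finset.univ.sup d + 1)) : lblk hd (liftLead hd A) v = A v := by
  ext k l
  rw [liftLead, lblk_ofPar]
  have hr : Lead d ⟨(k.1, l.1), ⟨0, lt_min (hd _) (hd _)⟩⟩ := ⟨k.2.trans l.2.symm, rfl⟩
  rw [dif_pos hr]
  have e : leadEquiv hd ⟨⟨(k.1, l.1), ⟨0, lt_min (hd _) (hd _)⟩⟩, hr⟩ = ⟨v, k, l⟩ :=
    (leadEquiv hd).eq_symm_apply.1 (Subtype.ext rfl)
  rw [e]

theorem Datum.Hv_det (v : ℕ) : (D.Hv v).det ≠ 0 := by
  classical
  intro hdet
  obtain ⟨x, hx0, hx⟩ := Matrix.exists_mulVec_eq_zero_iff.2 hdet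
  obtain ⟨k₁, hk₁⟩ := Function.ne_iff.1 hx0
  have hvS : v < Finset.univ.sup d + 1 := by
    have := k₁.2
    exact Nat.lt_succ_of_le (this ▸ Finset.le_sup (f := d) (Finset.mem_univ _))
  have hcol : ∀ M : Matrix {k : Fin t // d k = v} {k : Fin t // d k = v} F, D.Hv v *ᵥ (M *ᵥ x) = 0 := by
    intro M
    let A : (w : Fin (Finset.univ.sup d + 1)) →
        Matrix {k : Fin t // d k = (w : ℕ)} {k : Fin t // d k = (w : ℕ)} F := fun w =>
      if h : (w : ℕ) = v then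
        M.submatrix (fun k => ⟨k.1, k.2.trans h⟩) (fun k => ⟨k.1, k.2.trans h⟩) else 0
    have hA : lblk D.hd (liftLead D.hd A) v = M := by
      refine (lblk_liftLead D.hd A ⟨v, hvS⟩).trans ?_
      simp only [A, dif_pos]
      rfl
    have hc : Commute (liftLead D.hd A) (nilPart d F) := ofPar_comm _
    have h := D.key (D.commute_tau hc) v
    rw [D.isAnti.invol, hA] at h
    rw [Matrix.mulVec_mulVec, h, ← Matrix.mulVec_mulVec, hx, Matrix.mulVec_zero]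
  have hzero : D.Hv v = 0 := by
    ext k j
    have h := congrFun (hcol (Matrix.single j k₁ (x k₁)⁻¹)) k
    rw [Matrix.mulVec, dotProduct, Finset.sum_eq_single j] at h
    · rw [Matrix.zero_apply]
      simpa [Matrix.mulVec, dotProduct, Matrix.single_apply, Finset.sum_ite_eq, ite_mul,
        inv_mul_cancel₀ (show x k₁ ≠ 0 by simpa using hk₁)] using h
    · intro b _ hb
      simp [Matrix.mulVec, dotProduct, Ne.symm hb]
    · exact fun h => absurd (Finset.mem_univ _) h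
  obtain ⟨k, hk⟩ := k₁
  have hk1 := D.hd k
  set i : Fin (d k) := ⟨v - 1, by omega⟩ with hi
  set c : Matrix (Ix d) (Ix d) F := (-(D.Ju⁻¹ : (Matrix (Ix d) (Ix d) F)ˣ).1) ^ v
  obtain ⟨cu, hcu⟩ : IsUnit c := ((D.Ju⁻¹).isUnit.neg).pow v
  have e : nilPart d F ^ v * (D.H⁻¹ : (Matrix (Ix d) (Ix d) F)ˣ).1 =
      (cu⁻¹ : (Matrix (Ix d) (Ix d) F)ˣ).1 * (D.H⁻¹ : (Matrix (Ix d) (Ix d) F)ˣ).1 * adjM σ (nilPart d F ^ v) := by
    have h := D.adjM_nilPow v
    change _ = D.H.1 * (c * _) at h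
    rw [← hcu] at h
    calc nilPart d F ^ v * (D.H⁻¹ : (Matrix (Ix d) (Ix d) F)ˣ).1
        = (cu⁻¹ : (Matrix (Ix d) (Ix d) F)ˣ).1 * (D.H⁻¹ : (Matrix (Ix d) (Ix d) F)ˣ).1 *
            (D.H.1 * (cu.1 * nilPart d F ^ v)) * (D.H⁻¹ : (Matrix (Ix d) (Ix d) F)ˣ).1 := by
          simp [mul_assoc]
      _ = _ := by rw [← h]; simp [mul_assoc]
  have hone : (D.H.1 * (D.H⁻¹ : (Matrix (Ix d) (Ix d) F)ˣ).1) ⟨k, i⟩ ⟨k, i⟩ = 1 := by
    rw [Units.mul_inv, Matrix.one_apply_eq]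
  rw [Matrix.mul_apply, Finset.sum_eq_zero] at hone
  · exact zero_ne_one hone
  rintro ⟨m, j⟩ -
  by_cases hj : (j : ℕ) = 0
  · have hj' : j = ⟨0, D.hd m⟩ := Fin.ext hj
    subst hj'
    rcases Nat.lt_trichotomy (d m) v with h1 | h1 | h1
    · rw [D.H_zero, zero_mul]
      simp only [hi]; omega
    · have := congrFun (congrFun hzero ⟨k, hk⟩) ⟨m, h1⟩
      simp only [Datum.Hv, Matrix.of_apply, Matrix.zero_apply] at this
      rw [this, zero_mul]
    · have h2 := congrFun (congrFun e ⟨m, ⟨v, h1⟩⟩) ⟨k, i⟩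
      have h3 : (nilPart d F ^ v * (D.H⁻¹ : (Matrix (Ix d) (Ix d) F)ˣ).1) ⟨m, ⟨v, h1⟩⟩ ⟨k, i⟩ =
          (D.H⁻¹ : (Matrix (Ix d) (Ix d) F)ˣ).1 ⟨m, ⟨0, D.hd m⟩⟩ ⟨k, i⟩ := by
        rw [Matrix.mul_apply, Finset.sum_eq_single (⟨m, ⟨0, D.hd m⟩⟩ : Ix d)]
        · simp [nilPow_apply]
        · rintro ⟨m', j'⟩ _ hne
          rw [nilPow_apply, if_neg, zero_mul]
          rintro ⟨h, hj'⟩
          simp only at h hj'
          subst h
          exact hne (Sigma.ext rfl (heq_of_eq (Fin.ext (by simp only; omega))))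
        · exact fun h => absurd (Finset.mem_univ _) h
      rw [h3, Matrix.mul_apply, Finset.sum_eq_zero] at h2
      · rw [h2, mul_zero]
      rintro ⟨m', j'⟩ -
      simp only [adjM, Matrix.transpose_apply, Matrix.map_apply, nilPow_apply]
      rw [if_neg, map_zero, mul_zero]
      rintro ⟨-, h⟩
      simp only [hi] at h
      omega
  · rw [D.H_zero', zero_mul]
    simp only [hi]; omega

end Cfsg.Agent.Classical.UnipotentUnit
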