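import Mathlib
import Cfsg.Agent.Classical.HermGroup

/-!
Normal frames for self-adjoint square-zero maps of a Hermitian space, and conjugacy of unitary involutions in
characteristic two.
-/

set_option autoImplicit false

namespace Cfsg.Agent.Classical.UInv

open Module Herm

variable {F : Type*} [Field F] {σ : F →+* F} {V : Type*} [AddCommGroup V] [Module F V]

/-- A partial normal frame for `N`. -/
structure HFr (B : V →ₛₗ[σ] V →ₗ[F] F) (N : V →ₗ[F] V) (k s : ℕ) where
  u : Fin k → V
  w : Fin k → V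
  z : Fin s → V
  uu : ∀ i j, B (u i) (u j) = 0
  ww : ∀ i j, B (w i) (w j) = 0
  uw : ∀ i j, B (u i) (w j) = if i = j then 1 else 0
  wu : ∀ i j, B (w i) (u j) = if i = j then 1 else 0
  uz : ∀ i j, B (u i) (z j) = 0
  zu : ∀ i j, B (z i) (u j) = 0
  wz : ∀ i j, B (w i) (z j) = 0
  zw : ∀ i j, B (z i) (w j) = 0
  zz : ∀ i j, B (z i) (z j) = if i = j then 1 else 0
  Nu : ∀ i, N (u i) = w i
  Nw : ∀ i, N (w i) = 0

variable {B : V →ₛₗ[σ] V →ₗ[F] F} {N : V →ₗ[F] V} {k s : ℕ}

/-- The coordinates in a frame. -/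
def HFr.coord (f : HFr B N k s) : V →ₗ[F] (Fin k → F) × (Fin k → F) × (Fin s → F) :=
  (LinearMap.pi fun i => B (f.w i)).prod ((LinearMap.pi fun i => B (f.u i)).prod (LinearMap.pi fun i => B (f.z i)))

/-- The combination of frame vectors. -/
def HFr.comb (f : HFr B N k s) : (Fin k → F) × (Fin k → F) × (Fin s → F) →ₗ[F] V :=
  ((Fintype.linearCombination F f.u).comp (LinearMap.fst _ _ _)) +
    (((Fintype.linearCombination F f.w).comp ((LinearMap.fst _ _ _).comp (LinearMap.snd _ _ _))) +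
      ((Fintype.linearCombination F f.z).comp ((LinearMap.snd _ _ _).comp (LinearMap.snd _ _ _))))

theorem HFr.comb_apply (f : HFr B N k s) (c : (Fin k → F) × (Fin k → F) × (Fin s → F)) :
    f.comb c = (∑ i, c.1 i • f.u i) + ((∑ i, c.2.1 i • f.w i) + ∑ i, c.2.2 i • f.z i) := by
  simp [HFr.comb, Fintype.linearCombination_apply]

theorem HFr.coord_comb (f : HFr B N k s) (c : (Fin k → F) × (Fin k → F) × (Fin s → F)) :
    f.coord (f.comb c) = c := by
  refine Prod.ext ?_ (Prod.ext ?_ ?_) <;> funext j <;>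
    simp [HFr.coord, f.comb_apply, map_sum, f.uu, f.ww, f.uw, f.wu, f.uz, f.zu, f.wz, f.zw, f.zz]

/-- The residual part of a vector. -/
def HFr.res (f : HFr B N k s) (v : V) : V := v - f.comb (f.coord v)

theorem HFr.coord_res (f : HFr B N k s) (v : V) : f.coord (f.res v) = 0 := by
  rw [HFr.res, map_sub, f.coord_comb, sub_self]

theorem HFr.coord_eq_zero (f : HFr B N k s) (x : V) :
    f.coord x = 0 ↔ (∀ i, B (f.w i) x = 0) ∧ (∀ i, B (f.u i) x = 0) ∧ ∀ i, B (f.z i) x = 0 := by
  simp [HFr.coord, funext_iff, Prod.ext_iff]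

section Herm

variable (h : IsHerm B) (hN : ∀ x y, B (N x) y = B x (N y)) (hN2 : ∀ x, N (N x) = 0)
include h

theorem HFr.perp_comb (f : HFr B N k s) {x : V} (hx : f.coord x = 0)
    (c : (Fin k → F) × (Fin k → F) × (Fin s → F)) : B x (f.comb c) = 0 := by
  obtain ⟨h1, h3, h4⟩ := (f.coord_eq_zero x).1 hx
  have e1 : ∀ i, B x (f.w i) = 0 := fun i => (eq_zero_comm h).1 (h1 i)
  have e2 : ∀ i, B x (f.u i) = 0 := fun i => (eq_zero_comm h).1 (h3 i)
  have e3 : ∀ i, B x (f.z i) = 0 := fun i => (eq_zero_comm h).1 (h4 i)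
  simp [f.comb_apply, map_sum, e1, e2, e3]

theorem HFr.eq_zero_of_perp (f : HFr B N k s) {x : V} (hx : f.coord x = 0)
    (hy : ∀ y, f.coord y = 0 → B x y = 0) : x = 0 := by
  refine h.nondeg x fun y => ?_
  rw [show y = f.res y + f.comb (f.coord y) from (sub_add_cancel _ _).symm, map_add,
    hy _ (f.coord_res y), f.perp_comb h hx, add_zero]

include hN hN2 in
theorem exists_step [Finite F] (f : HFr B N k 0) {x : V} (hx : f.coord x = 0) (hNx : N x ≠ 0) :
    Nonempty (HFr B N (k + 1) 0) := by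
  have hQN : ∀ a, f.coord a = 0 → f.coord (N a) = 0 := by
    intro a ha
    obtain ⟨h1, h3, -⟩ := (f.coord_eq_zero a).1 ha
    refine (f.coord_eq_zero _).2 ⟨fun i => ?_, fun i => ?_, fun i => i.elim0⟩
    · rw [← hN, f.Nw, map_zero, LinearMap.zero_apply]
    · rw [← hN, f.Nu, h1]
  obtain ⟨a, ha, hat⟩ : ∃ a, f.coord a = 0 ∧ B a (N a) ≠ 0 := by
    by_contra hc
    push Not at hc
    obtain ⟨c, hc'⟩ := exists_moved h.toIsInvol
    have hpol : ∀ a b, f.coord a = 0 → f.coord b = 0 → B a (N b) = 0 := by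
      intro a b ha hb
      have e : ∀ b, f.coord b = 0 → B a (N b) + B b (N a) = 0 := by
        intro b hb
        have := hc (a + b) (by rw [map_add, ha, hb, add_zero])
        simp only [map_add, LinearMap.add_apply, hc a ha, hc b hb] at this
        linear_combination this
      have h1 := e b hb
      have h3 := e (c • b) (by rw [map_smul, hb, smul_zero])
      simp only [map_smul, map_smulₛₗ, LinearMap.smul_apply, smul_eq_mul, RingHom.id_apply] at h3
      have : (c - σ c) * B a (N b) = 0 := by linear_combination h3 - σ c * h1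
      exact (mul_eq_zero.1 this).resolve_left (sub_ne_zero.2 (Ne.symm hc'))
    refine hNx (f.eq_zero_of_perp h (hQN x hx) fun y hy => ?_)
    exact (eq_zero_comm h).1 (hpol y x hy hx)
  have hfix : σ (B a (N a)) = B a (N a) := by rw [h.symm, hN]
  obtain ⟨c, hc⟩ := exists_norm h.toIsInvol (a := (B a (N a))⁻¹) (by rw [map_inv₀, hfix])
  set a' := c • a
  have ha' : f.coord a' = 0 := by rw [map_smul, ha, smul_zero]
  have ht : B a' (N a') = 1 := by
    simp only [a', map_smul, map_smulₛₗ, LinearMap.smul_apply, smul_eq_mul, RingHom.id_apply]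
    rw [← mul_assoc, hc, inv_mul_cancel₀ hat]
  obtain ⟨d, hd⟩ := exists_trace h.toIsInvol (a := -B a' a') (by rw [map_neg, fix_self h])
  set w0 := N a' with hw0
  set u0 := a' + d • w0
  have hw : f.coord w0 = 0 := hQN _ ha'
  have hu : f.coord u0 = 0 := by rw [map_add, ha', map_smul, hw, smul_zero, add_zero]
  have hww : B w0 w0 = 0 := by rw [hw0, hN, hN2, map_zero]
  have hwa : B w0 a' = 1 := by rw [← h.symm, ht, map_one]
  have huw : B u0 w0 = 1 := by
    simp only [u0, map_add, map_smulₛₗ, LinearMap.add_apply, LinearMap.smul_apply, hww, smul_zero, add_zero]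
    exact ht
  have hwu : B w0 u0 = 1 := by rw [← h.symm, huw, map_one]
  have huu : B u0 u0 = 0 := by
    simp only [u0, map_add, map_smulₛₗ, LinearMap.add_apply, LinearMap.smul_apply, smul_eq_mul, RingHom.id_apply,
      hww, hwa, mul_zero, mul_one, add_zero]
    rw [show B a' w0 = 1 from ht]
    linear_combination hd
  obtain ⟨hw1, hw2, -⟩ := (f.coord_eq_zero _).1 hw
  obtain ⟨hu1, hu2, -⟩ := (f.coord_eq_zero _).1 hu
  have hw1' : ∀ i, B w0 (f.w i) = 0 := fun i => (eq_zero_comm h).1 (hw1 i)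
  have hw2' : ∀ i, B w0 (f.u i) = 0 := fun i => (eq_zero_comm h).1 (hw2 i)
  have hu1' : ∀ i, B u0 (f.w i) = 0 := fun i => (eq_zero_comm h).1 (hu1 i)
  have hu2' : ∀ i, B u0 (f.u i) = 0 := fun i => (eq_zero_comm h).1 (hu2 i)
  exact ⟨
    { u := Fin.snoc f.u u0
      w := Fin.snoc f.w w0
      z := Fin.elim0
      uu := fun i j => by refine Fin.lastCases ?_ (fun i => ?_) i <;> refine Fin.lastCases ?_ (fun j => ?_) j <;>
        simp [huu, hu2, hu2', f.uu]
      ww := fun i j => by refine Fin.lastCases ?_ (fun i => ?_) i <;> refine Fin.lastCases ?_ (fun j => ?_) j <;>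
        simp [hww, hw1, hw1', f.ww]
      uw := fun i j => by refine Fin.lastCases ?_ (fun i => ?_) i <;> refine Fin.lastCases ?_ (fun j => ?_) j <;>
        simp [huw, hw2, hu1', f.uw, (Fin.castSucc_lt_last _).ne, (Fin.castSucc_lt_last _).ne']
      wu := fun i j => by refine Fin.lastCases ?_ (fun i => ?_) i <;> refine Fin.lastCases ?_ (fun j => ?_) j <;>
        simp [hwu, hw2', hu1, f.wu, (Fin.castSucc_lt_last _).ne, (Fin.castSucc_lt_last _).ne']
      uz := fun i j => j.elim0
      zu := fun i j => i.elim0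
      wz := fun i j => j.elim0
      zw := fun i j => i.elim0
      zz := fun i j => i.elim0
      Nu := fun i => by
        refine Fin.lastCases ?_ (fun i => ?_) i
        · simp [u0, hw0, hN2]
        · simp [f.Nu]
      Nw := fun i => by
        refine Fin.lastCases ?_ (fun i => ?_) i
        · simp [hw0, hN2]
        · simp [f.Nw] }⟩

theorem exists_step' [Finite F] (f : HFr B N k s) {x : V} (hx : f.coord x = 0) (hx0 : x ≠ 0) :
    ∃ g : HFr B N k (s + 1), g.u = f.u ∧ g.w = f.w := by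
  obtain ⟨y, hy, hxy⟩ : ∃ y, f.coord y = 0 ∧ B x y ≠ 0 := by
    by_contra hc
    push Not at hc
    exact hx0 (f.eq_zero_of_perp h hx hc)
  obtain ⟨a, haP, ha⟩ := exists_anisotropic h (LinearMap.ker f.coord) ⟨x, hx, y, hy, hxy⟩
  obtain ⟨c, hc⟩ := exists_unit_of_ne_zero h ha
  set z0 := c • a
  have hz : f.coord z0 = 0 := by rw [map_smul, LinearMap.mem_ker.1 haP, smul_zero]
  obtain ⟨h1, h3, h4⟩ := (f.coord_eq_zero _).1 hz
  have h1' : ∀ i, B z0 (f.w i) = 0 := fun i => (eq_zero_comm h).1 (h1 i)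
  have h3' : ∀ i, B z0 (f.u i) = 0 := fun i => (eq_zero_comm h).1 (h3 i)
  have h4' : ∀ i, B z0 (f.z i) = 0 := fun i => (eq_zero_comm h).1 (h4 i)
  refine ⟨
    { f with
      z := Fin.snoc f.z z0
      uz := fun i j => by refine Fin.lastCases ?_ (fun j => ?_) j <;> simp [h3, f.uz]
      zu := fun i j => by refine Fin.lastCases ?_ (fun i => ?_) i <;> simp [h3', f.zu]
      wz := fun i j => by refine Fin.lastCases ?_ (fun j => ?_) j <;> simp [h1, f.wz]
      zw := fun i j => by refine Fin.lastCases ?_ (fun i => ?_) i <;> simp [h1', f.zw]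
      zz := fun i j => by refine Fin.lastCases ?_ (fun i => ?_) i <;> refine Fin.lastCases ?_ (fun j => ?_) j <;>
        simp [show B z0 z0 = 1 from hc, h4, h4', f.zz, (Fin.castSucc_lt_last _).ne, (Fin.castSucc_lt_last _).ne'] }, rfl, rfl⟩

omit h in
theorem HFr.bound [FiniteDimensional F V] (f : HFr B N k s) : k + (k + s) ≤ finrank F V := by
  have hinj : Function.Injective f.comb := fun a b e => by rw [← f.coord_comb a, e, f.coord_comb]
  simpa using LinearMap.finrank_le_finrank_of_injective hinj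

include hN hN2 in
/-- A full normal frame. -/
theorem exists_full [Finite F] [FiniteDimensional F V] :
    ∃ (k s : ℕ) (f : HFr B N k s), (∀ v, f.comb (f.coord v) = v) ∧ ∀ i, N (f.z i) = 0 := by
  classical
  have h0 : Nonempty (HFr B N 0 0) := ⟨⟨Fin.elim0, Fin.elim0, Fin.elim0, fun i => i.elim0, fun i => i.elim0,
    fun i => i.elim0, fun i => i.elim0, fun i => i.elim0, fun i => i.elim0, fun i => i.elim0, fun i => i.elim0,
    fun i => i.elim0, fun i => i.elim0, fun i => i.elim0⟩⟩
  have hk := Nat.findGreatest_spec (P := fun k => Nonempty (HFr B N k 0)) (Nat.zero_le (finrank F V)) h0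
  set k := Nat.findGreatest (fun k => Nonempty (HFr B N k 0)) (finrank F V) with hkdef
  obtain ⟨f⟩ := hk
  have hQ : ∀ x, f.coord x = 0 → N x = 0 := by
    intro x hx
    by_contra hNx
    obtain ⟨f'⟩ := exists_step h hN hN2 f hx hNx
    have := f'.bound
    have := Nat.le_findGreatest (P := fun k => Nonempty (HFr B N k 0))
      (show k + 1 ≤ finrank F V by omega) ⟨f'⟩
    omega
  have hs := Nat.findGreatest_spec (P := fun s => ∃ g : HFr B N k s, g.u = f.u ∧ g.w = f.w)
    (Nat.zero_le (finrank F V)) ⟨f, rfl, rfl⟩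
  set s := Nat.findGreatest (fun s => ∃ g : HFr B N k s, g.u = f.u ∧ g.w = f.w) (finrank F V) with hsdef
  obtain ⟨g, hgu, hgw⟩ := hs
  refine ⟨k, s, g, fun v => ?_, fun i => hQ _ ((f.coord_eq_zero _).2
    ⟨fun j => by rw [← hgw]; exact g.wz j i, fun j => by rw [← hgu]; exact g.uz j i, fun j => j.elim0⟩)⟩
  by_contra hv
  obtain ⟨g', hu', hw'⟩ := exists_step' h g (g.coord_res v) (sub_ne_zero.2 (Ne.symm hv))
  have := g'.bound
  have := Nat.le_findGreatest (P := fun s => ∃ g : HFr B N k s, g.u = f.u ∧ g.w = f.w)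
    (show s + 1 ≤ finrank F V by omega) ⟨g', hu'.trans hgu, hw'.trans hgw⟩
  omega

end Herm

end Cfsg.Agent.Classical.UInv
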