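import Mathlib
import Cfsg.Prelude.Def_ClassicalGeometry
import Cfsg.Agent.Classical.UnitaryGroup
import Cfsg.Agent.Classical.LinearMove

/-!
All transvections of SU_n, n ≥ 3, are conjugate.
-/

set_option autoImplicit false

namespace Cfsg.Agent.Classical

open Matrix Module Herm

variable {F V : Type*} [Field F] [AddCommGroup V] [Module F V] [FiniteDimensional F V] [Finite F] {σ : F →+* F}
  {B : V →ₛₗ[σ] V →ₗ[F] F}

/-- The special isometries scale an isotropic vector arbitrarily. -/
theorem exists_su_scale (h : IsHerm B) (hn : 3 ≤ finrank F V) {e : V} (he0 : e ≠ 0) (hee : B e e = 0) {b : F}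
    (hb : b ≠ 0) : ∃ g : suG B, g.1 e = b • e := by
  obtain ⟨f, hff, hef⟩ := exists_hyp_partner h he0 hee
  let φ : Submodule.span F {e} →ₗ[F] V := b • (Submodule.span F {e}).subtype
  obtain ⟨g, hg, hgφ⟩ := Herm.witt h φ
    (fun x y hxy => Subtype.ext (smul_right_injective V hb (by simpa [φ] using hxy))) (fun x x' => by
      obtain ⟨s, hs⟩ := Submodule.mem_span_singleton.1 x.2
      obtain ⟨t, ht⟩ := Submodule.mem_span_singleton.1 x'.2
      simp [φ, ← hs, ← ht, hee])
  have hge : g e = b • e := by simpa [φ] using hgφ ⟨e, Submodule.mem_span_singleton_self e⟩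
  obtain ⟨w, hwe, hwf, hw0⟩ : ∃ w, B e w = 0 ∧ B f w = 0 ∧ w ≠ 0 := by
    by_contra hc
    push Not at hc
    have hinj : Function.Injective ((B e).prod (B f)) := (injective_iff_map_eq_zero _).2 fun w hw => by
      simp only [LinearMap.prod_apply, Function.prod, Prod.mk_eq_zero] at hw
      exact hc w hw.1 hw.2
    have := LinearMap.finrank_le_finrank_of_injective hinj
    rw [Module.finrank_prod, Module.finrank_self] at this
    omega
  obtain ⟨y, hy⟩ := exists_pairing h hw0
  obtain ⟨z, hz, hzz⟩ := exists_anisotropic h (LinearMap.ker (B e))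
    ⟨w, LinearMap.mem_ker.2 hwe, y - B e y • f, LinearMap.mem_ker.2 (by simp [hef]),
      by simp [hy, (eq_zero_comm h).1 hwf]⟩
  obtain ⟨a, ha⟩ := exists_unit_of_ne_zero h hzz
  let z₁ := a • z
  have hz1e : B z₁ e = 0 := (eq_zero_comm h).1 (by simp [z₁, LinearMap.mem_ker.1 hz])
  obtain ⟨bb, hbb⟩ := exists_orthonormal h
  set d : F := (LinearEquiv.det g : Fˣ).val with hd
  have hdd : d * σ d = 1 := by
    have hON : IsON B fun i => g (bb i) := fun i j => by rw [hg]; exact hbb i j
    let M := LinearMap.toMatrix bb bb (g : V →ₗ[F] V)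
    have hM : ∀ i j, M i j = B (bb i) (g (bb j)) := fun i j => by
      rw [show M i j = bb.repr (g (bb j)) i from LinearMap.toMatrix_apply _ _ _ _ _]
      conv_rhs => rw [← bb.sum_repr (g (bb j)), map_sum]
      rw [Finset.sum_eq_single i (fun k _ hk => by rw [map_smul, hbb i k, if_neg (Ne.symm hk), smul_zero])
        (by simp), map_smul, hbb i i, if_pos rfl, smul_eq_mul, mul_one]
    have hU : (M.map σ)ᵀ * M = 1 := by
      ext i j
      rw [Matrix.mul_apply, Matrix.one_apply, ← hON i j]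
      show _ = B (g (bb i)) (g (bb j))
      conv_rhs => rw [← bb.sum_repr (g (bb i)), map_sum, LinearMap.sum_apply]
      refine Finset.sum_congr rfl fun k _ => ?_
      rw [Matrix.transpose_apply, Matrix.map_apply, LinearMap.map_smulₛₗ, LinearMap.smul_apply, smul_eq_mul, ← hM,
        show bb.repr (g (bb i)) k = M k i from (LinearMap.toMatrix_apply _ _ _ _ _).symm]
    have := congrArg Matrix.det hU
    rw [Matrix.det_mul, Matrix.det_transpose, Matrix.det_one, ← RingHom.mapMatrix_apply, ← RingHom.map_det,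
      show M.det = d from by rw [hd, LinearEquiv.coe_det, ← LinearMap.det_toMatrix bb]] at this
    rw [mul_comm]; exact this
  have hd0 : d ≠ 0 := left_ne_zero_of_mul_eq_one hdd
  let R : V →ₗ[F] V := LinearMap.id + (d⁻¹ - 1) • (B z₁).smulRight z₁
  have hR : ∀ x, R x = x + ((d⁻¹ - 1) * B z₁ x) • z₁ := fun x => by simp [R, smul_smul]
  have hRiso : ∀ x y, B (R x) (R y) = B x y := fun x y => by
    simp only [hR, map_add, map_smulₛₗ, LinearMap.add_apply, LinearMap.smul_apply, smul_eq_mul, map_mul,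
      RingHom.id_apply, h.symm, show B z₁ z₁ = 1 from ha, map_sub, map_inv₀, map_one, mul_one]
    rw [show σ d = d⁻¹ from eq_inv_of_mul_eq_one_right hdd, inv_inv]
    have hinv : d⁻¹ * d = 1 := inv_mul_cancel₀ hd0
    linear_combination (B x z₁ * B z₁ y) * hinv
  have hRinj : Function.Injective R := (injective_iff_map_eq_zero R).2 fun x hx =>
    h.nondeg x fun y => by rw [← hRiso, hx, map_zero, LinearMap.zero_apply]
  let Re : V ≃ₗ[F] V := LinearEquiv.ofInjectiveEndo R hRinj
  have hRdet : ((LinearEquiv.det Re : Fˣ) : F) = d⁻¹ := by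
    obtain ⟨k, b', hb', hb1⟩ : ∃ (k : ℕ) (b' : Fin k → V) (_ : IsON B b') (hk : k = finrank F V),
        ∃ i₀, b' i₀ = z₁ := by
      obtain ⟨b', hb', hext⟩ := exists_extend h (finrank F V - 1) (k := 1) (by omega) (a := fun _ => z₁)
        (fun i j => by
          show B z₁ z₁ = _
          rw [if_pos (Subsingleton.elim i j)]
          exact ha)
      exact ⟨_, b', hb', by omega, Fin.castAdd _ 0, hext 0⟩
    obtain ⟨hk, i₀, hi₀⟩ := hb1
    rw [det_unit_norm h Re hb' hk (fun i => if i = i₀ then d⁻¹ else 1) fun i => ?_, Finset.prod_ite_eq']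
    · simp
    · show R (b' i) = _
      rw [hR, ← hi₀, hb' i₀ i]
      by_cases hi : i = i₀
      · subst hi
        simp only [if_pos, mul_one]
        rw [sub_smul, one_smul, add_sub_cancel]
      · simp [hi, Ne.symm hi]
  refine ⟨⟨Re * g, fun x y => ?_, Units.ext ?_⟩, ?_⟩
  · show B (R (g x)) (R (g y)) = _
    rw [hRiso, hg]
  · rw [map_mul, Units.val_mul, hRdet, ← hd, inv_mul_cancel₀ hd0, Units.val_one]
  · show R (g e) = _
    rw [hR, hge]
    simp [hz1e]

theorem isConj_su_transvection {q n : ℕ} {K : Type*} [Field K] [Fintype K] (hK : Fintype.card K = q ^ 2)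
    (hn : 3 ≤ n) (s t : ↥(Cfsg.SU n K q))
    (hs : Cfsg.IsTransvection (((s : GL (Fin n) K) : Matrix (Fin n) (Fin n) K)))
    (ht : Cfsg.IsTransvection (((t : GL (Fin n) K) : Matrix (Fin n) (Fin n) K))) : IsConj s t := by
  obtain ⟨τ, hτq, hτ, -, -⟩ := exists_powHom hK
  have hB := hermB_isHerm hτ n
  have shape : ∀ s : ↥(Cfsg.SU n K q), Cfsg.IsTransvection (((s : GL (Fin n) K) : Matrix (Fin n) (Fin n) K)) →
      ∃ (v : Fin n → K) (hv : hermB n τ v v = 0) (c : K), v ≠ 0 ∧ c ≠ 0 ∧ c + τ c = 0 ∧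
        (suEquiv n hτq s).1 = tvU hv c := by
    intro s hs
    obtain ⟨a, b, ha, hb, hab, hse⟩ := exists_vecMulVec_of_isTransvection hs
    have happ : ∀ x, (suEquiv n hτq s).1 x = x + (b ⬝ᵥ x) • a := fun x => by
      rw [suEquiv_apply]
      show ((s : GL (Fin n) K) : Matrix (Fin n) (Fin n) K) *ᵥ x = _
      rw [hse, Matrix.add_mulVec, Matrix.one_mulVec, Matrix.vecMulVec_mulVec, op_smul_eq_smul]
    have hiso : ∀ x y, τ (b ⬝ᵥ x) * hermB n τ a y + (b ⬝ᵥ y) * hermB n τ x a +
        τ (b ⬝ᵥ x) * (b ⬝ᵥ y) * hermB n τ a a = 0 := fun x y => by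
      have := (suEquiv n hτq s).2.1 x y
      rw [happ, happ] at this
      simp only [map_add, LinearMap.add_apply, LinearMap.map_smulₛₗ, RingHom.id_apply, LinearMap.smul_apply,
        smul_eq_mul] at this
      linear_combination this
    obtain ⟨j, hj⟩ : ∃ j, b j ≠ 0 := Function.ne_iff.1 hb
    have hy : b ⬝ᵥ Pi.single j (b j)⁻¹ = 1 := by rw [dotProduct_single, mul_inv_cancel₀ hj]
    have haa : hermB n τ a a = 0 := by simpa [hab, hy] using hiso a (Pi.single j (b j)⁻¹)
    obtain ⟨f, hf⟩ := exists_pairing hB ha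
    have hfa : hermB n τ f a = 1 := by rw [← hB.symm, hf, map_one]
    set c := b ⬝ᵥ f with hc
    have hskew : c + τ c = 0 := by
      have := hiso f f
      rw [hf, hfa, haa] at this
      linear_combination this
    have hlin : ∀ y, b ⬝ᵥ y = c * hermB n τ a y := fun y => by
      have := hiso f y
      rw [hfa, haa, ← hc] at this
      linear_combination this - hermB n τ a y * hskew
    refine ⟨a, haa, c, ha, fun h0 => ?_, hskew, LinearEquiv.ext fun x => by rw [happ, hlin, tvU_apply]⟩
    rw [hlin, h0, zero_mul] at hy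
    exact zero_ne_one hy
  obtain ⟨u, hu, c, hu0, hc0, hc, hsu⟩ := shape s hs
  obtain ⟨v, hv, c', hv0, hc0', hc', htv⟩ := shape t ht
  have hdim : 3 ≤ finrank K (Fin n → K) := by rw [Module.finrank_fin_fun]; exact hn
  have := isPretransitive_suG hB
  obtain ⟨g, hg⟩ := MulAction.exists_smul_eq (suG (hermB n τ)) (pt u hu0 hu) (pt v hv0 hv)
  rw [smul_pt, pt_eq_iff] at hg
  obtain ⟨a, ha⟩ := hg
  have ha0 : a ≠ 0 := fun h0 => by
    rw [h0, zero_smul] at ha
    exact hu0 (g.1.injective (by rw [← ha, map_zero]))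
  -- g u is a multiple of v; the remaining factor is a norm
  obtain ⟨r, hr⟩ := exists_norm hτ (a := c' / (c * (a * τ a))) (by
    rw [map_div₀, map_mul, map_mul, hτ.invol, eq_neg_of_add_eq_zero_right hc, eq_neg_of_add_eq_zero_right hc',
      mul_comm (τ a) a, neg_mul, neg_div_neg_eq])
  have hr0 : r ≠ 0 := fun h0 => by
    rw [h0, zero_mul, eq_comm, div_eq_zero_iff] at hr
    exact hr.elim hc0' (mul_ne_zero hc0 (mul_ne_zero ha0 ((map_ne_zero τ).2 ha0)))
  obtain ⟨k, hk⟩ := exists_su_scale hB hdim hv0 hv hr0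
  have hsum : k.1 (g.1 u) = (a * r) • v := by rw [← ha, map_smul, hk, smul_smul]
  exact isConj_iff.2 ⟨(suEquiv n hτq).symm (k * g), by
    apply (suEquiv n hτq).injective
    rw [map_mul, map_mul, map_inv, MulEquiv.apply_symm_apply]
    refine Subtype.ext ?_
    rw [Subgroup.coe_mul, Subgroup.coe_mul, Subgroup.coe_inv, hsu, htv,
      conj_tvU hB (g := (k * g : suG (hermB n τ)).1) (k * g : suG (hermB n τ)).2.1 hu]
    refine LinearEquiv.ext fun x => ?_
    rw [tvU_apply, tvU_apply]
    show x + (c * hermB n τ (k.1 (g.1 u)) x) • (k.1 (g.1 u)) = _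
    rw [hsum, LinearMap.map_smulₛₗ, LinearMap.smul_apply, smul_eq_mul, smul_smul]
    congr 2
    rw [eq_div_iff (mul_ne_zero hc0 (mul_ne_zero ha0 ((map_ne_zero τ).2 ha0)))] at hr
    rw [map_mul]
    linear_combination hermB n τ v x * hr⟩

end Cfsg.Agent.Classical
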