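import Mathlib
import Cfsg.Prelude.Def_Classical
import Cfsg.Agent.Classical.QuadBasis

/-!
Quadratic forms over the field of two elements with a given polar form: they are the translates of one of them,
and translation by w keeps the type exactly when w is singular.
-/

set_option autoImplicit false

namespace Cfsg.Agent.Classical.Two

open Module QuadraticMap

variable {m : ℕ}

/-- The polarisation of the plus form. -/
def pol (m : ℕ) (u v : Fin m ⊕ Fin m → ZMod 2) : ZMod 2 :=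
  Cfsg.quadFormPlus m (ZMod 2) (u + v) - Cfsg.quadFormPlus m (ZMod 2) u - Cfsg.quadFormPlus m (ZMod 2) v

/-- The plus form as a quadratic form. -/
noncomputable def plusQ (m : ℕ) : QuadraticForm (ZMod 2) (Fin m ⊕ Fin m → ZMod 2) :=
  (Quad.hyp (Quad.zeroForm (ZMod 2)) m).comp (Quad.plusCoord m).toLinearMap

theorem plusQ_apply (v : Fin m ⊕ Fin m → ZMod 2) : plusQ m v = Cfsg.quadFormPlus m (ZMod 2) v :=
  Quad.plusCoord_map m v

theorem pol_eq (u v : Fin m ⊕ Fin m → ZMod 2) : pol m u v = polar (plusQ m) u v := by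
  simp [pol, polar, plusQ_apply]

theorem nondeg_plusQ : (polarBilin (plusQ m)).Nondegenerate :=
  Quad.Iso.nondeg (Quad.Iso.symm ⟨Quad.plusCoord m, fun _ => rfl⟩) (Quad.nondeg_hyp Quad.nondeg_zeroForm m)

theorem finrank_dim : finrank (ZMod 2) (Fin m ⊕ Fin m → ZMod 2) = 2 * m := by
  simp [two_mul]

/-- Translates of the plus form. -/
theorem exists_translate {q : (Fin m ⊕ Fin m → ZMod 2) → ZMod 2}
    (hq : ∀ u v, q (u + v) = q u + q v + pol m u v) :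
    ∃! w, ∀ v, q v = plusQ m v + polar (plusQ m) v w := by
  let L : (Fin m ⊕ Fin m → ZMod 2) →ₗ[ZMod 2] ZMod 2 :=
    (AddMonoidHom.mk' (fun v => q v - plusQ m v) fun u v => by
      rw [hq, pol_eq, Quad.map_add' (Q := plusQ m)]; ring).toZModLinearMap 2
  let e := LinearMap.BilinForm.toDual (polarBilin (plusQ m)) nondeg_plusQ
  have he : ∀ w v, e w v = polar (plusQ m) v w := fun w v => by
    rw [polar_comm]; rfl
  refine ⟨e.symm L, fun v => ?_, fun w hw => ?_⟩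
  · rw [← he, e.apply_symm_apply]
    show q v = plusQ m v + (q v - plusQ m v)
    ring
  · rw [eq_comm, LinearEquiv.symm_apply_eq]
    refine LinearMap.ext fun v => ?_
    rw [he]
    show q v - plusQ m v = _
    rw [hw]; ring

theorem sq_zmod2 (a : ZMod 2) : a * a = a := by revert a; decide

/-- A quadratic form with the given values. -/
theorem exists_form {q : (Fin m ⊕ Fin m → ZMod 2) → ZMod 2}
    (hq : ∀ u v, q (u + v) = q u + q v + pol m u v) :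
    ∃ Q : QuadraticForm (ZMod 2) (Fin m ⊕ Fin m → ZMod 2), (∀ v, Q v = q v) ∧ (polarBilin Q).Nondegenerate ∧
      ∀ u v, polar Q u v = pol m u v := by
  obtain ⟨w, hw, -⟩ := exists_translate hq
  let l := polarBilin (plusQ m) w
  have hQ : ∀ v, (plusQ m + linMulLin l l) v = q v := fun v => by
    simp only [QuadraticMap.add_apply, linMulLin_apply, sq_zmod2, hw v]
    show plusQ m v + polar (plusQ m) w v = _
    rw [polar_comm]
  have hp : ∀ u v, polar (plusQ m + linMulLin l l) u v = pol m u v := fun u v => by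
    simp only [polar, hQ, hq]; ring
  refine ⟨_, hQ, Quad.nondeg_of fun x hx => Quad.eq_zero_of_polar nondeg_plusQ fun y => ?_, hp⟩
  rw [← pol_eq, ← hp]
  exact hx y

theorem transvection_equiv {q : (Fin m ⊕ Fin m → ZMod 2) → ZMod 2}
    (hq : ∀ u v, q (u + v) = q u + q v + pol m u v) {w : Fin m ⊕ Fin m → ZMod 2} (hw : q w = 0) :
    ∃ g : (Fin m ⊕ Fin m → ZMod 2) ≃ₗ[ZMod 2] (Fin m ⊕ Fin m → ZMod 2), ∀ v, q v + pol m v w = q (g v) := by
  have hww : polarBilin (plusQ m) w w = 0 := by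
    rw [polarBilin_apply_apply, Quad.polar_self', show (2 : ZMod 2) = 0 from by decide, zero_mul]
  let T : (Fin m ⊕ Fin m → ZMod 2) →ₗ[ZMod 2] (Fin m ⊕ Fin m → ZMod 2) :=
    LinearMap.id + (polarBilin (plusQ m) w).smulRight w
  have hT : ∀ v, T v = v + polar (plusQ m) w v • w := fun v => rfl
  have hinv : T.comp T = LinearMap.id := LinearMap.ext fun v => by
    rw [polarBilin_apply_apply] at hww
    simp only [LinearMap.comp_apply, LinearMap.id_apply, hT, polar_add_right, polar_smul_right, hww, smul_zero,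
      add_zero, add_assoc, ← add_smul, CharTwo.add_self_eq_zero, zero_smul]
  refine ⟨LinearEquiv.ofLinearMap T T hinv hinv, fun v => ?_⟩
  show _ = q (T v)
  obtain ⟨Q, hQ, -, hp⟩ := exists_form hq
  rw [← hQ, ← hQ (T v), hT, Quad.map_add_smul, hp, hQ, hQ, hw, polar_comm (plusQ m), ← pol_eq, sq_zmod2]
  ring

theorem zcard_ne_half {Q : QuadraticForm (ZMod 2) (Fin m ⊕ Fin m → ZMod 2)} (hQ : (polarBilin Q).Nondegenerate)
    (hm : 1 ≤ m) : 2 * Quad.zcard Q ≠ 2 ^ (2 * m) := by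
  obtain ⟨k, rfl⟩ : ∃ k, m = k + 1 := ⟨m - 1, by omega⟩
  have hab : ∀ z₁ z₂ : ZMod 2, z₁ ^ 2 + 1 * z₁ * z₂ + 1 * z₂ ^ 2 = 0 → z₁ = 0 ∧ z₂ = 0 := by decide
  have hpow : 2 ^ k < 2 ^ (k + 1) := Nat.pow_lt_pow_succ (by norm_num)
  have e : 2 ^ (2 * (k + 1)) = 2 * 2 ^ (2 * k + 1) := by rw [← pow_succ']; ring_nf
  rcases Quad.even_cases hQ finrank_dim with h | ⟨-, h⟩
  · have := Quad.zcard_plus (F := ZMod 2) (ZMod.card 2) k
    rw [← h.zcard_eq]
    omega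
  · have := Quad.zcard_minus hab (ZMod.card 2) k
    rw [← (h _ _ hab).zcard_eq, Nat.add_sub_cancel]
    omega

theorem same_type_iff (hm : 1 ≤ m) {q : (Fin m ⊕ Fin m → ZMod 2) → ZMod 2}
    (hq : ∀ u v, q (u + v) = q u + q v + pol m u v) (w : Fin m ⊕ Fin m → ZMod 2) :
    (∃ g : (Fin m ⊕ Fin m → ZMod 2) ≃ₗ[ZMod 2] (Fin m ⊕ Fin m → ZMod 2), ∀ v, q v + pol m v w = q (g v)) ↔
      q w = 0 := by
  refine ⟨fun ⟨g, hg⟩ => ?_, transvection_equiv hq⟩
  by_contra hw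
  have hw1 : q w = 1 := by generalize q w = a at hw; revert a; decide
  obtain ⟨Q, hQ, hnd, -⟩ := exists_form hq
  have key : ∀ v, q v + pol m v w = 0 ↔ q (v + w) ≠ 0 := fun v => by
    rw [hq, hw1, add_right_comm]
    generalize q v + pol m v w = a
    revert a; decide
  have e1 : Quad.zcard Q = Nat.card {v // q v + pol m v w = 0} :=
    (Nat.card_congr (g.toEquiv.subtypeEquiv fun v => by simp [hg, hQ])).symm
  have e2 : Nat.card {v // q v + pol m v w = 0} = Nat.card {v // ¬ q v = 0} :=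
    Nat.card_congr ((Equiv.addRight w).subtypeEquiv key)
  have e3 : Quad.zcard Q = Nat.card {v // q v = 0} :=
    Nat.card_congr (Equiv.subtypeEquivRight fun v => by rw [hQ])
  classical
  have e4 := Nat.card_congr (Equiv.sumCompl fun v => q v = 0)
  rw [Nat.card_sum, ← e2, ← e1, ← e3, Nat.card_fun, Nat.card_zmod] at e4
  refine zcard_ne_half hnd hm ?_
  rw [two_mul, e4, Nat.card_sum, Nat.card_fin, ← two_mul]

theorem arf_main (hm : 1 ≤ m) :
    Nat.card {q : (Fin m ⊕ Fin m → ZMod 2) → ZMod 2 // ∀ u v, q (u + v) = q u + q v + pol m u v} = 2 ^ (2 * m) ∧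
    (∀ q : (Fin m ⊕ Fin m → ZMod 2) → ZMod 2, (∀ u v, q (u + v) = q u + q v + pol m u v) →
      (∃ g : (Fin m ⊕ Fin m → ZMod 2) ≃ₗ[ZMod 2] (Fin m ⊕ Fin m → ZMod 2),
        ∀ v, q v = Cfsg.quadFormPlus m (ZMod 2) (g v)) ∨
      (∃ g : (Fin m ⊕ Fin m → ZMod 2) ≃ₗ[ZMod 2] ((Fin (m - 1) ⊕ Fin (m - 1)) ⊕ Fin 2 → ZMod 2),
        ∀ v, q v = Cfsg.quadFormMinus (m - 1) (ZMod 2) 1 1 (g v))) ∧
    Nat.card {q : (Fin m ⊕ Fin m → ZMod 2) → ZMod 2 // (∀ u v, q (u + v) = q u + q v + pol m u v) ∧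
      ∃ g : (Fin m ⊕ Fin m → ZMod 2) ≃ₗ[ZMod 2] (Fin m ⊕ Fin m → ZMod 2),
        ∀ v, q v = Cfsg.quadFormPlus m (ZMod 2) (g v)} = 2 ^ (2 * m - 1) + 2 ^ (m - 1) ∧
    Nat.card {q : (Fin m ⊕ Fin m → ZMod 2) → ZMod 2 // (∀ u v, q (u + v) = q u + q v + pol m u v) ∧
      ∃ g : (Fin m ⊕ Fin m → ZMod 2) ≃ₗ[ZMod 2] ((Fin (m - 1) ⊕ Fin (m - 1)) ⊕ Fin 2 → ZMod 2),
        ∀ v, q v = Cfsg.quadFormMinus (m - 1) (ZMod 2) 1 1 (g v)} = 2 ^ (2 * m - 1) - 2 ^ (m - 1) := by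
  classical
  have hab : ∀ z₁ z₂ : ZMod 2, z₁ ^ 2 + 1 * z₁ * z₂ + 1 * z₂ ^ 2 = 0 → z₁ = 0 ∧ z₂ = 0 := by decide
  have hq0 : ∀ u v, plusQ m (u + v) = plusQ m u + plusQ m v + pol m u v := fun u v => by
    rw [pol_eq, Quad.map_add']
  let tr : (Fin m ⊕ Fin m → ZMod 2) → {q : (Fin m ⊕ Fin m → ZMod 2) → ZMod 2 //
      ∀ u v, q (u + v) = q u + q v + pol m u v} := fun w =>
    ⟨fun v => plusQ m v + polar (plusQ m) v w, fun u v => by simp only; rw [hq0, polar_add_left]; ring⟩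
  have htr : Function.Bijective tr := by
    refine ⟨fun w w' h => ?_, fun q => ?_⟩
    · obtain ⟨w₀, -, hu⟩ := exists_translate (tr w).2
      rw [hu w fun v => rfl, hu w' fun v => congrFun (congrArg Subtype.val h) v]
    · obtain ⟨w, hw, -⟩ := exists_translate q.2
      exact ⟨w, Subtype.ext (funext fun v => (hw v).symm)⟩
  have hcard : Nat.card (Fin m ⊕ Fin m → ZMod 2) = 2 ^ (2 * m) := by
    rw [Nat.card_fun, Nat.card_zmod, Nat.card_sum, Nat.card_fin, two_mul]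
  have hall : ∀ q : (Fin m ⊕ Fin m → ZMod 2) → ZMod 2, (∀ u v, q (u + v) = q u + q v + pol m u v) →
      (∃ g : (Fin m ⊕ Fin m → ZMod 2) ≃ₗ[ZMod 2] (Fin m ⊕ Fin m → ZMod 2),
        ∀ v, q v = Cfsg.quadFormPlus m (ZMod 2) (g v)) ∨
      (∃ g : (Fin m ⊕ Fin m → ZMod 2) ≃ₗ[ZMod 2] ((Fin (m - 1) ⊕ Fin (m - 1)) ⊕ Fin 2 → ZMod 2),
        ∀ v, q v = Cfsg.quadFormMinus (m - 1) (ZMod 2) 1 1 (g v)) := by
    intro q hq
    obtain ⟨Q, hQ, hnd, -⟩ := exists_form hq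
    rcases Quad.even_cases hnd finrank_dim with h | ⟨-, h⟩
    · obtain ⟨e, he⟩ := h.symm
      refine Or.inl ⟨e.trans (Quad.plusCoord m).symm, fun v => ?_⟩
      rw [← Quad.plusCoord_map, LinearEquiv.trans_apply, LinearEquiv.apply_symm_apply, he, hQ]
    · obtain ⟨e, he⟩ := (h _ _ hab).symm
      refine Or.inr ⟨e.trans (Quad.minusCoord (m - 1)).symm, fun v => ?_⟩
      rw [← Quad.minusCoord_map, LinearEquiv.trans_apply, LinearEquiv.apply_symm_apply, he, hQ]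
  have hplus : ∀ w, (∃ g : (Fin m ⊕ Fin m → ZMod 2) ≃ₗ[ZMod 2] (Fin m ⊕ Fin m → ZMod 2),
      ∀ v, (tr w).1 v = Cfsg.quadFormPlus m (ZMod 2) (g v)) ↔ plusQ m w = 0 := fun w => by
    rw [← same_type_iff hm hq0 w]
    constructor <;> rintro ⟨g, hg⟩ <;> refine ⟨g, fun v => ?_⟩ <;> have h := hg v
    · rw [plusQ_apply (g v), ← h, pol_eq]
    · rw [← plusQ_apply, ← h, pol_eq]
  have hexcl : ∀ q : (Fin m ⊕ Fin m → ZMod 2) → ZMod 2,
      (∃ g : (Fin m ⊕ Fin m → ZMod 2) ≃ₗ[ZMod 2] (Fin m ⊕ Fin m → ZMod 2),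
        ∀ v, q v = Cfsg.quadFormPlus m (ZMod 2) (g v)) →
      (∃ g : (Fin m ⊕ Fin m → ZMod 2) ≃ₗ[ZMod 2] ((Fin (m - 1) ⊕ Fin (m - 1)) ⊕ Fin 2 → ZMod 2),
        ∀ v, q v = Cfsg.quadFormMinus (m - 1) (ZMod 2) 1 1 (g v)) → False := by
    rintro q ⟨g, hg⟩ ⟨g', hg'⟩
    obtain ⟨k, rfl⟩ : ∃ k, m = k + 1 := ⟨m - 1, by omega⟩
    refine Quad.not_iso_plus_minus hab k (Quad.Iso.zcard_eq
      ⟨((Quad.plusCoord (k + 1)).symm.trans (g.symm.trans g')).trans (Quad.minusCoord k), fun x => ?_⟩)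
    simp only [LinearEquiv.trans_apply]
    rw [Quad.minusCoord_map]
    refine (hg' _).symm.trans ?_
    rw [hg, g.apply_symm_apply, ← Quad.plusCoord_map, LinearEquiv.apply_symm_apply]
  have hz : Quad.zcard (plusQ m) = 2 ^ (2 * m - 1) + 2 ^ (m - 1) := by
    obtain ⟨k, rfl⟩ : ∃ k, m = k + 1 := ⟨m - 1, by omega⟩
    have h := Quad.zcard_plus (F := ZMod 2) (ZMod.card 2) k
    rw [show Quad.zcard (plusQ (k + 1)) = Quad.zcard (Quad.hyp (Quad.zeroForm (ZMod 2)) (k + 1)) from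
      Quad.Iso.zcard_eq ⟨Quad.plusCoord (k + 1), fun x => rfl⟩, show 2 * (k + 1) - 1 = 2 * k + 1 by omega,
      Nat.add_sub_cancel]
    have : 2 ^ (k + 1) = 2 * 2 ^ k := pow_succ' 2 k
    omega
  have c1 := (Nat.card_congr (Equiv.ofBijective tr htr)).symm.trans hcard
  have c2 : Nat.card {q : (Fin m ⊕ Fin m → ZMod 2) → ZMod 2 // (∀ u v, q (u + v) = q u + q v + pol m u v) ∧
      ∃ g : (Fin m ⊕ Fin m → ZMod 2) ≃ₗ[ZMod 2] (Fin m ⊕ Fin m → ZMod 2),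
        ∀ v, q v = Cfsg.quadFormPlus m (ZMod 2) (g v)} = 2 ^ (2 * m - 1) + 2 ^ (m - 1) := by
    rw [← hz]
    exact ((Nat.card_congr ((Equiv.ofBijective tr htr).subtypeEquiv fun w => (hplus w).symm)).trans
      (Nat.card_congr (Equiv.subtypeSubtypeEquivSubtypeInter
        (fun q : (Fin m ⊕ Fin m → ZMod 2) → ZMod 2 => ∀ u v, q (u + v) = q u + q v + pol m u v)
        (fun q => ∃ g : (Fin m ⊕ Fin m → ZMod 2) ≃ₗ[ZMod 2] (Fin m ⊕ Fin m → ZMod 2),
          ∀ v, q v = Cfsg.quadFormPlus m (ZMod 2) (g v))))).symm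
  refine ⟨c1, hall, c2, ?_⟩
  rw [show 2 ^ (2 * m - 1) - 2 ^ (m - 1) = 2 ^ (2 * m) - (2 ^ (2 * m - 1) + 2 ^ (m - 1)) by
    have : 2 ^ (2 * m) = 2 * 2 ^ (2 * m - 1) := by rw [← pow_succ']; congr 1; omega
    omega]
  refine Nat.eq_sub_of_add_eq' ?_
  rw [← c2, ← c1, ← Nat.card_sum]
  refine Nat.card_congr (Equiv.ofBijective (Sum.elim (fun q => ⟨q.1, q.2.1⟩) fun q => ⟨q.1, q.2.1⟩) ⟨?_, fun q => ?_⟩)
  · rintro (a | a) (b | b) h <;> simp only [Sum.elim_inl, Sum.elim_inr, Subtype.mk.injEq] at h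
    · exact congrArg _ (Subtype.ext h)
    · exact (hexcl a.1 a.2.2 (h ▸ b.2.2)).elim
    · exact (hexcl b.1 b.2.2 (h ▸ a.2.2)).elim
    · exact congrArg _ (Subtype.ext h)
  · rcases hall q.1 q.2 with h | h
    · exact ⟨.inl ⟨q.1, q.2, h⟩, rfl⟩
    · exact ⟨.inr ⟨q.1, q.2, h⟩, rfl⟩

end Cfsg.Agent.Classical.Two
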